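import Groth.Agent.H50.Points
import Mathlib.AlgebraicGeometry.Morphisms.IsIso

set_option autoImplicit false
set_option backward.isDefEq.respectTransparency false
universe u
open CategoryTheory CategoryTheory.Limits AlgebraicGeometry Opposite

namespace Groth.Agent.H50

open AlgSp

variable {S : Scheme.{u}}

/-- A morphism from a scheme factors through an open subspace as soon as it does so on points. -/
theorem exists_factor_of_isOpenImmersion {W U : Sp S} (w : W ⟶ U) (hw : RepWith @IsOpenImmersion w)
    {T : Over S} (x : (yon S).obj T ⟶ U)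
    (h : Set.range (Points.map x) ⊆ Set.range (Points.map w)) :
    ∃ a : (yon S).obj T ⟶ W, a ≫ w = x := by
  have sq := hw.rep.isPullback x
  have hoi : IsOpenImmersion (hw.rep.snd x).left := hw.property_snd x
  have hsurj : Surjective (hw.rep.snd x).left := by
    refine ⟨fun t => ?_⟩
    obtain ⟨q, hq⟩ := h ⟨Points.schemeHomeo T t, rfl⟩
    obtain ⟨z, -, hz⟩ := points_exists_of_isPullback sq q (Points.schemeHomeo T t) hq
    obtain ⟨v, rfl⟩ := (Points.schemeHomeo (hw.rep.pullback x)).surjective z
    rw [Points.map_yon_map_apply] at hz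
    exact ⟨v, (Points.schemeHomeo T).injective hz⟩
  have hiso : IsIso (hw.rep.snd x).left :=
    (isIso_iff_isOpenImmersion_and_surjective _).2 ⟨hoi, hsurj⟩
  have hiso' : IsIso (hw.rep.snd x) := by
    have : IsIso ((Over.forget S).map (hw.rep.snd x)) := hiso
    exact isIso_of_reflects_iso _ (Over.forget S)
  refine ⟨(yon S).map (inv (hw.rep.snd x)) ≫ hw.rep.fst x, ?_⟩
  rw [Category.assoc, sq.w, ← Category.assoc, ← Functor.map_comp, IsIso.inv_hom_id,
    CategoryTheory.Functor.map_id, Category.id_comp]

theorem exists_factor_iff_of_isOpenImmersion {W U : Sp S} (w : W ⟶ U)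
    (hw : RepWith @IsOpenImmersion w) {T : Over S} (x : (yon S).obj T ⟶ U) :
    (∃ a : (yon S).obj T ⟶ W, a ≫ w = x) ↔
      Set.range (Points.map x) ⊆ Set.range (Points.map w) := by
  constructor
  · rintro ⟨a, rfl⟩ _ ⟨p, rfl⟩
    exact ⟨Points.map a p, (Points.map_comp a w p).symm⟩
  · exact exists_factor_of_isOpenImmersion w hw x

end Groth.Agent.H50
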