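import Groth.Agent.H50.EtSrcFP2

set_option autoImplicit false
set_option linter.style.haveILetI false
universe u

open TensorProduct Polynomial CategoryTheory AlgebraicGeometry

namespace Groth.Agent.H50

/-- For a flat `C`-algebra `P`, an ideal `I` of `C` and `J = I P`, the natural map
`P ⊗[C] I → J` is bijective. -/
theorem bijective_liftBaseChange_of_flat {C P : Type*} [CommRing C] [CommRing P] [Algebra C P]
    [Module.Flat C P] (I : Ideal C) (J : Ideal P) (hJ : J = I.map (algebraMap C P))
    (F : I →ₗ[C] J) (hF : ∀ x : I, (F x : P) = algebraMap C P x) :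
    Function.Bijective (F.liftBaseChange P) := by
  have hcomp : ∀ t : P ⊗[C] I, ((F.liftBaseChange P t : J) : P) =
      (Algebra.TensorProduct.rid C P P) (I.subtype.lTensor P t) := by
    intro t
    induction t using TensorProduct.induction_on with
    | zero => simp
    | add x y hx hy => simp only [map_add, Submodule.coe_add, hx, hy]
    | tmul p x =>
      simp [hF, Algebra.smul_def, mul_comm]
  constructor
  · intro t t' h
    have h1 : (Algebra.TensorProduct.rid C P P) (I.subtype.lTensor P t) =
        (Algebra.TensorProduct.rid C P P) (I.subtype.lTensor P t') := by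
      rw [← hcomp, ← hcomp, h]
    exact Module.Flat.lTensor_preserves_injective_linearMap (M := P) I.subtype
      Subtype.val_injective ((Algebra.TensorProduct.rid C P P).injective h1)
  · rintro ⟨y, hy⟩
    have hy' : y ∈ I.map (algebraMap C P) := hJ ▸ hy
    have : ∃ t : P ⊗[C] I, ((F.liftBaseChange P t : J) : P) = y := by
      refine Submodule.span_induction ?_ ?_ ?_ ?_ hy'
      · rintro _ ⟨c, hc, rfl⟩
        exact ⟨1 ⊗ₜ ⟨c, hc⟩, by simp [hF]⟩
      · exact ⟨0, by simp⟩
      · rintro a b _ _ ⟨ta, hta⟩ ⟨tb, htb⟩
        exact ⟨ta + tb, by simp [hta, htb]⟩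
      · rintro a b _ ⟨tb, htb⟩
        exact ⟨a • tb, by simp [htb]⟩
    obtain ⟨t, ht⟩ := this
    exact ⟨t, Subtype.ext ht⟩

set_option backward.isDefEq.respectTransparency false in
open Algebra in
/-- Vanishing of `H1Cotangent` descends along a standard etale Spec-surjective extension. -/
theorem subsingleton_h1Cotangent_of_etale {R B A : Type u} [CommRing R] [CommRing B] [CommRing A]
    [Algebra R B] [Algebra B A] [Algebra R A] [IsScalarTower R B A]
    [Algebra.IsStandardEtale B A] [Module.FaithfullyFlat B A]
    [Subsingleton (Algebra.H1Cotangent R A)] : Subsingleton (Algebra.H1Cotangent R B) := by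
  let P : Extension.{u} R B := (Generators.self R B).toExtension
  let C := P.Ring
  letI : Algebra C A := ((algebraMap B A).comp (algebraMap C B)).toAlgebra
  haveI : IsScalarTower C B A := IsScalarTower.of_algebraMap_eq fun _ => rfl
  haveI : IsScalarTower R C A := IsScalarTower.of_algebraMap_eq fun r => by
    rw [IsScalarTower.algebraMap_apply R B A, IsScalarTower.algebraMap_apply R C B]
    rfl
  have hπ' : Function.Surjective (algebraMap C B) := P.algebraMap_surjective
  obtain ⟨Pe⟩ := Algebra.IsStandardEtale.nonempty_standardEtalePresentation (R := B) (S := A)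
  obtain ⟨Pt, hf, hg⟩ := exists_lift_pair (C := C) hπ' Pe
  let ψ := liftHom Pe Pt hf hg
  have hψ : Function.Surjective ψ := liftHom_surjective Pe Pt hf hg hπ'
  have hker : RingHom.ker (ψ : Pt.Ring →+* A) =
      (RingHom.ker (algebraMap C B)).map (algebraMap C Pt.Ring) := ker_liftHom Pe Pt hf hg hπ'
  letI : Algebra R Pt.Ring := ((algebraMap C Pt.Ring).comp (algebraMap R C)).toAlgebra
  haveI : IsScalarTower R C Pt.Ring := IsScalarTower.of_algebraMap_eq fun _ => rfl
  let fQ : Pt.Ring →ₐ[R] A := ψ.restrictScalars R
  let Q : Extension.{u} R A := .ofSurjective fQ hψ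
  let f : P.Hom Q :=
  { toRingHom := algebraMap C Pt.Ring
    toRingHom_algebraMap := fun x => (IsScalarTower.algebraMap_apply R C Pt.Ring x).symm
    algebraMap_toRingHom := fun x => by
      change ψ (algebraMap C Pt.Ring x) = algebraMap B A (algebraMap C B x)
      rw [AlgHom.commutes, IsScalarTower.algebraMap_apply C B A] }
  haveI : FormallySmooth R P.Ring := inferInstanceAs (FormallySmooth R (MvPolynomial _ _))
  haveI : FormallySmooth C Pt.Ring := inferInstance
  haveI : FormallySmooth R Q.Ring := FormallySmooth.comp R C Pt.Ring
  letI : Algebra P.Ring Q.Ring := (inferInstance : Algebra C Pt.Ring)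
  have e := Extension.tensorH1CotangentOfFormallyEtale (T := A) f rfl
      (RingHom.formallyEtale_algebraMap.mpr (inferInstance : FormallyEtale C Pt.Ring))
      (bijective_liftBaseChange_of_flat (C := C) (P := Pt.Ring) P.ker Q.ker hker (f.mapKer rfl)
        (fun x => rfl)) ≪≫ₗ
      Extension.equivH1CotangentOfFormallySmooth _
  have : Subsingleton (A ⊗[B] P.H1Cotangent) := e.subsingleton
  exact Module.FaithfullyFlat.lTensor_reflects_triviality B A P.H1Cotangent

/-- Smoothness descends along a standard etale Spec-surjective extension of the middle ring. -/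
theorem smooth_of_etale_of_comap_surjective {R B A : Type u} [CommRing R] [CommRing B] [CommRing A]
    [Algebra R B] [Algebra B A] [Algebra R A] [IsScalarTower R B A]
    [Algebra.IsStandardEtale B A]
    (hsurj : Function.Surjective (PrimeSpectrum.comap (algebraMap B A)))
    [Algebra.Smooth R A] : Algebra.Smooth R B := by
  have hff : Module.FaithfullyFlat B A := faithfullyFlat_of_isStandardEtale hsurj
  have hfp : Algebra.FinitePresentation R B :=
    finitePresentation_of_etale_of_comap_surjective (R := R) (B := B) (A := A) hsurj
  refine ⟨⟨?_, ?_⟩, hfp⟩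
  · let e' : A ⊗[B] Ω[B⁄R] ≃ₗ[A] Ω[A⁄R] :=
      KaehlerDifferential.tensorKaehlerEquivOfFormallyEtale R B A
    have : Module.Flat A (A ⊗[B] Ω[B⁄R]) := .of_linearEquiv e'
    have : Module.Flat B Ω[B⁄R] := Module.Flat.of_flat_tensorProduct _ _ A
    exact Module.Flat.projective_of_finitePresentation
  · exact subsingleton_h1Cotangent_of_etale (R := R) (B := B) (A := A)

/-- Etaleness descends along a standard etale Spec-surjective extension of the middle ring. -/
theorem etale_of_etale_of_comap_surjective {R B A : Type u} [CommRing R] [CommRing B] [CommRing A]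
    [Algebra R B] [Algebra B A] [Algebra R A] [IsScalarTower R B A]
    [Algebra.IsStandardEtale B A]
    (hsurj : Function.Surjective (PrimeSpectrum.comap (algebraMap B A)))
    [Algebra.Etale R A] : Algebra.Etale R B := by
  have hff : Module.FaithfullyFlat B A := faithfullyFlat_of_isStandardEtale hsurj
  rw [Algebra.Etale.iff_formallyUnramified_and_smooth]
  exact ⟨formallyUnramified_of_faithfullyFlat_comp (R := R) (B := B) (A := A),
    smooth_of_etale_of_comap_surjective (R := R) (B := B) (A := A) hsurj⟩

theorem descendsStdEtale_smooth : DescendsStdEtale @RingHom.Smooth := by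
  intro R B A _ _ _ f g hstd hsurj h
  algebraize [f, g, g.comp f]
  have : Algebra.IsStandardEtale B A := hstd
  have : Algebra.Smooth R B :=
    smooth_of_etale_of_comap_surjective (R := R) (B := B) (A := A) hsurj
  exact (RingHom.smooth_algebraMap).2 this

theorem descendsStdEtale_etale : DescendsStdEtale @RingHom.Etale := by
  intro R B A _ _ _ f g hstd hsurj h
  algebraize [f, g, g.comp f]
  have : Algebra.IsStandardEtale B A := hstd
  have : Algebra.Etale R B :=
    etale_of_etale_of_comap_surjective (R := R) (B := B) (A := A) hsurj
  exact (RingHom.etale_algebraMap).2 this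

/-- Being smooth is etale local on the source. -/
theorem smooth_of_comp_etale_surjective {A B C : Scheme.{u}} (e : A ⟶ B)
    (h : B ⟶ C) [Etale e] [Surjective e] (H : Smooth (e ≫ h)) : Smooth h :=
  haveI := respectsRight_isOpenImmersion_of @Smooth (fun _ _ => inferInstance)
  of_comp_etale_surjective (P := @Smooth) descendsStdEtale_smooth e h H

/-- Being etale is etale local on the source. -/
theorem etale_of_comp_etale_surjective {A B C : Scheme.{u}} (e : A ⟶ B)
    (h : B ⟶ C) [Etale e] [Surjective e] (H : Etale (e ≫ h)) : Etale h :=
  haveI : MorphismProperty.IsStableUnderComposition @Etale :=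
    (inferInstance : MorphismProperty.IsMultiplicative @Etale).toIsStableUnderComposition
  haveI := respectsRight_isOpenImmersion_of @Etale (fun _ _ => inferInstance)
  of_comp_etale_surjective (P := @Etale) descendsStdEtale_etale e h H

end Groth.Agent.H50
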