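import Groth.Prelude.Def_AlgSp4
import Groth.Prelude.Def_AlgSpDec

set_option autoImplicit false
set_option backward.isDefEq.respectTransparency false
universe u
open CategoryTheory CategoryTheory.Limits AlgebraicGeometry Opposite

namespace Groth.Agent.H50

open AlgSp

variable {S : Scheme.{u}}

/-- The field valued point defined by a morphism from the spectrum of a field. -/
noncomputable def fieldPtOfHom {F : Sp S} {K : Type u} [Field K] (str : Spec (CommRingCat.of K) ⟶ S)
    (m : (yon S).obj (Over.mk str) ⟶ F) : FieldPt F :=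
  ⟨K, str, (J S).uliftYonedaEquiv m⟩

theorem fieldPtOfHom_map {F G : Sp S} (f : F ⟶ G) {K : Type u} [Field K]
    (str : Spec (CommRingCat.of K) ⟶ S) (m : (yon S).obj (Over.mk str) ⟶ F) :
    (fieldPtOfHom str m).map f = fieldPtOfHom str (m ≫ f) := by
  unfold fieldPtOfHom FieldPt.map
  congr 1

theorem fieldPtOfHom_toHom {F : Sp S} (p : FieldPt F) : fieldPtOfHom p.str p.toHom = p := by
  unfold fieldPtOfHom
  rw [FieldPt.uliftYonedaEquiv_toHom]
  rfl

theorem toHom_fieldPtOfHom {F : Sp S} {K : Type u} [Field K] (str : Spec (CommRingCat.of K) ⟶ S)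
    (m : (yon S).obj (Over.mk str) ⟶ F) : (fieldPtOfHom str m).toHom = m :=
  Equiv.symm_apply_apply _ _

/-- Restricting a field valued point along a field extension does not change the point. -/
theorem mk_fieldPtOfHom_map_comp {F : Sp S} {K L : Type u} [Field K] [Field L]
    (strK : Spec (CommRingCat.of K) ⟶ S) (strL : Spec (CommRingCat.of L) ⟶ S)
    (a : Over.mk strL ⟶ Over.mk strK) (m : (yon S).obj (Over.mk strK) ⟶ F) :
    Points.mk (fieldPtOfHom strL ((yon S).map a ≫ m)) = Points.mk (fieldPtOfHom strK m) := by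
  refine Points.sound ⟨L, inferInstance, strL, 𝟙 _, a, ?_⟩
  change F.obj.map (𝟙 _).op ((J S).uliftYonedaEquiv ((yon S).map a ≫ m)) =
    F.obj.map a.op ((J S).uliftYonedaEquiv m)
  rw [op_id, Functor.map_id_apply]
  exact ((J S).uliftYonedaEquiv_naturality m a).symm

/-- Points of a fibre product surject onto the fibre product of the sets of points. -/
theorem points_exists_of_isPullback {P F G H : Sp S} {fst : P ⟶ F} {snd : P ⟶ G} {f : F ⟶ H}
    {g : G ⟶ H} (sq : IsPullback fst snd f g) (x : Points F) (y : Points G)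
    (h : Points.map f x = Points.map g y) :
    ∃ z : Points P, Points.map fst z = x ∧ Points.map snd z = y := by
  induction x using Points.ind with
  | h p =>
  induction y using Points.ind with
  | h q =>
  rw [Points.map_mk, Points.map_mk, Points.mk_eq_mk_iff] at h
  obtain ⟨Ω, _, w, a, b, hab⟩ := h
  -- the two restricted morphisms
  let pΩ : (yon S).obj (Over.mk w) ⟶ F := (yon S).map a ≫ p.toHom
  let qΩ : (yon S).obj (Over.mk w) ⟶ G := (yon S).map b ≫ q.toHom
  have hpq : pΩ ≫ f = qΩ ≫ g := by
    apply (J S).uliftYonedaEquiv.injective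
    simp only [pΩ, qΩ, Category.assoc]
    rw [← (J S).uliftYonedaEquiv_naturality, ← (J S).uliftYonedaEquiv_naturality,
      ← FieldPt.toHom_map, ← FieldPt.toHom_map, FieldPt.uliftYonedaEquiv_toHom,
      FieldPt.uliftYonedaEquiv_toHom]
    exact hab
  obtain ⟨z, hz1, hz2⟩ := sq.exists_lift pΩ qΩ hpq
  refine ⟨Points.mk (fieldPtOfHom w z), ?_, ?_⟩
  · rw [Points.map_mk, fieldPtOfHom_map, hz1]
    have := mk_fieldPtOfHom_map_comp p.str w a p.toHom
    rw [fieldPtOfHom_toHom] at this
    exact this
  · rw [Points.map_mk, fieldPtOfHom_map, hz2]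
    have := mk_fieldPtOfHom_map_comp q.str w b q.toHom
    rw [fieldPtOfHom_toHom] at this
    exact this

end Groth.Agent.H50
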