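import Groth.Agent.H50.Quot
import Groth.Agent.H50.Points
import Groth.Prelude.Def_AlgSp4

set_option autoImplicit false
set_option backward.isDefEq.respectTransparency false
universe u
open CategoryTheory CategoryTheory.Limits AlgebraicGeometry Opposite

namespace Groth.Agent.H50

open AlgSp

variable {S : Scheme.{u}}

/-- `yon S` sends morphisms over `S` with monic underlying morphism to monomorphisms. -/
theorem mono_yon_map_of_mono_left {U V : Over S} (g : U ⟶ V) [Mono g.left] :
    Mono ((yon S).map g) := by
  have : Mono g := (Over.forget S).mono_of_mono_map (by assumption)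
  infer_instance

/-- A representable morphism whose base changes to schemes are monomorphisms is a monomorphism. -/
theorem mono_of_repWith {P : MorphismProperty Scheme.{u}}
    (hP : P ≤ MorphismProperty.monomorphisms Scheme.{u}) {F G : Sp S} (f : F ⟶ G)
    (hf : RepWith P f) : Mono f := by
  apply mono_of_yon_injective
  intro T x y hxy
  have hm : Mono (hf.rep.snd (x ≫ f)).left := hP _ (hf.property_snd (x ≫ f))
  have := mono_yon_map_of_mono_left (hf.rep.snd (x ≫ f))
  have sq := hf.rep.isPullback (x ≫ f)
  obtain ⟨sx, hsx1, hsx2⟩ := sq.exists_lift x (𝟙 _) (by simp)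
  obtain ⟨sy, hsy1, hsy2⟩ := sq.exists_lift y (𝟙 _) (by simp [hxy])
  have : sx = sy := by
    rw [← cancel_mono ((yon S).map (hf.rep.snd (x ≫ f))), hsx2, hsy2]
  rw [← hsx1, ← hsy1, this]

/-- A representable quasi-compact morphism is quasi-compact in the sense of algebraic spaces. -/
theorem isQuasiCompactMor_of_repWith {P : MorphismProperty Scheme.{u}}
    (hP : P ≤ @QuasiCompact) {F G : Sp S} (f : F ⟶ G) (hf : RepWith P f) :
    IsQuasiCompactMor f := by
  intro Z Z' _ hqc g fst snd sq
  obtain ⟨U, p, hpe, hps, hU⟩ := hqc
  have hsnd : RepWith P snd := MorphismProperty.of_isPullback sq hf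
  have sq' := hsnd.rep.isPullback p
  have hqc' : QuasiCompact (hsnd.rep.snd p).left := hP _ (hsnd.property_snd p)
  refine ⟨hsnd.rep.pullback p, hsnd.rep.fst p, ?_, ?_, ?_⟩
  · exact MorphismProperty.of_isPullback sq'.flip hpe
  · exact MorphismProperty.of_isPullback sq'.flip hps
  · have : CompactSpace ↥U.left := hU
    exact QuasiCompact.compactSpace_of_compactSpace (hsnd.rep.snd p).left

theorem isClosed_points_iff {F : Sp S} {W : Set (Points F)} :
    IsClosed W ↔ ∀ (T : Over S) (g : (yon S).obj T ⟶ F), IsClosed (Points.ofPt g ⁻¹' W) := by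
  rw [← isOpen_compl_iff, Points.isOpen_iff]
  refine forall_congr' fun T => forall_congr' fun g => ?_
  rw [Set.preimage_compl, isOpen_compl_iff]

/-- The preimage in a scheme `T` of the image (on points) of a representable morphism is the image of the base change. -/
theorem preimage_range_points {F G : Sp S} (f : F ⟶ G) (hf : Representable f) {T : Over S}
    (g : (yon S).obj T ⟶ G) :
    Points.ofPt g ⁻¹' Set.range (Points.map f) = Set.range (hf.snd g).left := by
  have sq := hf.isPullback g
  ext t
  constructor
  · rintro ⟨z, hz⟩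
    rw [Points.ofPt_eq_map_ofScheme] at hz
    obtain ⟨w, -, hw2⟩ := points_exists_of_isPullback sq z (Points.ofScheme T t) hz
    obtain ⟨v, rfl⟩ := (Points.schemeHomeo (hf.pullback g)).surjective w
    rw [Points.map_yon_map_apply] at hw2
    exact ⟨v, (Points.schemeHomeo T).injective hw2⟩
  · rintro ⟨v, rfl⟩
    refine ⟨Points.ofPt (hf.fst g) v, ?_⟩
    rw [Points.map_ofPt, sq.w, ← Points.map_ofPt, Points.ofPt_eq_map_ofScheme g]
    congr 1
    rw [Points.ofPt_eq_map_ofScheme]
    exact Points.map_yon_map_apply (hf.snd g) v

end Groth.Agent.H50
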