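import Groth.Agent.H53.Charts
import Groth.Agent.H49.AlgSpDiagProps

set_option autoImplicit false
set_option backward.isDefEq.respectTransparency false
universe u
open CategoryTheory CategoryTheory.Limits AlgebraicGeometry Opposite

namespace Groth.Agent.H50

open AlgSp

variable {S : Scheme.{u}}

/-- A representable morphism with property `P ⊇ Etale` (stable under composition) has `P` on all charts. -/
theorem locP_of_repWith (P : MorphismProperty Scheme.{u}) [P.IsStableUnderComposition]
    (hE : @Etale ≤ P) {F G : Sp S} (f : F ⟶ G) (hf : RepWith P f) : LocP P f := by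
  intro U V a b h ha hb hcomm
  have sq := hf.rep.isPullback b
  have hP : P (hf.rep.snd b).left := hf.property_snd b
  have hfst : RepWith @Etale (hf.rep.fst b) := MorphismProperty.of_isPullback sq.flip hb
  obtain ⟨k, hk1, hk2⟩ := sq.exists_lift a ((yon S).map h) hcomm
  obtain ⟨k, rfl⟩ := (yon S).map_surjective k
  have hk : Etale k.left :=
    Groth.Agent.H53.etale_left_of_repWith_etale a (hf.rep.fst b) ha hfst k hk1
  rw [← Functor.map_comp] at hk2
  have hk2' : k ≫ hf.rep.snd b = h := (yon S).map_injective hk2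
  rw [← hk2', Over.comp_left]
  exact P.comp_mem _ _ (hE _ _ _ hk) hP

/-- Cancellation on charts: if `f ≫ g` has `P` on charts, `g` has `Q` on charts, `P` cancels `Q` on
the right and `P` descends along etale surjective base change, then `f` has `P` on charts. -/
theorem locP_of_comp_cancel (P Q : MorphismProperty Scheme.{u})
    (hcancel : ∀ {A B C : Scheme.{u}} (h : A ⟶ B) (k : B ⟶ C), P (h ≫ k) → Q k → P h)
    (hdesc : ∀ {A B A' B' : Scheme.{u}} (h : A ⟶ B) (v : B' ⟶ B) (u : A' ⟶ A) (h' : A' ⟶ B'),
      IsPullback u h' h v → Etale v → Surjective v → P h' → P h)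
    {X Y Z : Sp S} (hZ : IsAlgSpace Z) (f : X ⟶ Y) (g : Y ⟶ Z) (hfg : LocP P (f ≫ g))
    (hg : LocP Q g) : LocP P f := by
  intro U V a b h ha hb hcomm
  obtain ⟨W, c, hc1, hc2⟩ := hZ.atlas
  obtain ⟨V', v, k, sq⟩ := Groth.Agent.H53.exists_pullback_yon (b ≫ g) c hc1.rep
  have hv : Etale v.left := Groth.Agent.H53.prop_of_isPullback_yon sq hc1
  have hvs : Surjective v.left := Groth.Agent.H53.prop_of_isPullback_yon sq hc2
  have sqU := IsPullback.of_hasPullback h v
  have sqU' := sqU.map (Over.forget S)
  have hu : Etale (pullback.fst h v).left :=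
    MorphismProperty.of_isPullback (P := @Etale) sqU'.flip hv
  have hw : (yon S).map (pullback.fst h v) ≫ (yon S).map h =
      (yon S).map (pullback.snd h v) ≫ (yon S).map v := by
    rw [← Functor.map_comp, ← Functor.map_comp, pullback.condition]
  -- the chart for `f ≫ g`
  have hP : P (pullback.snd h v ≫ k).left :=
    hfg ((yon S).map (pullback.fst h v) ≫ a) c (pullback.snd h v ≫ k)
      (Groth.Agent.H53.repWith_etale_map_comp _ hu a ha) hc1 (by
        rw [Category.assoc, ← Category.assoc a, hcomm, Category.assoc, ← Category.assoc,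
          hw, Category.assoc, sq.w, Functor.map_comp, Category.assoc])
  -- the chart for `g`
  have hQ : Q k.left :=
    hg ((yon S).map v ≫ b) c k (Groth.Agent.H53.repWith_etale_map_comp _ hv b hb) hc1 (by
      rw [Category.assoc, sq.w])
  rw [Over.comp_left] at hP
  exact hdesc h.left v.left (pullback.fst h v).left (pullback.snd h v).left sqU' hv hvs
    (hcancel _ _ hP hQ)

/-- `LocP P` descends along the base change to an etale surjective chart of the target. -/
theorem locP_of_isPullback_atlas (P : MorphismProperty Scheme.{u})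
    (hdesc : ∀ {A B A' B' : Scheme.{u}} (h : A ⟶ B) (v : B' ⟶ B) (u : A' ⟶ A) (h' : A' ⟶ B'),
      IsPullback u h' h v → Etale v → Surjective v → P h' → P h)
    {X Y : Sp S} (f : X ⟶ Y) (V : Over S) (p : (yon S).obj V ⟶ Y) (hp : RepWith @Etale p)
    (hps : RepWith @Surjective p) {P₀ : Sp S} (fst : P₀ ⟶ X) (snd : P₀ ⟶ (yon S).obj V)
    (sq : IsPullback fst snd f p) (h : LocP P snd) : LocP P f := by
  intro U W a b h₀ ha hb hcomm
  obtain ⟨W', w, q, sqW⟩ := Groth.Agent.H53.exists_pullback_yon b p hp.rep
  have hw : Etale w.left := Groth.Agent.H53.prop_of_isPullback_yon sqW hp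
  have hws : Surjective w.left := Groth.Agent.H53.prop_of_isPullback_yon sqW hps
  have hq : Etale q.left := Groth.Agent.H53.prop_of_isPullback_yon sqW.flip hb
  have sqU := IsPullback.of_hasPullback h₀ w
  have sqU' := sqU.map (Over.forget S)
  have sqUy := sqU.map (yon S)
  -- outer rectangle
  have sqO : IsPullback ((yon S).map (pullback.snd h₀ w) ≫ (yon S).map q)
      ((yon S).map (pullback.fst h₀ w)) p ((yon S).map h₀ ≫ b) :=
    (sqUy.flip.paste_horiz sqW.flip)
  have hcond : ((yon S).map (pullback.fst h₀ w) ≫ a) ≫ f =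
      ((yon S).map (pullback.snd h₀ w) ≫ (yon S).map q) ≫ p := by
    rw [Category.assoc, hcomm, sqO.w]
  obtain ⟨a', ha'1, ha'2⟩ := sq.exists_lift _ _ hcond
  have sqL : IsPullback a' ((yon S).map (pullback.fst h₀ w)) fst a := by
    refine IsPullback.of_right ?_ ha'1 sq.flip
    rw [ha'2, hcomm]
    exact sqO
  have ha'e : RepWith @Etale a' := MorphismProperty.of_isPullback sqL.flip ha
  have hP : P (pullback.snd h₀ w).left :=
    h a' ((yon S).map q) (pullback.snd h₀ w) ha'e ((repWith_yon_map_iff _ _).2 hq) ha'2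
  exact hdesc h₀.left w.left (pullback.fst h₀ w).left (pullback.snd h₀ w).left sqU' hw hws hP

/-- Descent along etale surjective base change, from fppf descent. -/
theorem descends_etale_of_descendsAlong (P : MorphismProperty Scheme.{u})
    [P.DescendsAlong (@Surjective ⊓ @Flat ⊓ @LocallyOfFinitePresentation)]
    {A B A' B' : Scheme.{u}} (h : A ⟶ B) (v : B' ⟶ B) (u : A' ⟶ A) (h' : A' ⟶ B')
    (sq : IsPullback u h' h v) (hv : Etale v) (hvs : Surjective v) (hP : P h') : P h :=
  MorphismProperty.of_isPullback_of_descendsAlong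
    (Q := @Surjective ⊓ @Flat ⊓ @LocallyOfFinitePresentation) sq.flip
    ⟨⟨hvs, inferInstance⟩, inferInstance⟩ hP

end Groth.Agent.H50
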