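import Mathlib

set_option autoImplicit false
universe u

open TensorProduct

namespace Groth.Agent.H50

section Vanishing

variable {B₀ B A₀ : Type u} [CommRing B₀] [CommRing B] [CommRing A₀] [Algebra B₀ B] [Algebra B₀ A₀]

/-- The conductor-like ideal of elements of `B₀` multiplying `b` into the image of `B₀`. -/
def multIdeal (B₀ : Type u) {B : Type u} [CommRing B₀] [CommRing B] [Algebra B₀ B] (b : B) :
    Ideal B₀ where
  carrier := {c | c • b ∈ Set.range (algebraMap B₀ B)}
  add_mem' := by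
    rintro c d ⟨x, hx⟩ ⟨y, hy⟩
    exact ⟨x + y, by rw [map_add, hx, hy, add_smul]⟩
  zero_mem' := ⟨0, by simp⟩
  smul_mem' := by
    rintro c d ⟨x, hx⟩
    exact ⟨c * x, by rw [map_mul, hx, smul_eq_mul, mul_smul, Algebra.smul_def c]⟩

theorem mem_multIdeal {b : B} {c : B₀} :
    c ∈ multIdeal B₀ b ↔ c • b ∈ Set.range (algebraMap B₀ B) := Iff.rfl

/-- If `b ⊗ 1 = 1 ⊗ a₀` in `B ⊗ A₀` with `A₀` flat, then the ideal multiplying `b` into `B₀` generates the unit ideal
of `A₀`. -/
theorem map_multIdeal_eq_top [Module.Flat B₀ A₀] (b : B) (a₀ : A₀)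
    (h : b ⊗ₜ[B₀] (1 : A₀) = (1 : B) ⊗ₜ[B₀] a₀) :
    (multIdeal B₀ b).map (algebraMap B₀ A₀) = ⊤ := by
  let m : Fin 2 → B := ![b, 1]
  let n : Fin 2 → A₀ := ![1, -a₀]
  have hsum : ∑ i, m i ⊗ₜ[B₀] n i = (0 : B ⊗[B₀] A₀) := by
    simp [m, n, Fin.sum_univ_two, h, tmul_neg]
  have hinj : Function.Injective
      (LinearMap.rTensor A₀ (Submodule.span B₀ (Set.range m)).subtype) :=
    Module.Flat.rTensor_preserves_injective_linearMap _ (Submodule.injective_subtype _)
  obtain ⟨k, a, y, h1, h2⟩ :=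
    TensorProduct.vanishesTrivially_of_sum_tmul_eq_zero_of_rTensor_injective B₀ hinj hsum
  have ha : ∀ j, a 0 j ∈ multIdeal B₀ b := by
    intro j
    have := h2 j
    simp only [m, Fin.sum_univ_two, Matrix.cons_val_zero, Matrix.cons_val_one] at this
    refine ⟨-(a 1 j), ?_⟩
    rw [map_neg, eq_comm, eq_neg_iff_add_eq_zero, ← this, Algebra.smul_def (a 1 j), mul_one]
  have h10 := h1 0
  simp only [n, Matrix.cons_val_zero] at h10
  rw [Ideal.eq_top_iff_one, h10]
  refine Ideal.sum_mem _ fun j _ => ?_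
  rw [Algebra.smul_def]
  exact Ideal.mul_mem_right _ _ (Ideal.mem_map_of_mem _ (ha j))

/-- An ideal generating the unit ideal in `A₀` contains a power of every `s` whose basic open lies in the image
of `Spec A₀`. -/
theorem mem_radical_of_map_eq_top (𝔞 : Ideal B₀) (h : 𝔞.map (algebraMap B₀ A₀) = ⊤) (s : B₀)
    (hs : (PrimeSpectrum.basicOpen s : Set (PrimeSpectrum B₀)) ⊆
      Set.range (PrimeSpectrum.comap (algebraMap B₀ A₀))) : s ∈ 𝔞.radical := by
  by_contra hcon
  rw [Ideal.radical_eq_sInf, Ideal.mem_sInf] at hcon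
  push Not at hcon
  obtain ⟨q₀, ⟨hle, hprime⟩, hsq⟩ := hcon
  obtain ⟨p₀, hp₀⟩ := hs (show (⟨q₀, hprime⟩ : PrimeSpectrum B₀) ∈ PrimeSpectrum.basicOpen s from hsq)
  have hle' : 𝔞.map (algebraMap B₀ A₀) ≤ p₀.asIdeal := by
    rw [Ideal.map_le_iff_le_comap]
    intro x hx
    have : x ∈ (PrimeSpectrum.comap (algebraMap B₀ A₀) p₀).asIdeal := by
      rw [hp₀]; exact hle hx
    exact this
  rw [h, top_le_iff] at hle'
  exact p₀.2.ne_top hle'

end Vanishing

theorem one_tmul_algebraMap {B₀ B A₀ : Type*} [CommRing B₀] [CommRing B] [CommRing A₀] [Algebra B₀ B]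
    [Algebra B₀ A₀] (c : B₀) :
    (1 : B) ⊗ₜ[B₀] (algebraMap B₀ A₀ c) = algebraMap B (B ⊗[B₀] A₀) (algebraMap B₀ B c) := by
  rw [Algebra.TensorProduct.algebraMap_apply, Algebra.algebraMap_self, RingHom.id_apply,
    Algebra.algebraMap_eq_smul_one (A := A₀), TensorProduct.tmul_smul,
    TensorProduct.smul_tmul', Algebra.smul_def, mul_one]

section FT

variable {R B A : Type u} [CommRing R] [CommRing B] [CommRing A] [Algebra R B] [Algebra B A]
  [Algebra R A] [IsScalarTower R B A]

/-- If `sⁿ b` lies in a finitely generated subalgebra `B₀` for every `b` (with `n` depending on `b`), then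
`B[1/s]` is of finite type. -/
theorem finiteType_away_of_forall_pow_smul_mem (B₀ : Subalgebra R B) (hB₀ : B₀.FG) (s : B₀)
    (h : ∀ b : B, ∃ n : ℕ, (s : B) ^ n * b ∈ B₀) :
    Algebra.FiniteType R (Localization.Away (s : B)) := by
  have : Algebra.FiniteType R B₀ := (Subalgebra.fg_iff_finiteType B₀).1 hB₀
  have : Algebra.FiniteType R (Polynomial B₀) := Algebra.FiniteType.trans (S := B₀) inferInstance inferInstance
  let ψ₀ : Polynomial B₀ →ₐ[B₀] Localization.Away (s : B) :=
    Polynomial.aeval (IsLocalization.Away.invSelf (s : B))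
  let ψ : Polynomial B₀ →ₐ[R] Localization.Away (s : B) := ψ₀.restrictScalars R
  refine Algebra.FiniteType.of_surjective ψ ?_
  intro z
  obtain ⟨b, ⟨_, k, rfl⟩, rfl⟩ := IsLocalization.exists_mk'_eq (Submonoid.powers (s : B)) z
  obtain ⟨n, hn⟩ := h b
  refine ⟨Polynomial.C ⟨_, hn⟩ * Polynomial.X ^ (n + k), ?_⟩
  change ψ₀ _ = _
  rw [map_mul, map_pow, Polynomial.aeval_C, Polynomial.aeval_X, IsLocalization.eq_mk'_iff_mul_eq]
  have h1 : algebraMap B (Localization.Away (s : B)) (s : B) *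
      IsLocalization.Away.invSelf (s : B) = 1 := IsLocalization.Away.mul_invSelf _
  change algebraMap B (Localization.Away (s : B)) ((s : B) ^ n * b) *
    IsLocalization.Away.invSelf (s : B) ^ (n + k) * algebraMap B _ ((s : B) ^ k) = _
  rw [map_mul, map_pow, map_pow, pow_add]
  calc _ = (algebraMap B (Localization.Away (s : B)) (s : B) *
        IsLocalization.Away.invSelf (s : B)) ^ n * (algebraMap B (Localization.Away (s : B)) (s : B) *
        IsLocalization.Away.invSelf (s : B)) ^ k * algebraMap B _ b := by ring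
    _ = _ := by rw [h1]; simp

/-- Descent of finite type along a faithfully flat etale extension of the middle ring. -/
theorem finiteType_of_etale_of_comap_surjective [Algebra.Etale B A]
    (hsurj : Function.Surjective (PrimeSpectrum.comap (algebraMap B A))) [Algebra.FiniteType R A] :
    Algebra.FiniteType R B := by
  classical
  have hstd : Algebra.IsStandardSmoothOfRelativeDimension 0 B A :=
    Algebra.Etale.iff_isStandardSmoothOfRelativeDimension_zero.1 inferInstance
  obtain ⟨ι, σ, _, _, P, hP⟩ := hstd.out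
  obtain ⟨t, ht⟩ := (Algebra.FiniteType.out : (⊤ : Subalgebra R A).FG)
  choose F hF using fun a : A => P.algebraMap_surjective a
  let Sg : Set B := P.coeffs ∪ ⋃ a ∈ t, ((F a).coeffs : Set B)
  have hSg : Sg.Finite :=
    P.finite_coeffs.union (Set.Finite.biUnion t.finite_toSet fun a _ => Finset.finite_toSet _)
  let B₀ : Subalgebra R B := Algebra.adjoin R Sg
  have hB₀ : B₀.FG := ⟨hSg.toFinset, by simp [B₀]⟩
  have hrange : Set.range (algebraMap B₀ B) = (B₀ : Set B) := by
    ext x; simp [Subalgebra.algebraMap_eq]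
  have hSgB₀ : Sg ⊆ Set.range (algebraMap B₀ B) := by
    rw [hrange]; exact Algebra.subset_adjoin
  haveI : P.HasCoeffs B₀ := ⟨Set.subset_union_left.trans hSgB₀⟩
  have hPc : P.toPresentation.HasCoeffs B₀ := inferInstance
  let P₀ := P.ofHasCoeffs B₀
  haveI : Algebra.IsStandardSmoothOfRelativeDimension 0 B₀ (P.toPresentation.ModelOfHasCoeffs B₀) :=
    ⟨_, _, _, inferInstance, P₀, hP⟩
  haveI : Algebra.Etale B₀ (P.toPresentation.ModelOfHasCoeffs B₀) := inferInstance
  let e := P.tensorModelOfHasCoeffsEquiv B₀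
  -- every element of `A` comes from the model
  have hC : ∀ a : A, ∃ a₀ : P.toPresentation.ModelOfHasCoeffs B₀, e (1 ⊗ₜ a₀) = a := by
    intro a
    have ha : a ∈ Algebra.adjoin R (t : Set A) := by rw [ht]; trivial
    induction ha using Algebra.adjoin_induction with
    | mem x hx =>
      have hcoef : ((F x).coeffs : Set B) ⊆ Set.range (algebraMap B₀ B) :=
        (Set.subset_union_right.trans hSgB₀ |> fun h => (Set.subset_biUnion_of_mem (u := fun a => ((F a).coeffs : Set B)) hx).trans h)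
      obtain ⟨G, hG⟩ := MvPolynomial.mem_range_map_iff_coeffs_subset.2 hcoef
      refine ⟨Ideal.Quotient.mk _ G, ?_⟩
      have := P.tensorModelOfHasCoeffsEquiv_tmul B₀ 1 G
      rw [this, map_one, one_mul, ← MvPolynomial.aeval_map_algebraMap B, hG, ← P.algebraMap_apply, hF]
    | algebraMap r =>
      refine ⟨algebraMap B₀ _ (algebraMap R B₀ r), ?_⟩
      rw [one_tmul_algebraMap, e.commutes, ← IsScalarTower.algebraMap_apply, ← IsScalarTower.algebraMap_apply]
    | add x y _ _ hx hy =>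
      obtain ⟨x₀, hx₀⟩ := hx
      obtain ⟨y₀, hy₀⟩ := hy
      exact ⟨x₀ + y₀, by rw [TensorProduct.tmul_add, map_add, hx₀, hy₀]⟩
    | mul x y _ _ hx hy =>
      obtain ⟨x₀, hx₀⟩ := hx
      obtain ⟨y₀, hy₀⟩ := hy
      refine ⟨x₀ * y₀, ?_⟩
      rw [← hx₀, ← hy₀, ← map_mul, Algebra.TensorProduct.tmul_mul_tmul, one_mul]
  have hC' : ∀ b : B, ∃ a₀ : P.toPresentation.ModelOfHasCoeffs B₀, b ⊗ₜ[B₀] (1 : P.toPresentation.ModelOfHasCoeffs B₀) = 1 ⊗ₜ a₀ := by
    intro b
    obtain ⟨a₀, ha₀⟩ := hC (e (b ⊗ₜ 1))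
    exact ⟨a₀, (e.injective ha₀).symm⟩
  -- the ring map from the model to `A`
  let φ : P.toPresentation.ModelOfHasCoeffs B₀ →+* A :=
    RingHom.comp e.toAlgHom.toRingHom
      (Algebra.TensorProduct.includeRight (R := B₀) (A := B) (B := P.toPresentation.ModelOfHasCoeffs B₀)).toRingHom
  have hφ : φ.comp (algebraMap B₀ (P.toPresentation.ModelOfHasCoeffs B₀)) = (algebraMap B A).comp (algebraMap B₀ B) := by
    ext c
    change e (1 ⊗ₜ algebraMap B₀ _ c) = _
    rw [one_tmul_algebraMap, e.commutes]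
    rfl
  have hopen : IsOpen (Set.range (PrimeSpectrum.comap (algebraMap B₀ (P.toPresentation.ModelOfHasCoeffs B₀)))) :=
    (PrimeSpectrum.isOpenMap_comap_of_hasGoingDown_of_finitePresentation).isOpen_range
  -- local finite type
  have hloc : ∀ q : PrimeSpectrum B, ∃ s : B, s ∉ q.asIdeal ∧
      Algebra.FiniteType R (Localization.Away s) := by
    intro q
    obtain ⟨p, hp⟩ := hsurj q
    have hq₀ : PrimeSpectrum.comap (algebraMap B₀ B) q ∈
        Set.range (PrimeSpectrum.comap (algebraMap B₀ (P.toPresentation.ModelOfHasCoeffs B₀))) := by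
      refine ⟨PrimeSpectrum.comap φ p, ?_⟩
      rw [← PrimeSpectrum.comap_comp_apply, hφ, PrimeSpectrum.comap_comp_apply, hp]
    obtain ⟨_, ⟨s, rfl⟩, hqs, hs⟩ :=
      PrimeSpectrum.isTopologicalBasis_basic_opens.exists_subset_of_mem_open hq₀ hopen
    refine ⟨(s : B), hqs, ?_⟩
    refine finiteType_away_of_forall_pow_smul_mem B₀ hB₀ s fun b => ?_
    obtain ⟨a₀, ha₀⟩ := hC' b
    have h1 := map_multIdeal_eq_top (B₀ := B₀) b a₀ ha₀
    obtain ⟨n, hn⟩ := mem_radical_of_map_eq_top _ h1 s hs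
    refine ⟨n, ?_⟩
    obtain ⟨c, hc⟩ := hn
    have : ((s ^ n : B₀) : B) * b = algebraMap B₀ B c := by
      rw [hc, Algebra.smul_def]; rfl
    rw [← SetLike.mem_coe, ← hrange]
    exact ⟨c, by rw [← this]; simp⟩
  -- globalize
  let T : Set B := {s | Algebra.FiniteType R (Localization.Away s)}
  have hT : Ideal.span T = ⊤ := by
    by_contra hne
    obtain ⟨m, hm, hle⟩ := Ideal.exists_le_maximal _ hne
    obtain ⟨s, hs, hft⟩ := hloc ⟨m, hm.isPrime⟩
    exact hs (hle (Ideal.subset_span hft))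
  have := RingHom.finiteType_ofLocalizationSpanTarget (algebraMap R B) T hT (fun r => by
    have hr : Algebra.FiniteType R (Localization.Away (r : B)) := r.2
    rw [← IsScalarTower.algebraMap_eq]
    exact (RingHom.finiteType_algebraMap).2 hr)
  exact (RingHom.finiteType_algebraMap).1 this

end FT

end Groth.Agent.H50
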