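import Groth.Agent.H50.EtSrcScheme
import Groth.Agent.H50.EtSrcFT

set_option autoImplicit false
universe u

open CategoryTheory AlgebraicGeometry TensorProduct

namespace Groth.Agent.H50

theorem descendsStdEtale_finiteType : DescendsStdEtale @RingHom.FiniteType := by
  intro R B A _ _ _ f g hstd hsurj h
  algebraize [f, g, g.comp f]
  have : Algebra.IsStandardEtale B A := hstd
  have : Algebra.FiniteType R B := finiteType_of_etale_of_comap_surjective (R := R) (B := B) (A := A) hsurj
  exact (RingHom.finiteType_algebraMap).2 this

theorem respectsRight_isOpenImmersion_of (P : MorphismProperty Scheme.{u}) [P.IsStableUnderComposition]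
    (h : ∀ {X Y : Scheme.{u}} (f : X ⟶ Y) [IsOpenImmersion f], P f) :
    P.RespectsRight @IsOpenImmersion :=
  ⟨fun i hi f hf => P.comp_mem f i hf (@h _ _ i hi)⟩

/-- Being locally of finite type is etale local on the source. -/
theorem locallyOfFiniteType_of_comp_etale_surjective {A B C : Scheme.{u}} (e : A ⟶ B) (h : B ⟶ C)
    [Etale e] [Surjective e] (H : LocallyOfFiniteType (e ≫ h)) : LocallyOfFiniteType h :=
  haveI := respectsRight_isOpenImmersion_of @LocallyOfFiniteType (fun f _ => inferInstance)
  of_comp_etale_surjective (P := @LocallyOfFiniteType) descendsStdEtale_finiteType e h H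

end Groth.Agent.H50
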