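import Groth.Agent.H50.Charts
import Groth.Agent.H50.EtSrcInst

set_option autoImplicit false
set_option backward.isDefEq.respectTransparency false
universe u
open CategoryTheory CategoryTheory.Limits AlgebraicGeometry Opposite

namespace Groth.Agent.H50

open AlgSp

variable {S : Scheme.{u}}

/-- Scheme-level "etale local on the source". -/
def EtLocSrc (P : MorphismProperty Scheme.{u}) : Prop :=
  ∀ {A B C : Scheme.{u}} (e : A ⟶ B) (h : B ⟶ C), Etale e → Surjective e → P (e ≫ h) → P h

/-- `LocP P` can be tested after precomposition with a surjective etale chart of the source. -/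
theorem locP_of_source_chart {P : MorphismProperty Scheme.{u}} (hP : EtLocSrc P) {X Y : Sp S}
    (f : X ⟶ Y) (U : Over S) (φ : (yon S).obj U ⟶ X) (hφ : RepWith @Etale φ)
    (hφs : RepWith @Surjective φ) (h : LocP P (φ ≫ f)) : LocP P f := by
  intro U' V a b g ha hb hcomm
  obtain ⟨W, p₁, p₂, sq⟩ := Groth.Agent.H53.exists_pullback_yon φ a ha.rep
  have hp₁ : Etale p₁.left := Groth.Agent.H53.prop_of_isPullback_yon sq ha
  have hp₂ : Etale p₂.left := Groth.Agent.H53.prop_of_isPullback_yon sq.flip hφ
  have hp₂s : Surjective p₂.left := Groth.Agent.H53.prop_of_isPullback_yon sq.flip hφs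
  have hW : RepWith @Etale ((yon S).map p₁) := (repWith_yon_map_iff _ _).2 hp₁
  have key : P (p₂ ≫ g).left := by
    refine h ((yon S).map p₁) b (p₂ ≫ g) hW hb ?_
    rw [Functor.map_comp, Category.assoc, ← hcomm, ← Category.assoc, ← Category.assoc, sq.w]
  exact hP p₂.left g.left hp₂ hp₂s key

end Groth.Agent.H50
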