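import Groth.Agent.H50.EtSrcSmooth
import Groth.Agent.H50.LocPSrc
import Groth.Agent.H50.Charts
import Groth.Agent.H53.LocSource

set_option autoImplicit false
set_option backward.isDefEq.respectTransparency false
universe u
open CategoryTheory CategoryTheory.Limits AlgebraicGeometry Opposite

namespace Groth.Agent.H50

open AlgSp

variable {S : Scheme.{u}}

theorem ringHom_quasiFinite_of_etale {R S : Type u} [CommRing R] [CommRing S] (φ : R →+* S)
    (h : φ.Etale) : φ.QuasiFinite := by
  algebraize [φ]
  have : Algebra.Etale R S := h
  exact (RingHom.quasiFinite_algebraMap).2 inferInstance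

theorem locallyQuasiFinite_of_etale {A B : Scheme.{u}} (e : A ⟶ B) [Etale e] :
    LocallyQuasiFinite e := by
  rw [HasRingHomProperty.iff_appLE (P := @LocallyQuasiFinite)]
  intro U V le
  exact ringHom_quasiFinite_of_etale _ (HasRingHomProperty.appLE (P := @Etale) _ inferInstance U V le)

/-- The classes of morphisms of schemes for which `LocP` is well behaved. -/
structure GoodClass (P : MorphismProperty Scheme.{u}) : Prop where
  comp : P.IsStableUnderComposition
  bc : P.IsStableUnderBaseChange
  etale_le : @Etale ≤ P
  src : EtLocSrc P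

theorem goodClass_lft : GoodClass @LocallyOfFiniteType.{u} :=
  ⟨inferInstance, inferInstance, fun _ _ _ h => by have := h; infer_instance,
    fun e h he hes H => by
      have := he; have := hes
      exact locallyOfFiniteType_of_comp_etale_surjective e h H⟩

theorem goodClass_lfp : GoodClass @LocallyOfFinitePresentation.{u} :=
  ⟨inferInstance, inferInstance, fun _ _ _ h => by have := h; infer_instance,
    fun e h he hes H => by
      have := he; have := hes
      exact locallyOfFinitePresentation_of_comp_etale_surjective e h H⟩

theorem goodClass_flat : GoodClass @Flat.{u} :=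
  ⟨inferInstance, inferInstance, fun _ _ _ h => by have := h; infer_instance,
    fun e h he hes H => by
      have := he; have := hes
      exact flat_of_comp_etale_surjective e h H⟩

theorem goodClass_smooth : GoodClass @Smooth.{u} :=
  ⟨inferInstance, inferInstance, fun _ _ _ h => by have := h; infer_instance,
    fun e h he hes H => by
      have := he; have := hes
      exact smooth_of_comp_etale_surjective e h H⟩

theorem goodClass_etale : GoodClass @Etale.{u} :=
  ⟨(inferInstance : MorphismProperty.IsMultiplicative @Etale).toIsStableUnderComposition,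
    inferInstance, le_rfl,
    fun e h he hes H => by
      have := he; have := hes
      exact etale_of_comp_etale_surjective e h H⟩

theorem goodClass_lqf : GoodClass (@LocallyQuasiFinite.{u} ⊓ @LocallyOfFiniteType) :=
  ⟨inferInstance, inferInstance,
    fun _ _ e h => by
      have := h
      exact ⟨locallyQuasiFinite_of_etale e, inferInstance⟩,
    fun e h he hes H => by
      have := he; have := hes
      exact ⟨locallyQuasiFinite_of_comp_etale_surjective e h H.1,
        locallyOfFiniteType_of_comp_etale_surjective e h H.2⟩⟩

theorem goodClass_unram : GoodClass (@LocallyOfFiniteType.{u} ⊓ @FormallyUnramified) :=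
  ⟨inferInstance, inferInstance,
    fun _ _ e h => by
      have := h
      exact ⟨inferInstance, inferInstance⟩,
    fun e h he hes H => by
      have := he; have := hes
      exact ⟨locallyOfFiniteType_of_comp_etale_surjective e h H.1,
        formallyUnramified_of_comp_etale_surjective e h H.2⟩⟩

/-- The seven listed classes are good. -/
theorem goodClass_of_cases (P : MorphismProperty Scheme.{u})
    (hP : P = @LocallyOfFiniteType ∨ P = @LocallyOfFinitePresentation ∨ P = @Flat ∨ P = @Smooth ∨
      P = @Etale ∨
      (∀ ⦃A B : Scheme.{u}⦄ (g : A ⟶ B), P g ↔ (LocallyQuasiFinite g ∧ LocallyOfFiniteType g)) ∨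
      (∀ ⦃A B : Scheme.{u}⦄ (g : A ⟶ B), P g ↔ (LocallyOfFiniteType g ∧ FormallyUnramified g))) :
    GoodClass P := by
  rcases hP with rfl | rfl | rfl | rfl | rfl | h | h
  · exact goodClass_lft
  · exact goodClass_lfp
  · exact goodClass_flat
  · exact goodClass_smooth
  · exact goodClass_etale
  · have : P = (@LocallyQuasiFinite.{u} ⊓ @LocallyOfFiniteType : MorphismProperty Scheme.{u}) := by
      ext A B g
      exact h g
    rw [this]
    exact goodClass_lqf
  · have : P = (@LocallyOfFiniteType.{u} ⊓ @FormallyUnramified : MorphismProperty Scheme.{u}) := by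
      ext A B g
      exact h g
    rw [this]
    exact goodClass_unram

namespace GoodClass

variable {P : MorphismProperty Scheme.{u}} (hG : GoodClass P)

include hG

/-- Descent along etale surjective base change, from etale-locality on the source. -/
theorem desc {A B A' B' : Scheme.{u}} (h : A ⟶ B) (v : B' ⟶ B) (u : A' ⟶ A) (h' : A' ⟶ B')
    (sq : IsPullback u h' h v) (hv : Etale v) (hvs : Surjective v) (hP : P h') : P h := by
  have hu : Etale u := MorphismProperty.of_isPullback (P := @Etale) sq.flip hv
  have hus : Surjective u := MorphismProperty.of_isPullback (P := @Surjective) sq.flip hvs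
  have := hG.comp
  have h1 : P (h' ≫ v) := P.comp_mem _ _ hP (hG.etale_le _ _ _ hv)
  rw [← sq.w] at h1
  exact hG.src u h hu hus h1

theorem locP_yon_map {U V : Over S} (h : U ⟶ V) (hP : P h.left) : LocP P ((yon S).map h) := by
  have := hG.comp
  have := hG.bc
  exact locP_of_repWith P hG.etale_le _ ((repWith_yon_map_iff P h).2 hP)

theorem locP_of_repWith_etale {F G : Sp S} (b : F ⟶ G) (hb : RepWith @Etale b) : LocP P b := by
  intro U V a c h ha hc hcomm
  have : MorphismProperty.IsStableUnderComposition @Etale :=
    (inferInstance : MorphismProperty.IsMultiplicative @Etale).toIsStableUnderComposition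
  exact hG.etale_le _ _ _ (locP_of_repWith @Etale le_rfl b hb a c h ha hc hcomm)

theorem locP_comp {X Y Z : Sp S} (hY : IsAlgSpace Y) (f : X ⟶ Y) (g : Y ⟶ Z) (hf : LocP P f)
    (hg : LocP P g) : LocP P (f ≫ g) := by
  have := hG.comp
  exact Groth.Agent.H53.locP_comp (P := P) (Q := P) (fun k h hk hh => P.comp_mem _ _ hk hh)
    (fun e h he hes H => hG.src e h he hes H) hY f g hf hg

/-- One chart diagram with surjective etale source chart suffices. -/
theorem locP_of_one_chart {X Y : Sp S} (f : X ⟶ Y) {U V : Over S} (a : (yon S).obj U ⟶ X)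
    (b : (yon S).obj V ⟶ Y) (h : U ⟶ V) (ha : RepWith @Etale a) (has : RepWith @Surjective a)
    (hb : RepWith @Etale b) (comm : a ≫ f = (yon S).map h ≫ b) (hh : P h.left) : LocP P f := by
  refine locP_of_source_chart hG.src f U a ha has ?_
  rw [comm]
  exact hG.locP_comp (IsAlgSpace.yon_obj V) _ _ (hG.locP_yon_map h hh) (hG.locP_of_repWith_etale b hb)

/-- For a representable morphism to an algebraic space, `P` on charts gives `P` in the
representable sense. -/
theorem repWith_of_locP {X Y : Sp S} (hY : IsAlgSpace Y) (f : X ⟶ Y) (hf : Representable f)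
    (h : LocP P f) : RepWith P f := by
  have := hG.bc
  rw [repWith_iff]
  refine ⟨hf, ?_⟩
  intro U V g fst snd sq
  obtain ⟨Y₀, c, hc1, hc2⟩ := hY.atlas
  obtain ⟨W, p, q, sqW⟩ := Groth.Agent.H53.exists_pullback_yon g c hc1.rep
  have hp : Etale p.left := Groth.Agent.H53.prop_of_isPullback_yon sqW hc1
  have hps : Surjective p.left := Groth.Agent.H53.prop_of_isPullback_yon sqW hc2
  have sqX := hf.isPullback c
  have ha₀ : RepWith @Etale (hf.fst c) := MorphismProperty.of_isPullback sqX.flip hc1
  have hP₀ : P (hf.snd c).left := h (hf.fst c) c (hf.snd c) ha₀ hc1 sqX.w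
  have sqZ := IsPullback.of_hasPullback snd p
  have sqZ' := sqZ.map (Over.forget S)
  have sqZy := sqZ.map (yon S)
  have sqO : IsPullback ((yon S).map (pullback.fst snd p) ≫ fst) ((yon S).map (pullback.snd snd p))
      f ((yon S).map p ≫ g) := sqZy.paste_horiz sq
  rw [sqW.w] at sqO
  obtain ⟨ℓ, hℓ1, hℓ2⟩ := sqX.exists_lift ((yon S).map (pullback.fst snd p) ≫ fst)
    ((yon S).map (pullback.snd snd p) ≫ (yon S).map q) (by rw [Category.assoc]; exact sqO.w)
  have sqL : IsPullback ℓ ((yon S).map (pullback.snd snd p)) ((yon S).map (hf.snd c))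
      ((yon S).map q) := by
    refine IsPullback.of_right ?_ hℓ2 sqX
    rw [hℓ1]
    exact sqO
  have hrep : RepWith P ((yon S).map (hf.snd c)) := (repWith_yon_map_iff P _).2 hP₀
  have hPZ : P (pullback.snd snd p).left := ((repWith_iff P _).1 hrep).2 _ _ _ sqL
  exact hG.desc snd.left p.left (pullback.fst snd p).left (pullback.snd snd p).left sqZ' hp hps hPZ

end GoodClass

end Groth.Agent.H50
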