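import Groth.Agent.H50.SectionImage
import Groth.Agent.H50.LocPClass
import Groth.Agent.H49.AlgSpSepDescent
import Groth.Agent.H49.AlgSpUnivClosedQC
import Groth.Agent.H52.ZarLocal

set_option autoImplicit false
set_option backward.isDefEq.respectTransparency false
set_option linter.style.haveILetI false
universe u
open CategoryTheory CategoryTheory.Limits AlgebraicGeometry Opposite Topology

namespace Groth.Agent.H50

open AlgSp

variable {S : Scheme.{u}}

/-- Separated morphisms of sheaves compose. -/
theorem isSeparatedMor_comp {X Y Z : Sp S} (f : X ⟶ Y) (g : Y ⟶ Z) (hf : IsSeparatedMor f)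
    (hg : IsSeparatedMor g) : IsSeparatedMor (f ≫ g) :=
  (RepWith (S := S) @IsClosedImmersion).diagonal.comp_mem f g hf hg

/-- Closed immersions are separated. -/
theorem isSeparatedMor_of_isClosedImmersion {X Y : Sp S} (f : X ⟶ Y)
    (hf : RepWith @IsClosedImmersion f) : IsSeparatedMor f := by
  haveI : Mono f := Groth.Agent.H49.mono_of_repWith_mono isClosedImmersion_le_mono f hf
  have : IsIso (pullback.diagonal f) := (pullback.isIso_diagonal_iff f).2 inferInstance
  exact MorphismProperty.of_isIso (RepWith @IsClosedImmersion) _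

/-- Universally closed morphisms are closed. -/
theorem isClosedMap_of_isUnivClosedMor {X Y : Sp S} (hY : IsAlgSpace Y) (f : X ⟶ Y)
    (hf : IsUnivClosedMor f) : IsClosedMap (Points.map f) :=
  hf hY (𝟙 Y) (𝟙 X) f (IsPullback.of_horiz_isIso ⟨by rw [Category.id_comp, Category.comp_id]⟩)

/-- If `h ≫ g` is universally closed and `g` is separated then `h` is universally closed. -/
theorem isUnivClosedMor_of_comp_of_isSeparatedMor {X Y B : Sp S} (hX : IsAlgSpace X)
    (hY : IsAlgSpace Y) (hB : IsAlgSpace B) (h : X ⟶ Y) (g : Y ⟶ B)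
    (hf : IsUnivClosedMor (h ≫ g)) (hg : IsSeparatedMor g) : IsUnivClosedMor h := by
  have sqΓ := pullback_lift_diagonal_isPullback h g
  have hΓ : RepWith @IsClosedImmersion (pullback.lift (𝟙 X) h (by simp) : X ⟶ pullback (h ≫ g) g) :=
    MorphismProperty.of_isPullback (P := RepWith @IsClosedImmersion) sqΓ hg
  have hΓ' : IsUnivClosedMor (pullback.lift (𝟙 X) h (by simp) : X ⟶ pullback (h ≫ g) g) :=
    Groth.Agent.H49.isUnivClosedMor_of_repWith (Groth.Agent.H49.repWith_of_le (fun _ _ k hk => by
      have : IsClosedImmersion k := hk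
      exact (inferInstance : UniversallyClosed k)) hΓ)
  have sqP : IsPullback (pullback.fst (h ≫ g) g) (pullback.snd (h ≫ g) g) (h ≫ g) g :=
    .of_hasPullback _ _
  have hpr : IsUnivClosedMor (pullback.snd (h ≫ g) g) :=
    Groth.Agent.H49.isUnivClosedMor_of_isPullback sqP hf
  have hP : IsAlgSpace (pullback (h ≫ g) g) :=
    Groth.Agent.H49.isAlgSpace_of_isPullback sqP hB.diag hX hY
  have := Groth.Agent.H49.isUnivClosedMor_comp hP hY.diag hΓ' hpr
  rwa [pullback.lift_snd] at this

/-- The scheme theoretic image of a space proper over `B` in a space separated and locally of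
finite type over `B` is proper over `B`, and the source surjects onto it. -/
theorem isProperMor_of_isSchImage {X Y Z B : Sp S} (hX : IsAlgSpace X) (hY : IsAlgSpace Y)
    (hZ : IsAlgSpace Z) (hB : IsAlgSpace B) (h : X ⟶ Y) (g : Y ⟶ B)
    (hf : IsProperMor (h ≫ g)) (hg : IsSeparatedMor g) (hg' : LocP @LocallyOfFiniteType g)
    (i : Z ⟶ Y) (hZi : IsSchImage h i) (h' : X ⟶ Z) (fac : h' ≫ i = h) :
    IsProperMor (i ≫ g) ∧ IsSurjectiveMor h' := by
  haveI : Mono i := Groth.Agent.H49.mono_of_repWith_mono isClosedImmersion_le_mono i hZi.1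
  have hqc : IsQuasiCompactMor h :=
    Groth.Agent.H49.isQuasiCompactMor_of_comp_of_isQuasiSeparatedMor hX hY hB h g hf.2.1.2
      (Groth.Agent.H49.repWith_of_le (fun _ _ k hk => by
        have : IsClosedImmersion k := hk
        exact (inferInstance : QuasiCompact k)) hg)
  have huc : IsUnivClosedMor h :=
    isUnivClosedMor_of_comp_of_isSeparatedMor hX hY hB h g hf.2.2 hg
  have hcl : IsClosed (Set.range (Points.map h)) := by
    rw [← Set.image_univ]
    exact isClosedMap_of_isUnivClosedMor hY h huc _ isClosed_univ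
  -- surjectivity
  have hsurj : IsSurjectiveMor h' := by
    intro z
    have h1 : Points.map i z ∈ closure (Set.range (Points.map h)) :=
      range_map_subset_closure_of_isSchImage hY hqc i hZi ⟨z, rfl⟩
    rw [hcl.closure_eq] at h1
    obtain ⟨x, hx⟩ := h1
    refine ⟨x, Groth.Agent.H52.points_map_injective_of_mono i ?_⟩
    rw [← Points.map_comp, fac, hx]
  refine ⟨⟨?_, ⟨?_, ?_⟩, ?_⟩, hsurj⟩
  · exact isSeparatedMor_comp i g (isSeparatedMor_of_isClosedImmersion i hZi.1) hg
  · refine goodClass_lft.locP_comp hY i g ?_ hg'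
    exact locP_of_repWith @LocallyOfFiniteType (fun _ _ _ hk => by have := hk; infer_instance) i
      (Groth.Agent.H49.repWith_of_le (fun _ _ k hk => by
        have : IsClosedImmersion k := hk
        exact (inferInstance : LocallyOfFiniteType k)) hZi.1)
  · refine Groth.Agent.H49.isQuasiCompactMor_of_comp_surjective hX hZ hB h' (i ≫ g) hsurj ?_
    rw [← Category.assoc, fac]
    exact hf.2.1.2
  · refine Groth.Agent.H49.isUnivClosedMor_of_comp_surjective h' (i ≫ g) hsurj ?_
    rw [← Category.assoc, fac]
    exact hf.2.2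

end Groth.Agent.H50
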