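import Groth.Prelude.Def_AlgSpGpd
import Mathlib.CategoryTheory.Sites.RegularEpi
import Mathlib.CategoryTheory.Sites.LocallySurjective
import Mathlib.CategoryTheory.Sites.LocallyInjective
import Mathlib.CategoryTheory.Limits.Types.Coequalizers

set_option autoImplicit false
set_option backward.isDefEq.respectTransparency false
universe u
open CategoryTheory CategoryTheory.Limits AlgebraicGeometry Opposite

namespace Groth.Agent.H50

open AlgSp

variable {S : Scheme.{u}}

/-! ### Generalized elements in the topos of sheaves -/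

/-- Restriction of a generalized element. -/
theorem yonedaEquiv_map_comp {F : Sp S} {T T' : Over S} (g : T' ⟶ T) (x : (yon S).obj T ⟶ F) :
    (J S).uliftYonedaEquiv ((yon S).map g ≫ x) = F.obj.map g.op ((J S).uliftYonedaEquiv x) :=
  ((J S).uliftYonedaEquiv_naturality x g).symm

/-- Separatedness for generalized elements. -/
theorem hom_ext_of_covering {F : Sp S} {T : Over S} (x y : (yon S).obj T ⟶ F) (W : Sieve T)
    (hW : W ∈ J S T)
    (h : ∀ ⦃T' : Over S⦄ (g : T' ⟶ T), W g → (yon S).map g ≫ x = (yon S).map g ≫ y) : x = y := by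
  apply (J S).uliftYonedaEquiv.injective
  have hsep := ((isSheaf_iff_isSheaf_of_type _ _).1 F.2).isSeparated
  apply (hsep W hW).ext
  intro T' g hg
  rw [← yonedaEquiv_map_comp, ← yonedaEquiv_map_comp, h g hg]

/-- Monomorphisms can be tested on generalized elements. -/
theorem mono_of_yon_injective {F G : Sp S} (φ : F ⟶ G)
    (h : ∀ (T : Over S) (x y : (yon S).obj T ⟶ F), x ≫ φ = y ≫ φ → x = y) : Mono φ := by
  apply Sheaf.mono_of_injective
  rintro ⟨T⟩ x y hxy
  have := h T ((J S).uliftYonedaEquiv.symm x) ((J S).uliftYonedaEquiv.symm y) (by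
    apply (J S).uliftYonedaEquiv.injective
    rw [GrothendieckTopology.uliftYonedaEquiv_comp, GrothendieckTopology.uliftYonedaEquiv_comp,
      Equiv.apply_symm_apply, Equiv.apply_symm_apply]
    exact hxy)
  simpa using congr((J S).uliftYonedaEquiv $this)

/-- Epimorphisms are locally surjective on generalized elements. -/
theorem exists_local_lift_of_epi {F G : Sp S} (φ : F ⟶ G) [Epi φ] {T : Over S}
    (x : (yon S).obj T ⟶ G) :
    ∃ W : Sieve T, W ∈ J S T ∧ ∀ ⦃T' : Over S⦄ (g : T' ⟶ T), W g →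
      ∃ y : (yon S).obj T' ⟶ F, y ≫ φ = (yon S).map g ≫ x := by
  have hφ : Sheaf.IsLocallySurjective φ := (Sheaf.isLocallySurjective_iff_epi φ).2 inferInstance
  refine ⟨_, Presheaf.imageSieve_mem (J S) φ.hom (U := op T) ((J S).uliftYonedaEquiv x), ?_⟩
  rintro T' g ⟨z, hz⟩
  refine ⟨(J S).uliftYonedaEquiv.symm z, ?_⟩
  apply (J S).uliftYonedaEquiv.injective
  rw [GrothendieckTopology.uliftYonedaEquiv_comp, Equiv.apply_symm_apply, yonedaEquiv_map_comp]
  exact hz

/-- A morphism of sheaves that is locally surjective on generalized elements is an epimorphism. -/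
theorem epi_of_exists_local_lift {F G : Sp S} (φ : F ⟶ G)
    (h : ∀ (T : Over S) (x : (yon S).obj T ⟶ G), ∃ W : Sieve T, W ∈ J S T ∧
      ∀ ⦃T' : Over S⦄ (g : T' ⟶ T), W g → ∃ y : (yon S).obj T' ⟶ F, y ≫ φ = (yon S).map g ≫ x) :
    Epi φ := by
  have : Sheaf.IsLocallySurjective φ := by
    constructor
    intro T x
    obtain ⟨W, hW, hW'⟩ := h T ((J S).uliftYonedaEquiv.symm x)
    refine (J S).superset_covering ?_ hW
    intro T' g hg
    obtain ⟨y, hy⟩ := hW' g hg
    refine ⟨(J S).uliftYonedaEquiv y, ?_⟩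
    have := congr((J S).uliftYonedaEquiv $hy)
    rw [GrothendieckTopology.uliftYonedaEquiv_comp, yonedaEquiv_map_comp,
      Equiv.apply_symm_apply] at this
    exact this
  infer_instance

/-! ### Quotient sheaves -/

/-- If `q : U ⟶ M` is an epimorphism of sheaves coequalizing `s, t` and `(t, s) : R ⟶ U ×_M U` is an epimorphism,
then `M` is the quotient sheaf. -/
theorem isIso_quotSpDesc {R U M : Sp S} (s t : R ⟶ U) (q : U ⟶ M) (w : s ≫ q = t ≫ q) [Epi q]
    [Epi (pullback.lift t s w.symm : R ⟶ pullback q q)] : IsIso (quotSpDesc q w) := by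
  have hq : IsRegularEpi q := IsRegularEpiCategory.regularEpiOfEpi q
  have w' : pullback.fst q q ≫ quotSpπ s t = pullback.snd q q ≫ quotSpπ s t := by
    rw [← cancel_epi (pullback.lift t s w.symm : R ⟶ pullback q q)]
    rw [pullback.lift_fst_assoc, pullback.lift_snd_assoc]
    exact (quotSp_condition s t).symm
  obtain ⟨g, hg⟩ := IsRegularEpi.exists_of_isKernelPair q (IsKernelPair.of_hasPullback q)
    (quotSpπ s t) w'
  refine ⟨g, ?_, ?_⟩
  · apply coequalizer.hom_ext
    change quotSpπ s t ≫ quotSpDesc q w ≫ g = quotSpπ s t ≫ 𝟙 _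
    rw [quotSpπ_desc_assoc, hg, Category.comp_id]
  · rw [← cancel_epi q, reassoc_of% hg, quotSpπ_desc, Category.comp_id]

/-- Elementwise form of the relation defined by `s, t : R ⟶ U` on sections of `U`. -/
def RelE {R U : Sp S} (s t : R ⟶ U) (T : Over S) (a b : U.obj.obj (op T)) : Prop :=
  ∃ r : R.obj.obj (op T), t.hom.app _ r = a ∧ s.hom.app _ r = b

theorem relE_iff {R U : Sp S} (s t : R ⟶ U) (T : Over S) (a b : (yon S).obj T ⟶ U) :
    RelE s t T ((J S).uliftYonedaEquiv a) ((J S).uliftYonedaEquiv b) ↔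
      ∃ r : (yon S).obj T ⟶ R, r ≫ t = a ∧ r ≫ s = b := by
  constructor
  · rintro ⟨r, h1, h2⟩
    refine ⟨(J S).uliftYonedaEquiv.symm r, ?_, ?_⟩
    · apply (J S).uliftYonedaEquiv.injective
      rw [GrothendieckTopology.uliftYonedaEquiv_comp, Equiv.apply_symm_apply, h1]
    · apply (J S).uliftYonedaEquiv.injective
      rw [GrothendieckTopology.uliftYonedaEquiv_comp, Equiv.apply_symm_apply, h2]
  · rintro ⟨r, rfl, rfl⟩
    exact ⟨(J S).uliftYonedaEquiv r, by rw [GrothendieckTopology.uliftYonedaEquiv_comp],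
      by rw [GrothendieckTopology.uliftYonedaEquiv_comp]⟩

theorem relE_equivalence {R U : Sp S} (s t : R ⟶ U) (hpre : IsPreEqvRelSp s t) (T : Over S) :
    _root_.Equivalence (RelE s t T) := by
  have h := hpre T
  have key : ∀ a b : U.obj.obj (op T), RelE s t T a b ↔
      ∃ r : (yon S).obj T ⟶ R, r ≫ t = (J S).uliftYonedaEquiv.symm a ∧
        r ≫ s = (J S).uliftYonedaEquiv.symm b := by
    intro a b
    rw [← relE_iff, Equiv.apply_symm_apply, Equiv.apply_symm_apply]
  refine ⟨fun a => (key a a).2 (h.refl _), fun {a b} hab => (key b a).2 (h.symm ((key a b).1 hab)),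
    fun {a b c} hab hbc => (key a c).2 (h.trans ((key a b).1 hab) ((key b c).1 hbc))⟩

theorem rel_of_coequalizer_eq {X Y Z : Type u} (f g : X ⟶ Y) (π : Y ⟶ Z) (e : f ≫ π = g ≫ π)
    (h : IsColimit (Cofork.ofπ π e)) (r : Y → Y → Prop) (hr : _root_.Equivalence r)
    (hfg : ∀ x, r (f x) (g x)) (a b : Y) (hab : π a = π b) : r a b := by
  have key := Types.coequalizer_preimage_image_eq_of_preimage_eq f g π e h {y | r a y} (by
    ext x
    exact ⟨fun h1 => hr.trans h1 (hfg x), fun h1 => hr.trans h1 (hr.symm (hfg x))⟩)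
  have hb : b ∈ π ⁻¹' (π '' {y | r a y}) := ⟨a, hr.refl a, hab⟩
  rw [key] at hb
  exact hb

/-- Sections of `U` with the same image in the quotient sheaf by a pre-equivalence relation are locally related. -/
theorem locally_relE_of_quotSpπ_eq {R U : Sp S} (s t : R ⟶ U) (hpre : IsPreEqvRelSp s t)
    {T : Over S} (a b : U.obj.obj (op T))
    (h : (quotSpπ s t).hom.app _ a = (quotSpπ s t).hom.app _ b) :
    ∃ W : Sieve T, W ∈ J S T ∧ ∀ ⦃T' : Over S⦄ (g : T' ⟶ T), W g →
      RelE s t T' (U.obj.map g.op a) (U.obj.map g.op b) := by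
  let P : (Over S)ᵒᵖ ⥤ Type (u + 1) := coequalizer s.hom t.hom
  let c : U.obj ⟶ P := coequalizer.π s.hom t.hom
  let η := toSheafify (J S) P
  let aP : Sp S := (presheafToSheaf (J S) (Type (u+1))).obj P
  let f : U ⟶ aP := ObjectProperty.homMk (c ≫ η)
  have hf : s ≫ f = t ≫ f := by
    ext : 1
    exact coequalizer.condition_assoc s.hom t.hom η
  let d : quotSp s t ⟶ aP := coequalizer.desc f hf
  have hd : quotSpπ s t ≫ d = f := coequalizer.π_desc f hf
  have h1 : η.app _ (c.app _ a) = η.app _ (c.app _ b) := by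
    have h2 := congr(d.hom.app _ $h)
    have h3 : ∀ x : U.obj.obj (op T), d.hom.app _ ((quotSpπ s t).hom.app _ x) = η.app _ (c.app _ x) := by
      intro x
      have := congr($(hd).hom.app (op T) x)
      exact this
    rwa [h3, h3] at h2
  refine ⟨Presheaf.equalizerSieve (F := P) (X := op T) (c.app (op T) a) (c.app (op T) b),
    Presheaf.equalizerSieve_mem (J S) η _ _ h1, ?_⟩
  intro T' g hg
  have hg' : c.app _ (U.obj.map g.op a) = c.app _ (U.obj.map g.op b) := by
    rw [NatTrans.naturality_apply, NatTrans.naturality_apply]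
    exact hg
  have hcol : IsColimit (Cofork.ofπ (c.app (op T')) (by
      rw [← NatTrans.comp_app, ← NatTrans.comp_app, coequalizer.condition]) :
        Cofork (s.hom.app (op T')) (t.hom.app (op T'))) :=
    isColimitCoforkMapOfIsColimit ((evaluation _ _).obj (op T')) _
      (coequalizerIsCoequalizer s.hom t.hom)
  have heq := relE_equivalence s t hpre T'
  exact rel_of_coequalizer_eq _ _ _ _ hcol (RelE s t T') heq
    (fun x => heq.symm ⟨x, rfl, rfl⟩) _ _ hg'

/-- Generalized elements version of `locally_relE_of_quotSpπ_eq`. -/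
theorem locally_rel_of_comp_quotSpπ_eq {R U : Sp S} (s t : R ⟶ U) (hpre : IsPreEqvRelSp s t)
    {T : Over S} (a b : (yon S).obj T ⟶ U) (h : a ≫ quotSpπ s t = b ≫ quotSpπ s t) :
    ∃ W : Sieve T, W ∈ J S T ∧ ∀ ⦃T' : Over S⦄ (g : T' ⟶ T), W g →
      ∃ r : (yon S).obj T' ⟶ R, r ≫ t = (yon S).map g ≫ a ∧ r ≫ s = (yon S).map g ≫ b := by
  obtain ⟨W, hW, hW'⟩ := locally_relE_of_quotSpπ_eq s t hpre ((J S).uliftYonedaEquiv a)
    ((J S).uliftYonedaEquiv b) (by
      rw [← GrothendieckTopology.uliftYonedaEquiv_comp, ← GrothendieckTopology.uliftYonedaEquiv_comp, h])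
  refine ⟨W, hW, fun T' g hg => ?_⟩
  have := hW' g hg
  rw [← yonedaEquiv_map_comp, ← yonedaEquiv_map_comp, relE_iff] at this
  exact this




/-- The sieve on which two generalized elements agree. -/
def eqSieve {F : Sp S} {T : Over S} (x y : (yon S).obj T ⟶ F) : Sieve T where
  arrows T' g := (yon S).map g ≫ x = (yon S).map g ≫ y
  downward_closed := by
    intro Y Z f hf g
    rw [Functor.map_comp, Category.assoc, Category.assoc, hf]

instance {R U : Sp S} (s t : R ⟶ U) : Epi (quotSpπ s t) := by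
  unfold quotSpπ; infer_instance

theorem mono_quot_map {R U R' U' : Sp S} (s t : R ⟶ U) (hpre : IsPreEqvRelSp s t) (g : U' ⟶ U)
    (s' t' : R' ⟶ U')
    (hlift : ∀ (T : Over S) (a b : (yon S).obj T ⟶ U') (r : (yon S).obj T ⟶ R),
      r ≫ t = a ≫ g → r ≫ s = b ≫ g → ∃ r' : (yon S).obj T ⟶ R', r' ≫ t' = a ∧ r' ≫ s' = b)
    (ψ : quotSp s' t' ⟶ quotSp s t) (hψ : quotSpπ s' t' ≫ ψ = g ≫ quotSpπ s t) : Mono ψ := by
  apply mono_of_yon_injective
  intro T x y hxy
  obtain ⟨W1, hW1, hW1'⟩ := exists_local_lift_of_epi (quotSpπ s' t') x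
  obtain ⟨W2, hW2, hW2'⟩ := exists_local_lift_of_epi (quotSpπ s' t') y
  have hE : eqSieve x y ∈ J S T := by
    refine (J S).transitive ((J S).intersection_covering hW1 hW2) _ ?_
    intro T' k hk
    obtain ⟨a, ha⟩ := hW1' k hk.1
    obtain ⟨b, hb⟩ := hW2' k hk.2
    have hab : (a ≫ g) ≫ quotSpπ s t = (b ≫ g) ≫ quotSpπ s t := by
      rw [Category.assoc, Category.assoc, ← hψ, reassoc_of% ha, reassoc_of% hb, hxy]
    obtain ⟨W3, hW3, hW3'⟩ := locally_rel_of_comp_quotSpπ_eq s t hpre _ _ hab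
    refine (J S).superset_covering ?_ hW3
    intro T'' h hh
    obtain ⟨r, hr1, hr2⟩ := hW3' h hh
    obtain ⟨r', hr'1, hr'2⟩ := hlift T'' ((yon S).map h ≫ a) ((yon S).map h ≫ b) r
      (by rw [hr1, Category.assoc]) (by rw [hr2, Category.assoc])
    change (yon S).map (h ≫ k) ≫ x = (yon S).map (h ≫ k) ≫ y
    rw [Functor.map_comp, Category.assoc, Category.assoc, ← ha, ← hb, ← reassoc_of% hr'1,
      ← reassoc_of% hr'2, quotSp_condition]
  exact hom_ext_of_covering x y _ hE (fun _ _ hg => hg)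




theorem quot_restrict_mono_and_isIso {R U R' U' : Sp S}
    (s t : R ⟶ U) (hpre : IsPreEqvRelSp s t) (g : U' ⟶ U) (s' t' : R' ⟶ U') (r : R' ⟶ R)
    (hsq : IsPullback (prod.lift t' s') r (prod.map g g) (prod.lift t s))
    (ψ : quotSp s' t' ⟶ quotSp s t) (hψ : quotSpπ s' t' ≫ ψ = g ≫ quotSpπ s t) :
    Mono ψ ∧ (Epi g → IsIso ψ) := by
  have hmono : Mono ψ := by
    refine mono_quot_map s t hpre g s' t' ?_ ψ hψ
    intro T a b ρ h1 h2
    obtain ⟨r', hr'1, -⟩ := hsq.exists_lift (prod.lift a b) ρ (by ext <;> simp [h1, h2])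
    refine ⟨r', ?_, ?_⟩
    · simpa using congr($hr'1 ≫ prod.fst)
    · simpa using congr($hr'1 ≫ prod.snd)
  refine ⟨hmono, fun hg => ?_⟩
  have : Epi (quotSpπ s' t' ≫ ψ) := by rw [hψ]; infer_instance
  have : Epi ψ := epi_of_epi (quotSpπ s' t') ψ
  exact isIso_of_mono_of_epi ψ




theorem groupoidSp_isPreEqvRelSp {B : Sp S} (G : GroupoidSp B) : IsPreEqvRelSp G.s G.t := by
  intro T
  refine ⟨fun a => ⟨a ≫ G.e, by rw [Category.assoc, G.e_t, Category.comp_id],
    by rw [Category.assoc, G.e_s, Category.comp_id]⟩, ?_, ?_⟩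
  · rintro a b ⟨r, rfl, rfl⟩
    exact ⟨r ≫ G.i, by rw [Category.assoc, G.i_t], by rw [Category.assoc, G.i_s]⟩
  · rintro a b c ⟨r1, rfl, h1⟩ ⟨r2, h2, rfl⟩
    exact ⟨pullback.lift r1 r2 (h1.trans h2.symm) ≫ G.c, G.comp_t _ _ _, G.comp_s _ _ _⟩

theorem groupoidSp_quot_restrict_mono_and_isIso {B : Sp S}
    (G G' : GroupoidSp B) (φ : GroupoidSp.Hom G' G)
    (hφ : φ.IsRestriction) (ψ : G'.quot ⟶ G.quot) (hψ : G'.quotπ ≫ ψ = φ.fU ≫ G.quotπ) :
    Mono ψ ∧ (Epi (pullback.snd φ.fU G.t ≫ G.s) → IsIso ψ) := by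
  have hmono : Mono ψ := by
    refine mono_quot_map G.s G.t (groupoidSp_isPreEqvRelSp G) φ.fU G'.s G'.t ?_ ψ hψ
    intro T a b ρ h1 h2
    have hab : a ≫ G'.pU = b ≫ G'.pU := by
      rw [← φ.fU_over, ← reassoc_of% h1, ← reassoc_of% h2, G.t_over, G.s_over]
    obtain ⟨r', -, hr'⟩ := hφ.exists_lift ρ (pullback.lift a b hab) (by
      apply pullback.hom_ext
      · simp [GroupoidSp.Hom.prodMap, h1]
      · simp [GroupoidSp.Hom.prodMap, h2])
    refine ⟨r', ?_, ?_⟩
    · simpa using congr($hr' ≫ pullback.fst _ _)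
    · simpa using congr($hr' ≫ pullback.snd _ _)
  refine ⟨hmono, fun hg => ?_⟩
  have hfac : (pullback.snd φ.fU G.t ≫ G.s) ≫ G.quotπ = (pullback.fst φ.fU G.t ≫ G'.quotπ) ≫ ψ := by
    rw [Category.assoc, Category.assoc, hψ, pullback.condition_assoc]
    congr 1
    exact quotSp_condition G.s G.t
  have : Epi G.quotπ := by unfold GroupoidSp.quotπ; infer_instance
  have : Epi ((pullback.fst φ.fU G.t ≫ G'.quotπ) ≫ ψ) := by rw [← hfac]; infer_instance
  have : Epi ψ := epi_of_epi (pullback.fst φ.fU G.t ≫ G'.quotπ) ψ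
  exact isIso_of_mono_of_epi ψ


end Groth.Agent.H50
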