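import Groth.Agent.H50.ImmEtLocal
import Groth.Agent.H50.Quot
import Groth.Agent.H51.SpOpen
import Groth.Prelude.Def_AlgSpSub

set_option autoImplicit false
set_option backward.isDefEq.respectTransparency false
set_option linter.style.haveILetI false
universe u
open CategoryTheory CategoryTheory.Limits AlgebraicGeometry Opposite Topology

namespace Groth.Agent.H50

open AlgSp

variable {S : Scheme.{u}}

/-- Local lifts of a generalized element through a monomorphism of sheaves glue. -/
theorem exists_lift_of_mono_of_locally {F G : Sp S} (m : F ⟶ G) [Mono m] {T : Over S}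
    (x : (yon S).obj T ⟶ G) (W : Sieve T) (hW : W ∈ J S T)
    (h : ∀ ⦃T' : Over S⦄ (g : T' ⟶ T), W g →
      ∃ l : (yon S).obj T' ⟶ F, l ≫ m = (yon S).map g ≫ x) :
    ∃ l : (yon S).obj T ⟶ F, l ≫ m = x := by
  haveI : Epi (pullback.fst x m) := by
    apply epi_of_exists_local_lift
    intro T₁ z
    obtain ⟨φ, rfl⟩ := (yon S).map_surjective z
    refine ⟨W.pullback φ, (J S).pullback_stable φ hW, fun T' g hg => ?_⟩
    obtain ⟨l, hl⟩ := h (g ≫ φ) hg
    refine ⟨pullback.lift ((yon S).map (g ≫ φ)) l (by rw [hl]), ?_⟩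
    rw [pullback.lift_fst, Functor.map_comp]
  haveI : IsIso (pullback.fst x m) := isIso_of_mono_of_epi _
  exact ⟨inv (pullback.fst x m) ≫ pullback.snd x m, by
    rw [Category.assoc, ← pullback.condition, IsIso.inv_hom_id_assoc]⟩

/-- A predicate on generalized elements of a sheaf which is stable under pullback and local for the
topology. -/
structure ElemPred (F : Sp S) where
  /-- the predicate -/
  Q : ∀ ⦃T : Over S⦄, ((yon S).obj T ⟶ F) → Prop
  map : ∀ ⦃T T' : Over S⦄ (φ : T' ⟶ T) (x : (yon S).obj T ⟶ F), Q x → Q ((yon S).map φ ≫ x)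
  loc : ∀ ⦃T : Over S⦄ (x : (yon S).obj T ⟶ F) (R : Sieve T), R ∈ J S T →
    (∀ ⦃T' : Over S⦄ (φ : T' ⟶ T), R φ → Q ((yon S).map φ ≫ x)) → Q x

namespace ElemPred

variable {F : Sp S} (E : ElemPred F)

/-- The subfunctor of sections satisfying the predicate. -/
def sub : Subfunctor F.obj where
  obj T := {x | E.Q ((J S).uliftYonedaEquiv.symm x)}
  map := by
    intro T T' i x hx
    have h := Groth.Agent.H51.uliftYonedaEquiv_symm_map (F := F) i.unop x
    simp only [Quiver.Hom.op_unop] at h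
    change E.Q _
    rw [h]
    exact E.map _ _ hx

theorem sub_isSheaf : Presheaf.IsSheaf (J S) E.sub.toFunctor := by
  rw [isSheaf_iff_isSheaf_of_type,
    Subfunctor.isSheaf_iff _ ((isSheaf_iff_isSheaf_of_type _ _).1 F.property)]
  intro T x hx
  refine E.loc _ _ hx ?_
  intro T' φ hφ
  have h1 : F.obj.map φ.op x ∈ E.sub.obj (op T') := hφ
  change E.Q _ at h1
  rwa [Groth.Agent.H51.uliftYonedaEquiv_symm_map] at h1

/-- The subsheaf cut out by the predicate. -/
def sp : Sp S := ⟨E.sub.toFunctor, E.sub_isSheaf⟩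

/-- The inclusion of the subsheaf. -/
def ι : E.sp ⟶ F := ⟨E.sub.ι⟩

theorem ι_app (T : (Over S)ᵒᵖ) (x : E.sp.obj.obj T) : E.ι.hom.app T x = x.1 := rfl

instance mono_ι : Mono E.ι := by
  apply Groth.Agent.H49.mono_of_forall_yon
  intro T a b hab
  apply (J S).uliftYonedaEquiv.injective
  have := congrArg (J S).uliftYonedaEquiv hab
  rw [(J S).uliftYonedaEquiv_comp, (J S).uliftYonedaEquiv_comp, ι_app, ι_app] at this
  exact Subtype.ext this

theorem exists_factor_ι_iff {T : Over S} (x : (yon S).obj T ⟶ F) :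
    (∃ a : (yon S).obj T ⟶ E.sp, a ≫ E.ι = x) ↔ E.Q x := by
  constructor
  · rintro ⟨a, rfl⟩
    have h : E.Q _ := ((J S).uliftYonedaEquiv a).2
    have e : (J S).uliftYonedaEquiv.symm ((J S).uliftYonedaEquiv a).1 = a ≫ E.ι := by
      apply (J S).uliftYonedaEquiv.injective
      rw [Equiv.apply_symm_apply, (J S).uliftYonedaEquiv_comp, ι_app]
    rwa [e] at h
  · intro h
    refine ⟨(J S).uliftYonedaEquiv.symm ⟨(J S).uliftYonedaEquiv x, ?_⟩, ?_⟩
    · change E.Q _
      rw [Equiv.symm_apply_apply]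
      exact h
    · apply (J S).uliftYonedaEquiv.injective
      rw [(J S).uliftYonedaEquiv_comp, Equiv.apply_symm_apply, ι_app]

/-- Factorization of a morphism from an arbitrary sheaf through the subsheaf. -/
theorem exists_factor_ι_of_forall {H : Sp S} (g : H ⟶ F)
    (h : ∀ (T : Over S) (x : (yon S).obj T ⟶ H), E.Q (x ≫ g)) :
    ∃ a : H ⟶ E.sp, a ≫ E.ι = g := by
  have hr : Subfunctor.range g.hom ≤ E.sub := by
    rintro ⟨T⟩ _ ⟨z, rfl⟩
    change E.Q _
    have := h T ((J S).uliftYonedaEquiv.{u + 1}.symm z)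
    have e : (J S).uliftYonedaEquiv.{u + 1}.symm z ≫ g =
        (J S).uliftYonedaEquiv.symm (g.hom.app (op T) z) := by
      apply (J S).uliftYonedaEquiv.injective
      rw [(J S).uliftYonedaEquiv_comp, Equiv.apply_symm_apply, Equiv.apply_symm_apply]
    rwa [e] at this
  exact ⟨⟨Subfunctor.lift g.hom hr⟩, by ext : 1; exact Subfunctor.lift_ι g.hom hr⟩

end ElemPred

theorem isClosedImmersion_le_mono :
    (@IsClosedImmersion : MorphismProperty Scheme.{u}) ≤ MorphismProperty.monomorphisms Scheme.{u} := by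
  intro X Y f hf
  have : IsClosedImmersion f := hf
  exact (inferInstance : Mono f)

/-- A morphism factors through a monomorphism as soon as all its generalized elements do. -/
theorem exists_factor_of_mono_of_forall_yon {H F G : Sp S} (m : F ⟶ G) [Mono m] (g : H ⟶ G)
    (h : ∀ (T : Over S) (x : (yon S).obj T ⟶ H), ∃ l : (yon S).obj T ⟶ F, l ≫ m = x ≫ g) :
    ∃ k : H ⟶ F, k ≫ m = g := by
  haveI : IsIso (pullback.fst g m) := by
    apply Groth.Agent.H51.isIso_of_forall_yon_bijective
    intro T x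
    obtain ⟨l, hl⟩ := h T x
    refine ⟨pullback.lift x l hl.symm, pullback.lift_fst _ _ _, ?_⟩
    intro c hc
    rw [← cancel_mono (pullback.fst g m), hc, pullback.lift_fst]
  exact ⟨inv (pullback.fst g m) ≫ pullback.snd g m, by
    rw [Category.assoc, ← pullback.condition, IsIso.inv_hom_id_assoc]⟩

/-- The predicate cutting out the scheme theoretic image of `f`: a generalized element of the
target lifts through every closed subspace through which `f` factors. -/
def schImagePred {F G : Sp S} (f : F ⟶ G) : ElemPred G where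
  Q T x := ∀ ⦃Z' : Sp S⦄ (i' : Z' ⟶ G), IsAlgSpace Z' → RepWith @IsClosedImmersion i' →
      (∃ f'' : F ⟶ Z', f'' ≫ i' = f) → ∃ l : (yon S).obj T ⟶ Z', l ≫ i' = x
  map := by
    intro T T' φ x hx Z' i' hZ' hi' hf
    obtain ⟨l, hl⟩ := hx i' hZ' hi' hf
    exact ⟨(yon S).map φ ≫ l, by rw [Category.assoc, hl]⟩
  loc := by
    intro T x R hR h Z' i' hZ' hi' hf
    haveI : Mono i' := Groth.Agent.H49.mono_of_repWith_mono isClosedImmersion_le_mono i' hi'
    exact exists_lift_of_mono_of_locally i' x R hR (fun T' g hg => h g hg i' hZ' hi' hf)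

/-- The scheme theoretic image, as a subsheaf of the target. -/
def schImg {F G : Sp S} (f : F ⟶ G) : Sp S := (schImagePred f).sp

/-- The inclusion of the scheme theoretic image. -/
def schImgι {F G : Sp S} (f : F ⟶ G) : schImg f ⟶ G := (schImagePred f).ι

instance mono_schImgι {F G : Sp S} (f : F ⟶ G) : Mono (schImgι f) :=
  (schImagePred f).mono_ι

theorem exists_factor_schImgι {F G : Sp S} (f : F ⟶ G) : ∃ f' : F ⟶ schImg f, f' ≫ schImgι f = f :=
  (schImagePred f).exists_factor_ι_of_forall f (fun T x Z' i' _ _ hf => by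
    obtain ⟨f'', hf''⟩ := hf
    exact ⟨x ≫ f'', by rw [Category.assoc, hf'']⟩)

theorem exists_factor_schImgι_iff {F G : Sp S} (f : F ⟶ G) {T : Over S}
    (x : (yon S).obj T ⟶ G) :
    (∃ a : (yon S).obj T ⟶ schImg f, a ≫ schImgι f = x) ↔ (schImagePred f).Q x :=
  (schImagePred f).exists_factor_ι_iff x

theorem schImgι_minimal {F G : Sp S} (f : F ⟶ G) {Z' : Sp S} (i' : Z' ⟶ G) (hZ' : IsAlgSpace Z')
    (hi' : RepWith @IsClosedImmersion i') (hf : ∃ f'' : F ⟶ Z', f'' ≫ i' = f) :
    ∃ k : schImg f ⟶ Z', k ≫ i' = schImgι f := by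
  haveI : Mono i' := Groth.Agent.H49.mono_of_repWith_mono isClosedImmersion_le_mono i' hi'
  apply exists_factor_of_mono_of_forall_yon
  intro T x
  exact (exists_factor_schImgι_iff f (x ≫ schImgι f)).1 ⟨x, rfl⟩ i' hZ' hi' hf

theorem exists_over_lift_of_ker_le {T Z V : Over S} (i : Z ⟶ V) [IsClosedImmersion i.left]
    (b : T ⟶ V) (H : i.left.ker ≤ b.left.ker) : ∃ c : T ⟶ Z, c ≫ i = b := by
  refine ⟨Over.homMk (IsClosedImmersion.lift i.left b.left H) ?_, ?_⟩
  · rw [← Over.w i, IsClosedImmersion.lift_fac_assoc, Over.w b]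
  · ext : 1
    simp [IsClosedImmersion.lift_fac]

theorem over_hom_ext_of_isClosedImmersion {T Z V : Over S} (i : Z ⟶ V) [IsClosedImmersion i.left]
    (c c' : T ⟶ Z) (h : c ≫ i = c' ≫ i) : c = c' := by
  ext : 1
  have := congrArg (fun m => m.left) h
  simp only [Over.comp_left] at this
  exact (cancel_mono i.left).1 this

/-- The inclusion of the scheme theoretic image into an algebraic space is a closed immersion. -/
theorem repWith_isClosedImmersion_schImgι {F Y : Sp S} (hY : IsAlgSpace Y) (f : F ⟶ Y) :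
    RepWith @IsClosedImmersion (schImgι f) := by
  obtain ⟨V, p, hp, hps⟩ := hY.atlas
  let α := {q : Σ Z' : Sp S, Z' ⟶ Y // IsAlgSpace q.1 ∧ RepWith @IsClosedImmersion q.2 ∧
    ∃ f'' : F ⟶ q.1, f'' ≫ q.2 = f}
  let Ia : α → V.left.IdealSheafData := fun a => (a.2.2.1.rep.snd p).left.ker
  let I : V.left.IdealSheafData := ⨆ a, Ia a
  let ZV : Over S := Over.mk (I.subschemeι ≫ V.hom)
  let ιI : ZV ⟶ V := Over.homMk I.subschemeι rfl
  haveI : IsClosedImmersion ιI.left := (inferInstance : IsClosedImmersion I.subschemeι)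
  have hker : ιI.left.ker = I := I.ker_subschemeι
  have hQ : (schImagePred f).Q ((yon S).map ιI ≫ p) := by
    intro Z' i' hZ' hi' hf
    let a : α := ⟨⟨Z', i'⟩, hZ', hi', hf⟩
    have sqa := hi'.rep.isPullback p
    haveI : IsClosedImmersion (hi'.rep.snd p).left := hi'.property _ _ _ sqa
    obtain ⟨k, hk⟩ := exists_over_lift_of_ker_le (hi'.rep.snd p) ιI (by
      rw [hker]; exact le_iSup Ia a)
    exact ⟨(yon S).map k ≫ hi'.rep.fst p, by
      rw [Category.assoc, sqa.w, ← Category.assoc, ← Functor.map_comp, hk]⟩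
  obtain ⟨e, he⟩ := (exists_factor_schImgι_iff f _).2 hQ
  have sq : IsPullback e ((yon S).map ιI) (schImgι f) p := by
    apply Groth.Agent.H51.isPullback_of_forall_yon he
    intro T a b hab
    obtain ⟨b₀, rfl⟩ := (yon S).map_surjective b
    have hle : ιI.left.ker ≤ b₀.left.ker := by
      rw [hker]
      apply iSup_le
      rintro ⟨⟨Z', i'⟩, hZ', hi', hf⟩
      have sqa := hi'.rep.isPullback p
      obtain ⟨l, hl⟩ :=
        (exists_factor_schImgι_iff f (a ≫ schImgι f)).1 ⟨a, rfl⟩ i' hZ' hi' hf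
      obtain ⟨c', -, hc'⟩ := sqa.exists_lift l ((yon S).map b₀) (by rw [hl, hab])
      obtain ⟨c'₀, rfl⟩ := (yon S).map_surjective c'
      have : c'₀ ≫ hi'.rep.snd p = b₀ := (yon S).map_injective (by rw [Functor.map_comp, hc'])
      change (hi'.rep.snd p).left.ker ≤ _
      rw [← this, Over.comp_left]
      exact Scheme.Hom.le_ker_comp _ _
    obtain ⟨c, hc⟩ := exists_over_lift_of_ker_le ιI b₀ hle
    refine ⟨(yon S).map c, ⟨?_, by rw [← Functor.map_comp, hc]⟩, ?_⟩
    · rw [← cancel_mono (schImgι f), Category.assoc, he, ← Category.assoc, ← Functor.map_comp,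
        hc, hab]
    · rintro d ⟨-, hd⟩
      obtain ⟨d₀, rfl⟩ := (yon S).map_surjective d
      congr 1
      apply over_hom_ext_of_isClosedImmersion ιI
      rw [hc]
      exact (yon S).map_injective (by rw [Functor.map_comp, hd])
  exact repWith_isClosedImmersion_of_etale_cover (schImgι f) p hp hps e ((yon S).map ιI) sq
    ((repWith_yon_map_iff _ _).2 (inferInstance : IsClosedImmersion I.subschemeι))

/-- Existence of the scheme theoretic image of a morphism to an algebraic space. -/
theorem isSchImage_schImgι {F Y : Sp S} (hY : IsAlgSpace Y) (f : F ⟶ Y) :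
    IsSchImage f (schImgι f) :=
  ⟨repWith_isClosedImmersion_schImgι hY f, exists_factor_schImgι f,
    fun _ i' hZ' hi' hf => schImgι_minimal f i' hZ' hi' hf⟩

theorem isAlgSpace_schImg {F Y : Sp S} (hY : IsAlgSpace Y) (f : F ⟶ Y) : IsAlgSpace (schImg f) :=
  Groth.Agent.H49.isAlgSpace_of_representable_to (schImgι f)
    (repWith_isClosedImmersion_schImgι hY f).rep hY

end Groth.Agent.H50
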