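import Groth.Agent.H50.LimTop
import Groth.Agent.H51.SpOpen
import Groth.Agent.H51.SpAffine
import Groth.Agent.H49.AlgSpQC

set_option autoImplicit false
set_option backward.isDefEq.respectTransparency false
set_option linter.style.haveILetI false
universe u
open CategoryTheory CategoryTheory.Limits AlgebraicGeometry Opposite Topology

namespace Groth.Agent.H50

open AlgSp

variable {S : Scheme.{u}}

/-- An open immersion of sheaves is open on points. -/
theorem isOpenMap_points_map_of_isOpenImmersion {F G : Sp S} (j : F ⟶ G)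
    (hj : RepWith @IsOpenImmersion j) : IsOpenMap (Points.map j) := by
  intro W hW
  rw [Points.isOpen_iff]
  intro T g
  have sq := hj.rep.isPullback g
  haveI : IsOpenImmersion (hj.rep.snd g).left := hj.property_snd g
  have key : Points.ofPt g ⁻¹' (Points.map j '' W) =
      (hj.rep.snd g).left '' (Points.ofPt (hj.rep.fst g) ⁻¹' W) := by
    ext t
    constructor
    · rintro ⟨w, hw, hwt⟩
      obtain ⟨p, hp1, hp2⟩ := exists_pt_of_isPullback_ofPt sq w t hwt
      exact ⟨p, by change Points.ofPt _ p ∈ W; rw [hp1]; exact hw, hp2⟩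
    · rintro ⟨p, hp, rfl⟩
      refine ⟨Points.ofPt (hj.rep.fst g) p, hp, ?_⟩
      rw [Points.map_ofPt, sq.w, Groth.Agent.H51.ofPt_map_comp]
  rw [key]
  exact (hj.rep.snd g).left.isOpenEmbedding.isOpenMap _
    (hW.preimage (Points.continuous_ofPt _))

/-- An affine morphism is quasi-compact. -/
theorem isQuasiCompactMor_of_isAffineMor {X Y : Sp S} (f : X ⟶ Y) (hf : IsAffineMor f) :
    IsQuasiCompactMor f := by
  have h : RepWith @IsAffineHom f :=
    (Groth.Agent.H51.affine_test_iff_repWith @IsAffineHom (fun g hg => hg) f).1 (fun Z hZ g => by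
      obtain ⟨W, i, fst, sq, hW⟩ := hf hZ g
      haveI := hZ
      haveI := hW
      exact ⟨W, i, fst, sq, hW, isAffineHom_of_isAffine _⟩)
  exact isQuasiCompactMor_of_repWith (P := @IsAffineHom)
    (fun _ _ g (hg : IsAffineHom g) => (inferInstance : QuasiCompact g)) f h

variable {I : Type u} [SmallCategory I] [IsCofiltered I] (D : I ⥤ Sp S)
  (hD : ∀ i, IsAlgSpace (D.obj i))
  (hDa : ∀ (i j : I) (φ : i ⟶ j), IsAffineMor (D.map φ))
  (c : Cone D) (hc : IsLimit c)

include hD hDa hc in
/-- In a cofiltered limit of algebraic spaces with affine transition maps every point of an open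
set has a neighbourhood inside it which is the preimage of a quasi-compact open of a stage. -/
theorem exists_compact_open_nhd_of_isLimit (U : Set (Points c.pt)) (hU : IsOpen U)
    (x : Points c.pt) (hx : x ∈ U) :
    ∃ (i : I) (V : Set (Points (D.obj i))), IsOpen V ∧ IsCompact V ∧
      x ∈ Points.map (c.π.app i) ⁻¹' V ∧ Points.map (c.π.app i) ⁻¹' V ⊆ U := by
  obtain ⟨i₀⟩ := IsCofiltered.nonempty (C := I)
  obtain ⟨Z, g, z, hZ, hg, hz⟩ :=
    exists_affine_chart_through_pt (hD i₀) (Points.map (c.π.app i₀) x)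
  haveI : IsConnected (Over i₀) := IsCofiltered.isConnected _
  haveI := affSys_hasLimit D hDa i₀ hZ g
  let W := affSys D hDa i₀ hZ g
  let L := limit.cone W
  have hL : IsLimit L := limit.isLimit W
  have sqL := affSys_isPullback_limit D hDa i₀ hZ g c hc L hL
  have sqJ : ∀ j : Over i₀, IsPullback (affSysLimFst D hDa i₀ hZ g c hc L)
      ((yon S).map (L.π.app j)) (c.π.app j.left) (affSysFst D hDa i₀ hZ g j) := by
    intro j
    refine IsPullback.of_bot ?_ (affSysLimFst_π D hDa i₀ hZ g c hc L j)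
      (affSys_isPullback D hDa i₀ hZ g j)
    rw [← Functor.map_comp, affSys_π_ι, c.w]
    exact sqL
  have hfstJ : ∀ j : Over i₀, RepWith @Etale (affSysFst D hDa i₀ hZ g j) := fun j =>
    MorphismProperty.of_isPullback (affSys_isPullback D hDa i₀ hZ g j).flip hg
  obtain ⟨l, hl, -⟩ := exists_pt_of_isPullback_ofPt sqL x z hz.symm
  have hU' : IsOpen (Points.ofPt (affSysLimFst D hDa i₀ hZ g c hc L) ⁻¹' U) :=
    (Points.continuous_ofPt _).isOpen_preimage U hU
  have hlU : l ∈ Points.ofPt (affSysLimFst D hDa i₀ hZ g c hc L) ⁻¹' U := by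
    change Points.ofPt _ l ∈ U
    rw [hl]; exact hx
  have hL' := isLimitOfPreserves (Over.forget S) hL
  haveI : ∀ j, IsAffine ((W ⋙ Over.forget S).obj j) := affSys_isAffine D hDa i₀ hZ g
  haveI : ∀ {j k : Over i₀} (f : j ⟶ k), IsAffineHom ((W ⋙ Over.forget S).map f) :=
    fun f => isAffineHom_of_isAffine _
  obtain ⟨_, ⟨_, ⟨j, V', hV'aff, rfl⟩, rfl⟩, hlV, hVU⟩ :=
    (isBasis_preimage_isAffineOpen (W ⋙ Over.forget S) _ hL').exists_subset_of_mem_open hlU hU'
  let V₀ : Set ↥(affSysObj D hDa i₀ hZ g j).left := V'.carrier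
  have hV₀ : IsOpen V₀ := V'.2
  have hV₀c : IsCompact V₀ := hV'aff.isCompact
  have hopen : IsOpen (Points.ofPt (affSysFst D hDa i₀ hZ g j) '' V₀) :=
    Groth.Agent.H51.isOpenMap_ofPt_of_etale _ (hfstJ j) V₀ hV₀
  refine ⟨j.left, Points.ofPt (affSysFst D hDa i₀ hZ g j) '' V₀, hopen,
    hV₀c.image (Points.continuous_ofPt _), ?_, ?_⟩
  · refine ⟨(L.π.app j).left l, hlV, ?_⟩
    have h4 : Points.ofPt ((yon S).map (L.π.app j) ≫ affSysFst D hDa i₀ hZ g j) l =
        Points.ofPt (affSysFst D hDa i₀ hZ g j) ((L.π.app j).left l) :=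
      Groth.Agent.H51.ofPt_map_comp _ _ _
    rw [← affSysLimFst_π] at h4
    exact h4.symm.trans (by rw [← Points.map_ofPt, hl])
  · rintro y ⟨w, hw, hwy⟩
    obtain ⟨l₂, hl₂, hl₂w⟩ := exists_pt_of_isPullback_ofPt (sqJ j) y w hwy.symm
    rw [← hl₂]
    apply hVU
    rw [← hl₂w] at hw
    exact hw

include hD hDa hc in
/-- In a cofiltered limit of algebraic spaces with affine transition maps every quasi-compact
open set of points is the preimage of a quasi-compact open set of points of a stage. -/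
theorem exists_compact_open_preimage_eq_of_isLimit (T : Set (Points c.pt)) (hT : IsOpen T)
    (hTc : IsCompact T) :
    ∃ (i : I) (V : Set (Points (D.obj i))), IsOpen V ∧ IsCompact V ∧
      Points.map (c.π.app i) ⁻¹' V = T := by
  classical
  have key : ∀ x : ↥T, ∃ (i : I) (V : Set (Points (D.obj i))), IsOpen V ∧ IsCompact V ∧
      x.1 ∈ Points.map (c.π.app i) ⁻¹' V ∧ Points.map (c.π.app i) ⁻¹' V ⊆ T :=
    fun x => exists_compact_open_nhd_of_isLimit D hD hDa c hc T hT x.1 x.2
  choose i V hVo hVc hxV hVT using key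
  obtain ⟨t, ht⟩ := hTc.elim_finite_subcover (fun x : ↥T => Points.map (c.π.app (i x)) ⁻¹' V x)
    (fun x => (hVo x).preimage (Points.continuous_map _))
    (fun x hx => Set.mem_iUnion.2 ⟨⟨x, hx⟩, hxV ⟨x, hx⟩⟩)
  obtain ⟨i₁, hi₁⟩ := IsCofiltered.inf_objs_exists (t.image i)
  have hφ : ∀ y : {x // x ∈ t}, Nonempty (i₁ ⟶ i y.1) := fun y =>
    hi₁ (Finset.mem_image_of_mem _ y.2)
  let φ : ∀ y : {x // x ∈ t}, i₁ ⟶ i y.1 := fun y => (hφ y).some
  have hpre : ∀ y : {x // x ∈ t},
      Points.map (c.π.app i₁) ⁻¹' (Points.map (D.map (φ y)) ⁻¹' V y.1) =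
        Points.map (c.π.app (i y.1)) ⁻¹' V y.1 := by
    intro y
    ext z
    simp only [Set.mem_preimage]
    rw [← Points.map_comp, c.w]
  refine ⟨i₁, ⋃ y : {x // x ∈ t}, Points.map (D.map (φ y)) ⁻¹' V y.1, ?_, ?_, ?_⟩
  · exact isOpen_iUnion fun y => (hVo y.1).preimage (Points.continuous_map _)
  · exact isCompact_iUnion fun y =>
      Groth.Agent.H49.isCompact_preimage_of_isQuasiCompactMor (hD _) (hD _) (D.map (φ y))
        (isQuasiCompactMor_of_isAffineMor _ (hDa _ _ _)) (V y.1) (hVo y.1) (hVc y.1)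
  · rw [Set.preimage_iUnion]
    apply Set.Subset.antisymm
    · refine Set.iUnion_subset fun y => ?_
      rw [hpre]
      exact hVT y.1
    · intro z hz
      obtain ⟨x, hx⟩ := Set.mem_iUnion.1 (ht hz)
      obtain ⟨hxt, hzx⟩ := Set.mem_iUnion.1 hx
      refine Set.mem_iUnion.2 ⟨⟨x, hxt⟩, ?_⟩
      rw [hpre]
      exact hzx

include hD hDa hc in
/-- In a cofiltered limit of algebraic spaces with affine transition maps every quasi-compact
open subspace is the preimage of a quasi-compact open subspace of a stage. -/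
theorem exists_open_descends_of_isLimit (U : Sp S) (j : U ⟶ c.pt)
    (hj : RepWith @IsOpenImmersion j) (hU : IsQuasiCompactSp U) :
    ∃ (i : I) (Ui : Sp S) (ji : Ui ⟶ D.obj i) (q : U ⟶ Ui),
      RepWith @IsOpenImmersion ji ∧ IsQuasiCompactSp Ui ∧ IsPullback j q (c.π.app i) ji := by
  have hX := isAlgSpace_of_isLimit D hDa c hc hD
  have hUalg : IsAlgSpace U := Groth.Agent.H49.isAlgSpace_of_representable_to j hj.rep hX
  haveI : CompactSpace (Points U) := (Groth.Agent.H51.isQuasiCompactSp_iff hUalg).1 hU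
  have hT : IsOpen (Set.range (Points.map j)) := by
    rw [← Set.image_univ]
    exact isOpenMap_points_map_of_isOpenImmersion j hj _ isOpen_univ
  have hTc : IsCompact (Set.range (Points.map j)) := isCompact_range (Points.continuous_map j)
  obtain ⟨i, V, hVo, hVc, hV⟩ :=
    exists_compact_open_preimage_eq_of_isLimit D hD hDa c hc _ hT hTc
  let Ui := Groth.Agent.H51.openSubSp (D.obj i) V
  let ji : Ui ⟶ D.obj i := Groth.Agent.H51.openSubι (D.obj i) V
  have hji : RepWith @IsOpenImmersion ji :=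
    Groth.Agent.H51.repWith_isOpenImmersion_openSubι V hVo
  have hUialg : IsAlgSpace Ui := Groth.Agent.H51.isAlgSpace_openSubSp (hD i) V hVo
  have hrange : Set.range (Points.map ji) = V := Groth.Agent.H51.range_map_openSubι V
  haveI hjim : Mono ji :=
    Groth.Agent.H49.mono_of_repWith_mono Groth.Agent.H51.isOpenImmersion_le_mono ji hji
  have hUiqc : IsQuasiCompactSp Ui := by
    rw [Groth.Agent.H51.isQuasiCompactSp_iff hUialg]
    have hemb : IsOpenEmbedding (Points.map ji) :=
      .of_continuous_injective_isOpenMap (Points.continuous_map ji)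
        (Groth.Agent.H51.injective_map_of_mono ji)
        (isOpenMap_points_map_of_isOpenImmersion ji hji)
    constructor
    rw [hemb.isEmbedding.isCompact_iff, Set.image_univ, hrange]
    exact hVc
  -- the pullback
  have sqP : IsPullback (pullback.fst (c.π.app i) ji) (pullback.snd (c.π.app i) ji)
      (c.π.app i) ji := IsPullback.of_hasPullback _ _
  have hP : RepWith @IsOpenImmersion (pullback.fst (c.π.app i) ji) :=
    (RepWith @IsOpenImmersion).of_isPullback sqP.flip hji
  have hrP : Set.range (Points.map (pullback.fst (c.π.app i) ji)) =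
      Set.range (Points.map j) := by
    rw [← hV]
    ext y
    constructor
    · rintro ⟨z, rfl⟩
      change Points.map (c.π.app i) (Points.map (pullback.fst (c.π.app i) ji) z) ∈ V
      rw [← Points.map_comp, sqP.w, Points.map_comp, ← hrange]
      exact ⟨_, rfl⟩
    · intro hy
      change Points.map (c.π.app i) y ∈ V at hy
      rw [← hrange] at hy
      obtain ⟨u, hu⟩ := hy
      obtain ⟨z, hz, -⟩ := points_exists_of_isPullback sqP y u hu.symm
      exact ⟨z, hz⟩
  obtain ⟨a, ha⟩ := (Groth.Agent.H51.exists_factor_iff_of_isOpenImmersion' _ hP j).2 hrP.ge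
  obtain ⟨b, hb⟩ := (Groth.Agent.H51.exists_factor_iff_of_isOpenImmersion' _ hj
    (pullback.fst (c.π.app i) ji)).2 hrP.le
  haveI : Mono j :=
    Groth.Agent.H49.mono_of_repWith_mono Groth.Agent.H51.isOpenImmersion_le_mono j hj
  haveI : Mono (pullback.fst (c.π.app i) ji) :=
    Groth.Agent.H49.mono_of_repWith_mono Groth.Agent.H51.isOpenImmersion_le_mono _ hP
  let e : U ≅ pullback (c.π.app i) ji :=
    ⟨a, b, by rw [← cancel_mono j, Category.assoc, hb, ha, Category.id_comp],
      by rw [← cancel_mono (pullback.fst (c.π.app i) ji), Category.assoc, ha, hb,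
        Category.id_comp]⟩
  refine ⟨i, Ui, ji, a ≫ pullback.snd (c.π.app i) ji, hji, hUiqc, ?_⟩
  refine IsPullback.of_iso_pullback ⟨?_⟩ e ha rfl
  rw [Category.assoc, ← pullback.condition, ← Category.assoc, ha]

end Groth.Agent.H50
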