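import Groth.Agent.H50.LocPBase
import Groth.Agent.H51.SpOpen
import Groth.Prelude.Def_AlgSpDec

set_option autoImplicit false
set_option backward.isDefEq.respectTransparency false
set_option backward.isDefEq.respectTransparency.types false
universe u
open CategoryTheory CategoryTheory.Limits AlgebraicGeometry Opposite

namespace Groth.Agent.H50

open AlgSp

variable {S : Scheme.{u}}

/-- The seven listed classes are Zariski local on the source. -/
theorem zar_of_cases (P : MorphismProperty Scheme.{u})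
    (hP : P = @LocallyOfFiniteType ∨ P = @LocallyOfFinitePresentation ∨ P = @Flat ∨ P = @Smooth ∨
      P = @Etale ∨
      (∀ ⦃A B : Scheme.{u}⦄ (g : A ⟶ B), P g ↔ (LocallyQuasiFinite g ∧ LocallyOfFiniteType g)) ∨
      (∀ ⦃A B : Scheme.{u}⦄ (g : A ⟶ B), P g ↔ (LocallyOfFiniteType g ∧ FormallyUnramified g))) :
    IsZariskiLocalAtSource P := by
  rcases hP with rfl | rfl | rfl | rfl | rfl | h | h
  · infer_instance
  · infer_instance
  · infer_instance
  · infer_instance
  · infer_instance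
  · have : P = (@LocallyQuasiFinite.{u} ⊓ @LocallyOfFiniteType : MorphismProperty Scheme.{u}) := by
      ext A B g
      exact h g
    rw [this]
    infer_instance
  · have : P = (@LocallyOfFiniteType.{u} ⊓ @FormallyUnramified : MorphismProperty Scheme.{u}) := by
      ext A B g
      exact h g
    rw [this]
    infer_instance

/-- Good classes that are Zariski local on the source are local on the source for jointly
surjective etale families. -/
theorem GoodClass.family {P : MorphismProperty Scheme.{u}} (hG : GoodClass P)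
    [IsZariskiLocalAtSource P] {U V : Scheme.{u}} (h : U ⟶ V) {ι : Type u} (W : ι → Scheme.{u})
    (w : ∀ i, W i ⟶ U) (hw : ∀ i, Etale (w i)) (hs : ∀ x : U, ∃ i, x ∈ Set.range (w i))
    (hP : ∀ i, P (w i ≫ h)) : P h := by
  have he : Etale (Sigma.desc w) := IsZariskiLocalAtSource.sigmaDesc hw
  have hsurj : Surjective (Sigma.desc w) := ⟨fun x => by
    obtain ⟨i, y, hy⟩ := hs x
    exact ⟨Sigma.ι W i y, by rw [← Scheme.Hom.comp_apply, Sigma.ι_desc]; exact hy⟩⟩
  refine hG.src (Sigma.desc w) h he hsurj ?_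
  have : Sigma.desc w ≫ h = Sigma.desc (fun i => w i ≫ h) := by
    apply Sigma.hom_ext
    intro i
    simp
  rw [this]
  exact IsZariskiLocalAtSource.sigmaDesc hP

/-- `LocP P` is equivalent to having `P` near every point in some chart diagram. -/
theorem GoodClass.locP_iff_forall_hasAtMor {P : MorphismProperty Scheme.{u}} (hG : GoodClass P)
    [IsZariskiLocalAtSource P] {X Y : Sp S} (hX : IsAlgSpace X) (hY : IsAlgSpace Y) (f : X ⟶ Y) :
    LocP P f ↔ ∀ x : Points X,
      HasAtMor (fun U _ h u => ∃ W : U.Opens, u ∈ W ∧ P (W.ι ≫ h)) f x := by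
  constructor
  · intro hf x
    obtain ⟨U₀, a₀, ha1, ha2⟩ := hX.atlas
    obtain ⟨V, b, hb1, hb2⟩ := hY.atlas
    obtain ⟨u₀, rfl⟩ := Groth.Agent.H53.exists_ofPt_eq_of_repWith_surjective a₀ ha2 x
    obtain ⟨W', w₁, w₂, sq⟩ := Groth.Agent.H53.exists_pullback_yon (a₀ ≫ f) b hb1.rep
    have hw : Etale w₁.left := Groth.Agent.H53.prop_of_isPullback_yon sq hb1
    have hws : Surjective w₁.left := Groth.Agent.H53.prop_of_isPullback_yon sq hb2
    obtain ⟨u, hu⟩ := hws.surj u₀
    have hc1 : RepWith @Etale ((yon S).map w₁ ≫ a₀) :=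
      Groth.Agent.H53.repWith_etale_map_comp w₁ hw a₀ ha1
    have hcomm : ((yon S).map w₁ ≫ a₀) ≫ f = (yon S).map w₂ ≫ b := by
      rw [Category.assoc]; exact sq.w
    refine ⟨W', V, (yon S).map w₁ ≫ a₀, b, w₂, u, hc1, hb1, hcomm, ?_, ⊤, trivial, ?_⟩
    · rw [Groth.Agent.H53.ofPt_yon_map_comp, hu]
    · have := hG.comp
      exact P.comp_mem _ _ (hG.etale_le _ _ _ inferInstance) (hf _ b w₂ hc1 hb1 hcomm)
  · intro H
    obtain ⟨U₀, a₀, ha1, ha2⟩ := hX.atlas
    choose U V a b h u ha hb hcomm hx W hW hP using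
      fun u₀ : ↥U₀.left => H (Points.ofPt a₀ u₀)
    refine Groth.Agent.H53.locP_of_cover (P := P) (Q := @Etale)
      (fun h _ W w hQ hs hP => hG.family h W w hQ hs hP)
      (fun u₀ => (yon S).obj (Groth.Agent.H51.overOpen (U u₀) (W u₀)))
      (fun u₀ => (yon S).map (Groth.Agent.H51.overOpenι (U u₀) (W u₀)) ≫ a u₀)
      (fun u₀ => IsAlgSpace.yon_obj _)
      (fun u₀ => by
        have : MorphismProperty.IsStableUnderComposition @Etale :=
          (inferInstance : MorphismProperty.IsMultiplicative @Etale).toIsStableUnderComposition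
        exact locP_of_repWith @Etale le_rfl _
          (Groth.Agent.H51.repWith_etale_restrict (a u₀) (ha u₀) (W u₀)))
      ?_ f ?_
    · intro x
      obtain ⟨u₀, rfl⟩ := Groth.Agent.H53.exists_ofPt_eq_of_repWith_surjective a₀ ha2 x
      refine ⟨u₀, Points.ofScheme _ ⟨u u₀, hW u₀⟩, ?_⟩
      rw [← Points.ofPt_eq_map_ofScheme, Groth.Agent.H51.ofPt_restrict]
      exact hx u₀
    · intro u₀
      rw [Category.assoc, hcomm u₀, ← Category.assoc, ← Functor.map_comp]
      exact hG.locP_comp (IsAlgSpace.yon_obj _) _ _ (hG.locP_yon_map _ (hP u₀))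
        (hG.locP_of_repWith_etale _ (hb u₀))

/-- `P` near a point in some chart diagram is equivalent to `LocP P` on an open subspace through
the point. -/
theorem GoodClass.hasAtMor_iff_exists_open {P : MorphismProperty Scheme.{u}} (hG : GoodClass P)
    {X Y : Sp S} (hX : IsAlgSpace X) (hY : IsAlgSpace Y) (f : X ⟶ Y) (x : Points X) :
    HasAtMor (fun U _ h u => ∃ W : U.Opens, u ∈ W ∧ P (W.ι ≫ h)) f x ↔
      ∃ (X' : Sp S) (j : X' ⟶ X), IsAlgSpace X' ∧ RepWith @IsOpenImmersion j ∧
        x ∈ Set.range (Points.map j) ∧ LocP P (j ≫ f) := by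
  constructor
  · rintro ⟨U, V, a, b, h, u, ha, hb, hcomm, hx, W, hu, hP⟩
    have haW := Groth.Agent.H51.repWith_etale_restrict a ha W
    have hopen : IsOpen (Set.range (Points.ofPt ((yon S).map (Groth.Agent.H51.overOpenι U W) ≫ a))) :=
      (Groth.Agent.H51.isOpenMap_ofPt_of_etale _ haW).isOpen_range
    obtain ⟨X', j, hX', hj, hrange⟩ := Groth.Agent.H51.exists_open_subspace hX _ hopen
    obtain ⟨a', ha'j, he, hs, -⟩ := Groth.Agent.H51.isPresentation_of_open_image _ haW j hj hrange
    refine ⟨X', j, hX', hj, ?_, ?_⟩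
    · rw [hrange]
      exact ⟨⟨u, hu⟩, by rw [Groth.Agent.H51.ofPt_restrict]; exact hx⟩
    · refine hG.locP_of_one_chart (j ≫ f) a' b (Groth.Agent.H51.overOpenι U W ≫ h) he hs hb ?_ hP
      rw [← Category.assoc, ha'j, Category.assoc, hcomm, ← Category.assoc, ← Functor.map_comp]
  · rintro ⟨X', j, hX', hj, ⟨x', rfl⟩, hP⟩
    obtain ⟨U₀, a₀, ha1, ha2⟩ := hX'.atlas
    obtain ⟨V, b, hb1, hb2⟩ := hY.atlas
    obtain ⟨u₀, rfl⟩ := Groth.Agent.H53.exists_ofPt_eq_of_repWith_surjective a₀ ha2 x'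
    obtain ⟨W', w₁, w₂, sq⟩ := Groth.Agent.H53.exists_pullback_yon (a₀ ≫ j ≫ f) b hb1.rep
    have hw : Etale w₁.left := Groth.Agent.H53.prop_of_isPullback_yon sq hb1
    have hws : Surjective w₁.left := Groth.Agent.H53.prop_of_isPullback_yon sq hb2
    obtain ⟨u, hu⟩ := hws.surj u₀
    have hc1 : RepWith @Etale ((yon S).map w₁ ≫ a₀) :=
      Groth.Agent.H53.repWith_etale_map_comp w₁ hw a₀ ha1
    have hje : RepWith @Etale j :=
      MorphismProperty.relative_monotone (fun _ _ g hg => by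
        have : IsOpenImmersion g.left := hg
        exact (inferInstance : Etale g.left)) _ hj
    have hc2 : RepWith @Etale (((yon S).map w₁ ≫ a₀) ≫ j) := (RepWith @Etale).comp_mem _ _ hc1 hje
    have hcomm : ((yon S).map w₁ ≫ a₀) ≫ (j ≫ f) = (yon S).map w₂ ≫ b := by
      rw [Category.assoc]; exact sq.w
    refine ⟨W', V, ((yon S).map w₁ ≫ a₀) ≫ j, b, w₂, u, hc2, hb1, ?_, ?_, ⊤, trivial, ?_⟩
    · rw [Category.assoc, ← hcomm, Category.assoc]
    · rw [Points.map_ofPt, Category.assoc, Groth.Agent.H53.ofPt_yon_map_comp, hu]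
    · have := hG.comp
      exact P.comp_mem _ _ (hG.etale_le _ _ _ inferInstance) (hP _ b w₂ hc1 hb1 hcomm)

end Groth.Agent.H50
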