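import Mathlib.AlgebraicGeometry.ValuativeCriterion
import Mathlib.AlgebraicGeometry.Morphisms.QuasiCompact
import Mathlib.RingTheory.PowerSeries.Inverse
import Groth.Agent.H22.DVRSpec
import Groth.Agent.H22.DVRGen

set_option autoImplicit false
universe u
open CategoryTheory CategoryTheory.Limits AlgebraicGeometry

namespace Groth.Agent.H50.DVRSp

/-- If `h : U ⟶ X` is quasi-compact, every point of the closure of the image of `h` is a
specialization of a point in the image of `h` (helper22's `exists_specializes_of_denseRange`,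
pointwise). -/
theorem exists_specializes_of_mem_closure {U X : Scheme.{u}} (h : U ⟶ X) [QuasiCompact h]
    (z : X) (hz : z ∈ closure (Set.range h.base)) : ∃ u : U, h.base u ⤳ z := by
  obtain ⟨V, hV, hzV, -⟩ := exists_isAffineOpen_mem_and_subset (x := z) (U := ⊤) trivial
  have hc : IsCompact ((h ⁻¹ᵁ V : U.Opens) : Set U) :=
    QuasiCompact.isCompact_preimage (f := h) _ V.2 hV.isCompact
  have hcs : CompactSpace (h ⁻¹ᵁ V : U.Opens) := isCompact_iff_compactSpace.mp hc
  obtain ⟨R', g, hg⟩ := compactSpace_iff_exists.mp hcs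
  let g' : Spec R' ⟶ X := g ≫ (h ⁻¹ᵁ V).ι ≫ h
  have hg'V : ∀ y, g'.base y ∈ V := by
    intro y
    have : ((h ⁻¹ᵁ V).ι.base (g.base y)) ∈ h ⁻¹ᵁ V := (g.base y).2
    exact this
  have hrange : Set.range g'.base ⊆ Set.range hV.fromSpec.base := by
    rintro _ ⟨y, rfl⟩
    rw [hV.range_fromSpec]
    exact hg'V y
  let ψ : Spec R' ⟶ Spec Γ(X, V) := IsOpenImmersion.lift hV.fromSpec g' hrange
  have hψ : ψ ≫ hV.fromSpec = g' := IsOpenImmersion.lift_fac _ _ _
  let φ : Γ(X, V) ⟶ R' := Spec.preimage ψ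
  have hφ : Spec.map φ = ψ := Spec.map_preimage ψ
  let 𝔭 := hV.primeIdealOf ⟨z, hzV⟩
  have hker : RingHom.ker φ.hom ≤ 𝔭.asIdeal := by
    intro s hs
    by_contra hns
    have hzs : z ∈ X.basicOpen s := by
      by_contra hcon
      exact hns ((Groth.Agent.H22.DVRSpec.mem_primeIdealOf_iff hV ⟨z, hzV⟩ s).mpr hcon)
    obtain ⟨_, hu, ⟨u, rfl⟩⟩ := mem_closure_iff.mp hz _ (X.basicOpen s).2 hzs
    have huV : u ∈ h ⁻¹ᵁ V := X.basicOpen_le s hu
    obtain ⟨y, hy⟩ := hg ⟨u, huV⟩
    have hgy : g'.base y = h.base u := by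
      change h.base ((h ⁻¹ᵁ V).ι.base (g.base y)) = _
      rw [hy]
      rfl
    have h1 : ψ.base y ∈ hV.fromSpec ⁻¹ᵁ X.basicOpen s := by
      change hV.fromSpec.base (ψ.base y) ∈ X.basicOpen s
      rw [← Scheme.Hom.comp_apply, hψ, hgy]
      exact hu
    rw [hV.fromSpec_preimage_basicOpen, ← hφ] at h1
    apply h1
    change φ.hom s ∈ y.asIdeal
    rw [RingHom.mem_ker.mp hs]
    exact Ideal.zero_mem _
  have hdisj : Disjoint ((⊥ : Ideal R') : Set R')
      (𝔭.asIdeal.primeCompl.map φ.hom : Submonoid R') := by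
    rw [Set.disjoint_left]
    rintro _ h0 ⟨s, hs, rfl⟩
    exact hs (hker h0)
  obtain ⟨𝔮, h𝔮, -, h𝔮d⟩ := Ideal.exists_le_prime_disjoint _ _ hdisj
  have hle : 𝔮.comap φ.hom ≤ 𝔭.asIdeal := Ideal.disjoint_map_primeCompl_iff_comap_le.mp h𝔮d
  let y : Spec R' := ⟨𝔮, h𝔮⟩
  have hsp : (Spec.map φ).base y ⤳ 𝔭 := by
    exact (PrimeSpectrum.le_iff_specializes
      (PrimeSpectrum.comap φ.hom (⟨𝔮, h𝔮⟩ : PrimeSpectrum R')) 𝔭).mp hle
  refine ⟨(h ⁻¹ᵁ V).ι.base (g.base y), ?_⟩
  have h2 := hsp.map hV.fromSpec.continuous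
  rw [hφ, ← Scheme.Hom.comp_apply, hψ] at h2
  have h3 : hV.fromSpec.base 𝔭 = z := hV.fromSpec_primeIdealOf ⟨z, hzV⟩
  rw [h3] at h2
  exact h2

/-- A DVR test diagram through a point of the source and a given specialization of its image
(also when the specialization is trivial). -/
theorem exists_dvr_of_specializes {X Y : Scheme.{u}} [IsLocallyNoetherian Y]
    (p : X ⟶ Y) [LocallyOfFiniteType p] (x : X) (y' : Y) (hsp : p.base x ⤳ y') :
    ∃ (A : Type u) (_ : CommRing A) (_ : IsDomain A) (_ : IsDiscreteValuationRing A)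
      (h : Spec (CommRingCat.of A) ⟶ Y) (ξ : Spec (CommRingCat.of (FractionRing A)) ⟶ X),
      ξ ≫ p = Spec.map (CommRingCat.ofHom (algebraMap A (FractionRing A))) ≫ h ∧
      h.base (IsLocalRing.closedPoint A) = y' ∧
      ξ.base (IsLocalRing.closedPoint (FractionRing A)) = x := by
  by_cases hne : y' = p.base x
  · -- trivial specialization: use power series over the residue field
    let K : Type u := X.residueField x
    let A : Type u := PowerSeries K
    let c : Spec (CommRingCat.of A) ⟶ Spec (X.residueField x) :=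
      Spec.map (CommRingCat.ofHom (PowerSeries.C : K →+* PowerSeries K))
    refine ⟨A, inferInstance, inferInstance, inferInstance, c ≫ X.fromSpecResidueField x ≫ p,
      Spec.map (CommRingCat.ofHom (algebraMap A (FractionRing A))) ≫ c ≫
        X.fromSpecResidueField x, ?_, ?_, ?_⟩
    · simp only [Category.assoc]
    · rw [hne]
      change p.base ((X.fromSpecResidueField x).base (c.base _)) = _
      rw [Scheme.fromSpecResidueField_apply]
    · change (X.fromSpecResidueField x).base _ = x
      rw [Scheme.fromSpecResidueField_apply]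
  · obtain ⟨A, h, hA, hcl, hcomm⟩ :=
      Groth.Agent.H22.DVRSpec.exists_dvr_through_specialization p x y' hsp hne
    let e' : X.residueField x →+* FractionRing A :=
      ((FractionRing.algEquiv A (X.residueField x)).symm : X.residueField x →+* FractionRing A)
    refine ⟨A, inferInstance, inferInstance, hA, h,
      Spec.map (CommRingCat.ofHom e') ≫ X.fromSpecResidueField x, ?_, hcl, ?_⟩
    · rw [Category.assoc, ← hcomm, Groth.Agent.H22.DVRGen.specMap_algebraMap_fractionRing A,
        Category.assoc]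
    · change (X.fromSpecResidueField x).base _ = x
      rw [Scheme.fromSpecResidueField_apply]

/-- A DVR test diagram reaching a given point of the closure of the image of a quasi-compact
morphism locally of finite type to a locally Noetherian scheme. -/
theorem exists_dvr_of_mem_closure {X Y : Scheme.{u}} [IsLocallyNoetherian Y]
    (p : X ⟶ Y) [LocallyOfFiniteType p] [QuasiCompact p] (y' : Y)
    (hy' : y' ∈ closure (Set.range p.base)) :
    ∃ (A : Type u) (_ : CommRing A) (_ : IsDomain A) (_ : IsDiscreteValuationRing A)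
      (h : Spec (CommRingCat.of A) ⟶ Y) (ξ : Spec (CommRingCat.of (FractionRing A)) ⟶ X),
      ξ ≫ p = Spec.map (CommRingCat.ofHom (algebraMap A (FractionRing A))) ≫ h ∧
      h.base (IsLocalRing.closedPoint A) = y' := by
  obtain ⟨x, hx⟩ := exists_specializes_of_mem_closure p y' hy'
  obtain ⟨A, i1, i2, i3, h, ξ, h1, h2, -⟩ := exists_dvr_of_specializes p x y' hx
  exact ⟨A, i1, i2, i3, h, ξ, h1, h2⟩

end Groth.Agent.H50.DVRSp
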