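import Mathlib.RingTheory.Flat.Basic
import Mathlib.RingTheory.TensorProduct.Maps
import Mathlib.Algebra.Algebra.Subalgebra.Basic
import Mathlib.Algebra.Exact.Basic

set_option autoImplicit false
universe u
open scoped TensorProduct

namespace Groth.Agent.H50

namespace DescentRing

variable {A B C' : Type u} [CommRing A] [CommRing B] [CommRing C'] [Algebra A B] [Algebra B C']
  [Algebra A C'] [IsScalarTower A B C']

/-- The counit `C' ⊗[A] B → C'`, `c ⊗ b ↦ b • c`. -/
noncomputable def mu : C' ⊗[A] B →ₐ[A] C' :=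
  Algebra.TensorProduct.lift (AlgHom.id A C') (IsScalarTower.toAlgHom A B C') (fun _ _ => Commute.all _ _)

@[simp] theorem mu_tmul (c : C') (b : B) : mu (A := A) (c ⊗ₜ[A] b) = c * algebraMap B C' b := by
  simp [mu]

variable (ρ : C' →ₐ[A] C' ⊗[A] B)

/-- The descended algebra: the equalizer of the coaction and `c ↦ c ⊗ 1`. -/
noncomputable def desc : Subalgebra A C' :=
  AlgHom.equalizer ρ (Algebra.TensorProduct.includeLeft : C' →ₐ[A] C' ⊗[A] B)

theorem mem_desc_iff (c : C') : c ∈ desc ρ ↔ ρ c = c ⊗ₜ[A] (1 : B) := by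
  rw [desc, AlgHom.mem_equalizer]
  rfl

/-- The comparison map `desc ⊗[A] B → C'`. -/
noncomputable def theta : (desc ρ) ⊗[A] B →ₐ[A] C' :=
  Algebra.TensorProduct.lift (desc ρ).val (IsScalarTower.toAlgHom A B C') (fun _ _ => Commute.all _ _)

@[simp] theorem theta_tmul (c : desc ρ) (b : B) :
    theta ρ (c ⊗ₜ[A] b) = (c : C') * algebraMap B C' b := by
  simp [theta]

variable [Module.Flat A B]

/-- Effectivity of descent for algebras along a flat ring map. -/
theorem theta_bijective
    (hB : ∀ (b : B) (c : C'), ρ (c * algebraMap B C' b) = ρ c * (1 ⊗ₜ[A] b))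
    (hcounit : ∀ c, mu (A := A) (B := B) (ρ c) = c)
    (hcoassoc : ∀ c, (Algebra.TensorProduct.map ρ (AlgHom.id A B)) (ρ c) =
      (Algebra.TensorProduct.map (Algebra.TensorProduct.includeLeft : C' →ₐ[A] C' ⊗[A] B)
        (AlgHom.id A B)) (ρ c)) :
    Function.Bijective (theta ρ) := by
  -- the inclusion tensored with `B`
  set ι : (desc ρ) ⊗[A] B →ₗ[A] C' ⊗[A] B := (desc ρ).val.toLinearMap.rTensor B with hι
  have hιinj : Function.Injective ι :=
    Module.Flat.rTensor_preserves_injective_linearMap _ Subtype.val_injective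
  -- exactness
  set g : C' →ₗ[A] C' ⊗[A] B :=
    ρ.toLinearMap - (Algebra.TensorProduct.includeLeft : C' →ₐ[A] C' ⊗[A] B).toLinearMap with hg
  have hex : Function.Exact (desc ρ).val.toLinearMap g := by
    intro c
    constructor
    · intro hc
      refine ⟨⟨c, ?_⟩, rfl⟩
      rw [mem_desc_iff]
      have : ρ c - c ⊗ₜ[A] (1 : B) = 0 := hc
      exact sub_eq_zero.1 this
    · rintro ⟨c, rfl⟩
      have := (mem_desc_iff ρ c.1).1 c.2
      change ρ c.1 - c.1 ⊗ₜ[A] (1 : B) = 0
      rw [this, sub_self]
  have hex' : Function.Exact ι (g.rTensor B) := Module.Flat.rTensor_exact B hex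
  -- `ρ` lands in the range of `ι`
  have hρι : ∀ c : C', ∃ x, ι x = ρ c := by
    intro c
    have : (g.rTensor B) (ρ c) = 0 := by
      have h1 := hcoassoc c
      have h2 : (g.rTensor B) (ρ c) = (Algebra.TensorProduct.map ρ (AlgHom.id A B)) (ρ c) -
          (Algebra.TensorProduct.map (Algebra.TensorProduct.includeLeft : C' →ₐ[A] C' ⊗[A] B)
            (AlgHom.id A B)) (ρ c) := by
        generalize ρ c = y
        induction y using TensorProduct.induction_on with
        | zero => simp
        | tmul c b => simp [hg, TensorProduct.sub_tmul]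
        | add x y hx hy => simp only [map_add, hx, hy]; abel
      rw [h2, h1, sub_self]
    exact (hex' (ρ c)).1 this
  -- `mu ∘ ι = theta`
  have hμι : ∀ x, mu (A := A) (B := B) (ι x) = theta ρ x := by
    intro x
    induction x using TensorProduct.induction_on with
    | zero => simp
    | tmul c b => simp [hι]
    | add x y hx hy => simp only [map_add, hx, hy]
  -- `ι = ρ ∘ theta`
  have hιρ : ∀ x, ι x = ρ (theta ρ x) := by
    intro x
    induction x using TensorProduct.induction_on with
    | zero => simp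
    | tmul c b =>
      rw [theta_tmul, hB, (mem_desc_iff ρ c.1).1 c.2]
      simp [hι, Algebra.TensorProduct.tmul_mul_tmul]
    | add x y hx hy => simp only [map_add, hx, hy]
  constructor
  · rw [injective_iff_map_eq_zero]
    intro x hx
    apply hιinj
    rw [hιρ, hx, map_zero, map_zero]
  · intro c
    obtain ⟨x, hx⟩ := hρι c
    exact ⟨x, by rw [← hμι, hx, hcounit]⟩

end DescentRing

end Groth.Agent.H50
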