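import Groth.Agent.H50.FlatOpen

set_option autoImplicit false
set_option backward.isDefEq.respectTransparency false
universe u
open CategoryTheory CategoryTheory.Limits AlgebraicGeometry Opposite Topology

namespace Groth.Agent.H50

open AlgSp

variable {S : Scheme.{u}}

theorem hasOfPostcomp_flat_etale : MorphismProperty.HasOfPostcompProperty @Flat.{u} @Etale := by
  rw [MorphismProperty.hasOfPostcompProperty_iff_le_diagonal]
  intro X Y f hf
  have : Etale f := hf
  exact inferInstanceAs <| Flat (pullback.diagonal f)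

theorem hasOfPostcomp_univOpen_etale :
    MorphismProperty.HasOfPostcompProperty @UniversallyOpen.{u} @Etale := by
  rw [MorphismProperty.hasOfPostcompProperty_iff_le_diagonal]
  intro X Y f hf
  have : Etale f := hf
  exact inferInstanceAs <| UniversallyOpen (pullback.diagonal f)

theorem univOpen_of_comp_surjective {A B C : Scheme.{u}} (e : A ⟶ B) (h : B ⟶ C)
    [Surjective e] (H : UniversallyOpen (e ≫ h)) : UniversallyOpen h := by
  rw [UniversallyOpen.eq] at H ⊢
  intro X' Y' i₁ i₂ h' sq
  -- base change of `e`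
  have sq2 := IsPullback.of_hasPullback i₁ e
  have hcomp : IsPullback (pullback.snd i₁ e) (pullback.fst i₁ e ≫ h') (e ≫ h) i₂ :=
    IsPullback.paste_vert sq2.flip sq.flip
  have hopen : IsOpenMap (pullback.fst i₁ e ≫ h') := H _ _ _ hcomp.flip
  have hsurj : Surjective (pullback.fst i₁ e) :=
    MorphismProperty.pullback_fst (P := @Surjective) _ _ ‹_›
  intro T hT
  have : h' '' T = (pullback.fst i₁ e ≫ h') '' ((pullback.fst i₁ e) ⁻¹' T) := by
    ext y
    constructor
    · rintro ⟨x, hx, rfl⟩
      obtain ⟨z, rfl⟩ := hsurj.surj x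
      exact ⟨z, hx, Scheme.Hom.comp_apply _ _ _⟩
    · rintro ⟨z, hz, rfl⟩
      exact ⟨pullback.fst i₁ e z, hz, (Scheme.Hom.comp_apply _ _ _).symm⟩
  rw [this]
  exact hopen _ (hT.preimage (pullback.fst i₁ e).continuous)

theorem goodClass_univOpen : GoodClass @UniversallyOpen.{u} :=
  ⟨inferInstance, inferInstance, fun _ _ _ h => by have := h; infer_instance,
    fun e h he hes H => by
      have := hes
      exact univOpen_of_comp_surjective e h H⟩

/-- Any morphism from a sheaf to the spectrum of a field satisfies `LocP P`, for `P` a class that holds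
for all morphisms to the spectrum of a field and cancels étale morphisms on the right. -/
theorem locP_to_field (P : MorphismProperty Scheme.{u})
    (hpost : P.HasOfPostcompProperty @Etale)
    (k : Type u) [Field k] (hfield : ∀ {A : Scheme.{u}} (g : A ⟶ Spec (CommRingCat.of k)), P g)
    (σ : Spec (CommRingCat.of k) ⟶ S) {X : Sp S} (p : X ⟶ (yon S).obj (Over.mk σ)) :
    LocP P p := by
  intro U V a b h ha hb hcomm
  obtain ⟨b', rfl⟩ := (yon S).map_surjective b
  have hb' : Etale b'.left := (repWith_yon_map_iff _ _).1 hb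
  exact hpost.of_postcomp h.left b'.left hb' (hfield _)

theorem locP_flat_to_field (k : Type u) [Field k]
    (σ : Spec (CommRingCat.of k) ⟶ S) {X : Sp S} (p : X ⟶ (yon S).obj (Over.mk σ)) :
    LocP @Flat p :=
  locP_to_field @Flat hasOfPostcomp_flat_etale k (fun g => inferInstanceAs (Flat g)) σ p

theorem locP_univOpen_to_field (k : Type u) [Field k]
    (σ : Spec (CommRingCat.of k) ⟶ S) {X : Sp S} (p : X ⟶ (yon S).obj (Over.mk σ)) :
    LocP @UniversallyOpen p :=
  locP_to_field @UniversallyOpen hasOfPostcomp_univOpen_etale k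
    (fun g => inferInstanceAs (UniversallyOpen g)) σ p

/-- A morphism of algebraic spaces which is universally open on charts is open on points. -/
theorem isOpenMap_points_of_locP_univOpen {X Y : Sp S} (hX : IsAlgSpace X) (hY : IsAlgSpace Y)
    (f : X ⟶ Y) (hf : LocP @UniversallyOpen f) :
    IsOpenMap (Points.map f) := by
  intro W hW
  obtain ⟨U, a, ha1, ha2⟩ := hX.atlas
  obtain ⟨V, b, hb1, hb2⟩ := hY.atlas
  obtain ⟨W', w₁, w₂, sq⟩ := Groth.Agent.H53.exists_pullback_yon (a ≫ f) b hb1.rep
  have hw : Etale w₁.left := Groth.Agent.H53.prop_of_isPullback_yon sq hb1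
  have hws : Surjective w₁.left := Groth.Agent.H53.prop_of_isPullback_yon sq hb2
  have hc1 : RepWith @Etale ((yon S).map w₁ ≫ a) :=
    Groth.Agent.H53.repWith_etale_map_comp w₁ hw a ha1
  have hcomm : ((yon S).map w₁ ≫ a) ≫ f = (yon S).map w₂ ≫ b := by
    rw [Category.assoc]; exact sq.w
  have h1 : UniversallyOpen w₂.left := hf _ b w₂ hc1 hb1 hcomm
  have hopen2 : IsOpenMap w₂.left := w₂.left.isOpenMap
  have hopenb : IsOpenMap (Points.ofPt b) := Groth.Agent.H51.isOpenMap_ofPt_of_etale b hb1
  have hW'' : IsOpen (Points.ofPt ((yon S).map w₁ ≫ a) ⁻¹' W) :=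
    hW.preimage (Points.continuous_ofPt _)
  have key : Points.map f '' W =
      Points.ofPt b '' (w₂.left '' (Points.ofPt ((yon S).map w₁ ≫ a) ⁻¹' W)) := by
    ext y
    constructor
    · rintro ⟨x, hx, rfl⟩
      obtain ⟨u, rfl⟩ := Groth.Agent.H53.exists_ofPt_eq_of_repWith_surjective a ha2 x
      obtain ⟨w, rfl⟩ := hws.surj u
      refine ⟨w₂.left w, ⟨w, ?_, rfl⟩, ?_⟩
      · change Points.ofPt ((yon S).map w₁ ≫ a) w ∈ W
        rw [Groth.Agent.H53.ofPt_yon_map_comp]
        exact hx
      · rw [← Groth.Agent.H53.ofPt_yon_map_comp, ← hcomm, Points.map_ofPt, Category.assoc,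
          Groth.Agent.H53.ofPt_yon_map_comp]
    · rintro ⟨_, ⟨w, hw', rfl⟩, rfl⟩
      refine ⟨Points.ofPt ((yon S).map w₁ ≫ a) w, hw', ?_⟩
      rw [Points.map_ofPt, hcomm, Groth.Agent.H53.ofPt_yon_map_comp]
  rw [key]
  exact hopenb _ (hopen2 _ hW'')

/-- A morphism of algebraic spaces which is universally open on charts is universally open. -/
theorem isUnivOpenMor_of_locP_univOpen {X Y : Sp S} (hX : IsAlgSpace X) (hY : IsAlgSpace Y)
    (f : X ⟶ Y) (hf : LocP @UniversallyOpen f) :
    IsUnivOpenMor f := by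
  intro Z Z' hZ g fst snd sq
  have hZ' : IsAlgSpace Z' := Groth.Agent.H49.isAlgSpace_of_isPullback sq hY.diag hX hZ
  exact isOpenMap_points_of_locP_univOpen hZ' hZ snd
    (goodClass_univOpen.locP_of_isPullback hX hY hZ f g fst snd sq hf)

end Groth.Agent.H50
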