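import Groth.Agent.H50.QCKer1
import Groth.Agent.H19.SchDense
import Groth.Agent.H19.SchDenseRed
import Groth.Agent.H22.RedImm
import Mathlib.AlgebraicGeometry.Morphisms.Immersion

set_option autoImplicit false
set_option backward.isDefEq.respectTransparency false
set_option linter.style.haveILetI false
universe u
open CategoryTheory CategoryTheory.Limits AlgebraicGeometry Opposite Topology

namespace Groth.Agent.H50

/-- A quasi-compact immersion is a scheme theoretically dense, dense open immersion into its
scheme theoretic image. -/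
theorem immersion_into_image_of_quasiCompact {Z A B : Scheme.{u}} (hA : Z ⟶ A) [IsImmersion hA]
    [QuasiCompact hA] (cA : B ⟶ A) [IsClosedImmersion cA] (h' : Z ⟶ B) (fac : h' ≫ cA = hA)
    (hker : cA.ker = hA.ker) :
    ∃ _ : IsOpenImmersion h', CInt.IsSchematicallyDense h'.opensRange ∧ DenseRange h' := by
  have hk : hA.imageι.ker = cA.ker := by
    rw [hker]; exact Scheme.IdealSheafData.ker_subschemeι _
  let ε : B ⟶ hA.image := IsClosedImmersion.lift hA.imageι cA hk.le
  haveI : IsIso ε := IsClosedImmersion.isIso_lift hA.imageι cA hk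
  have hε : ε ≫ hA.imageι = cA := IsClosedImmersion.lift_fac _ _ _
  have h1 : h' ≫ ε = hA.toImage := by
    rw [← cancel_mono hA.imageι, Category.assoc, hε, fac, hA.toImage_imageι]
  have h2 : h' = hA.toImage ≫ inv ε := by rw [← h1, Category.assoc, IsIso.hom_inv_id, Category.comp_id]
  haveI := isSchemeTheoreticallyDominant_toImage hA
  haveI hoi : IsOpenImmersion h' := by rw [h2]; infer_instance
  haveI hqc : QuasiCompact h' := by rw [h2]; infer_instance
  haveI hsd : IsSchemeTheoreticallyDominant h' := by rw [h2]; infer_instance
  haveI hd : IsDominant h' := inferInstance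
  refine ⟨hoi, ?_, hd.denseRange⟩
  have h3 : h'.opensRange.ι = h'.isoOpensRange.inv ≫ h' :=
    ((Iso.inv_comp_eq _).2 (Scheme.Hom.isoOpensRange_hom_ι h').symm).symm
  haveI : QuasiCompact h'.opensRange.ι := by rw [h3]; infer_instance
  haveI : IsSchemeTheoreticallyDominant h'.opensRange.ι := by rw [h3]; infer_instance
  exact Groth.Agent.H19.isSchematicallyDense_of_dominant _

/-- An immersion from a reduced scheme is a scheme theoretically dense, dense open immersion into
the reduced induced closed subscheme on the closure of its image. -/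
theorem immersion_into_closure_of_isReduced {Z A B : Scheme.{u}} (hA : Z ⟶ A) [IsImmersion hA]
    [AlgebraicGeometry.IsReduced Z] (cA : B ⟶ A) [IsClosedImmersion cA]
    [AlgebraicGeometry.IsReduced B] (h' : Z ⟶ B)
    (fac : h' ≫ cA = hA) (hrange : Set.range cA = closure (Set.range hA)) :
    ∃ _ : IsOpenImmersion h', CInt.IsSchematicallyDense h'.opensRange ∧ DenseRange h' := by
  obtain ⟨W, j, i, hj, hi, hW, hri, hji⟩ := Groth.Agent.H22.exists_factor_of_isImmersion_of_isReduced hA
  haveI := hj
  haveI := hi
  haveI := hW
  have hk : i.ker = cA.ker := Groth.Agent.H22.ker_eq_ker_of_range_eq i cA (by rw [hri, hrange])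
  let ε : B ⟶ W := IsClosedImmersion.lift i cA hk.le
  haveI : IsIso ε := IsClosedImmersion.isIso_lift i cA hk
  have hε : ε ≫ i = cA := IsClosedImmersion.lift_fac _ _ _
  have h1 : h' ≫ ε = j := by
    rw [← cancel_mono i, Category.assoc, hε, fac, hji]
  have h2 : h' = j ≫ inv ε := by rw [← h1, Category.assoc, IsIso.hom_inv_id, Category.comp_id]
  haveI hoi : IsOpenImmersion h' := by rw [h2]; infer_instance
  have hd : DenseRange h' := by
    rw [DenseRange, dense_iff_closure_eq]
    have e1 : cA '' closure (Set.range h') = cA '' Set.univ := by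
      rw [← cA.isClosedEmbedding.closure_image_eq, ← Set.range_comp, Set.image_univ, hrange,
        ← fac]
      rfl
    exact cA.isClosedEmbedding.injective.image_injective e1
  refine ⟨hoi, ?_, hd⟩
  apply Groth.Agent.H19.SchDenseRed.isSchematicallyDense_of_dense
  exact hd

end Groth.Agent.H50
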