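import Mathlib
import Groth.Prelude.Def_AlgSp

set_option autoImplicit false
set_option backward.isDefEq.respectTransparency false
set_option linter.style.haveILetI false
universe u
open CategoryTheory CategoryTheory.Limits AlgebraicGeometry Opposite
open scoped TensorProduct

namespace Groth.Agent.H50

variable {S : Scheme.{u}}

section Abs

variable (S) (R : Type u) [CommRing R]

/-- `Spec R × S` as a scheme over `S`. -/
noncomputable def absV : Over S :=
  Over.mk (pullback.snd (terminal.from (Spec (CommRingCat.of R))) (terminal.from S))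

/-- The projection `Spec R × S ⟶ Spec R`. -/
noncomputable def absPr : (absV S R).left ⟶ Spec (CommRingCat.of R) :=
  pullback.fst (terminal.from (Spec (CommRingCat.of R))) (terminal.from S)

variable {S R}

/-- Morphisms to `Spec R × S` over `S` are morphisms to `Spec R`. -/
noncomputable def absLift {Z : Over S} (z : Z.left ⟶ Spec (CommRingCat.of R)) : Z ⟶ absV S R :=
  Over.homMk (pullback.lift z Z.hom (Subsingleton.elim _ _)) (pullback.lift_snd _ _ _)

@[reassoc (attr := simp)]
theorem absLift_pr {Z : Over S} (z : Z.left ⟶ Spec (CommRingCat.of R)) :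
    (absLift z).left ≫ absPr S R = z :=
  pullback.lift_fst _ _ _

theorem abs_hom_ext {Z : Over S} (a b : Z ⟶ absV S R)
    (h : a.left ≫ absPr S R = b.left ≫ absPr S R) : a = b := by
  ext
  apply pullback.hom_ext h
  have ha := Over.w a
  have hb := Over.w b
  change a.left ≫ pullback.snd _ _ = Z.hom at ha
  change b.left ≫ pullback.snd _ _ = Z.hom at hb
  rw [ha, hb]

theorem absLift_comp {Z Z' : Over S} (g : Z' ⟶ Z) (z : Z.left ⟶ Spec (CommRingCat.of R)) :
    g ≫ absLift z = absLift (g.left ≫ z) := by
  apply abs_hom_ext
  rw [Over.comp_left, Category.assoc, absLift_pr, absLift_pr]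

theorem isPullback_absV : IsPullback (absPr S R) (absV S R).hom
    (terminal.from (Spec (CommRingCat.of R))) (terminal.from S) :=
  IsPullback.of_hasPullback _ _

variable {R' : Type u} [CommRing R']

/-- The morphism `Spec R' × S ⟶ Spec R × S` induced by a ring homomorphism. -/
noncomputable def absMap (φ : R →+* R') : absV S R' ⟶ absV S R :=
  absLift (absPr S R' ≫ Spec.map (CommRingCat.ofHom φ))

theorem absMap_pr (φ : R →+* R') :
    (absMap (S := S) φ).left ≫ absPr S R = absPr S R' ≫ Spec.map (CommRingCat.ofHom φ) :=
  absLift_pr _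

/-- `Spec R' × S ⟶ Spec R × S` is a base change of `Spec R' ⟶ Spec R`. -/
theorem isPullback_absMap (φ : R →+* R') :
    IsPullback (absMap (S := S) φ).left (absPr S R') (absPr S R)
      (Spec.map (CommRingCat.ofHom φ)) := by
  have h1 : IsPullback (absPr S R) (absV S R).hom
      (terminal.from (Spec (CommRingCat.of R))) (terminal.from S) := isPullback_absV
  have h2 : IsPullback (absPr S R') (absV S R').hom
      (terminal.from (Spec (CommRingCat.of R'))) (terminal.from S) := isPullback_absV
  have h3 : terminal.from (Spec (CommRingCat.of R')) =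
      Spec.map (CommRingCat.ofHom φ) ≫ terminal.from (Spec (CommRingCat.of R)) :=
    Subsingleton.elim _ _
  rw [h3] at h2
  have hw : (absMap (S := S) φ).left ≫ (absV S R).hom = (absV S R').hom := Over.w _
  exact IsPullback.of_right (by rw [hw]; exact h2.flip) (absMap_pr φ) h1.flip

theorem absLift_absMap {Z : Over S} (z : Z.left ⟶ Spec (CommRingCat.of R')) (φ : R →+* R') :
    absLift z ≫ absMap (S := S) φ = absLift (z ≫ Spec.map (CommRingCat.ofHom φ)) := by
  apply abs_hom_ext
  rw [Over.comp_left, Category.assoc, absMap_pr, ← Category.assoc, absLift_pr, absLift_pr]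

end Abs

end Groth.Agent.H50
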