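import Groth.Agent.H50.AbsSpec

set_option autoImplicit false
set_option backward.isDefEq.respectTransparency false
set_option linter.style.haveILetI false
universe u
open CategoryTheory CategoryTheory.Limits AlgebraicGeometry Opposite
open scoped TensorProduct

namespace Groth.Agent.H50

variable {S : Scheme.{u}}

/-- `Spec R ⟶ ⊤` is locally of finite presentation when `R` is a finitely presented
`ℤ`-algebra. -/
theorem lfp_terminal_from_spec (R : Type u) [CommRing R] [Algebra.FinitePresentation ℤ R] :
    LocallyOfFinitePresentation (terminal.from (Spec (CommRingCat.of R))) := by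
  let e : ⊤_ Scheme.{u} ≅ Spec (CommRingCat.of (ULift.{u} ℤ)) :=
    terminalIsTerminal.uniqueUpToIso specULiftZIsTerminal
  let g : ULift.{u} ℤ →+* R := (Int.castRingHom R).comp (ULift.ringEquiv : ULift.{u} ℤ ≃+* ℤ).toRingHom
  have h1 : terminal.from (Spec (CommRingCat.of R)) ≫ e.hom = Spec.map (CommRingCat.ofHom g) :=
    specULiftZIsTerminal.hom_ext _ _
  rw [← MorphismProperty.cancel_right_of_respectsIso @LocallyOfFinitePresentation _ e.hom, h1]
  rw [HasRingHomProperty.Spec_iff (P := @LocallyOfFinitePresentation)]
  change g.FinitePresentation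
  refine RingHom.FinitePresentation.comp ?_
    (RingHom.FinitePresentation.of_bijective (ULift.ringEquiv : ULift.{u} ℤ ≃+* ℤ).bijective)
  have : (Int.castRingHom R).toAlgebra = (inferInstance : Algebra ℤ R) := Subsingleton.elim _ _
  change @Algebra.FinitePresentation ℤ R _ _ (Int.castRingHom R).toAlgebra
  rw [this]
  infer_instance

/-- `Spec R × S ⟶ S` is locally of finite presentation when `R` is a finitely presented
`ℤ`-algebra. -/
theorem lfp_absV_hom (R : Type u) [CommRing R] [Algebra.FinitePresentation ℤ R] :
    LocallyOfFinitePresentation (absV S R).hom := by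
  have := lfp_terminal_from_spec R
  exact MorphismProperty.pullback_snd _ _ this

/-- `Spec R × S ⟶ S` is affine. -/
theorem isAffineHom_absV_hom (R : Type u) [CommRing R] : IsAffineHom (absV S R).hom := by
  have : IsAffineHom (terminal.from (Spec (CommRingCat.of R))) := by
    have : IsAffine (⊤_ Scheme.{u}) :=
      .of_isIso (terminalIsTerminal.uniqueUpToIso specULiftZIsTerminal).hom
    infer_instance
  exact MorphismProperty.pullback_snd _ _ this

/-- A pullback square of affine schemes over `S` against `Spec B₀ ⟶ Spec A₀` gives a pullback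
square over `S` against `Spec B₀ × S ⟶ Spec A₀ × S`. -/
theorem isPullback_abs_of_isPullback_spec {T L : Over S} (hT : IsAffine T.left)
    (hL : IsAffine L.left) (u : L ⟶ T)
    {A₀ B₀ : Type u} [CommRing A₀] [CommRing B₀] [Algebra A₀ B₀]
    (a : A₀ →+* Γ(T.left, ⊤)) (b : B₀ →+* Γ(L.left, ⊤))
    (h : IsPullback (Spec.map u.left.appTop) (Spec.map (CommRingCat.ofHom b))
      (Spec.map (CommRingCat.ofHom a)) (Spec.map (CommRingCat.ofHom (algebraMap A₀ B₀)))) :
    IsPullback u (absLift (Z := L) (L.left.isoSpec.hom ≫ Spec.map (CommRingCat.ofHom b)))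
      (absLift (Z := T) (T.left.isoSpec.hom ≫ Spec.map (CommRingCat.ofHom a)))
      (absMap (algebraMap A₀ B₀)) := by
  have hcomm : u ≫ absLift (Z := T) (T.left.isoSpec.hom ≫ Spec.map (CommRingCat.ofHom a)) =
      absLift (Z := L) (L.left.isoSpec.hom ≫ Spec.map (CommRingCat.ofHom b)) ≫
        absMap (algebraMap A₀ B₀) := by
    apply abs_hom_ext
    rw [Over.comp_left, Category.assoc, absLift_pr, Over.comp_left, Category.assoc, absMap_pr,
      absLift_pr_assoc, Category.assoc, ← h.w, ← Scheme.isoSpec_hom_naturality_assoc]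
  refine IsPullback.of_map (Over.forget S) hcomm ?_
  have h1 : IsPullback
      (absLift (Z := L) (L.left.isoSpec.hom ≫ Spec.map (CommRingCat.ofHom b))).left u.left
      (absMap (S := S) (algebraMap A₀ B₀)).left
      (absLift (Z := T) (T.left.isoSpec.hom ≫ Spec.map (CommRingCat.ofHom a))).left := by
    refine IsPullback.of_right ?_ (congrArg (fun k => k.left) hcomm).symm
      (isPullback_absMap (S := S) (algebraMap A₀ B₀)).flip
    rw [absLift_pr, absLift_pr]
    refine IsPullback.of_iso h.flip L.left.isoSpec.symm (Iso.refl _) T.left.isoSpec.symm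
      (Iso.refl _) ?_ ?_ ((Category.comp_id _).trans (Category.id_comp _).symm) ?_
    · rw [Iso.refl_hom, Category.comp_id, Iso.symm_hom, Iso.inv_hom_id_assoc]
    · rw [Iso.symm_hom, Iso.symm_hom, Scheme.isoSpec_inv_naturality]
    · rw [Iso.refl_hom, Category.comp_id, Iso.symm_hom, Iso.inv_hom_id_assoc]
  exact h1.flip

end Groth.Agent.H50
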