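import Groth.Prelude.Def_AlgSp3
import Mathlib

set_option autoImplicit false
set_option backward.isDefEq.respectTransparency false
universe u
open CategoryTheory CategoryTheory.Limits AlgebraicGeometry Opposite

namespace Groth.Agent.H50

open AlgSp

variable {S : Scheme.{u}}

theorem isAffineMor_of_isPullback {F G F' G' : Sp S} {f : F ⟶ G} {g : G' ⟶ G} {fst : F' ⟶ F}
    {snd : F' ⟶ G'} (sq : IsPullback fst snd f g) (hf : IsAffineMor f) : IsAffineMor snd := by
  intro Z hZ h
  obtain ⟨W, i, a, sqW, hW⟩ := hf hZ (h ≫ g)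
  obtain ⟨a', h1, h2⟩ := sq.exists_lift a ((yon S).map i ≫ h) (by rw [sqW.w, Category.assoc])
  refine ⟨W, i, a', ?_, hW⟩
  exact IsPullback.of_right (by rw [h1]; exact sqW) h2 sq

theorem isAffineMor_comp {F G H : Sp S} {a : F ⟶ G} {b : G ⟶ H} (ha : IsAffineMor a)
    (hb : IsAffineMor b) : IsAffineMor (a ≫ b) := by
  intro Z hZ h
  obtain ⟨W₁, i₁, c₁, sq₁, hW₁⟩ := hb hZ h
  obtain ⟨W₂, i₂, c₂, sq₂, hW₂⟩ := ha hW₁ c₁
  refine ⟨W₂, i₂ ≫ i₁, c₂, ?_, hW₂⟩
  rw [Functor.map_comp]
  exact sq₂.paste_vert sq₁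

theorem isAffineMor_of_repWith_isClosedImmersion {F G : Sp S} {d : F ⟶ G}
    (hd : RepWith @IsClosedImmersion d) : IsAffineMor d := by
  intro Z hZ h
  have sq := hd.rep.isPullback h
  have hcl : IsClosedImmersion (hd.rep.snd h).left := hd.property_snd h
  have : IsAffine Z.left := hZ
  exact ⟨_, _, _, sq, isAffine_of_isAffineHom (hd.rep.snd h).left⟩

/-- Cancellation for affine morphisms over a base with affine diagonal. -/
theorem isAffineMor_of_comp_of_diagonal {X Y B : Sp S} (g : X ⟶ Y) (q : Y ⟶ B)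
    (hp : IsAffineMor (g ≫ q)) (hΔ : IsAffineMor (pullback.diagonal q)) : IsAffineMor g := by
  have sqΓ := pullback_lift_diagonal_isPullback g q
  have h1 : IsAffineMor (pullback.lift (𝟙 X) g (by simp) : X ⟶ pullback (g ≫ q) q) :=
    isAffineMor_of_isPullback sqΓ hΔ
  have h2 : IsAffineMor (pullback.snd (g ≫ q) q) :=
    isAffineMor_of_isPullback (IsPullback.of_hasPullback (g ≫ q) q) hp
  have := isAffineMor_comp h1 h2
  rwa [pullback.lift_snd] at this

end Groth.Agent.H50
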