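import Groth.Agent.H50.AffineLocal

set_option autoImplicit false
set_option backward.isDefEq.respectTransparency false
universe u
open CategoryTheory CategoryTheory.Limits AlgebraicGeometry Opposite Topology
open scoped TensorProduct

namespace Groth.Agent.H50

open AlgSp

variable {S : Scheme.{u}}

/-- `IsAffineMor` is invariant under isomorphisms of the source. -/
theorem isAffineMor_of_iso_comp {F F' G : Sp S} (e : F' ≅ F) {f : F ⟶ G} (hf : IsAffineMor f) :
    IsAffineMor (e.hom ≫ f) := by
  intro Z hZ g
  obtain ⟨W, i, fst, sq, hW⟩ := hf hZ g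
  refine ⟨W, i, fst ≫ e.inv, ?_, hW⟩
  exact IsPullback.of_iso sq (Iso.refl _) e.symm (Iso.refl _) (Iso.refl _) (by simp) (by simp)
    (by simp) (by simp)

/-- A morphism of affine schemes is an affine morphism of sheaves. -/
theorem isAffineMor_yon_map_of_isAffine {W V : Over S} (m : W ⟶ V) (hW : IsAffine W.left)
    (hV : IsAffine V.left) : IsAffineMor ((yon S).map m) := by
  have h1 : RepWith @IsAffineHom ((yon S).map m) :=
    (repWith_yon_map_iff @IsAffineHom m).2 (inferInstanceAs (IsAffineHom m.left))
  intro Z hZ h
  have sq := h1.rep.isPullback h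
  have haff : IsAffineHom (h1.rep.snd h).left := h1.property_snd h
  have : IsAffine Z.left := hZ
  exact ⟨_, _, _, sq, isAffine_of_isAffineHom (h1.rep.snd h).left⟩

/-- A sheaf representable by an affine scheme is affine over any affine scheme. -/
theorem isAffineMor_of_iso_yon {P : Sp S} {W V : Over S} (e : (yon S).obj W ≅ P)
    (snd : P ⟶ (yon S).obj V) (hW : IsAffine W.left) (hV : IsAffine V.left) :
    IsAffineMor snd := by
  obtain ⟨m, hm⟩ := (yon S).map_surjective (e.hom ≫ snd)
  have h1 : IsAffineMor ((yon S).map m) := isAffineMor_yon_map_of_isAffine m hW hV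
  have h2 := isAffineMor_of_iso_comp e.symm h1
  rwa [hm, Iso.symm_hom, Iso.inv_hom_id_assoc] at h2

end Groth.Agent.H50
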