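import Groth.Agent.H50.AffineLocal2

set_option autoImplicit false
set_option backward.isDefEq.respectTransparency false
universe u
open CategoryTheory CategoryTheory.Limits AlgebraicGeometry Opposite Topology
open scoped TensorProduct

namespace Groth.Agent.H50

open AlgSp

variable {S : Scheme.{u}}

/-- If `X ×_Y V` is an affine scheme for every affine scheme `V` étale over `Y`, then `f` is affine. -/
theorem isAffineMor_of_forall_affine_etale {X Y : Sp S} (f : X ⟶ Y)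
    (hatlas : ∃ (U : Over S) (p : (yon S).obj U ⟶ Y), RepWith @Etale p ∧ RepWith @Surjective p)
    (h : ∀ (V : Over S), IsAffine V.left → ∀ (b : (yon S).obj V ⟶ Y), RepWith @Etale b →
      ∀ (P : Sp S) (fst : P ⟶ X) (snd : P ⟶ (yon S).obj V), IsPullback fst snd f b →
      ∃ (W : Over S), IsAffine W.left ∧ Nonempty ((yon S).obj W ≅ P)) :
    IsAffineMor f := by
  intro Z hZ g
  obtain ⟨U, pU, hpU1, hpU2⟩ := hatlas
  obtain ⟨UZ, a, b, sqU⟩ := hpU1.1 g
  obtain ⟨b', rfl⟩ := (yon S).map_surjective b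
  have hae : Etale a.left := hpU1.2 g _ a sqU
  have has : Surjective a.left := hpU2.2 g _ a sqU
  let 𝒰 := U.left.affineCover
  let O : 𝒰.I₀ → UZ.left.Opens := fun i => b'.left ⁻¹ᵁ (𝒰.f i).opensRange
  have hopen : ∀ i, IsOpen (a.left '' (O i : Set UZ.left)) :=
    fun i => a.left.isOpenMap _ (O i).2
  have hcov : (Set.univ : Set Z.left) ⊆ ⋃ i, a.left '' (O i : Set UZ.left) := by
    intro x _
    obtain ⟨y, rfl⟩ := a.left.surjective x
    obtain ⟨i, z, hz⟩ := 𝒰.exists_eq (b'.left y)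
    exact Set.mem_iUnion.2 ⟨i, y, ⟨z, hz⟩, rfl⟩
  obtain ⟨t, ht⟩ := isCompact_univ.elim_finite_subcover _ hopen hcov
  -- the two finite coproducts
  let Zs : Scheme.{u} := ∐ (fun i : t => ((O i.1 : UZ.left.Opens) : Scheme.{u}))
  let πZ : Zs ⟶ UZ.left := Sigma.desc (fun i => (O i.1).ι)
  have hπZe : Etale πZ := IsZariskiLocalAtSource.sigmaDesc (fun i => inferInstance)
  let Vs : Scheme.{u} := ∐ (fun i : t => 𝒰.X i.1)
  let πV : Vs ⟶ U.left := Sigma.desc (fun i => 𝒰.f i.1)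
  have hπVe : Etale πV := IsZariskiLocalAtSource.sigmaDesc (fun i => inferInstance)
  have hVs : IsAffine Vs := inferInstance
  let lift : ∀ i : t, ((O i.1 : UZ.left.Opens) : Scheme.{u}) ⟶ 𝒰.X i.1 := fun i =>
    IsOpenImmersion.lift (𝒰.f i.1) ((O i.1).ι ≫ b'.left) (by
      rintro _ ⟨y, rfl⟩
      exact y.2)
  have hlift : ∀ i : t, lift i ≫ 𝒰.f i.1 = (O i.1).ι ≫ b'.left :=
    fun i => IsOpenImmersion.lift_fac _ _ _
  let bs : Zs ⟶ Vs := Limits.Sigma.map lift
  have hbs : bs ≫ πV = πZ ≫ b'.left := by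
    apply Sigma.hom_ext
    intro i
    rw [Sigma.ι_map_assoc, Sigma.ι_desc, Sigma.ι_desc_assoc, hlift]
  let VZ : Over S := Over.mk (πZ ≫ UZ.hom)
  let kZ : VZ ⟶ UZ := Over.homMk πZ rfl
  let V : Over S := Over.mk (πV ≫ U.hom)
  let kV : V ⟶ U := Over.homMk πV rfl
  let bO : VZ ⟶ V := Over.homMk bs (by
    change bs ≫ πV ≫ U.hom = πZ ≫ UZ.hom
    rw [← Category.assoc, hbs, Category.assoc, Over.w b'])
  have hbk : bO ≫ kV = kZ ≫ b' := by
    ext
    exact hbs
  let p : (yon S).obj V ⟶ Y := (yon S).map kV ≫ pU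
  have hp : RepWith @Etale p :=
    (RepWith @Etale).comp_mem _ _ ((repWith_yon_map_iff _ _).2 hπVe) hpU1
  have hb : (yon S).map bO ≫ p = (yon S).map (kZ ≫ a) ≫ g := by
    rw [← Category.assoc, ← Functor.map_comp, hbk, Functor.map_comp, Category.assoc, sqU.w,
      Functor.map_comp, Category.assoc]
  have hce : Etale (kZ ≫ a).left := by
    change Etale (πZ ≫ a.left)
    infer_instance
  have hcs : Surjective (kZ ≫ a).left := by
    refine ⟨fun x => ?_⟩
    obtain ⟨i, hi, y, hy, hyx⟩ : ∃ i, i ∈ t ∧ ∃ y, y ∈ (O i : Set UZ.left) ∧ a.left y = x := by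
      simpa using ht (Set.mem_univ x)
    refine ⟨(Sigma.ι (fun i : t => ((O i.1 : UZ.left.Opens) : Scheme.{u})) ⟨i, hi⟩) ⟨y, hy⟩, ?_⟩
    change (πZ ≫ a.left) _ = x
    rw [← Scheme.Hom.comp_apply, ← Category.assoc, Sigma.ι_desc]
    exact hyx
  -- the chart `V` is affine and étale over `Y`
  have sqP : IsPullback (pullback.fst f p) (pullback.snd f p) f p := IsPullback.of_hasPullback f p
  obtain ⟨W, hW, ⟨e⟩⟩ := h V hVs p hp _ _ _ sqP
  have hsnd : IsAffineMor (pullback.snd f p) := isAffineMor_of_iso_yon e _ hW hVs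
  exact exists_affine_pullback_of_etale_local f hZ g (kZ ≫ a) hce hcs p bO hb _ _ sqP hsnd

end Groth.Agent.H50
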