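import Groth.Agent.H50.AffineLocal3
import Groth.Agent.H1.Descent

set_option autoImplicit false
set_option backward.isDefEq.respectTransparency false
universe u
open CategoryTheory CategoryTheory.Limits AlgebraicGeometry Opposite Topology
open scoped TensorProduct

namespace Groth.Agent.H50

open AlgSp

variable {S : Scheme.{u}}

/-- Effective descent of affine schemes, together with the descent square. -/
theorem exists_affine_of_descent' {T T' W' : Over S} (hT : IsAffine T.left)
    (hT' : IsAffine T'.left) (hW' : IsAffine W'.left) (c : T' ⟶ T) (w : W' ⟶ T') {F : Sp S}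
    (π : F ⟶ (yon S).obj T) (q : (yon S).obj W' ⟶ F)
    (sq : IsPullback q ((yon S).map w) π ((yon S).map c))
    (hfl : Flat c.left) (hfp : LocallyOfFinitePresentation c.left) (hsurj : Surjective c.left) :
    ∃ (W : Over S) (i : W ⟶ T) (e : (yon S).obj W ≅ F) (j : W' ⟶ W),
      IsAffine W.left ∧ e.hom ≫ π = (yon S).map i ∧ (yon S).map j ≫ e.hom = q ∧
      IsPullback j w i c := by
  obtain ⟨W, i, e, hW, he⟩ := exists_affine_of_descent hT hT' hW' c w π q sq hfl hfp hsurj
  obtain ⟨j, hj⟩ := (yon S).map_surjective (q ≫ e.inv)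
  have hje : (yon S).map j ≫ e.hom = q := by rw [hj, Category.assoc, Iso.inv_hom_id, Category.comp_id]
  have sqY : IsPullback ((yon S).map j) ((yon S).map w) ((yon S).map i) ((yon S).map c) := by
    refine IsPullback.of_iso sq (Iso.refl _) e.symm (Iso.refl _) (Iso.refl _) ?_ (by simp) ?_
      (by simp)
    · simp [hj]
    · simp [← he]
  refine ⟨W, i, e, j, hW, he, hje, ?_⟩
  refine IsPullback.of_map (yon S) ?_ sqY
  apply (yon S).map_injective
  rw [Functor.map_comp, Functor.map_comp, sqY.w]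

/-- The fibre of `f` over an affine scheme `Z` is an affine scheme, with a descent square. -/
theorem exists_affine_pullback_of_fppf_local' {X Y : Sp S} (f : X ⟶ Y) {Z Z' W' : Over S}
    (hZ : IsAffine Z.left) (hZ' : IsAffine Z'.left) (hW' : IsAffine W'.left)
    (g : (yon S).obj Z ⟶ Y)
    (c : Z' ⟶ Z) (hfl : Flat c.left) (hfp : LocallyOfFinitePresentation c.left)
    (hsurj : Surjective c.left) (i' : W' ⟶ Z') (fst' : (yon S).obj W' ⟶ X)
    (sq' : IsPullback fst' ((yon S).map i') f ((yon S).map c ≫ g)) :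
    ∃ (W : Over S) (i : W ⟶ Z) (fst'' : (yon S).obj W ⟶ X) (j : W' ⟶ W),
      IsPullback fst'' ((yon S).map i) f g ∧ IsAffine W.left ∧ IsPullback j i' i c := by
  let F : Sp S := pullback f g
  let π : F ⟶ (yon S).obj Z := pullback.snd f g
  have sqF : IsPullback (pullback.fst f g) π f g := IsPullback.of_hasPullback f g
  let q : (yon S).obj W' ⟶ F := sqF.lift fst' ((yon S).map i' ≫ (yon S).map c)
    (by rw [sq'.w, Category.assoc])
  have hq1 : q ≫ pullback.fst f g = fst' := sqF.lift_fst _ _ _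
  have hq2 : q ≫ π = (yon S).map i' ≫ (yon S).map c := sqF.lift_snd _ _ _
  have sq : IsPullback q ((yon S).map i') π ((yon S).map c) := by
    refine IsPullback.of_right ?_ hq2 sqF
    rw [hq1]
    exact sq'
  obtain ⟨W, i, e, j, hW, he, hje, sqW⟩ :=
    exists_affine_of_descent' hZ hZ' hW' c i' π q sq hfl hfp hsurj
  refine ⟨W, i, e.hom ≫ pullback.fst f g, j, ?_, hW, sqW⟩
  refine IsPullback.of_iso sqF e.symm (Iso.refl _) (Iso.refl _) (Iso.refl _) ?_ ?_ (by simp)
    (by simp)
  · simp
  · simp [← he]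

/-- A property of morphisms of schemes satisfying fpqc descent descends to the fibre over `Z`. -/
theorem exists_affine_pullback_with_property (Pr : MorphismProperty Scheme.{u})
    [Pr.DescendsAlong (@Surjective ⊓ @Flat ⊓ @QuasiCompact)]
    {X Y : Sp S} (f : X ⟶ Y) {Z VZ V : Over S}
    (hZ : IsAffine Z.left) (g : (yon S).obj Z ⟶ Y)
    (a : VZ ⟶ Z) (hae : Etale a.left) (has : Surjective a.left)
    (p : (yon S).obj V ⟶ Y) (b : VZ ⟶ V)
    (hb : (yon S).map b ≫ p = (yon S).map a ≫ g)
    {P : Sp S} (fst : P ⟶ X) (snd : P ⟶ (yon S).obj V) (sqP : IsPullback fst snd f p)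
    (h : ∀ ⦃Z' : Over S⦄, IsAffine Z'.left → ∀ (g' : (yon S).obj Z' ⟶ (yon S).obj V),
      ∃ (W' : Over S) (i' : W' ⟶ Z') (fst' : (yon S).obj W' ⟶ P),
        IsPullback fst' ((yon S).map i') snd g' ∧ IsAffine W'.left ∧ Pr i'.left) :
    ∃ (W : Over S) (i : W ⟶ Z) (fst' : (yon S).obj W ⟶ X),
      IsPullback fst' ((yon S).map i) f g ∧ IsAffine W.left ∧ Pr i.left := by
  obtain ⟨Z', k, hZ', hke, hks⟩ := exists_affine_etale_refinement hZ a hae has
  have hce : Etale (k ≫ a).left := by
    change Etale (k.left ≫ a.left)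
    infer_instance
  obtain ⟨W', i', fst', sq', hW', hPr⟩ := h hZ' ((yon S).map (k ≫ b))
  have sqbig : IsPullback (fst' ≫ fst) ((yon S).map i') f ((yon S).map (k ≫ a) ≫ g) := by
    have := sq'.paste_horiz sqP
    rwa [Functor.map_comp, Category.assoc, hb, ← Category.assoc, ← Functor.map_comp] at this
  obtain ⟨W, i, fst'', j, sqW, hW, sqD⟩ := exists_affine_pullback_of_fppf_local' f hZ hZ' hW' g
    (k ≫ a) inferInstance inferInstance hks i' (fst' ≫ fst) sqbig
  refine ⟨W, i, fst'', sqW, hW, ?_⟩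
  have sqL : IsPullback i'.left j.left (k ≫ a).left i.left := (sqD.map (Over.forget S)).flip
  have : IsAffine Z.left := hZ
  have : IsAffine Z'.left := hZ'
  refine MorphismProperty.of_isPullback_of_descendsAlong
    (Q := @Surjective ⊓ @Flat ⊓ @QuasiCompact) sqL ⟨⟨hks, inferInstance⟩, inferInstance⟩ hPr

end Groth.Agent.H50
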