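import Groth.Agent.H50.DescentAffine2

set_option autoImplicit false
set_option backward.isDefEq.respectTransparency false
universe u
open CategoryTheory CategoryTheory.Limits AlgebraicGeometry Opposite Topology
open scoped TensorProduct

namespace Groth.Agent.H50

open AlgSp

variable {S : Scheme.{u}}

/-- An étale surjective morphism onto an affine scheme is refined by an affine étale surjective
one. -/
theorem exists_affine_etale_refinement {Z V : Over S} (hZ : IsAffine Z.left) (v : V ⟶ Z)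
    (hve : Etale v.left) (hvs : Surjective v.left) :
    ∃ (Z' : Over S) (k : Z' ⟶ V), IsAffine Z'.left ∧ Etale k.left ∧ Surjective (k ≫ v).left := by
  let 𝒰 := V.left.affineCover
  have hopen : ∀ i, IsOpen (Set.range (𝒰.f i ≫ v.left)) :=
    fun i => (𝒰.f i ≫ v.left).isOpenMap.isOpen_range
  have hcov : (Set.univ : Set Z.left) ⊆ ⋃ i, Set.range (𝒰.f i ≫ v.left) := by
    intro x _
    obtain ⟨y, rfl⟩ := v.left.surjective x
    obtain ⟨i, z, rfl⟩ := 𝒰.exists_eq y
    exact Set.mem_iUnion.2 ⟨i, z, by simp⟩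
  obtain ⟨t, ht⟩ := isCompact_univ.elim_finite_subcover _ hopen hcov
  let Ũ : Scheme.{u} := ∐ (fun i : t => 𝒰.X i.1)
  let π : Ũ ⟶ V.left := Sigma.desc (fun i => 𝒰.f i.1)
  have hπe : Etale π := IsZariskiLocalAtSource.sigmaDesc (fun i => inferInstance)
  have hŨ : IsAffine Ũ := inferInstance
  let Z' : Over S := Over.mk (π ≫ V.hom)
  let k : Z' ⟶ V := Over.homMk π rfl
  refine ⟨Z', k, hŨ, hπe, ⟨fun x => ?_⟩⟩
  obtain ⟨i, hi, z, hz⟩ : ∃ i, i ∈ t ∧ ∃ z, (𝒰.f i ≫ v.left) z = x := by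
    simpa using ht (Set.mem_univ x)
  refine ⟨(Sigma.ι (fun i : t => 𝒰.X i.1) ⟨i, hi⟩) z, ?_⟩
  change (π ≫ v.left) ((Sigma.ι (fun i : t => 𝒰.X i.1) ⟨i, hi⟩) z) = x
  rw [← Scheme.Hom.comp_apply, ← Category.assoc, Sigma.ι_desc]
  exact hz

end Groth.Agent.H50
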