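import Groth.Agent.H50.CartierBCRing
import Groth.Agent.H54.IdealComap
import Groth.Agent.S10855

set_option autoImplicit false
set_option backward.isDefEq.respectTransparency false
universe u
open CategoryTheory CategoryTheory.Limits AlgebraicGeometry
open scoped TensorProduct

namespace Groth.Agent.H50

open Scheme.IdealSheafData in
/-- Affine core of the base change of effective Cartier divisors which are flat over the base. -/
theorem comap_ideal_top_of_isPullback_affine {P X S S' : Scheme.{u}} [IsAffine X] [IsAffine S]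
    [IsAffine S'] [IsAffine P] {pr : P ⟶ X} {q : P ⟶ S'} {f : X ⟶ S} {g : S' ⟶ S}
    (H : IsPullback pr q f g) (D : X.IdealSheafData) (t : Γ(X, ⊤))
    (ht : t ∈ nonZeroDivisors Γ(X, ⊤))
    (hD : D.ideal ⟨⊤, isAffineOpen_top X⟩ = Ideal.span {t}) [Flat (D.subschemeι ≫ f)] :
    pr.appTop.hom t ∈ nonZeroDivisors Γ(P, ⊤) ∧
      (D.comap pr).ideal ⟨⊤, isAffineOpen_top P⟩ = Ideal.span {pr.appTop.hom t} := by
  constructor
  · have hpo : IsPushout f.appTop g.appTop pr.appTop q.appTop := isPushout_appTop_of_isPullback H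
    have hZ : IsAffine D.subscheme := isAffine_of_isAffineHom D.subschemeι
    have hflat : (D.subschemeι ≫ f).appTop.hom.Flat :=
      HasRingHomProperty.appTop (P := @Flat) (D.subschemeι ≫ f) inferInstance
    rw [Scheme.Hom.comp_appTop] at hflat
    refine nzd_of_isPushout_of_flat_quotient f.appTop g.appTop pr.appTop q.appTop hpo
      D.subschemeι.appTop ?_ t ht ?_ hflat
    · exact D.subschemeι_app_surjective ⟨⊤, isAffineOpen_top X⟩
    · rw [← hD]
      exact D.ker_subschemeι_app ⟨⊤, isAffineOpen_top X⟩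
  · rw [Groth.Agent.H54.comap_ideal_top_of_isAffine pr D, hD, Ideal.map_span, Set.image_singleton]

end Groth.Agent.H50

namespace Groth.Agent.H50

open Scheme.IdealSheafData in
/-- Transport of a principal generator along an open immersion: from the pulled-back ideal to the
ideal on the image. -/
theorem ideal_image_of_comap_span {P₁ P : Scheme.{u}} (j : P₁ ⟶ P) [IsOpenImmersion j]
    (𝓙 : P.IdealSheafData) (U₁ : P₁.affineOpens) (s : Γ(P₁, U₁.1))
    (hs : s ∈ nonZeroDivisors Γ(P₁, U₁.1)) (h : (𝓙.comap j).ideal U₁ = Ideal.span {s}) :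
    (j.appIso U₁.1).inv.hom s ∈ nonZeroDivisors Γ(P, j ''ᵁ U₁.1) ∧
      𝓙.ideal ⟨j ''ᵁ U₁.1, U₁.2.image_of_isOpenImmersion j⟩ =
        Ideal.span {(j.appIso U₁.1).inv.hom s} := by
  constructor
  · let e := (j.appIso U₁.1).commRingCatIsoToRingEquiv
    exact mem_nonZeroDivisors_of_injective (f := e) e.injective
      (by rw [show e ((j.appIso U₁.1).inv.hom s) = s from e.apply_symm_apply s]; exact hs)
  · have hL := ideal_comap_of_isOpenImmersion 𝓙 j U₁
    set K := 𝓙.ideal ⟨j ''ᵁ U₁.1, U₁.2.image_of_isOpenImmersion j⟩ with hK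
    have h3 : K = Ideal.map (j.appIso U₁.1).inv.hom (Ideal.comap (j.appIso U₁.1).inv.hom K) := by
      rw [Ideal.map_comap_of_surjective]
      exact (ConcreteCategory.bijective_of_isIso (j.appIso U₁.1).inv).2
    rw [h3, ← hL, h, Ideal.map_span, Set.image_singleton]

open Scheme.IdealSheafData in
/-- A principal generator on an affine open gives a principal generator of the restricted ideal
sheaf on the open subscheme. -/
theorem comap_ι_ideal_top_of_span {X : Scheme.{u}} (D : X.IdealSheafData) (V : X.affineOpens)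
    (t : Γ(X, V.1)) (ht : t ∈ nonZeroDivisors Γ(X, V.1)) (hI : D.ideal V = Ideal.span {t}) :
    ∃ t₁ : Γ(V.1.toScheme, ⊤), t₁ ∈ nonZeroDivisors Γ(V.1.toScheme, ⊤) ∧
      (D.comap V.1.ι).ideal ⟨⊤, isAffineOpen_top _⟩ = Ideal.span {t₁} := by
  have eV : V.1.ι ''ᵁ ⊤ = V.1 := by simp
  have hV' : IsAffineOpen (V.1.ι ''ᵁ ⊤) := by rw [eV]; exact V.2
  have transport : ∀ (W : X.Opens) (hW : IsAffineOpen W), W = V.1 →
      ∃ t' : Γ(X, W), t' ∈ nonZeroDivisors Γ(X, W) ∧ D.ideal ⟨W, hW⟩ = Ideal.span {t'} := by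
    rintro W hW rfl
    exact ⟨t, ht, hI⟩
  obtain ⟨t', ht', hI'⟩ := transport _ hV' eV
  have hR2 := ideal_comap_of_isOpenImmersion D V.1.ι ⟨⊤, isAffineOpen_top _⟩
  refine ⟨(V.1.ι.appIso ⊤).hom.hom t', ?_, ?_⟩
  · let e := (V.1.ι.appIso ⊤).commRingCatIsoToRingEquiv
    exact mem_nonZeroDivisors_of_injective (f := e.symm) e.symm.injective
      (by rw [show e.symm ((V.1.ι.appIso ⊤).hom.hom t') = t' from e.symm_apply_apply t']; exact ht')
  · rw [hR2, hI', Groth.Agent.H54.comap_inv_span_singleton]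

/-- An effective Cartier ideal has principal generators on arbitrarily small affine opens. -/
theorem exists_small_generator {X : Scheme.{u}} (D : X.IdealSheafData)
    (hD : BlowUp.IsEffCartierIdeal D) (x : X) (O : X.Opens) (hx : x ∈ O) :
    ∃ V : X.affineOpens, x ∈ V.1 ∧ V.1 ≤ O ∧
      ∃ t : Γ(X, V.1), t ∈ nonZeroDivisors Γ(X, V.1) ∧ D.ideal V = Ideal.span {t} := by
  have h0 := Groth.Agent.S10855.result O.ι D hD
  obtain ⟨V₀, hxV₀, t₀, ht₀, hI₀⟩ := h0 ⟨x, hx⟩
  obtain ⟨h1, h2⟩ := ideal_image_of_comap_span O.ι D V₀ t₀ ht₀ hI₀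
  refine ⟨⟨O.ι ''ᵁ V₀.1, V₀.2.image_of_isOpenImmersion O.ι⟩, ⟨⟨x, hx⟩, hxV₀, rfl⟩, ?_, _, h1, h2⟩
  rintro _ ⟨y, -, rfl⟩
  exact y.2

end Groth.Agent.H50

namespace Groth.Agent.H50

open Scheme.IdealSheafData in
/-- Base change of an effective Cartier divisor which is flat over the base. -/
theorem isEffCartierIdeal_comap_of_isPullback {P X S S' : Scheme.{u}} {pr : P ⟶ X} {q : P ⟶ S'}
    {f : X ⟶ S} {g : S' ⟶ S} (H : IsPullback pr q f g) (D : X.IdealSheafData)
    (hD : BlowUp.IsEffCartierIdeal D) [Flat (D.subschemeι ≫ f)] :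
    BlowUp.IsEffCartierIdeal (D.comap pr) := by
  intro x'
  -- affine opens of the bases
  obtain ⟨W, hW, hxW, -⟩ := exists_isAffineOpen_mem_and_subset (x := f (pr x')) (U := ⊤) trivial
  have hgq : g (q x') = f (pr x') := by
    rw [← Scheme.Hom.comp_apply, ← H.w, Scheme.Hom.comp_apply]
  obtain ⟨W', hW', hxW', hW'W⟩ := exists_isAffineOpen_mem_and_subset (x := q x') (U := g ⁻¹ᵁ W)
    (by change g (q x') ∈ W; rw [hgq]; exact hxW)
  obtain ⟨V, hxV, hVW, t, ht, hI⟩ := exists_small_generator D hD (pr x') (f ⁻¹ᵁ W) hxW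
  let U : P.Opens := pr ⁻¹ᵁ V.1 ⊓ q ⁻¹ᵁ W'
  have hxU : x' ∈ U := ⟨hxV, hxW'⟩
  have Hres := Scheme.Hom.isPullback_resLE H hW'W hVW (UY := U) rfl
  have : IsAffine V.1.toScheme := V.2
  have : IsAffine W.toScheme := hW
  have : IsAffine W'.toScheme := hW'
  have : IsAffine U.toScheme := IsAffine.of_isPullback Hres
  -- the restricted divisor
  obtain ⟨t₁, ht₁, hD₁⟩ := comap_ι_ideal_top_of_span D V t ht hI
  have hflat : Flat ((D.comap V.1.ι).subschemeι ≫ f.resLE W V.1 hVW) := by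
    have h1 : ((D.comap V.1.ι).subschemeι ≫ f.resLE W V.1 hVW) ≫ W.ι =
        (D.comapIso V.1.ι).hom ≫ pullback.snd V.1.ι D.subschemeι ≫ (D.subschemeι ≫ f) := by
      rw [Category.assoc, Scheme.Hom.resLE_comp_ι, ← comapIso_hom_fst, Category.assoc,
        ← Category.assoc (pullback.fst _ _), pullback.condition]
      simp only [Category.assoc]
    have h2 : Flat (((D.comap V.1.ι).subschemeι ≫ f.resLE W V.1 hVW) ≫ W.ι) := by
      rw [h1]
      infer_instance
    exact MorphismProperty.of_postcomp (W := @Flat)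
      (W' := MorphismProperty.monomorphisms Scheme.{u}) _ W.ι
      (MorphismProperty.monomorphisms.infer_property _) h2
  obtain ⟨hnzd, hideal⟩ := comap_ideal_top_of_isPullback_affine Hres (D.comap V.1.ι) t₁ ht₁ hD₁
  have hcomap : (D.comap V.1.ι).comap (pr.resLE V.1 U (by simp [U])) = (D.comap pr).comap U.ι := by
    rw [← comap_comp, ← comap_comp, Scheme.Hom.resLE_comp_ι]
  rw [hcomap] at hideal
  obtain ⟨hs', hJ⟩ := ideal_image_of_comap_span U.ι (D.comap pr) ⟨⊤, isAffineOpen_top _⟩ _ hnzd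
    hideal
  refine ⟨⟨U.ι ''ᵁ ⊤, (isAffineOpen_top _).image_of_isOpenImmersion U.ι⟩, ?_, _, hs', hJ⟩
  exact ⟨⟨x', hxU⟩, trivial, rfl⟩

end Groth.Agent.H50
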