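import Mathlib

set_option autoImplicit false
universe u
open CategoryTheory CategoryTheory.Limits
open scoped TensorProduct

namespace Groth.Agent.H50

/-- If `t` is a nonzerodivisor of `B` with `B/(t)` flat over `A`, then the image of `t` in any base
change `B ⊗_A A'` (presented as a pushout) is a nonzerodivisor. -/
theorem nzd_of_isPushout_of_flat_quotient {A B A' C Bq : CommRingCat.{u}} (a : A ⟶ B) (a' : A ⟶ A')
    (φ : B ⟶ C) (φ' : A' ⟶ C) (hpo : IsPushout a a' φ φ') (ψ : B ⟶ Bq)
    (hψ : Function.Surjective ψ.hom) (t : B) (ht : t ∈ nonZeroDivisors B)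
    (hker : RingHom.ker ψ.hom = Ideal.span {t}) (hflat : (a ≫ ψ).hom.Flat) :
    φ.hom t ∈ nonZeroDivisors C := by
  let _ : Algebra A B := a.hom.toAlgebra
  let _ : Algebra A A' := a'.hom.toAlgebra
  let _ : Algebra A Bq := (a ≫ ψ).hom.toAlgebra
  have : Module.Flat A Bq := hflat
  let g : B →ₗ[A] B := LinearMap.mulLeft A t
  let fψ : B →ₗ[A] Bq :=
    { toFun := ψ.hom
      map_add' := map_add _
      map_smul' := by
        intro r b
        rw [Algebra.smul_def, map_mul, Algebra.smul_def]
        rfl }
  have hg : Function.Injective g := by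
    intro x y hxy
    have h1 : t * x = t * y := hxy
    have h2 : t * (x - y) = 0 := by rw [mul_sub, h1, sub_self]
    have h3 := (mem_nonZeroDivisors_iff_right.1 ht) (x - y) (by rw [mul_comm]; exact h2)
    exact sub_eq_zero.1 h3
  have hex : Function.Exact g fψ := by
    intro b
    change ψ.hom b = 0 ↔ b ∈ Set.range g
    rw [← RingHom.mem_ker, hker, Ideal.mem_span_singleton']
    constructor
    · rintro ⟨c, hc⟩
      exact ⟨c, by change t * c = b; rw [mul_comm]; exact hc⟩
    · rintro ⟨c, hc⟩
      exact ⟨c, by rw [mul_comm]; exact hc⟩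
  have hinj : Function.Injective (g.lTensor A') :=
    LinearMap.lTensor_injective_of_exact_of_flat fψ hψ g hg hex A'
  have hmul : ∀ y : A' ⊗[A] B, (g.lTensor A') y = y * ((1 : A') ⊗ₜ[A] t) := by
    intro y
    induction y using TensorProduct.induction_on with
    | zero => simp
    | tmul x b =>
      rw [LinearMap.lTensor_tmul, Algebra.TensorProduct.tmul_mul_tmul, mul_one]
      change x ⊗ₜ[A] (t * b) = _
      rw [mul_comm]
    | add y z hy hz => rw [map_add, hy, hz, add_mul]
  have hstd := CommRingCat.isPushout_tensorProduct A A' B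
  let e : C ≅ CommRingCat.of (A' ⊗[A] B) := hpo.flip.isoIsPushout _ _ hstd
  have he : φ ≫ e.hom = CommRingCat.ofHom
      (Algebra.TensorProduct.includeRight (R := A) (A := A') (B := B)).toRingHom :=
    IsPushout.inr_isoIsPushout_hom _ _ hpo.flip hstd
  rw [mem_nonZeroDivisors_iff_right]
  intro c hc
  have h1 : e.hom.hom c * ((1 : A') ⊗ₜ[A] t) = 0 := by
    have h2 : e.hom.hom (φ.hom t) = (1 : A') ⊗ₜ[A] t := by
      have := congrArg (fun k => k.hom t) he
      exact this
    rw [← h2, ← map_mul, hc, map_zero]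
  rw [← hmul] at h1
  have h3 : e.hom.hom c = 0 := hinj (by rw [h1, map_zero])
  have h4 : e.inv.hom (e.hom.hom c) = c := by
    have := congrArg (fun k => k.hom c) e.hom_inv_id
    exact this
  rw [← h4, h3, map_zero]

end Groth.Agent.H50
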