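import Groth.Agent.H50.FlatOpen
import Groth.Agent.S10855
import Groth.Prelude.Def_AlgSpSub

set_option autoImplicit false
set_option backward.isDefEq.respectTransparency false
universe u
open CategoryTheory CategoryTheory.Limits AlgebraicGeometry Opposite Topology

namespace Groth.Agent.H50

open AlgSp

variable {S : Scheme.{u}}

/-- The closed subscheme of the pulled back ideal sheaf is the pullback of the closed subscheme. -/
theorem isPullback_subschemeι_comap {X Y : Scheme.{u}} (f : X ⟶ Y) (I : Y.IdealSheafData) :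
    IsPullback ((I.comapIso f).hom ≫ pullback.snd f I.subschemeι) (I.comap f).subschemeι
      I.subschemeι f := by
  have h := IsPullback.of_hasPullback f I.subschemeι
  refine (IsPullback.of_iso_pullback ⟨?_⟩ (I.comapIso f) ?_ ?_).flip
  · rw [Category.assoc, ← pullback.condition, Scheme.IdealSheafData.comapIso_hom_fst_assoc]
  · exact Scheme.IdealSheafData.comapIso_hom_fst I f
  · rfl

/-- The inverse image of an effective Cartier divisor under a flat morphism of algebraic spaces is
an effective Cartier divisor. -/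
theorem isEffCartierSub_of_isPullback_flat {X Y D P : Sp S} (hX : IsAlgSpace X) (hY : IsAlgSpace Y)
    (f : X ⟶ Y) (hf : LocP @Flat f) (i : D ⟶ Y) (hD : IsEffCartierSub i)
    (fst : P ⟶ D) (snd : P ⟶ X) (sq : IsPullback fst snd i f) : IsEffCartierSub snd := by
  obtain ⟨hi, V₀, φ, I, fst₀, hφ1, hφ2, sq₀, hI⟩ := hD
  refine ⟨MorphismProperty.of_isPullback sq hi, ?_⟩
  have sqV := IsPullback.of_hasPullback f φ
  have hXV : IsAlgSpace (pullback f φ) :=
    Groth.Agent.H49.isAlgSpace_of_isPullback sqV hY.diag hX (IsAlgSpace.yon_obj V₀)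
  obtain ⟨U, c, hc1, hc2⟩ := hXV.atlas
  have hfst1 : RepWith @Etale (pullback.fst f φ) := MorphismProperty.of_isPullback sqV.flip hφ1
  have hfst2 : RepWith @Surjective (pullback.fst f φ) :=
    MorphismProperty.of_isPullback sqV.flip hφ2
  have hψ1 : RepWith @Etale (c ≫ pullback.fst f φ) := (RepWith @Etale).comp_mem _ _ hc1 hfst1
  have hψ2 : RepWith @Surjective (c ≫ pullback.fst f φ) :=
    (RepWith @Surjective).comp_mem _ _ hc2 hfst2
  obtain ⟨h, hh⟩ := (yon S).map_surjective (c ≫ pullback.snd f φ)
  have comm : (c ≫ pullback.fst f φ) ≫ f = (yon S).map h ≫ φ := by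
    rw [Category.assoc, pullback.condition, ← Category.assoc, hh]
  have hflat : Flat h.left := hf _ φ h hψ1 hφ1 comm
  have hI' : BlowUp.IsEffCartierIdeal (I.comap h.left) := Groth.Agent.S10855.result h.left I hI
  have sqSch := isPullback_subschemeι_comap h.left I
  -- the scheme-level pullback square, over `S`
  let k : Over.mk ((I.comap h.left).subschemeι ≫ U.hom) ⟶ Over.mk (I.subschemeι ≫ V₀.hom) :=
    Over.homMk ((I.comapIso h.left).hom ≫ pullback.snd h.left I.subschemeι) (by
      change ((I.comapIso h.left).hom ≫ pullback.snd h.left I.subschemeι) ≫ I.subschemeι ≫ V₀.hom =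
        (I.comap h.left).subschemeι ≫ U.hom
      rw [← Category.assoc, sqSch.w, Category.assoc, Over.w h])
  have sqS : IsPullback k
      (Over.homMk (I.comap h.left).subschemeι rfl :
        Over.mk ((I.comap h.left).subschemeι ≫ U.hom) ⟶ U)
      (Over.homMk I.subschemeι rfl : Over.mk (I.subschemeι ≫ V₀.hom) ⟶ V₀) h := by
    refine IsPullback.of_map (Over.forget S) ?_ ?_
    · ext
      exact sqSch.w
    · exact sqSch
  have sqS' := sqS.map (yon S)
  have outer := IsPullback.paste_horiz sqS' sq₀
  rw [← comm] at outer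
  have hl : ((yon S).map k ≫ fst₀) ≫ i =
      ((yon S).map (Over.homMk (I.comap h.left).subschemeι rfl :
        Over.mk ((I.comap h.left).subschemeι ≫ U.hom) ⟶ U) ≫ c ≫ pullback.fst f φ) ≫ f := by
    rw [Category.assoc _ _ f]; exact outer.w
  refine ⟨U, c ≫ pullback.fst f φ, I.comap h.left, sq.lift _ _ hl, hψ1, hψ2, ?_, hI'⟩
  refine IsPullback.of_right ?_ (sq.lift_snd _ _ hl) sq
  rw [sq.lift_fst]
  exact outer

end Groth.Agent.H50
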