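import Groth.Agent.H50.CartierBC
import Groth.Agent.H50.EffCartier

set_option autoImplicit false
set_option backward.isDefEq.respectTransparency false
universe u
open CategoryTheory CategoryTheory.Limits AlgebraicGeometry Opposite Topology

namespace Groth.Agent.H50

open AlgSp

variable {S : Scheme.{u}}

/-- Base change of an effective Cartier divisor on an algebraic space which is flat over the base. -/
theorem isEffCartierSub_baseChange_of_flat {X Y D Y' X' D' : Sp S} (hX : IsAlgSpace X)
    (hY : IsAlgSpace Y) (hY' : IsAlgSpace Y') (f : X ⟶ Y) (i : D ⟶ X) (hD : IsEffCartierSub i)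
    (hflat : LocP @Flat (i ≫ f)) (g : Y' ⟶ Y) (g' : X' ⟶ X) (f' : X' ⟶ Y')
    (hX' : IsPullback g' f' f g) (k : D' ⟶ D) (i' : D' ⟶ X') (hD' : IsPullback k i' i g') :
    IsEffCartierSub i' := by
  obtain ⟨hi, V₀, φ, I, fst₀, hφ1, hφ2, sq₀, hI⟩ := hD
  refine ⟨MorphismProperty.of_isPullback hD' hi, ?_⟩
  -- atlas of `Y`
  obtain ⟨T, aT, haT1, haT2⟩ := hY.atlas
  -- atlas of `Y' ×_Y T`
  have sqY' := IsPullback.of_hasPullback g aT
  have hY'T : IsAlgSpace (pullback g aT) :=
    Groth.Agent.H49.isAlgSpace_of_isPullback sqY' hY.diag hY' (IsAlgSpace.yon_obj T)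
  obtain ⟨T', c', hc'1, hc'2⟩ := hY'T.atlas
  let b' : (yon S).obj T' ⟶ Y' := c' ≫ pullback.fst g aT
  have hb'1 : RepWith @Etale b' := (RepWith @Etale).comp_mem _ _ hc'1
    (MorphismProperty.of_isPullback sqY'.flip haT1)
  have hb'2 : RepWith @Surjective b' := (RepWith @Surjective).comp_mem _ _ hc'2
    (MorphismProperty.of_isPullback sqY'.flip haT2)
  obtain ⟨gT, hgT⟩ := (yon S).map_surjective (c' ≫ pullback.snd g aT)
  have hb'g : b' ≫ g = (yon S).map gT ≫ aT := by
    rw [Category.assoc, pullback.condition, ← Category.assoc, hgT]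
  -- `X_T` and the refined chart `V` of `X`
  let p₁ : pullback f aT ⟶ X := pullback.fst f aT
  let p₂ : pullback f aT ⟶ (yon S).obj T := pullback.snd f aT
  have sqXT : IsPullback p₁ p₂ f aT := IsPullback.of_hasPullback f aT
  have hXT : IsAlgSpace (pullback f aT) :=
    Groth.Agent.H49.isAlgSpace_of_isPullback sqXT hY.diag hX (IsAlgSpace.yon_obj T)
  have hp₁1 : RepWith @Etale p₁ := MorphismProperty.of_isPullback sqXT.flip haT1
  have hp₁2 : RepWith @Surjective p₁ := MorphismProperty.of_isPullback sqXT.flip haT2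
  have sqR := IsPullback.of_hasPullback p₁ φ
  have hR : IsAlgSpace (pullback p₁ φ) :=
    Groth.Agent.H49.isAlgSpace_of_isPullback sqR hX.diag hXT (IsAlgSpace.yon_obj V₀)
  obtain ⟨V, c, hc1, hc2⟩ := hR.atlas
  let vT : (yon S).obj V ⟶ pullback f aT := c ≫ pullback.fst p₁ φ
  have hvT1 : RepWith @Etale vT := (RepWith @Etale).comp_mem _ _ hc1
    (MorphismProperty.of_isPullback sqR.flip hφ1)
  have hvT2 : RepWith @Surjective vT := (RepWith @Surjective).comp_mem _ _ hc2
    (MorphismProperty.of_isPullback sqR.flip hφ2)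
  obtain ⟨v₀, hv₀⟩ := (yon S).map_surjective (c ≫ pullback.snd p₁ φ)
  have hv₀e : Etale v₀.left := by
    rw [← repWith_yon_map_iff @Etale v₀, hv₀]
    exact (RepWith @Etale).comp_mem _ _ hc1 (MorphismProperty.of_isPullback sqR hp₁1)
  obtain ⟨fV, hfV⟩ := (yon S).map_surjective (vT ≫ p₂)
  have hvX : vT ≫ p₁ = (yon S).map v₀ ≫ φ := by
    rw [Category.assoc, pullback.condition, ← Category.assoc, hv₀]
  -- the divisor on `V`
  have hIV : BlowUp.IsEffCartierIdeal (I.comap v₀.left) := Groth.Agent.S10855.result v₀.left I hI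
  have sqSch := isPullback_subschemeι_comap v₀.left I
  let ZV : Over S := Over.mk ((I.comap v₀.left).subschemeι ≫ V.hom)
  let ιV : ZV ⟶ V := Over.homMk (I.comap v₀.left).subschemeι rfl
  let kV : ZV ⟶ Over.mk (I.subschemeι ≫ V₀.hom) :=
    Over.homMk ((I.comapIso v₀.left).hom ≫ pullback.snd v₀.left I.subschemeι) (by
      change ((I.comapIso v₀.left).hom ≫ pullback.snd v₀.left I.subschemeι) ≫ I.subschemeι ≫ V₀.hom =
        (I.comap v₀.left).subschemeι ≫ V.hom
      rw [← Category.assoc, sqSch.w, Category.assoc, Over.w v₀])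
  have sqS : IsPullback kV ιV
      (Over.homMk I.subschemeι rfl : Over.mk (I.subschemeι ≫ V₀.hom) ⟶ V₀) v₀ := by
    refine IsPullback.of_map (Over.forget S) ?_ ?_
    · ext
      exact sqSch.w
    · exact sqSch
  have sqDV : IsPullback ((yon S).map kV ≫ fst₀) ((yon S).map ιV) i (vT ≫ p₁) := by
    rw [hvX]
    exact IsPullback.paste_horiz (sqS.map (yon S)) sq₀
  -- flatness of the divisor over `T`
  have hflV : Flat ((I.comap v₀.left).subschemeι ≫ fV.left) := by
    have ha : RepWith @Etale ((yon S).map kV ≫ fst₀) :=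
      MorphismProperty.of_isPullback sqDV.flip ((RepWith @Etale).comp_mem _ _ hvT1 hp₁1)
    refine hflat ((yon S).map kV ≫ fst₀) aT (ιV ≫ fV) ha haT1 ?_
    rw [← Category.assoc, sqDV.w, Category.assoc, Category.assoc, sqXT.w, Functor.map_comp,
      Category.assoc, hfV]
    simp only [vT, Category.assoc]
  -- the fibre product `U = V ×_T T'`
  let Us : Scheme.{u} := pullback fV.left gT.left
  let U : Over S := Over.mk (pullback.fst fV.left gT.left ≫ V.hom)
  let pr : U ⟶ V := Over.homMk (pullback.fst fV.left gT.left) rfl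
  let qU : U ⟶ T' := Over.homMk (pullback.snd fV.left gT.left) (by
    change pullback.snd fV.left gT.left ≫ T'.hom = pullback.fst fV.left gT.left ≫ V.hom
    rw [← Over.w gT, ← Over.w fV, ← Category.assoc, ← Category.assoc, pullback.condition])
  have sqU : IsPullback pr qU fV gT := by
    refine IsPullback.of_map (Over.forget S) ?_ ?_
    · ext
      exact pullback.condition
    · exact IsPullback.of_hasPullback fV.left gT.left
  have sqUY : IsPullback ((yon S).map pr) ((yon S).map qU) ((yon S).map fV) ((yon S).map gT) :=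
    sqU.map (yon S)
  have hJ : BlowUp.IsEffCartierIdeal ((I.comap v₀.left).comap pr.left) :=
    isEffCartierIdeal_comap_of_isPullback (IsPullback.of_hasPullback fV.left gT.left)
      (I.comap v₀.left) hIV
  -- the chart `ψ : h_U ⟶ X'`
  let Q : Sp S := pullback p₂ ((yon S).map gT)
  let r₁ : Q ⟶ pullback f aT := pullback.fst p₂ ((yon S).map gT)
  let r₂ : Q ⟶ (yon S).obj T' := pullback.snd p₂ ((yon S).map gT)
  have sqQ : IsPullback r₁ r₂ p₂ ((yon S).map gT) := IsPullback.of_hasPullback _ _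
  let m : (yon S).obj U ⟶ Q := sqQ.lift ((yon S).map pr ≫ vT) ((yon S).map qU)
    (by rw [Category.assoc, ← hfV, sqUY.w])
  have hm1 : m ≫ r₁ = (yon S).map pr ≫ vT := sqQ.lift_fst _ _ _
  have hm2 : m ≫ r₂ = (yon S).map qU := sqQ.lift_snd _ _ _
  have sqm : IsPullback ((yon S).map pr) m vT r₁ := by
    refine IsPullback.of_bot ?_ hm1.symm sqQ
    rw [hm2, ← hfV]
    exact sqUY
  have hm_e : RepWith @Etale m := MorphismProperty.of_isPullback sqm hvT1
  have hm_s : RepWith @Surjective m := MorphismProperty.of_isPullback sqm hvT2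
  have sqQX : IsPullback (r₁ ≫ p₁) r₂ f (b' ≫ g) := by
    rw [hb'g]
    exact sqQ.paste_horiz sqXT
  let n : Q ⟶ X' := hX'.lift (r₁ ≫ p₁) (r₂ ≫ b') (sqQX.w.trans (Category.assoc _ _ _).symm)
  have hn1 : n ≫ g' = r₁ ≫ p₁ := hX'.lift_fst _ _ _
  have hn2 : n ≫ f' = r₂ ≫ b' := hX'.lift_snd _ _ _
  have sqn : IsPullback n r₂ f' b' := by
    refine IsPullback.of_right ?_ hn2 hX'
    rw [hn1]
    exact sqQX
  have hn_e : RepWith @Etale n := MorphismProperty.of_isPullback sqn.flip hb'1
  have hn_s : RepWith @Surjective n := MorphismProperty.of_isPullback sqn.flip hb'2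
  let ψ : (yon S).obj U ⟶ X' := m ≫ n
  have hψ1 : RepWith @Etale ψ := (RepWith @Etale).comp_mem _ _ hm_e hn_e
  have hψ2 : RepWith @Surjective ψ := (RepWith @Surjective).comp_mem _ _ hm_s hn_s
  have hψg' : ψ ≫ g' = (yon S).map pr ≫ vT ≫ p₁ := by
    rw [Category.assoc, hn1, ← Category.assoc, hm1, Category.assoc]
  -- the divisor on `U`
  have sqSch' := isPullback_subschemeι_comap pr.left (I.comap v₀.left)
  let ZU : Over S := Over.mk (((I.comap v₀.left).comap pr.left).subschemeι ≫ U.hom)
  let ιU : ZU ⟶ U := Over.homMk ((I.comap v₀.left).comap pr.left).subschemeι rfl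
  let kU : ZU ⟶ ZV :=
    Over.homMk (((I.comap v₀.left).comapIso pr.left).hom ≫
      pullback.snd pr.left (I.comap v₀.left).subschemeι) (by
      change (((I.comap v₀.left).comapIso pr.left).hom ≫
        pullback.snd pr.left (I.comap v₀.left).subschemeι) ≫
          (I.comap v₀.left).subschemeι ≫ V.hom =
        ((I.comap v₀.left).comap pr.left).subschemeι ≫ U.hom
      rw [← Category.assoc, sqSch'.w, Category.assoc, Over.w pr])
  have sqS' : IsPullback kU ιU ιV pr := by
    refine IsPullback.of_map (Over.forget S) ?_ ?_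
    · ext
      exact sqSch'.w
    · exact sqSch'
  have outer : IsPullback ((yon S).map kU ≫ (yon S).map kV ≫ fst₀) ((yon S).map ιU) i (ψ ≫ g') := by
    rw [hψg']
    exact IsPullback.paste_horiz (sqS'.map (yon S)) sqDV
  have hw := outer.w.trans (Category.assoc _ _ _).symm
  refine ⟨U, ψ, (I.comap v₀.left).comap pr.left, hD'.lift _ _ hw, hψ1, hψ2, ?_, hJ⟩
  refine IsPullback.of_right ?_ (hD'.lift_snd _ _ hw) hD'
  rw [hD'.lift_fst]
  exact outer

end Groth.Agent.H50
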