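import Mathlib.CategoryTheory.Limits.Shapes.Diagonal
import Mathlib.CategoryTheory.Limits.Shapes.Pullback.IsPullback.Basic
import Mathlib.CategoryTheory.Limits.Shapes.BinaryProducts

set_option autoImplicit false
set_option backward.isDefEq.respectTransparency false
universe v w
open CategoryTheory CategoryTheory.Limits

namespace Groth.Agent.H50

variable {C : Type w} [Category.{v} C]

/-- A fibre product is the pullback of the diagonal along the product map. -/
theorem isPullback_diag_of_isPullback [HasBinaryProducts C] {X A A' P : C} {g : A ⟶ X}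
    {g' : A' ⟶ X} {fst : P ⟶ A} {snd : P ⟶ A'} (sq : IsPullback fst snd g g') :
    IsPullback (fst ≫ g) (prod.lift fst snd) (diag X) (prod.map g g') := by
  refine IsPullback.mk' ?_ ?_ ?_
  · ext <;> simp [sq.w]
  · intro T φ φ' _ h2
    apply sq.hom_ext
    · simpa using congr($h2 ≫ prod.fst)
    · simpa using congr($h2 ≫ prod.snd)
  · intro T a b h
    have h1 : a = b ≫ prod.fst ≫ g := by simpa using congr($h ≫ prod.fst)
    have h2 : a = b ≫ prod.snd ≫ g' := by simpa using congr($h ≫ prod.snd)
    obtain ⟨l, hl1, hl2⟩ := sq.exists_lift (b ≫ prod.fst) (b ≫ prod.snd)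
      (by rw [Category.assoc, Category.assoc, ← h1, ← h2])
    refine ⟨l, ?_, ?_⟩
    · rw [reassoc_of% hl1, h1]
    · ext
      · simpa using hl1
      · simpa using hl2

/-- Conversely, a pullback of the diagonal along a product map is a fibre product. -/
theorem isPullback_of_isPullback_diag [HasBinaryProducts C] {X A A' W : C} {g : A ⟶ X}
    {g' : A' ⟶ X} {p : W ⟶ X} {q : W ⟶ A ⨯ A'} (sq : IsPullback p q (diag X) (prod.map g g')) :
    IsPullback (q ≫ prod.fst) (q ≫ prod.snd) g g' := by
  have w1 : p = q ≫ prod.fst ≫ g := by simpa using congr($(sq.w) ≫ prod.fst)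
  have w2 : p = q ≫ prod.snd ≫ g' := by simpa using congr($(sq.w) ≫ prod.snd)
  refine IsPullback.mk' ?_ ?_ ?_
  · rw [Category.assoc, Category.assoc, ← w1, ← w2]
  · intro T φ φ' h1 h2
    apply sq.hom_ext
    · rw [w1, reassoc_of% h1]
    · ext
      · simpa using h1
      · simpa using h2
  · intro T a b h
    obtain ⟨l, hl1, hl2⟩ := sq.exists_lift (a ≫ g) (prod.lift a b) (by ext <;> simp [h])
    refine ⟨l, ?_, ?_⟩
    · rw [← Category.assoc, hl2]; simp
    · rw [← Category.assoc, hl2]; simp

/-- The other projection version of `IsPullback.of_prod_fst_with_id`. -/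
theorem isPullback_prod_snd_with_id [HasBinaryProducts C] {A B : C} (f : A ⟶ B) (X : C) :
    IsPullback prod.snd (prod.map (𝟙 X) f) f prod.snd := by
  refine IsPullback.mk' (by simp) ?_ ?_
  · intro T φ φ' h1 h2
    ext
    · simpa using congr($h2 ≫ prod.fst)
    · simpa using h1
  · intro T a b h
    refine ⟨prod.lift (b ≫ prod.fst) a, by simp, ?_⟩
    ext
    · simp
    · simp [h]

/-- Let `f : X ⟶ Y`, and let `ξ : T ⟶ X ×_Y X` be a morphism.  Then the pullback of the diagonal of `f` along `ξ`
is the fibre product of the two sections of `X ×_Y T ⟶ T` defined by `ξ`. -/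
theorem isPullback_sections_of_isPullback_diagonal [HasPullbacks C] {X Y T W : C} (f : X ⟶ Y)
    (ξ : T ⟶ pullback f f) {p : W ⟶ X} {q : W ⟶ T} (sq : IsPullback p q (pullback.diagonal f) ξ) :
    IsPullback q q
      (pullback.lift (ξ ≫ pullback.fst f f) (𝟙 T) (by simp) :
        T ⟶ pullback f ((ξ ≫ pullback.fst f f) ≫ f))
      (pullback.lift (ξ ≫ pullback.snd f f) (𝟙 T)
        (by rw [Category.id_comp, Category.assoc, Category.assoc, pullback.condition])) := by
  have w1 : p = q ≫ ξ ≫ pullback.fst f f := by simpa using congr($(sq.w) ≫ pullback.fst f f)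
  have w2 : p = q ≫ ξ ≫ pullback.snd f f := by simpa using congr($(sq.w) ≫ pullback.snd f f)
  refine IsPullback.mk' ?_ ?_ ?_
  · apply pullback.hom_ext
    · simp only [Category.assoc, pullback.lift_fst]
      rw [← w1, ← w2]
    · simp
  · intro Z φ φ' h1 _
    apply sq.hom_ext
    · rw [w1, reassoc_of% h1]
    · exact h1
  · intro Z a b h
    have hab : a = b := by simpa using congr($h ≫ pullback.snd _ _)
    subst hab
    have h' : a ≫ ξ ≫ pullback.fst f f = a ≫ ξ ≫ pullback.snd f f := by
      simpa using congr($h ≫ pullback.fst _ _)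
    obtain ⟨l, hl1, hl2⟩ := sq.exists_lift (a ≫ ξ ≫ pullback.fst f f) a (by
      apply pullback.hom_ext
      · simp
      · simp [h'])
    exact ⟨l, hl2, hl2⟩

end Groth.Agent.H50
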