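import Groth.Agent.H50.SchDenseMono
import Groth.Agent.H53.LocalBase
import Mathlib.CategoryTheory.Sites.LocallySurjective

set_option autoImplicit false
set_option backward.isDefEq.respectTransparency false
universe u
open CategoryTheory CategoryTheory.Limits AlgebraicGeometry Opposite Topology

namespace Groth.Agent.H50

open AlgSp

variable {S : Scheme.{u}}

/-- For a closed immersion of algebraic spaces the comparison `O_X ⟶ i_* O_Z` on the small etale
site is locally surjective. -/
theorem isLocallySurjective_bcRingHom {X Z : Sp S} (i : Z ⟶ X)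
    (hi : RepWith @IsClosedImmersion i) :
    Presheaf.IsLocallySurjective (etTop X) (bcRingHom hi.1).hom := by
  constructor
  intro E s
  let 𝒰 := E.obj.left.left.affineCover
  have hα : ∀ α : 𝒰.I₀, RepWith @Etale
      ((yon S).map (Groth.Agent.H53.overHom E.obj.left (𝒰.f α)) ≫ E.obj.hom) := fun α =>
    (RepWith @Etale).comp_mem _ _
      ((repWith_yon_map_iff _ _).2 (show Etale (𝒰.f α) from inferInstance)) E.property
  let Eα : 𝒰.I₀ → EtOver X := fun α => EtOver.mk _ (hα α)
  let g : ∀ α, Eα α ⟶ E := fun α =>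
    EtOver.homMk (Groth.Agent.H53.overHom E.obj.left (𝒰.f α)) rfl
  refine (etTop X).superset_covering ?_ (ofArrows_mem_etTop Eα g ?_)
  · rw [Sieve.ofArrows, Sieve.generate_le_iff]
    rintro _ _ ⟨α⟩
    have sq := hi.1.isPullback (Eα α).obj.hom
    have hcl : IsClosedImmersion (hi.1.snd (Eα α).obj.hom).left := hi.2 _ _ _ sq
    have haff : IsAffine (Eα α).obj.left.left := Scheme.isAffine_affineCover E.obj.left.left α
    obtain ⟨-, hsurj⟩ :=
      IsClosedImmersion.isAffine_surjective_of_isAffine (hi.1.snd (Eα α).obj.hom).left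
    let r : ULift.{u + 1} Γ((hi.1.pullback (Eα α).obj.hom).left, ⊤) :=
      (((EtOver.bc hi.1).sheafPushforwardContinuous RingCat.{u + 1} (etTop X) (etTop Z)).obj
        (OEtRing Z)).obj.map (g α).op s
    obtain ⟨t, ht⟩ := hsurj r.down
    refine ⟨ULift.up t, ?_⟩
    rw [bcRingHom_app_apply]
    change ULift.up ((hi.1.snd (Eα α).obj.hom).left.appTop.hom t) = r
    rw [ht]
    rfl
  · intro x
    obtain ⟨y, hy⟩ := 𝒰.covers x
    exact ⟨𝒰.idx x, y, hy⟩

end Groth.Agent.H50
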