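import Groth.Agent.H50.LocPBase
import Groth.Agent.H51.SpBasic
import Groth.Agent.H49.AlgSpRep
import Groth.Prelude.Def_AlgSp4

set_option autoImplicit false
set_option backward.isDefEq.respectTransparency false
universe u
open CategoryTheory CategoryTheory.Limits AlgebraicGeometry Opposite

namespace Groth.Agent.H50

open AlgSp

variable {S : Scheme.{u}}

/-- A flat morphism locally of finite presentation between algebraic spaces is open on points. -/
theorem isOpenMap_points_of_flat_lfp {X Y : Sp S} (hX : IsAlgSpace X) (hY : IsAlgSpace Y)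
    (f : X ⟶ Y) (hfl : LocP @Flat f) (hfp : LocP @LocallyOfFinitePresentation f) :
    IsOpenMap (Points.map f) := by
  intro W hW
  obtain ⟨U, a, ha1, ha2⟩ := hX.atlas
  obtain ⟨V, b, hb1, hb2⟩ := hY.atlas
  obtain ⟨W', w₁, w₂, sq⟩ := Groth.Agent.H53.exists_pullback_yon (a ≫ f) b hb1.rep
  have hw : Etale w₁.left := Groth.Agent.H53.prop_of_isPullback_yon sq hb1
  have hws : Surjective w₁.left := Groth.Agent.H53.prop_of_isPullback_yon sq hb2
  have hc1 : RepWith @Etale ((yon S).map w₁ ≫ a) :=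
    Groth.Agent.H53.repWith_etale_map_comp w₁ hw a ha1
  have hcomm : ((yon S).map w₁ ≫ a) ≫ f = (yon S).map w₂ ≫ b := by
    rw [Category.assoc]; exact sq.w
  have h1 : Flat w₂.left := hfl _ b w₂ hc1 hb1 hcomm
  have h2 : LocallyOfFinitePresentation w₂.left := hfp _ b w₂ hc1 hb1 hcomm
  have hopen2 : IsOpenMap w₂.left := w₂.left.isOpenMap
  have hopenb : IsOpenMap (Points.ofPt b) := Groth.Agent.H51.isOpenMap_ofPt_of_etale b hb1
  have hW'' : IsOpen (Points.ofPt ((yon S).map w₁ ≫ a) ⁻¹' W) :=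
    hW.preimage (Points.continuous_ofPt _)
  have key : Points.map f '' W =
      Points.ofPt b '' (w₂.left '' (Points.ofPt ((yon S).map w₁ ≫ a) ⁻¹' W)) := by
    ext y
    constructor
    · rintro ⟨x, hx, rfl⟩
      obtain ⟨u, rfl⟩ := Groth.Agent.H53.exists_ofPt_eq_of_repWith_surjective a ha2 x
      obtain ⟨w, rfl⟩ := hws.surj u
      refine ⟨w₂.left w, ⟨w, ?_, rfl⟩, ?_⟩
      · change Points.ofPt ((yon S).map w₁ ≫ a) w ∈ W
        rw [Groth.Agent.H53.ofPt_yon_map_comp]
        exact hx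
      · rw [← Groth.Agent.H53.ofPt_yon_map_comp, ← hcomm, Points.map_ofPt, Category.assoc,
          Groth.Agent.H53.ofPt_yon_map_comp]
    · rintro ⟨_, ⟨w, hw', rfl⟩, rfl⟩
      refine ⟨Points.ofPt ((yon S).map w₁ ≫ a) w, hw', ?_⟩
      rw [Points.map_ofPt, hcomm, Groth.Agent.H53.ofPt_yon_map_comp]
  rw [key]
  exact hopenb _ (hopen2 _ hW'')

/-- A flat morphism locally of finite presentation between algebraic spaces is universally open. -/
theorem isUnivOpenMor_of_flat_lfp {X Y : Sp S} (hX : IsAlgSpace X) (hY : IsAlgSpace Y)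
    (f : X ⟶ Y) (hfl : LocP @Flat f) (hfp : LocP @LocallyOfFinitePresentation f) :
    IsUnivOpenMor f := by
  intro Z Z' hZ g fst snd sq
  have hZ' : IsAlgSpace Z' := Groth.Agent.H49.isAlgSpace_of_isPullback sq hY.diag hX hZ
  exact isOpenMap_points_of_flat_lfp hZ' hZ snd
    (goodClass_flat.locP_of_isPullback hX hY hZ f g fst snd sq hfl)
    (goodClass_lfp.locP_of_isPullback hX hY hZ f g fst snd sq hfp)

end Groth.Agent.H50
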