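import Groth.Agent.H50.ConstrScheme
import Groth.Agent.H50.FlatOpen

set_option autoImplicit false
set_option backward.isDefEq.respectTransparency false
universe u
open CategoryTheory CategoryTheory.Limits AlgebraicGeometry Opposite Topology

namespace Groth.Agent.H50

open AlgSp

variable {S : Scheme.{u}}

/-- The preimage of an étale-locally constructible set under a morphism of algebraic spaces is
étale-locally constructible. -/
theorem etaleLocallyConstructible_preimage_sp {X Y : Sp S} (hY : IsAlgSpace Y)
    (f : X ⟶ Y) (E : Set (Points Y))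
    (hE : ∀ (U : Over S) (φ : (yon S).obj U ⟶ Y), RepWith @Etale φ →
      IsLocallyConstructible (Points.ofPt φ ⁻¹' E))
    (U : Over S) (φ : (yon S).obj U ⟶ X) :
    IsLocallyConstructible (Points.ofPt φ ⁻¹' (Points.map f ⁻¹' E)) := by
  obtain ⟨V, b, hb1, hb2⟩ := hY.atlas
  obtain ⟨W', w₁, w₂, sq⟩ := Groth.Agent.H53.exists_pullback_yon (φ ≫ f) b hb1.rep
  have hw : Etale w₁.left := Groth.Agent.H53.prop_of_isPullback_yon sq hb1
  have hws : Surjective w₁.left := Groth.Agent.H53.prop_of_isPullback_yon sq hb2
  refine isLocallyConstructible_of_preimage_etale_surjective w₁.left _ ?_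
  have h1 := isLocallyConstructible_preimage_scheme w₂.left (hE V b hb1)
  have heq : (w₁.left ⁻¹' (Points.ofPt φ ⁻¹' (Points.map f ⁻¹' E)) : Set ↥W'.left) =
      w₂.left ⁻¹' (Points.ofPt b ⁻¹' E) := by
    ext w
    simp only [Set.mem_preimage]
    rw [Points.map_ofPt, ← Groth.Agent.H53.ofPt_yon_map_comp, sq.w,
      Groth.Agent.H53.ofPt_yon_map_comp]
  rw [heq]
  exact h1

end Groth.Agent.H50
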