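import Mathlib

set_option autoImplicit false
set_option backward.isDefEq.respectTransparency false
universe u
open CategoryTheory CategoryTheory.Limits AlgebraicGeometry Opposite Topology

namespace Groth.Agent.H50

/-- The preimage of a locally constructible set under a morphism of schemes is locally
constructible. -/
theorem isLocallyConstructible_preimage_scheme {X Y : Scheme.{u}} (f : X ⟶ Y) {s : Set Y}
    (hs : IsLocallyConstructible s) : IsLocallyConstructible (f ⁻¹' s) := by
  intro x
  obtain ⟨V, hxV, hV, H⟩ := hs (f x)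
  let V' : Y.Opens := ⟨V, hV⟩
  refine ⟨f ⁻¹' V, f.continuous.continuousAt.preimage_mem_nhds hxV, hV.preimage f.continuous, ?_⟩
  have := (f ∣_ V').isConstructible_preimage H
  have heq : (⇑(f ∣_ V') ⁻¹' (Subtype.val ⁻¹' s) : Set ↥(f ⁻¹ᵁ V')) =
      Subtype.val ⁻¹' (f ⁻¹' s) := by
    ext z
    simp only [Set.mem_preimage]
    rw [morphismRestrict_base_coe]
  have h2 : IsConstructible (Subtype.val ⁻¹' (f ⁻¹' s) : Set ↥(f ⁻¹ᵁ V')) := heq ▸ this
  exact h2

end Groth.Agent.H50

namespace Groth.Agent.H50

/-- Descent of local constructibility along an étale surjective morphism, affine target. -/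
theorem isLocallyConstructible_of_preimage_etale_surjective_affine {W U : Scheme.{u}} [IsAffine U]
    (w : W ⟶ U) [Etale w] [Surjective w] (T : Set U)
    (hT : IsLocallyConstructible (w ⁻¹' T)) : IsLocallyConstructible T := by
  have hopen : IsOpenMap w := w.isOpenMap
  refine IsLocallyConstructible.of_isOpenCover'
    (U := fun i : W.affineOpens => (⟨w '' i.1, hopen _ i.1.2⟩ : TopologicalSpace.Opens U)) ?_ ?_
  · refine TopologicalSpace.IsOpenCover.mk ?_
    rw [eq_top_iff]
    intro x _
    obtain ⟨p, rfl⟩ := w.surjective x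
    obtain ⟨W₀, hW₀, hp, -⟩ := TopologicalSpace.Opens.isBasis_iff_nbhd.mp
      (W.isBasis_affineOpens) (U := ⊤) (x := p) trivial
    simp only [TopologicalSpace.Opens.mem_iSup]
    exact ⟨⟨W₀, hW₀⟩, p, hp, rfl⟩
  · intro i
    have : IsAffine i.1 := i.2
    have : QuasiCompact (i.1.ι ≫ w) :=
      (HasAffineProperty.iff_of_isAffine (P := @QuasiCompact)).mpr inferInstance
    have h1 := (i.1.ι ≫ w).isLocallyConstructible_image
      (hT.preimage_of_isOpenEmbedding i.1.ι.isOpenEmbedding)
    convert h1 using 1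
    ext y
    constructor
    · rintro ⟨hy, p, hp, rfl⟩
      exact ⟨⟨p, hp⟩, hy, rfl⟩
    · rintro ⟨p, hp, rfl⟩
      exact ⟨hp, p.1, p.2, rfl⟩

end Groth.Agent.H50

namespace Groth.Agent.H50

/-- Descent of local constructibility along an étale surjective morphism of schemes. -/
theorem isLocallyConstructible_of_preimage_etale_surjective {W U : Scheme.{u}}
    (w : W ⟶ U) [Etale w] [Surjective w] (T : Set U)
    (hT : IsLocallyConstructible (w ⁻¹' T)) : IsLocallyConstructible T := by
  refine IsLocallyConstructible.of_isOpenCover (U := fun i : U.affineOpens => i.1)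
    (TopologicalSpace.IsOpenCover.mk (iSup_affineOpens_eq_top _)) ?_
  intro i
  have : IsAffine i.1 := i.2
  have hsurj : Surjective (w ∣_ i.1) := IsZariskiLocalAtTarget.restrict ‹Surjective w› i.1
  refine isLocallyConstructible_of_preimage_etale_surjective_affine (w ∣_ i.1) _ ?_
  have h1 : IsLocallyConstructible (Subtype.val ⁻¹' (w ⁻¹' T) : Set ↥(w ⁻¹ᵁ i.1)) :=
    hT.preimage_of_isOpenEmbedding (w ⁻¹ᵁ i.1).2.isOpenEmbedding_subtypeVal
  have heq : (⇑(w ∣_ i.1) ⁻¹' (Subtype.val ⁻¹' T) : Set ↥(w ⁻¹ᵁ i.1)) =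
      Subtype.val ⁻¹' (w ⁻¹' T) := by
    ext z
    simp only [Set.mem_preimage]
    rw [morphismRestrict_base_coe]
  exact heq ▸ h1

end Groth.Agent.H50
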