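import Groth.Agent.H50.FlatSubm

set_option autoImplicit false
set_option backward.isDefEq.respectTransparency false
universe u
open CategoryTheory CategoryTheory.Limits AlgebraicGeometry Opposite Topology

namespace Groth.Agent.H50

open AlgSp

variable {S : Scheme.{u}}

/-- Chevalley for a quasi-compact morphism locally of finite presentation of algebraic spaces,
tested on an affine etale chart of the target. -/
theorem chevalley_affine {X Y : Sp S} (hX : IsAlgSpace X) (hY : IsAlgSpace Y)
    (f : X ⟶ Y) (hqc : IsQuasiCompactMor f) (hfp : LocP @LocallyOfFinitePresentation f)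
    (E : Set (Points X))
    (hE : ∀ (U : Over S) (φ : (yon S).obj U ⟶ X), RepWith @Etale φ →
      IsLocallyConstructible (Points.ofPt φ ⁻¹' E))
    (V : Over S) [CompactSpace ↥V.left] [QuasiSeparatedSpace ↥V.left]
    (g : (yon S).obj V ⟶ Y) (hg : RepWith @Etale g) :
    IsLocallyConstructible (Points.ofPt g ⁻¹' (Points.map f '' E)) := by
  have sq := IsPullback.of_hasPullback f g
  have hV : IsAlgSpace ((yon S).obj V) := IsAlgSpace.yon_obj V
  obtain ⟨W, c, hc1, hc2, hW⟩ := hqc hV (isQuasiCompactSp_yon V) g _ _ sq
  have hW' : CompactSpace ↥W.left := hW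
  obtain ⟨k, hk⟩ := (yon S).map_surjective (c ≫ pullback.snd f g)
  have hsnd : LocP @LocallyOfFinitePresentation (pullback.snd f g) :=
    goodClass_lfp.locP_of_isPullback hX hY hV f g _ _ sq hfp
  have hkfp : LocallyOfFinitePresentation k.left :=
    hsnd c (𝟙 _) k hc1 (repWith_id _ V) (by rw [Category.comp_id, hk])
  have hkqc : QuasiCompact k.left := inferInstance
  have hfst : RepWith @Etale (pullback.fst f g) := MorphismProperty.of_isPullback sq.flip hg
  have hcf : RepWith @Etale (c ≫ pullback.fst f g) := (RepWith @Etale).comp_mem _ _ hc1 hfst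
  have hEW := hE W _ hcf
  have himg := k.left.isLocallyConstructible_image hEW
  have key : Points.ofPt g ⁻¹' (Points.map f '' E) =
      k.left '' (Points.ofPt (c ≫ pullback.fst f g) ⁻¹' E) := by
    ext v
    constructor
    · rintro ⟨x, hx, hxv⟩
      rw [Points.ofPt_eq_map_ofScheme] at hxv
      obtain ⟨z, hz1, hz2⟩ := points_exists_of_isPullback sq x (Points.ofScheme V v) hxv
      obtain ⟨w, rfl⟩ := Groth.Agent.H53.exists_ofPt_eq_of_repWith_surjective c hc2 z
      refine ⟨w, ?_, ?_⟩
      · change Points.ofPt (c ≫ pullback.fst f g) w ∈ E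
        rw [← Points.map_ofPt, hz1]
        exact hx
      · apply (Points.schemeEquiv V).injective
        change Points.ofScheme V (k.left w) = Points.ofScheme V v
        rw [← hz2, Points.map_ofPt, ← hk]
        have := Groth.Agent.H53.ofPt_yon_map_comp k (𝟙 ((yon S).obj V)) w
        rw [Category.comp_id] at this
        rw [this]
    · rintro ⟨w, hw, rfl⟩
      refine ⟨Points.ofPt (c ≫ pullback.fst f g) w, hw, ?_⟩
      rw [Points.map_ofPt, Category.assoc, pullback.condition, ← Category.assoc, ← hk,
        Groth.Agent.H53.ofPt_yon_map_comp]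
  rw [key]
  exact himg

/-- Chevalley for a quasi-compact morphism locally of finite presentation of algebraic spaces. -/
theorem chevalley_sp {X Y : Sp S} (hX : IsAlgSpace X) (hY : IsAlgSpace Y)
    (f : X ⟶ Y) (hqc : IsQuasiCompactMor f) (hfp : LocP @LocallyOfFinitePresentation f)
    (E : Set (Points X))
    (hE : ∀ (U : Over S) (φ : (yon S).obj U ⟶ X), RepWith @Etale φ →
      IsLocallyConstructible (Points.ofPt φ ⁻¹' E))
    (U : Over S) (φ : (yon S).obj U ⟶ Y) (hφ : RepWith @Etale φ) :
    IsLocallyConstructible (Points.ofPt φ ⁻¹' (Points.map f '' E)) := by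
  refine IsLocallyConstructible.of_isOpenCover (U := fun i : U.left.affineOpens => i.1)
    (TopologicalSpace.IsOpenCover.mk (iSup_affineOpens_eq_top _)) ?_
  intro i
  have hVa : IsAffine (Groth.Agent.H51.overOpen U i.1).left := i.2
  have hVc : CompactSpace ↥(Groth.Agent.H51.overOpen U i.1).left := inferInstance
  have hVq : QuasiSeparatedSpace ↥(Groth.Agent.H51.overOpen U i.1).left := inferInstance
  have := chevalley_affine hX hY f hqc hfp E hE (Groth.Agent.H51.overOpen U i.1)
    ((yon S).map (Groth.Agent.H51.overOpenι U i.1) ≫ φ)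
    (Groth.Agent.H51.repWith_etale_restrict φ hφ i.1)
  have heq : (Subtype.val ⁻¹' (Points.ofPt φ ⁻¹' (Points.map f '' E)) : Set ↥(i.1 : Set ↥U.left)) =
      (Points.ofPt ((yon S).map (Groth.Agent.H51.overOpenι U i.1) ≫ φ) ⁻¹' (Points.map f '' E)) := by
    ext v
    simp only [Set.mem_preimage]
    rw [Groth.Agent.H51.ofPt_restrict]
    rfl
  rw [heq]
  exact this

end Groth.Agent.H50
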