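import Groth.Agent.H50.DVRSp1
import Groth.Agent.H49.AlgSpClosed
import Groth.Agent.H49.AlgSpQC
import Groth.Agent.H49.AlgSpRep
import Mathlib.AlgebraicGeometry.Noetherian

set_option autoImplicit false
set_option backward.isDefEq.respectTransparency false
set_option linter.style.haveILetI false
set_option linter.unusedSectionVars false
universe u
open CategoryTheory CategoryTheory.Limits AlgebraicGeometry Opposite Topology

namespace Groth.Agent.H50
open AlgSp

variable {S : Scheme.{u}}

namespace DVRSp

/-- A locally Noetherian affine étale chart through a given point of a locally Noetherian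
sheaf. -/
theorem exists_affine_noeth_chart {Y : Sp S} (hY : IsLocNoethSp Y) (y : Points Y) :
    ∃ (V' : Over S) (p' : (yon S).obj V' ⟶ Y) (v' : ↥V'.left), RepWith @Etale p' ∧
      IsAffine V'.left ∧ IsLocallyNoetherian V'.left ∧ Points.ofPt p' v' = y := by
  obtain ⟨V, p, hpe, hps, hVN⟩ := hY
  obtain ⟨v, hv⟩ := Groth.Agent.H52.ofPt_surjective_of_repWith_surjective p hps y
  obtain ⟨w, hw⟩ := V.left.affineCover.covers v
  let V' : Over S := Over.mk (V.left.affineCover.f (V.left.affineCover.idx v) ≫ V.hom)
  let ω : V' ⟶ V := Over.homMk (V.left.affineCover.f (V.left.affineCover.idx v)) rfl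
  haveI : IsOpenImmersion ω.left :=
    inferInstanceAs (IsOpenImmersion (V.left.affineCover.f (V.left.affineCover.idx v)))
  haveI : Etale ω.left := inferInstance
  refine ⟨V', (yon S).map ω ≫ p, w, Groth.Agent.H49.repWith_etale_yon_map_comp ω p hpe, ?_, ?_, ?_⟩
  · change IsAffine (V.left.affineCover.X _)
    infer_instance
  · haveI := hVN
    exact isLocallyNoetherian_of_isOpenImmersion ω.left
  · rw [Groth.Agent.H52.ofPt_yon_map_comp]
    change Points.ofPt p ((V.left.affineCover.f (V.left.affineCover.idx v)) w) = y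
    rw [hw, hv]

/-- **Stacks, Limits of Spaces**: a point in the closure of the image of a finite type morphism
to a locally Noetherian algebraic space is reached by a DVR test diagram. -/
theorem exists_dvr_diagram_of_mem_closure_image {X Y : Sp S} (f : X ⟶ Y)
    (hft : IsFiniteTypeMor f) (hY : IsLocNoethSp Y) (y : Points Y)
    (hy : y ∈ closure (Set.range (Points.map f))) :
    ∃ (A : Type u) (_ : CommRing A) (_ : IsDomain A) (_ : IsDiscreteValuationRing A)
      (a : Spec (CommRingCat.of A) ⟶ S)
      (α : (yon S).obj (Over.mk a) ⟶ Y)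
      (κ : (yon S).obj (Over.mk (Spec.map (CommRingCat.ofHom
        (algebraMap A (FractionRing A))) ≫ a)) ⟶ X),
      κ ≫ f = (yon S).map (Over.homMk (Spec.map (CommRingCat.ofHom
        (algebraMap A (FractionRing A))))) ≫ α ∧
      Points.map α (Points.schemeEquiv (Over.mk a) (IsLocalRing.closedPoint A)) = y := by
  obtain ⟨V', p', v', hp'e, hV'aff, hV'N, hv'⟩ := exists_affine_noeth_chart hY y
  -- the base change of `f` to the chart
  have sq := IsPullback.of_hasPullback f p'
  haveI : CompactSpace ↥V'.left := inferInstance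
  have hPqc : IsQuasiCompactSp (pullback f p') :=
    hft.2 (IsAlgSpace.yon_obj V') (Groth.Agent.H49.isQuasiCompactSp_yon V') p' _ _ sq
  obtain ⟨U, c, hce, hcs, hUc⟩ := hPqc
  haveI : CompactSpace ↥U.left := hUc
  obtain ⟨g₀, hg₀⟩ := (yon S).map_surjective (c ≫ pullback.snd f p')
  -- `g₀.left` is locally of finite type and quasi-compact
  have hfste : RepWith @Etale (pullback.fst f p') :=
    MorphismProperty.of_isPullback (P := RepWith @Etale) sq.flip hp'e
  have hae : RepWith @Etale (c ≫ pullback.fst f p') :=
    MorphismProperty.comp_mem _ _ _ hce hfste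
  have hcomm : (c ≫ pullback.fst f p') ≫ f = (yon S).map g₀ ≫ p' := by
    rw [Category.assoc, sq.w, ← Category.assoc, hg₀]
  haveI hglft : LocallyOfFiniteType g₀.left := hft.1 _ p' g₀ hae hp'e hcomm
  haveI hgqc : QuasiCompact g₀.left :=
    (HasAffineProperty.iff_of_isAffine (P := @QuasiCompact)).mpr hUc
  -- `v'` lies in the closure of the image of `g₀.left`
  have hv'cl : v' ∈ closure (Set.range g₀.left.base) := by
    have hopen := Groth.Agent.H52.isOpenMap_ofPt_of_repWith_etale p' hp'e
    have hcont := Points.continuous_ofPt p'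
    have h1 : v' ∈ Points.ofPt p' ⁻¹' closure (Set.range (Points.map f)) := by
      rw [Set.mem_preimage, hv']; exact hy
    rw [hopen.preimage_closure_eq_closure_preimage hcont] at h1
    refine closure_mono ?_ h1
    rintro w ⟨x, hx⟩
    rw [Points.ofPt_eq_map_ofScheme] at hx
    obtain ⟨z, -, hz2⟩ := Groth.Agent.H53.exists_point_of_isPullback sq x _ hx
    obtain ⟨u, rfl⟩ := Groth.Agent.H52.ofPt_surjective_of_repWith_surjective c hcs z
    refine ⟨u, ?_⟩
    rw [Points.map_ofPt, ← hg₀] at hz2
    have := congrArg (Points.toScheme V') hz2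
    rw [Points.toScheme_ofPt, Points.toScheme_ofScheme] at this
    exact this
  obtain ⟨A, i1, i2, i3, h, ξ, hξ, hcl⟩ := exists_dvr_of_mem_closure g₀.left v' hv'cl
  have hw : g₀.left ≫ V'.hom = U.hom := Over.w g₀
  let ho : Over.mk (h ≫ V'.hom) ⟶ V' := Over.homMk h rfl
  let ξo : Over.mk (Spec.map (CommRingCat.ofHom (algebraMap A (FractionRing A))) ≫ h ≫ V'.hom) ⟶
      U := Over.homMk ξ (by
    change ξ ≫ U.hom = Spec.map _ ≫ h ≫ V'.hom
    rw [← hw, ← Category.assoc, hξ, Category.assoc])
  refine ⟨A, i1, i2, i3, h ≫ V'.hom, (yon S).map ho ≫ p',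
    (yon S).map ξo ≫ c ≫ pullback.fst f p', ?_, ?_⟩
  · have e1 : (yon S).map ξo ≫ (yon S).map g₀ =
        (yon S).map (Over.homMk (Spec.map (CommRingCat.ofHom
          (algebraMap A (FractionRing A))))) ≫ (yon S).map ho := by
      rw [← Functor.map_comp, ← Functor.map_comp]
      congr 1
      apply Over.OverMorphism.ext
      exact hξ
    rw [Category.assoc, hcomm]
    exact ((Category.assoc _ _ _).symm.trans (congrArg (· ≫ p') e1)).trans (Category.assoc _ _ _)
  · change Points.map _ (Points.ofScheme _ _) = y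
    rw [← Points.ofPt_eq_map_ofScheme, Groth.Agent.H52.ofPt_yon_map_comp]
    change Points.ofPt p' (h.base (IsLocalRing.closedPoint A)) = y
    rw [hcl, hv']

end DVRSp

end Groth.Agent.H50
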