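import Groth.Agent.H50.LocPClass

set_option autoImplicit false
set_option backward.isDefEq.respectTransparency false
universe u
open CategoryTheory CategoryTheory.Limits AlgebraicGeometry Opposite

namespace Groth.Agent.H50

open AlgSp

variable {S : Scheme.{u}}

namespace GoodClass

variable {P : MorphismProperty Scheme.{u}} (hG : GoodClass P)

include hG

/-- `LocP P` is stable under base change between algebraic spaces. -/
theorem locP_of_isPullback {X Y Y' X' : Sp S} (hX : IsAlgSpace X) (hY : IsAlgSpace Y)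
    (hY' : IsAlgSpace Y') (f : X ⟶ Y) (g : Y' ⟶ Y) (fst : X' ⟶ X) (f' : X' ⟶ Y')
    (sq : IsPullback fst f' f g) (hf : LocP P f) : LocP P f' := by
  obtain ⟨W, q, hq1, hq2⟩ := hY'.atlas
  have sqM := IsPullback.of_hasPullback f' q
  refine locP_of_isPullback_atlas P hG.desc f' W q hq1 hq2 (pullback.fst f' q) (pullback.snd f' q)
    sqM ?_
  have sqMt : IsPullback (pullback.fst f' q ≫ fst) (pullback.snd f' q) f (q ≫ g) :=
    sqM.paste_horiz sq
  obtain ⟨X₀, d, hd1, hd2⟩ := hX.atlas
  have hα : RepWith P (d ≫ f) :=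
    hG.repWith_of_locP hY (d ≫ f) (hY.representable_from_yon _)
      (hG.locP_comp hX d f (hG.locP_of_repWith_etale d hd1) hf)
  obtain ⟨Z, z₂, z₁, sqZ⟩ := Groth.Agent.H53.exists_pullback_yon (q ≫ g) (d ≫ f) hα.rep
  have hPz : P z₂.left := Groth.Agent.H53.prop_of_isPullback_yon sqZ hα
  obtain ⟨a', ha'1, ha'2⟩ := sqMt.exists_lift ((yon S).map z₁ ≫ d) ((yon S).map z₂) (by
    rw [Category.assoc]; exact sqZ.w.symm)
  have sqA : IsPullback ((yon S).map z₁) a' d (pullback.fst f' q ≫ fst) := by
    refine IsPullback.of_bot ?_ ha'1.symm sqMt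
    rw [ha'2]
    exact sqZ.flip
  have hA1 : RepWith @Etale a' := MorphismProperty.of_isPullback sqA hd1
  have hA2 : RepWith @Surjective a' := MorphismProperty.of_isPullback sqA hd2
  refine locP_of_source_chart hG.src (pullback.snd f' q) Z a' hA1 hA2 ?_
  rw [ha'2]
  exact hG.locP_yon_map z₂ hPz

end GoodClass

end Groth.Agent.H50
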