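import Groth.Agent.H50.DVRSp2
import Groth.Agent.H50.LocPBase
import Groth.Agent.H22.DVRUC
import Groth.Agent.H51.SpVC3
import Groth.Agent.H49.FppfLocal2
import Groth.Agent.H49.AlgSpCover

set_option autoImplicit false
set_option backward.isDefEq.respectTransparency false
set_option linter.style.haveILetI false
set_option linter.unusedSectionVars false
universe u
open CategoryTheory CategoryTheory.Limits AlgebraicGeometry Opposite Topology

namespace Groth.Agent.H50
open AlgSp Groth.Agent.H49

variable {S : Scheme.{u}}

namespace DVRSp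

/-- Uniqueness of dotted arrows for DVR test squares of `f` gives the DVR existence part of the
valuative criterion for every base change of the diagonal of `f` to a scheme. -/
theorem dvrExist_snd_diagonal_of_dvr_uniq {X Y : Sp S} (f : X ⟶ Y)
    (hu : ∀ sq : ValSq f, IsDiscreteValuationRing sq.A → sq.HasUniq) {T Z : Over S}
    (g : (yon S).obj T ⟶ pullback f f) (fst : (yon S).obj Z ⟶ X) (snd : Z ⟶ T)
    (sq : IsPullback fst ((yon S).map snd) (pullback.diagonal f) g) :
    Groth.Agent.H22.DVRUC.DVRExist snd.left := by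
  intro A _ _ _ x y hxy
  let str : Spec (.of A) ⟶ S := y ≫ T.hom
  let ptR : Over S := Over.mk str
  let ptK : Over S := Over.mk (Spec.map (CommRingCat.ofHom (algebraMap A (FractionRing A))) ≫ str)
  let j : ptK ⟶ ptR :=
    Over.homMk (Spec.map (CommRingCat.ofHom (algebraMap A (FractionRing A)))) rfl
  let i₂O : ptR ⟶ T := Over.homMk y rfl
  have hi₁ : x ≫ Z.hom = ptK.hom := by
    change x ≫ Z.hom = Spec.map _ ≫ y ≫ T.hom
    rw [← CategoryTheory.Over.w snd, ← Category.assoc, hxy, Category.assoc]
  let i₁O : ptK ⟶ Z := Over.homMk x hi₁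
  have hji : j ≫ i₂O = i₁O ≫ snd := by
    ext
    exact hxy.symm
  let l : (yon S).obj ptR ⟶ X := (yon S).map i₂O ≫ g ≫ pullback.fst f f
  let l' : (yon S).obj ptR ⟶ X := (yon S).map i₂O ≫ g ≫ pullback.snd f f
  let top : (yon S).obj ptK ⟶ X := (yon S).map i₁O ≫ fst
  have hl : (yon S).map j ≫ l = top := by
    change (yon S).map j ≫ (yon S).map i₂O ≫ g ≫ pullback.fst f f = (yon S).map i₁O ≫ fst
    rw [← Category.assoc, ← Functor.map_comp, hji, Functor.map_comp, Category.assoc,
      ← Category.assoc ((yon S).map snd), ← sq.w, Category.assoc, pullback.diagonal_fst,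
      Category.comp_id]
  have hl' : (yon S).map j ≫ l' = top := by
    change (yon S).map j ≫ (yon S).map i₂O ≫ g ≫ pullback.snd f f = (yon S).map i₁O ≫ fst
    rw [← Category.assoc, ← Functor.map_comp, hji, Functor.map_comp, Category.assoc,
      ← Category.assoc ((yon S).map snd), ← sq.w, Category.assoc, pullback.diagonal_snd,
      Category.comp_id]
  have hll' : l ≫ f = l' ≫ f := by
    change ((yon S).map i₂O ≫ g ≫ pullback.fst f f) ≫ f =
      ((yon S).map i₂O ≫ g ≫ pullback.snd f f) ≫ f
    simp only [Category.assoc, pullback.condition]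
  let vsq : ValSq f :=
    { A := A, K := FractionRing A, str := str, top := top, bot := l ≫ f
      comm := by
        have := congrArg (· ≫ f) hl
        simp only [Category.assoc] at this
        exact this.symm }
  have hdvr : IsDiscreteValuationRing vsq.A := ‹IsDiscreteValuationRing A›
  have hEq : l = l' := hu vsq hdvr l l' hl rfl hl' hll'.symm
  have hw : l ≫ pullback.diagonal f = (yon S).map i₂O ≫ g := by
    apply pullback.hom_ext
    · rw [Category.assoc, pullback.diagonal_fst, Category.comp_id, Category.assoc]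
    · rw [Category.assoc, pullback.diagonal_snd, Category.comp_id, Category.assoc, hEq]
  obtain ⟨σ', hσ1, hσ2⟩ := sq.exists_lift l ((yon S).map i₂O) hw
  obtain ⟨σ, rfl⟩ := (yon S).map_surjective σ'
  rw [← Functor.map_comp] at hσ2
  have hσ2' : σ ≫ snd = i₂O := (yon S).map_injective hσ2
  have hjσ : j ≫ σ = i₁O := by
    apply (yon S).map_injective
    apply sq.hom_ext
    · rw [Functor.map_comp, Category.assoc, hσ1, hl]
    · rw [← Functor.map_comp, ← Functor.map_comp, Category.assoc, hσ2', hji]
  refine ⟨σ.left, ?_, ?_⟩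
  · exact congrArg (fun φ => φ.left) hσ2'
  · exact congrArg (fun φ => φ.left) hjσ

/-- **DVR criterion for separatedness** over a locally Noetherian algebraic space. -/
theorem isSeparatedMor_of_dvr_uniq {X Y : Sp S} (hX : IsAlgSpace X) (hYa : IsAlgSpace Y)
    (f : X ⟶ Y) (hqs : IsQuasiSeparatedMor f) (hlft : LocP @LocallyOfFiniteType f)
    (hY : IsLocNoethSp Y)
    (hu : ∀ sq : ValSq f, IsDiscreteValuationRing sq.A → sq.HasUniq) : IsSeparatedMor f := by
  have hD := diagProps_diagonal hX f
  have sqG := IsPullback.of_hasPullback f f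
  have hG : IsAlgSpace (pullback f f) := isAlgSpace_of_isPullback sqG hYa.diag hX hX
  have hfst : LocP @LocallyOfFiniteType (pullback.fst f f) :=
    goodClass_lft.locP_of_isPullback hX hYa hX f f (pullback.snd f f) (pullback.fst f f)
      sqG.flip hlft
  have hq : LocP @LocallyOfFiniteType (pullback.fst f f ≫ f) :=
    goodClass_lft.locP_comp hX _ _ hfst hlft
  obtain ⟨V, p, hpe, hps, hVN⟩ := hY
  obtain ⟨T, c, α, hce, hcs, hcomm⟩ := exists_chart_lift hG (pullback.fst f f ≫ f) p hpe hps
  haveI : LocallyOfFiniteType α.left := hq c p α hce hpe hcomm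
  haveI := hVN
  haveI hTN : IsLocallyNoetherian T.left := LocallyOfFiniteType.isLocallyNoetherian α.left
  haveI : Sheaf.IsLocallySurjective c := isLocallySurjective_of_repWith_etale_surjective c hce hcs
  obtain ⟨Z, snd, fst, sq⟩ := hD.1 c
  haveI : LocallyOfFiniteType snd.left := hD.2.1.property c fst snd sq
  haveI : QuasiCompact snd.left := hqs.property c fst snd sq
  have hUCs : UniversallyClosed snd.left :=
    Groth.Agent.H22.DVRUC.universallyClosed_of_dvrExist snd.left
      (dvrExist_snd_diagonal_of_dvr_uniq f hu c fst snd sq)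
  have hUC' : RepWith @UniversallyClosed ((yon S).map snd) :=
    (repWith_yon_map_iff @UniversallyClosed snd).2 hUCs
  have hUC : RepWith @UniversallyClosed (pullback.diagonal f) :=
    repWith_of_isLocallySurjective_base (pullback.diagonal f) hD.1 c fst ((yon S).map snd) sq
      @UniversallyClosed hUC'
  exact repWith_isClosedImmersion_of_univClosed_lft_mono hUC hD.2.1 hD.2.2.2.2.1

end DVRSp

end Groth.Agent.H50
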