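import Groth.Agent.H50.DenseRing2
import Groth.Prelude.Def_CInt
import Mathlib.AlgebraicGeometry.Morphisms.Etale
import Mathlib.AlgebraicGeometry.Morphisms.Flat
import Mathlib.AlgebraicGeometry.Morphisms.QuasiCompact
import Mathlib.RingTheory.Unramified.LocalStructure

set_option autoImplicit false
universe u
open CategoryTheory AlgebraicGeometry TopologicalSpace Opposite

namespace Groth.Agent.H50

variable {X : Scheme.{u}}

/-- A section all of whose germs vanish is zero. -/
theorem section_eq_zero_of_germ {V : X.Opens} (s : Γ(X, V))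
    (h : ∀ (x : X) (hx : x ∈ V), X.presheaf.germ V x hx s = 0) : s = 0 := by
  refine TopCat.Presheaf.section_ext X.sheaf V s 0 (fun x hx => ?_)
  rw [map_zero]
  exact h x hx

/-- The functions on an affine open whose basic open lies in `W`. -/
def goodFunctions (W U : X.Opens) : Set Γ(X, U) := {h | X.basicOpen h ≤ W}

/-- Schematic density gives ring-level density on every affine open. -/
theorem ringDense_of_isSchematicallyDense (W : X.Opens) (hW : CInt.IsSchematicallyDense W)
    {U : X.Opens} (hU : IsAffineOpen U) : RingDense Γ(X, U) (goodFunctions W U) := by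
  intro g a H
  apply exists_pow_mul_eq_zero_of_res_basicOpen_eq_zero_of_isAffineOpen X hU a g
  apply hW (X.basicOpen g)
  rw [map_zero]
  apply section_eq_zero_of_germ
  intro x hx
  have hxg : x ∈ X.basicOpen g := hx.1
  have hxU : x ∈ U := X.basicOpen_le g hxg
  obtain ⟨h, hhW, hxh⟩ := hU.exists_basicOpen_le (V := W) ⟨x, hx.2⟩ hxU
  obtain ⟨n, hn⟩ := H h hhW
  have hx' : x ∈ X.basicOpen (g * h) := by
    rw [Scheme.basicOpen_mul]; exact ⟨hxg, hxh⟩
  have hz : X.presheaf.germ U x hxU a = 0 :=
    AlgebraicGeometry.germ_eq_zero_of_pow_mul_eq_zero (X := X) (U := U) ⟨x, hxU⟩ hx' hn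
  have e1 : (a |_ X.basicOpen g) = X.presheaf.map (homOfLE (X.basicOpen_le g)).op a := rfl
  rw [e1, TopCat.Presheaf.germ_res_apply, TopCat.Presheaf.germ_res_apply]
  exact hz

/-- Schematic density can be checked on a basis of affine opens. -/
theorem isSchematicallyDense_of_basis (W : X.Opens) (B : Set X.Opens)
    (hB : ∀ (V : X.Opens) (x : X), x ∈ V → ∃ U ∈ B, x ∈ U ∧ U ≤ V)
    (H : ∀ U ∈ B, Function.Injective (X.presheaf.map (homOfLE (inf_le_left : U ⊓ W ≤ U)).op)) :
    CInt.IsSchematicallyDense W := by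
  intro V
  rw [injective_iff_map_eq_zero]
  intro s hs
  apply section_eq_zero_of_germ
  intro x hx
  obtain ⟨U, hUB, hxU, hUV⟩ := hB V x hx
  have h1 : X.presheaf.map (homOfLE hUV).op s = 0 := by
    apply H U hUB
    rw [map_zero]
    have e : X.presheaf.map (homOfLE (inf_le_left : U ⊓ W ≤ U)).op
        (X.presheaf.map (homOfLE hUV).op s) =
        X.presheaf.map (homOfLE (inf_le_inf_right W hUV)).op
          (X.presheaf.map (homOfLE (inf_le_left : V ⊓ W ≤ V)).op s) := by
      rw [← CommRingCat.comp_apply, ← CommRingCat.comp_apply, ← Functor.map_comp,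
        ← Functor.map_comp]
      rfl
    rw [e, hs, map_zero]
  have h2 := congrArg (X.presheaf.germ U x hxU) h1
  rw [TopCat.Presheaf.germ_res_apply, map_zero] at h2
  exact h2

/-- Ring-level density passes along etale ring maps. -/
theorem RingDense.of_etale {R S : Type u} [CommRing R] [CommRing S] (φ : R →+* S)
    (hφ : φ.Etale) {𝔥 : Set R} (h : RingDense R 𝔥) : RingDense S (φ '' 𝔥) := by
  algebraize [φ]
  intro g a H
  -- the ideal of `t` with `t * g ∈ radAnn a`
  have hstd : ∀ q : PrimeSpectrum S, ∃ f : S, f ∉ q.asIdeal ∧ f * g ∈ radAnn a := by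
    intro q
    have : Algebra.IsEtaleAt R q.asIdeal := inferInstance
    obtain ⟨f, hfq, hstd⟩ := Algebra.IsEtaleAt.exists_isStandardEtale (R := R) q.asIdeal
    refine ⟨f, hfq, ?_⟩
    have h1 : RingDense (Localization.Away f) (algebraMap R (Localization.Away f) '' 𝔥) :=
      h.of_isStandardEtale
    obtain ⟨n, hn⟩ := h1 (algebraMap S _ g) (algebraMap S _ a) (by
      rintro _ ⟨t, ht, rfl⟩
      obtain ⟨n, hn⟩ := H (φ t) ⟨t, ht, rfl⟩
      refine ⟨n, ?_⟩
      rw [IsScalarTower.algebraMap_apply R S (Localization.Away f), ← map_mul, ← map_pow,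
        ← map_mul]
      have : algebraMap R S t = φ t := rfl
      rw [this, hn, map_zero])
    rw [← map_pow, ← map_mul] at hn
    obtain ⟨⟨_, m, rfl⟩, hm⟩ :=
      (IsLocalization.map_eq_zero_iff (Submonoid.powers f) (Localization.Away f) _).1 hn
    rw [mem_radAnn]
    refine ⟨m + n, ?_⟩
    calc (f * g) ^ (m + n) * a = (f ^ n * g ^ m) * (f ^ m * (g ^ n * a)) := by ring
      _ = 0 := by rw [hm, mul_zero]
  choose f hf1 hf2 using hstd
  have hcolon : Ideal.span (Set.range f) = ⊤ := by
    by_contra hne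
    obtain ⟨m, hm, hle⟩ := Ideal.exists_le_maximal _ hne
    exact hf1 ⟨m, hm.isPrime⟩ (hle (Ideal.subset_span ⟨_, rfl⟩))
  have hall : ∀ t ∈ Ideal.span (Set.range f), t * g ∈ radAnn a := by
    intro t ht
    induction ht using Submodule.span_induction with
    | mem x hx => obtain ⟨q, rfl⟩ := hx; exact hf2 q
    | zero => rw [zero_mul]; exact (radAnn a).zero_mem
    | add x y _ _ hx hy => rw [add_mul]; exact (radAnn a).add_mem hx hy
    | smul r x _ hx => rw [smul_eq_mul, mul_assoc]; exact (radAnn a).mul_mem_left _ hx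
  have h1 : (1 : S) * g ∈ radAnn a := hall 1 (by rw [hcolon]; trivial)
  rw [one_mul] at h1
  exact mem_radAnn.1 h1

end Groth.Agent.H50
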