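import Groth.Agent.H50.DenseEtale

set_option autoImplicit false
universe u
open CategoryTheory AlgebraicGeometry TopologicalSpace Opposite

namespace Groth.Agent.H50

/-- The inverse image of a schematically dense open under an etale morphism is schematically
dense (no quasi-compactness needed). -/
theorem isSchematicallyDense_preimage_of_etale {X' X : Scheme.{u}} (f : X' ⟶ X) [Etale f]
    (W : X.Opens) (hW : CInt.IsSchematicallyDense W) : CInt.IsSchematicallyDense (f ⁻¹ᵁ W) := by
  refine isSchematicallyDense_of_basis (f ⁻¹ᵁ W)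
    {V' | IsAffineOpen V' ∧ ∃ U : X.Opens, IsAffineOpen U ∧ V' ≤ f ⁻¹ᵁ U} ?_ ?_
  · intro V' x' hx'
    obtain ⟨U, hU, hxU, -⟩ := exists_isAffineOpen_mem_and_subset (x := f x') (U := ⊤) trivial
    have hx'' : x' ∈ V' ⊓ f ⁻¹ᵁ U := ⟨hx', hxU⟩
    obtain ⟨V'', hV'', hxV'', hle⟩ := exists_isAffineOpen_mem_and_subset hx''
    exact ⟨V'', ⟨hV'', U, hU, fun y hy => (hle hy).2⟩, hxV'', fun y hy => (hle hy).1⟩
  · rintro V' ⟨hV', U, hU, e⟩
    have hφ : (f.appLE U V' e).hom.Etale :=
      HasRingHomProperty.appLE (P := @Etale) f inferInstance ⟨U, hU⟩ ⟨V', hV'⟩ e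
    have hd := (ringDense_of_isSchematicallyDense W hW hU).of_etale (f.appLE U V' e).hom hφ
    rw [injective_iff_map_eq_zero]
    intro a ha
    obtain ⟨n, hn⟩ := hd 1 a (by
      rintro _ ⟨h, hh, rfl⟩
      rw [one_mul]
      apply exists_pow_mul_eq_zero_of_res_basicOpen_eq_zero_of_isAffineOpen X' hV'
      have hle : X'.basicOpen ((f.appLE U V' e).hom h) ≤ V' ⊓ f ⁻¹ᵁ W := by
        rw [Scheme.basicOpen_appLE]
        exact inf_le_inf_left _ (fun y hy => hh hy)
      have e1 : (a |_ X'.basicOpen ((f.appLE U V' e).hom h)) =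
          X'.presheaf.map (homOfLE hle).op
            (X'.presheaf.map (homOfLE (inf_le_left : V' ⊓ f ⁻¹ᵁ W ≤ V')).op a) := by
        rw [← CommRingCat.comp_apply, ← Functor.map_comp]
        rfl
      rw [e1, ha, map_zero])
    rw [one_pow, one_mul] at hn
    exact hn

/-- Schematic density descends along flat surjective morphisms. -/
theorem isSchematicallyDense_of_preimage_flat_surjective {X' X : Scheme.{u}} (f : X' ⟶ X) [Flat f]
    [Surjective f] (W : X.Opens) (hW : CInt.IsSchematicallyDense (f ⁻¹ᵁ W)) :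
    CInt.IsSchematicallyDense W := by
  intro V
  rw [injective_iff_map_eq_zero]
  intro s hs
  have h1 : f.app V s = 0 := by
    apply hW (f ⁻¹ᵁ V)
    rw [map_zero]
    have e : X'.presheaf.map (homOfLE (inf_le_left : f ⁻¹ᵁ V ⊓ f ⁻¹ᵁ W ≤ f ⁻¹ᵁ V)).op (f.app V s) =
        f.app (V ⊓ W) (X.presheaf.map (homOfLE (inf_le_left : V ⊓ W ≤ V)).op s) := by
      rw [← CommRingCat.comp_apply, ← CommRingCat.comp_apply]
      congr 2
      exact (f.naturality (homOfLE (inf_le_left : V ⊓ W ≤ V)).op).symm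
    rw [e, hs, map_zero]
    rfl
  apply section_eq_zero_of_germ
  intro x hx
  obtain ⟨x', rfl⟩ := f.surjective x
  have hinj : Function.Injective (f.stalkMap x').hom := by
    algebraize [(f.stalkMap x').hom]
    have : Module.FaithfullyFlat (X.presheaf.stalk (f x')) (X'.presheaf.stalk x') :=
      @Module.FaithfullyFlat.of_flat_of_isLocalHom _ _ _ _ _ _ _
        (Flat.stalkMap f x') (f.toLRSHom.prop x')
    exact ‹RingHom.FaithfullyFlat _›.injective
  apply hinj
  rw [map_zero]
  have := Scheme.Hom.germ_stalkMap_apply f V x' hx s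
  rw [h1, map_zero] at this
  exact this

end Groth.Agent.H50
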