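import Mathlib.LinearAlgebra.Charpoly.Basic
import Mathlib.LinearAlgebra.FreeModule.Finite.Basic
import Mathlib.RingTheory.Ideal.Operations
import Mathlib.RingTheory.Ideal.Maps
import Mathlib.Algebra.Polynomial.AlgebraMap
import Mathlib.Algebra.Polynomial.Inductions
import Mathlib.Algebra.Algebra.Bilinear

set_option autoImplicit false
universe u
open Polynomial

namespace Groth.Agent.H50

/-- Ring-level schematic density: `𝔥` is a set of elements of `A` (those whose basic opens lie in
the dense open). A function `a` on `D(g)` vanishing on all `D(g h)`, `h ∈ 𝔥`, vanishes on `D(g)`. -/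
def RingDense (A : Type*) [CommRing A] (𝔥 : Set A) : Prop :=
  ∀ g a : A, (∀ h ∈ 𝔥, ∃ n : ℕ, (g * h) ^ n * a = 0) → ∃ n : ℕ, g ^ n * a = 0

section Rad

variable {C : Type*} [CommRing C]

/-- The radical of the annihilator of `s`: the functions `t` with `s` vanishing on `D(t)`. -/
def radAnn (s : C) : Ideal C := (Submodule.annihilator (Ideal.span {s} : Ideal C)).radical

theorem mem_radAnn {s t : C} : t ∈ radAnn s ↔ ∃ n : ℕ, t ^ n * s = 0 := by
  unfold radAnn
  rw [Ideal.mem_radical_iff]
  simp only [Submodule.mem_annihilator_span_singleton, smul_eq_mul]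

theorem radAnn_isRadical (s : C) : (radAnn s).IsRadical := Ideal.radical_isRadical _

theorem radAnn_le_mul (s t : C) : radAnn s ≤ radAnn (t * s) := by
  intro x hx
  rw [mem_radAnn] at hx ⊢
  obtain ⟨n, hn⟩ := hx
  exact ⟨n, by rw [mul_left_comm, hn, mul_zero]⟩

end Rad

section Key

variable {A C : Type*} [CommRing A] [CommRing C] [Algebra A C] [Module.Free A C]
  [Module.Finite A C]

/-- coordinates: an element of `A` killing `s̃` up to powers, coordinatewise. -/
theorem exists_pow_smul_eq_zero_of_ringDense {𝔥 : Set A} (hA : RingDense A 𝔥) (u : A) (t : C)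
    (H : ∀ h ∈ 𝔥, ∃ n : ℕ, (u * h) ^ n • t = 0) : ∃ n : ℕ, u ^ n • t = 0 := by
  classical
  let b := Module.Free.chooseBasis A C
  have hfin : Fintype (Module.Free.ChooseBasisIndex A C) := inferInstance
  have hi : ∀ i, ∃ n : ℕ, u ^ n * b.repr t i = 0 := by
    intro i
    apply hA
    intro h hh
    obtain ⟨n, hn⟩ := H h hh
    refine ⟨n, ?_⟩
    have := congrArg (fun x => b.repr x i) hn
    simpa using this
  choose n hn using hi
  refine ⟨Finset.univ.sup n, ?_⟩
  apply b.repr.injective
  ext i
  have hle : n i ≤ Finset.univ.sup n := Finset.le_sup (Finset.mem_univ i)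
  obtain ⟨k, hk⟩ := Nat.exists_eq_add_of_le hle
  simp only [map_smul, Finsupp.smul_apply, smul_eq_mul, map_zero, Finsupp.zero_apply]
  rw [hk, pow_add, mul_right_comm, hn i, zero_mul]

/-- The key step: if `c * G ∈ radAnn s` and `G = u + c * q` with `u ∈ A`, then `u * c ∈ radAnn s`. -/
theorem key_step {𝔥 : Set A} (hA : RingDense A 𝔥) (c s G q : C) (u : A)
    (H : ∀ h ∈ 𝔥, c * algebraMap A C h ∈ radAnn s) (hG : c * G ∈ radAnn s)
    (hGu : G = algebraMap A C u + c * q) : algebraMap A C u * c ∈ radAnn s := by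
  obtain ⟨M, hM⟩ := mem_radAnn.1 hG
  -- `s̃ = c^M s`
  have h1 : G ∈ radAnn (c ^ M * s) := by
    rw [mem_radAnn]
    refine ⟨M, ?_⟩
    rw [← mul_assoc, ← mul_pow, mul_comm G c, hM]
  have h2 : ∀ h ∈ 𝔥, algebraMap A C u * algebraMap A C h ∈ radAnn (c ^ M * s) := by
    intro h hh
    have e : algebraMap A C u * algebraMap A C h =
        G * algebraMap A C h - q * (c * algebraMap A C h) := by
      rw [hGu]; ring
    rw [e]
    exact (radAnn (c ^ M * s)).sub_mem ((radAnn _).mul_mem_right _ h1)
      ((radAnn _).mul_mem_left _ (radAnn_le_mul s _ (H h hh)))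
  have h3 : ∃ n : ℕ, u ^ n • (c ^ M * s) = 0 := by
    apply exists_pow_smul_eq_zero_of_ringDense hA
    intro h hh
    obtain ⟨n, hn⟩ := mem_radAnn.1 (h2 h hh)
    refine ⟨n, ?_⟩
    rw [Algebra.smul_def, map_pow, map_mul]
    exact hn
  obtain ⟨n, hn⟩ := h3
  rw [mem_radAnn]
  refine ⟨n + M, ?_⟩
  rw [Algebra.smul_def, map_pow] at hn
  calc (algebraMap A C u * c) ^ (n + M) * s
      = (algebraMap A C u ^ M * c ^ n) * (algebraMap A C u ^ n * (c ^ M * s)) := by ring
    _ = 0 := by rw [hn, mul_zero]

/-- Induction along the coefficients of a monic polynomial killing `c`. -/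
theorem mem_radAnn_of_monic {𝔥 : Set A} (hA : RingDense A 𝔥) (c s : C)
    (H : ∀ h ∈ 𝔥, c * algebraMap A C h ∈ radAnn s) :
    ∀ (n : ℕ) (p : A[X]), p.Monic → p.natDegree = n → c * aeval c p ∈ radAnn s → c ∈ radAnn s := by
  intro n
  induction n with
  | zero =>
    intro p hp hdeg hc
    have : p = 1 := by
      rw [Polynomial.eq_C_of_natDegree_eq_zero hdeg]
      have := hp.coeff_natDegree
      rw [hdeg] at this
      rw [this, map_one]
    rw [this, map_one, mul_one] at hc
    exact hc
  | succ n ih =>
    intro p hp hdeg hc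
    have hdecomp : aeval c p = algebraMap A C (p.coeff 0) + c * aeval c p.divX := by
      conv_lhs => rw [← Polynomial.divX_mul_X_add p]
      simp only [map_add, map_mul, aeval_X, aeval_C]
      ring
    have hu := key_step hA c s (aeval c p) (aeval c p.divX) (p.coeff 0) H hc hdecomp
    have hmon : p.divX.Monic := by
      rw [Polynomial.Monic, Polynomial.leadingCoeff, Polynomial.natDegree_divX_eq_natDegree_tsub_one,
        Polynomial.coeff_divX, hdeg]
      have := hp.coeff_natDegree
      rw [hdeg] at this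
      simpa using this
    have hdeg' : p.divX.natDegree = n := by
      rw [Polynomial.natDegree_divX_eq_natDegree_tsub_one, hdeg]; rfl
    apply ih p.divX hmon hdeg'
    -- `c * (c * aeval c p.divX) ∈ radAnn s`, hence `(c * aeval c p.divX)^2 ∈ radAnn s`
    have h4 : c * (c * aeval c p.divX) ∈ radAnn s := by
      have e : c * (c * aeval c p.divX) = c * aeval c p - algebraMap A C (p.coeff 0) * c := by
        rw [hdecomp]; ring
      rw [e]
      exact (radAnn s).sub_mem hc hu
    apply radAnn_isRadical s
    refine ⟨2, ?_⟩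
    have e : (c * aeval c p.divX) ^ 2 = aeval c p.divX * (c * (c * aeval c p.divX)) := by ring
    rw [e]
    exact (radAnn s).mul_mem_left _ h4

/-- Ring-level density passes to finite free algebras. -/
theorem RingDense.of_finite_free {𝔥 : Set A} (hA : RingDense A 𝔥) :
    RingDense C (algebraMap A C '' 𝔥) := by
  intro c s H
  have H' : ∀ h ∈ 𝔥, c * algebraMap A C h ∈ radAnn s := by
    intro h hh
    rw [mem_radAnn]
    exact H _ ⟨h, hh, rfl⟩
  have hchar : aeval c (Algebra.lmul A C c).charpoly = 0 := by
    have h1 := LinearMap.aeval_self_charpoly (Algebra.lmul A C c)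
    have h2 : aeval (Algebra.lmul A C c) (Algebra.lmul A C c).charpoly =
        Algebra.lmul A C (aeval c (Algebra.lmul A C c).charpoly) :=
      (Polynomial.aeval_algHom_apply (Algebra.lmul A C) c _)
    rw [h2] at h1
    have := congrArg (fun φ : C →ₗ[A] C => φ 1) h1
    simpa using this
  have hc : c ∈ radAnn s :=
    mem_radAnn_of_monic hA c s H' _ _ (LinearMap.charpoly_monic _) rfl (by
      rw [hchar, mul_zero]; exact (radAnn s).zero_mem)
  exact mem_radAnn.1 hc

end Key

end Groth.Agent.H50
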