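import Groth.Agent.H50.DenseRing
import Mathlib.RingTheory.Etale.StandardEtale
import Mathlib.RingTheory.Localization.Away.Basic

set_option autoImplicit false
universe u
open Polynomial

namespace Groth.Agent.H50

/-- Ring-level density is invariant under ring isomorphisms. -/
theorem RingDense.of_ringEquiv {C C' : Type*} [CommRing C] [CommRing C'] (e : C ≃+* C')
    {𝔥 : Set C} (h : RingDense C 𝔥) : RingDense C' (e '' 𝔥) := by
  intro g a H
  have := h (e.symm g) (e.symm a) (by
    intro x hx
    obtain ⟨n, hn⟩ := H (e x) ⟨x, hx, rfl⟩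
    refine ⟨n, ?_⟩
    apply e.injective
    simpa using hn)
  obtain ⟨n, hn⟩ := this
  refine ⟨n, ?_⟩
  have := congrArg e hn
  simpa using this

/-- Ring-level density passes to localizations at one element. -/
theorem RingDense.of_isLocalization_away {C B : Type*} [CommRing C] [CommRing B] [Algebra C B]
    (g : C) [IsLocalization.Away g B] {𝔥 : Set C} (h : RingDense C 𝔥) :
    RingDense B (algebraMap C B '' 𝔥) := by
  intro g' a' H
  obtain ⟨k, x, hx⟩ := IsLocalization.Away.surj g g'
  obtain ⟨l, y, hy⟩ := IsLocalization.Away.surj g a'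
  have hu : IsUnit (algebraMap C B g) := IsLocalization.Away.algebraMap_isUnit g
  -- apply density with `c = g * x`, `s = y`
  have key : ∃ n : ℕ, (g * x) ^ n * y = 0 := by
    apply h
    intro t ht
    obtain ⟨n, hn⟩ := H _ ⟨t, ht, rfl⟩
    have h1 : algebraMap C B ((x * t) ^ n * y) = 0 := by
      rw [map_mul, map_pow, map_mul, ← hx, ← hy]
      calc (g' * algebraMap C B g ^ k * algebraMap C B t) ^ n * (a' * algebraMap C B g ^ l)
          = (algebraMap C B g ^ k) ^ n * algebraMap C B g ^ l *
              ((g' * algebraMap C B t) ^ n * a') := by ring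
        _ = 0 := by rw [hn, mul_zero]
    obtain ⟨⟨_, m, rfl⟩, hm⟩ := (IsLocalization.map_eq_zero_iff (Submonoid.powers g) B _).1 h1
    refine ⟨m + n, ?_⟩
    calc (g * x * t) ^ (m + n) * y = (g ^ n * (x * t) ^ m) * (g ^ m * ((x * t) ^ n * y)) := by ring
      _ = 0 := by rw [hm, mul_zero]
  obtain ⟨n, hn⟩ := key
  refine ⟨n, ?_⟩
  have h2 : algebraMap C B ((g * x) ^ n * y) = 0 := by rw [hn, map_zero]
  rw [map_mul, map_pow, map_mul, ← hx, ← hy] at h2
  have h3 : (algebraMap C B g ^ n * (algebraMap C B g ^ k) ^ n * algebraMap C B g ^ l) *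
      (g' ^ n * a') = 0 := by
    rw [← h2]; ring
  have hunit : IsUnit (algebraMap C B g ^ n * (algebraMap C B g ^ k) ^ n * algebraMap C B g ^ l) :=
    ((hu.pow n).mul ((hu.pow k).pow n)).mul (hu.pow l)
  exact (hunit.mul_right_eq_zero).1 h3

/-- Ring-level density passes to standard etale algebras. -/
theorem RingDense.of_isStandardEtale {R S : Type u} [CommRing R] [CommRing S] [Algebra R S]
    [Algebra.IsStandardEtale R S] {𝔥 : Set R} (h : RingDense R 𝔥) :
    RingDense S (algebraMap R S '' 𝔥) := by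
  let P : StandardEtalePresentation R S :=
    Algebra.IsStandardEtale.nonempty_standardEtalePresentation.some
  have hfree : Module.Free R (AdjoinRoot P.f) := P.monic_f.free_adjoinRoot
  have hfin : Module.Finite R (AdjoinRoot P.f) := P.monic_f.finite_adjoinRoot
  have h1 : RingDense (AdjoinRoot P.f) (algebraMap R (AdjoinRoot P.f) '' 𝔥) := h.of_finite_free
  have h2 := h1.of_isLocalization_away (B := Localization.Away (AdjoinRoot.mk P.f P.g))
    (AdjoinRoot.mk P.f P.g)
  let e : S ≃ₐ[R] Localization.Away (AdjoinRoot.mk P.f P.g) :=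
    P.equivRing.trans P.P.equivAwayAdjoinRoot
  have h3 := h2.of_ringEquiv e.symm.toRingEquiv
  convert h3 using 1
  ext s
  simp only [Set.mem_image]
  constructor
  · rintro ⟨r, hr, rfl⟩
    refine ⟨algebraMap R _ r, ⟨algebraMap R _ r, ⟨r, hr, rfl⟩, ?_⟩, ?_⟩
    · rw [← IsScalarTower.algebraMap_apply]
    · simp
  · rintro ⟨_, ⟨_, ⟨r, hr, rfl⟩, rfl⟩, rfl⟩
    refine ⟨r, hr, ?_⟩
    rw [← IsScalarTower.algebraMap_apply]
    simp

end Groth.Agent.H50
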