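import Groth.Agent.H50.DescentFormal
import Groth.Agent.H50.AbsSpec

set_option autoImplicit false
set_option backward.isDefEq.respectTransparency false
set_option linter.style.haveILetI false
universe u
open CategoryTheory CategoryTheory.Limits AlgebraicGeometry Opposite Topology
open scoped TensorProduct

namespace Groth.Agent.H50

open AlgSp

variable {S : Scheme.{u}}

section ovMap

variable {X Y Z : Type u} [CommRing X] [CommRing Y] [CommRing Z]

/-- `Spec` of a ring homomorphism, as a morphism over `S`. -/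
noncomputable def ovMap (f : X →+* Y) (τX : Spec (CommRingCat.of X) ⟶ S)
    (τY : Spec (CommRingCat.of Y) ⟶ S) (h : Spec.map (CommRingCat.ofHom f) ≫ τX = τY) :
    (Over.mk τY : Over S) ⟶ Over.mk τX :=
  Over.homMk (Spec.map (CommRingCat.ofHom f)) h

@[simp] theorem ovMap_left (f : X →+* Y) (τX : Spec (CommRingCat.of X) ⟶ S)
    (τY : Spec (CommRingCat.of Y) ⟶ S) (h : Spec.map (CommRingCat.ofHom f) ≫ τX = τY) :
    (ovMap f τX τY h).left = Spec.map (CommRingCat.ofHom f) := rfl

theorem specMap_ofHom_comp (f : X →+* Y) (g : Y →+* Z) :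
    Spec.map (CommRingCat.ofHom g) ≫ Spec.map (CommRingCat.ofHom f) =
      Spec.map (CommRingCat.ofHom (g.comp f)) := by
  rw [← Spec.map_comp, ← CommRingCat.ofHom_comp]

theorem specMap_ofHom_injective {f g : X →+* Y}
    (h : Spec.map (CommRingCat.ofHom f) = Spec.map (CommRingCat.ofHom g)) : f = g := by
  have h2 := Spec.map_injective h
  exact congrArg CommRingCat.Hom.hom h2

theorem exists_specMap_ofHom (a : Spec (CommRingCat.of Y) ⟶ Spec (CommRingCat.of X)) :
    ∃ f : X →+* Y, a = Spec.map (CommRingCat.ofHom f) := by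
  obtain ⟨g, hg⟩ := Spec.map_surjective a
  exact ⟨g.hom, hg.symm⟩

end ovMap

section main

variable {A₀ B₀ C : Type u} [CommRing A₀] [CommRing B₀] [CommRing C] [Algebra A₀ B₀]

/-- Effective descent of affine schemes along `Spec B₀ × S ⟶ Spec A₀ × S` for an fppf ring map
`A₀ → B₀`: a sheaf `F` over `Spec A₀ × S` whose base change to `Spec B₀ × S` is an affine scheme
`Spec C` is representable by an affine scheme. -/
theorem exists_affine_of_descent_abs_spec (β : B₀ →+* C) (σ : Spec (CommRingCat.of C) ⟶ S)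
    {F : Sp S} (π : F ⟶ (yon S).obj (absV S A₀)) (q : (yon S).obj (Over.mk σ) ⟶ F)
    (sq : IsPullback q
      ((yon S).map (absLift (Z := Over.mk σ) (Spec.map (CommRingCat.ofHom β)))) π
      ((yon S).map (absMap (algebraMap A₀ B₀))))
    (hfl : Flat (Spec.map (CommRingCat.ofHom (algebraMap A₀ B₀))))
    (hfp : LocallyOfFinitePresentation (Spec.map (CommRingCat.ofHom (algebraMap A₀ B₀))))
    (hsurj : Surjective (Spec.map (CommRingCat.ofHom (algebraMap A₀ B₀)))) :
    ∃ (W : Over S) (_ : (yon S).obj W ≅ F), IsAffine W.left := by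
  let _ : Algebra B₀ C := β.toAlgebra
  let _ : Algebra A₀ C := (β.comp (algebraMap A₀ B₀)).toAlgebra
  have : IsScalarTower A₀ B₀ C := IsScalarTower.of_algebraMap_eq (fun a => rfl)
  have : Module.Flat A₀ B₀ := by
    have h1 := (HasRingHomProperty.Spec_iff (P := @Flat)).1 hfl
    exact RingHom.flat_algebraMap_iff.1 h1
  -- notation
  let T : Over S := absV S A₀
  let T' : Over S := absV S B₀
  let c : T' ⟶ T := absMap (algebraMap A₀ B₀)
  let W' : Over S := Over.mk σ
  let w : W' ⟶ T' := absLift (Z := Over.mk σ) (Spec.map (CommRingCat.ofHom β))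
  let iL : C →+* C ⊗[A₀] B₀ := Algebra.TensorProduct.includeLeftRingHom
  let iR : B₀ →+* C ⊗[A₀] B₀ :=
    (Algebra.TensorProduct.includeRight : B₀ →ₐ[A₀] C ⊗[A₀] B₀).toRingHom
  let W₂ : Over S := Over.mk (Spec.map (CommRingCat.ofHom iL) ≫ σ)
  let p : W₂ ⟶ W' := ovMap iL σ _ rfl
  let s₂ : W₂ ⟶ T' := absLift (Z := W₂) (Spec.map (CommRingCat.ofHom iR))
  have hcfl : Flat c.left := MorphismProperty.of_isPullback (isPullback_absMap _).flip hfl
  have hcfp : LocallyOfFinitePresentation c.left :=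
    MorphismProperty.of_isPullback (isPullback_absMap _).flip hfp
  have hcsurj : Surjective c.left := MorphismProperty.of_isPullback (isPullback_absMap _).flip hsurj
  have hepic : Epi ((yon S).map c) := Groth.Agent.H52.epi_yon_map_of_fppf c hcfl hcfp hcsurj
  -- the tensor square
  have sqT : IsPullback (Spec.map (CommRingCat.ofHom iR)) (Spec.map (CommRingCat.ofHom iL))
      (Spec.map (CommRingCat.ofHom (algebraMap A₀ B₀)))
      (Spec.map (CommRingCat.ofHom (algebraMap A₀ C))) :=
    (isPullback_SpecMap_of_isPushout _ _ _ _ (CommRingCat.isPushout_tensorProduct A₀ C B₀)).flip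
  have hwc : (w ≫ c).left ≫ absPr S A₀ = Spec.map (CommRingCat.ofHom (algebraMap A₀ C)) := by
    rw [Over.comp_left, Category.assoc, absMap_pr, ← Category.assoc, absLift_pr,
      specMap_ofHom_comp]
    rfl
  have sqS : IsPullback p s₂ (w ≫ c) c := by
    have hcomm : p ≫ w ≫ c = s₂ ≫ c := by
      apply abs_hom_ext
      rw [Over.comp_left, Category.assoc, hwc, Over.comp_left, Category.assoc, absMap_pr,
        ← Category.assoc, absLift_pr]
      exact sqT.w.symm
    refine IsPullback.of_map (Over.forget S) hcomm ?_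
    have h1 : IsPullback s₂.left p.left c.left (w ≫ c).left := by
      refine IsPullback.of_right ?_ (congrArg (fun k => k.left) hcomm).symm
        (isPullback_absMap (S := S) (algebraMap A₀ B₀)).flip
      rw [absLift_pr, hwc]
      exact sqT
    exact h1.flip
  have sqY : IsPullback ((yon S).map p) ((yon S).map s₂) ((yon S).map (w ≫ c))
      ((yon S).map c) := sqS.map (yon S)
  have hqπ : q ≫ π = (yon S).map (w ≫ c) := by
    rw [sq.w, ← Functor.map_comp]
  -- the second projection of the kernel pair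
  obtain ⟨α, hα⟩ : ∃ α : W₂ ⟶ W', (yon S).map α =
      sq.lift ((yon S).map p ≫ q) ((yon S).map s₂) (by rw [Category.assoc, hqπ, sqY.w]) :=
    ⟨(yon S).preimage _, (yon S).map_preimage _⟩
  have hα1 : (yon S).map α ≫ q = (yon S).map p ≫ q := by rw [hα, sq.lift_fst]
  have hα2 : α ≫ w = s₂ := (yon S).map_injective (by rw [Functor.map_comp, hα, sq.lift_snd])
  -- the coaction
  obtain ⟨ρ₀, hρ₀⟩ := exists_specMap_ofHom α.left
  have hρσ : Spec.map (CommRingCat.ofHom ρ₀) ≫ σ = Spec.map (CommRingCat.ofHom iL) ≫ σ := by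
    rw [← hρ₀]
    exact Over.w α
  have hρβ : ρ₀.comp β = iR := by
    apply specMap_ofHom_injective
    rw [← specMap_ofHom_comp, ← hρ₀]
    have h1 := congrArg (fun k => k.left ≫ absPr S B₀) hα2
    simp only [Over.comp_left, Category.assoc] at h1
    rw [absLift_pr, absLift_pr] at h1
    exact h1
  let ρ : C →ₐ[A₀] C ⊗[A₀] B₀ := { ρ₀ with
    commutes' := fun a => by
      change ρ₀ (β (algebraMap A₀ B₀ a)) = _
      have := congrArg (fun k => k (algebraMap A₀ B₀ a)) hρβ
      exact this.trans (by simp [iR]) }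
  have hρρ₀ : ρ.toRingHom = ρ₀ := rfl
  have hB : ∀ (b : B₀) (c : C), ρ (c * algebraMap B₀ C b) = ρ c * (1 ⊗ₜ[A₀] b) := by
    intro b c
    rw [map_mul]
    congr 1
    exact congrArg (fun k => k b) hρβ
  -- counit
  let μ : C ⊗[A₀] B₀ →+* C := (DescentRing.mu (A := A₀) (B := B₀) (C' := C)).toRingHom
  have hμL : μ.comp iL = RingHom.id C := by
    ext x
    simp [μ, iL]
  have hμR : μ.comp iR = β := by
    ext x
    simp [μ, iR]
    rfl
  let δ : W' ⟶ W₂ := ovMap μ (Spec.map (CommRingCat.ofHom iL) ≫ σ) σ (by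
    rw [← Category.assoc, specMap_ofHom_comp, hμL]
    erw [Spec.map_id]
    rw [Category.id_comp])
  have hδp : δ ≫ p = 𝟙 _ := by
    ext
    change Spec.map (CommRingCat.ofHom μ) ≫ Spec.map (CommRingCat.ofHom iL) = 𝟙 _
    rw [specMap_ofHom_comp, hμL]
    exact Spec.map_id _
  have hδs : δ ≫ s₂ = w := by
    apply abs_hom_ext
    rw [Over.comp_left, Category.assoc, absLift_pr, absLift_pr]
    change Spec.map (CommRingCat.ofHom μ) ≫ Spec.map (CommRingCat.ofHom iR) = _
    rw [specMap_ofHom_comp, hμR]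
  have hδα : δ ≫ α = 𝟙 _ := by
    apply (yon S).map_injective
    apply sq.hom_ext
    · rw [Functor.map_comp, Category.assoc, hα1, ← Category.assoc, ← Functor.map_comp, hδp]
    · rw [← Functor.map_comp, Category.assoc, hα2, hδs, ← Functor.map_comp, Category.id_comp]
  have hcounit : ∀ c, DescentRing.mu (A := A₀) (B := B₀) (ρ c) = c := by
    intro c
    have h1 := congrArg (fun k => k.left) hδα
    change Spec.map (CommRingCat.ofHom μ) ≫ α.left = 𝟙 _ at h1
    rw [hρ₀, specMap_ofHom_comp] at h1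
    have h2 : Spec.map (CommRingCat.ofHom (μ.comp ρ₀)) =
        Spec.map (CommRingCat.ofHom (RingHom.id C)) := by
      rw [h1]
      exact (Spec.map_id _).symm
    exact congrArg (fun k => k c) (specMap_ofHom_injective h2)
  -- coassociativity
  let iL₃ : C ⊗[A₀] B₀ →+* (C ⊗[A₀] B₀) ⊗[A₀] B₀ := Algebra.TensorProduct.includeLeftRingHom
  let M₁ : C ⊗[A₀] B₀ →+* (C ⊗[A₀] B₀) ⊗[A₀] B₀ :=
    (Algebra.TensorProduct.map ρ (AlgHom.id A₀ B₀)).toRingHom
  let M₂ : C ⊗[A₀] B₀ →+* (C ⊗[A₀] B₀) ⊗[A₀] B₀ :=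
    (Algebra.TensorProduct.map (Algebra.TensorProduct.includeLeft : C →ₐ[A₀] C ⊗[A₀] B₀)
      (AlgHom.id A₀ B₀)).toRingHom
  have hM₁L : M₁.comp iL = iL₃.comp ρ₀ := by
    ext x
    simp [M₁, iL, iL₃, ρ]
  have hM₂L : M₂.comp iL = iL₃.comp iL := by
    ext x
    simp [M₂, iL, iL₃]
  have hM₁₂R : M₁.comp iR = M₂.comp iR := by
    ext x
    simp [M₁, M₂, iR]
    rfl
  let W₃ : Over S := Over.mk (Spec.map (CommRingCat.ofHom iL₃) ≫ Spec.map (CommRingCat.ofHom iL) ≫ σ)
  let m₁ : W₃ ⟶ W₂ := ovMap M₁ _ _ (by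
    rw [← Category.assoc, specMap_ofHom_comp, hM₁L, ← specMap_ofHom_comp, Category.assoc, hρσ])
  let m₂ : W₃ ⟶ W₂ := ovMap M₂ _ _ (by
    rw [← Category.assoc, specMap_ofHom_comp, hM₂L, ← specMap_ofHom_comp, Category.assoc])
  let p₃ : W₃ ⟶ W₂ := ovMap iL₃ _ _ rfl
  have hm₁p : m₁ ≫ p = p₃ ≫ α := by
    ext
    change Spec.map (CommRingCat.ofHom M₁) ≫ Spec.map (CommRingCat.ofHom iL) =
      Spec.map (CommRingCat.ofHom iL₃) ≫ α.left
    rw [hρ₀, specMap_ofHom_comp, specMap_ofHom_comp, hM₁L]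
  have hm₂p : m₂ ≫ p = p₃ ≫ p := by
    ext
    change Spec.map (CommRingCat.ofHom M₂) ≫ Spec.map (CommRingCat.ofHom iL) =
      Spec.map (CommRingCat.ofHom iL₃) ≫ Spec.map (CommRingCat.ofHom iL)
    rw [specMap_ofHom_comp, specMap_ofHom_comp, hM₂L]
  have hm₁₂s : m₁ ≫ s₂ = m₂ ≫ s₂ := by
    apply abs_hom_ext
    rw [Over.comp_left, Over.comp_left, Category.assoc, Category.assoc, absLift_pr]
    change Spec.map (CommRingCat.ofHom M₁) ≫ Spec.map (CommRingCat.ofHom iR) =
      Spec.map (CommRingCat.ofHom M₂) ≫ Spec.map (CommRingCat.ofHom iR)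
    rw [specMap_ofHom_comp, specMap_ofHom_comp, hM₁₂R]
  have hmα : m₁ ≫ α = m₂ ≫ α := by
    apply (yon S).map_injective
    apply sq.hom_ext
    · rw [Functor.map_comp, Functor.map_comp, Category.assoc, Category.assoc, hα1,
        ← Category.assoc, ← Category.assoc, ← Functor.map_comp, ← Functor.map_comp, hm₁p, hm₂p,
        Functor.map_comp, Functor.map_comp, Category.assoc, Category.assoc, hα1]
    · rw [← Functor.map_comp, ← Functor.map_comp, Category.assoc, Category.assoc, hα2, hm₁₂s]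
  have hcoassoc : ∀ c, (Algebra.TensorProduct.map ρ (AlgHom.id A₀ B₀)) (ρ c) =
      (Algebra.TensorProduct.map (Algebra.TensorProduct.includeLeft : C →ₐ[A₀] C ⊗[A₀] B₀)
        (AlgHom.id A₀ B₀)) (ρ c) := by
    intro c
    have h1 := congrArg (fun k => k.left) hmα
    change Spec.map (CommRingCat.ofHom M₁) ≫ α.left = Spec.map (CommRingCat.ofHom M₂) ≫ α.left at h1
    rw [hρ₀, specMap_ofHom_comp, specMap_ofHom_comp] at h1
    exact congrArg (fun k => k c) (specMap_ofHom_injective h1)
  have hθ := DescentRing.theta_bijective ρ hB hcounit hcoassoc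
  -- the descended ring
  let Θ : (DescentRing.desc ρ) ⊗[A₀] B₀ ≃ₐ[A₀] C := AlgEquiv.ofBijective (DescentRing.theta ρ) hθ
  let ι₀ : (DescentRing.desc ρ) →+* C := (DescentRing.desc ρ).val.toRingHom
  let a₀ : A₀ →+* (DescentRing.desc ρ) := algebraMap A₀ (DescentRing.desc ρ)
  have hρι : ρ₀.comp ι₀ = iL.comp ι₀ := by
    ext x
    exact (DescentRing.mem_desc_iff ρ x.1).1 x.2
  -- the scheme-level square for the descended ring
  have sqW₀ : IsPullback (Spec.map (CommRingCat.ofHom β)) (Spec.map (CommRingCat.ofHom ι₀))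
      (Spec.map (CommRingCat.ofHom (algebraMap A₀ B₀))) (Spec.map (CommRingCat.ofHom a₀)) := by
    have h1 := (isPullback_SpecMap_of_isPushout _ _ _ _
      (CommRingCat.isPushout_tensorProduct A₀ (DescentRing.desc ρ) B₀)).flip
    let eΘ : Spec (CommRingCat.of C) ≅ Spec (CommRingCat.of ((DescentRing.desc ρ) ⊗[A₀] B₀)) :=
      Scheme.Spec.mapIso (Θ.toRingEquiv.toCommRingCatIso).op
    have heΘ : eΘ.hom = Spec.map (CommRingCat.ofHom Θ.toAlgHom.toRingHom) := rfl
    refine IsPullback.of_iso h1 eΘ.symm (Iso.refl _) (Iso.refl _) (Iso.refl _) ?_ ?_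
      ((Category.comp_id _).trans (Category.id_comp _).symm)
      ((Category.comp_id _).trans (Category.id_comp _).symm)
    · rw [Iso.symm_hom, Iso.refl_hom, Category.comp_id, Iso.eq_inv_comp, heΘ, specMap_ofHom_comp]
      congr 2
    · rw [Iso.symm_hom, Iso.refl_hom, Category.comp_id, Iso.eq_inv_comp, heΘ, specMap_ofHom_comp]
      congr 2
      ext x
      simp [Θ, ι₀]
  -- descending the structure morphism
  have hι₀fl : Flat (Spec.map (CommRingCat.ofHom ι₀)) := MorphismProperty.of_isPullback sqW₀ hfl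
  have hι₀surj : Surjective (Spec.map (CommRingCat.ofHom ι₀)) :=
    MorphismProperty.of_isPullback sqW₀ hsurj
  have hkp₀ : IsPullback (Spec.map (CommRingCat.ofHom ρ₀)) (Spec.map (CommRingCat.ofHom iL))
      (Spec.map (CommRingCat.ofHom ι₀)) (Spec.map (CommRingCat.ofHom ι₀)) := by
    refine IsPullback.of_right ?_ ?_ sqW₀
    · rw [specMap_ofHom_comp, hρβ, specMap_ofHom_comp]
      exact sqT
    · rw [specMap_ofHom_comp, specMap_ofHom_comp, hρι]
  have hreg : IsRegularEpi (Spec.map (CommRingCat.ofHom ι₀)) :=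
    isRegularEpi_of_flat_of_surjective_of_isAffine _
  obtain ⟨σ₀, hσ₀⟩ := IsRegularEpi.exists_of_isKernelPair (Spec.map (CommRingCat.ofHom ι₀))
    hkp₀ σ hρσ
  let W : Over S := Over.mk σ₀
  let j : W' ⟶ W := ovMap ι₀ σ₀ σ hσ₀
  let i : W ⟶ T := absLift (Z := W) (Spec.map (CommRingCat.ofHom a₀))
  have sqW : IsPullback j w i c := by
    have hcomm : j ≫ i = w ≫ c := by
      apply abs_hom_ext
      rw [Over.comp_left, Category.assoc, absLift_pr, hwc]
      change Spec.map (CommRingCat.ofHom ι₀) ≫ Spec.map (CommRingCat.ofHom a₀) = _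
      rw [specMap_ofHom_comp]
      rfl
    refine IsPullback.of_map (Over.forget S) hcomm ?_
    have h1 : IsPullback w.left j.left c.left i.left := by
      refine IsPullback.of_right ?_ (congrArg (fun k => k.left) hcomm).symm
        (isPullback_absMap (S := S) (algebraMap A₀ B₀)).flip
      rw [absLift_pr, absLift_pr]
      exact sqW₀
    exact h1.flip
  have hαj : α ≫ j = p ≫ j := by
    ext
    change α.left ≫ Spec.map (CommRingCat.ofHom ι₀) =
      Spec.map (CommRingCat.ofHom iL) ≫ Spec.map (CommRingCat.ofHom ι₀)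
    rw [hρ₀, specMap_ofHom_comp, specMap_ofHom_comp, hρι]
  obtain ⟨e, -⟩ := exists_iso_of_descent_formal c w p s₂ α j i π q sq sqS sqW hepic hα1 hα2 hαj
  exact ⟨W, e, inferInstanceAs (IsAffine (Spec _))⟩

/-- Effective descent of affine schemes along `Spec B₀ × S ⟶ Spec A₀ × S`, for a general affine
chart `W'`. -/
theorem exists_affine_of_descent_abs {W' : Over S} (hW' : IsAffine W'.left)
    (w : W' ⟶ absV S B₀) {F : Sp S} (π : F ⟶ (yon S).obj (absV S A₀))
    (q : (yon S).obj W' ⟶ F)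
    (sq : IsPullback q ((yon S).map w) π ((yon S).map (absMap (algebraMap A₀ B₀))))
    (hfl : Flat (Spec.map (CommRingCat.ofHom (algebraMap A₀ B₀))))
    (hfp : LocallyOfFinitePresentation (Spec.map (CommRingCat.ofHom (algebraMap A₀ B₀))))
    (hsurj : Surjective (Spec.map (CommRingCat.ofHom (algebraMap A₀ B₀)))) :
    ∃ (W : Over S) (_ : (yon S).obj W ≅ F), IsAffine W.left := by
  let σ : Spec (CommRingCat.of Γ(W'.left, ⊤)) ⟶ S := W'.left.isoSpec.inv ≫ W'.hom
  let eW' : W' ≅ Over.mk σ := Over.isoMk W'.left.isoSpec (by simp [σ])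
  obtain ⟨β, hβ⟩ := exists_specMap_ofHom (eW'.inv.left ≫ w.left ≫ absPr S B₀)
  have hw : eW'.inv ≫ w = absLift (Z := Over.mk σ) (Spec.map (CommRingCat.ofHom β)) := by
    apply abs_hom_ext
    rw [absLift_pr, Over.comp_left, Category.assoc, hβ]
  have sq' : IsPullback ((yon S).map eW'.inv ≫ q)
      ((yon S).map (absLift (Z := Over.mk σ) (Spec.map (CommRingCat.ofHom β)))) π
      ((yon S).map (absMap (algebraMap A₀ B₀))) := by
    refine IsPullback.of_iso sq ((yon S).mapIso eW') (Iso.refl _) (Iso.refl _) (Iso.refl _)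
      ?_ ?_ ((Category.comp_id _).trans (Category.id_comp _).symm)
      ((Category.comp_id _).trans (Category.id_comp _).symm)
    · simp [← Functor.map_comp_assoc]
    · rw [Iso.refl_hom, Category.comp_id, Functor.mapIso_hom, ← hw, Functor.map_comp,
        ← Category.assoc, ← Functor.map_comp, Iso.hom_inv_id]
      erw [CategoryTheory.Functor.map_id]
      rw [Category.id_comp]
  exact exists_affine_of_descent_abs_spec β σ π _ sq' hfl hfp hsurj

end main

end Groth.Agent.H50
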