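import Groth.Agent.H50.MonoIso

set_option autoImplicit false
set_option backward.isDefEq.respectTransparency false
universe u
open CategoryTheory CategoryTheory.Limits AlgebraicGeometry Opposite Topology
open scoped TensorProduct

namespace Groth.Agent.H50

open AlgSp

variable {S : Scheme.{u}}

section

variable {A : Type u} [CommRing A] (s : Spec (CommRingCat.of A) ⟶ S)
  {R R' R'' : Type u} [CommRing R] [CommRing R'] [CommRing R''] [Algebra A R] [Algebra A R']
  [Algebra A R'']

/-- `Spec` of an `A`-algebra homomorphism, over `S`. -/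
noncomputable def specUMap (φ : R →ₐ[A] R') : specU A R' s ⟶ specU A R s :=
  Over.homMk (Spec.map (CommRingCat.ofHom φ.toRingHom)) (by
    change Spec.map (CommRingCat.ofHom φ.toRingHom) ≫
      Spec.map (CommRingCat.ofHom (algebraMap A R)) ≫ s =
      Spec.map (CommRingCat.ofHom (algebraMap A R')) ≫ s
    rw [← Category.assoc, ← Spec.map_comp, ← CommRingCat.ofHom_comp]
    congr 3
    exact φ.comp_algebraMap)

@[simp] theorem specUMap_left (φ : R →ₐ[A] R') :
    (specUMap s φ).left = Spec.map (CommRingCat.ofHom φ.toRingHom) := rfl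

theorem specUMap_comp (φ : R →ₐ[A] R') (ψ : R' →ₐ[A] R'') :
    specUMap s ψ ≫ specUMap s φ = specUMap s (ψ.comp φ) := by
  ext
  change Spec.map _ ≫ Spec.map _ = Spec.map _
  rw [← Spec.map_comp, ← CommRingCat.ofHom_comp]
  rfl

theorem specUMap_id : specUMap s (AlgHom.id A R) = 𝟙 _ := by
  ext
  change Spec.map (CommRingCat.ofHom (RingHom.id R)) = 𝟙 _
  exact Spec.map_id _

theorem specUMap_specQ (φ : R →ₐ[A] R') : specUMap s φ ≫ specQ A R s = specQ A R' s := by
  ext
  change Spec.map _ ≫ Spec.map _ = Spec.map _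
  rw [← Spec.map_comp, ← CommRingCat.ofHom_comp]
  congr 2
  exact φ.comp_algebraMap

theorem specUMap_injective {φ ψ : R →ₐ[A] R'} (h : specUMap s φ = specUMap s ψ) : φ = ψ := by
  have h1 : Spec.map (CommRingCat.ofHom φ.toRingHom) = Spec.map (CommRingCat.ofHom ψ.toRingHom) :=
    congrArg (fun k => k.left) h
  have h2 := Spec.map_injective h1
  have h3 : φ.toRingHom = ψ.toRingHom := by
    have := congrArg CommRingCat.Hom.hom h2
    exact this
  ext x
  exact congrArg (fun k => k x) h3

theorem exists_specUMap (α : specU A R' s ⟶ specU A R s)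
    (h : α ≫ specQ A R s = specQ A R' s) : ∃ φ : R →ₐ[A] R', α = specUMap s φ := by
  obtain ⟨g, hg⟩ := Spec.map_surjective α.left
  have h1 : α.left ≫ Spec.map (CommRingCat.ofHom (algebraMap A R)) =
      Spec.map (CommRingCat.ofHom (algebraMap A R')) := congrArg (fun k => k.left) h
  rw [← hg, ← Spec.map_comp] at h1
  have h2 := Spec.map_injective h1
  refine ⟨{ g.hom with commutes' := fun a => ?_ }, ?_⟩
  · have := congrArg (fun k => k.hom a) h2
    exact this
  · ext
    rw [← hg]
    rfl

/-- `Spec` of an algebra isomorphism is an isomorphism. -/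
theorem isIso_specUMap (e : R ≃ₐ[A] R') : IsIso (specUMap s e.toAlgHom) := by
  refine ⟨specUMap s e.symm.toAlgHom, ?_, ?_⟩
  · rw [specUMap_comp, ← specUMap_id]
    congr 1
    ext x
    simp
  · rw [specUMap_comp, ← specUMap_id]
    congr 1
    ext x
    simp

/-- The tensor product square. -/
theorem isPullback_specUMap_tensor :
    IsPullback (specUMap s (Algebra.TensorProduct.includeLeft : R →ₐ[A] R ⊗[A] R'))
      (specUMap s (Algebra.TensorProduct.includeRight : R' →ₐ[A] R ⊗[A] R'))
      (specQ A R s) (specQ A R' s) := by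
  have hpo := CommRingCat.isPushout_tensorProduct A R R'
  have sqSch := isPullback_SpecMap_of_isPushout _ _ _ _ hpo
  refine IsPullback.of_map (Over.forget S) ?_ ?_
  · rw [specUMap_specQ, specUMap_specQ]
  · exact sqSch

end

end Groth.Agent.H50
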