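import Groth.Agent.H50.DescentRing
import Groth.Agent.H50.SpecOv
import Groth.Agent.H30.ShfQuot

set_option autoImplicit false
set_option backward.isDefEq.respectTransparency false
universe u
open CategoryTheory CategoryTheory.Limits AlgebraicGeometry Opposite Topology
open scoped TensorProduct

namespace Groth.Agent.H50

open AlgSp

variable {S : Scheme.{u}}

section

variable {A B C' : Type u} [CommRing A] [CommRing B] [CommRing C'] [Algebra A B] [Algebra A C']
  (ω : B →ₐ[A] C') (s : Spec (CommRingCat.of A) ⟶ S)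

/-- Effective descent of affine schemes along an fppf cover `Spec B ⟶ Spec A`: a sheaf `F` over
`Spec A` whose base change to `Spec B` is `Spec C'` is representable by an affine scheme. -/
theorem exists_affine_of_descent_spec {F : Sp S} (π : F ⟶ (yon S).obj (specT A s))
    (q : (yon S).obj (specU A C' s) ⟶ F)
    (sq : IsPullback q ((yon S).map (specUMap s ω)) π ((yon S).map (specQ A B s)))
    (hfl : Flat (Spec.map (CommRingCat.ofHom (algebraMap A B))))
    (hfp : LocallyOfFinitePresentation (Spec.map (CommRingCat.ofHom (algebraMap A B))))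
    (hsurj : Surjective (Spec.map (CommRingCat.ofHom (algebraMap A B)))) :
    ∃ (W : Over S) (i : W ⟶ specT A s) (e : (yon S).obj W ≅ F),
      IsAffine W.left ∧ e.hom ≫ π = (yon S).map i := by
  let _ : Algebra B C' := ω.toRingHom.toAlgebra
  have : IsScalarTower A B C' := IsScalarTower.of_algebraMap_eq (fun a => (ω.commutes a).symm)
  have : Module.Flat A B := by
    have h1 := (HasRingHomProperty.Spec_iff (P := @Flat)).1 hfl
    exact RingHom.flat_algebraMap_iff.1 h1
  -- notation
  let T := specT A s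
  let T' := specU A B s
  let c : T' ⟶ T := specQ A B s
  let W' := specU A C' s
  let w : W' ⟶ T' := specUMap s ω
  let W₂ := specU A (C' ⊗[A] B) s
  let p : W₂ ⟶ W' := specUMap s Algebra.TensorProduct.includeLeft
  let s₂ : W₂ ⟶ T' := specUMap s Algebra.TensorProduct.includeRight
  have sqS : IsPullback p s₂ (specQ A C' s) c := isPullback_specUMap_tensor s
  have hwc : w ≫ c = specQ A C' s := specUMap_specQ s ω
  have sqY : IsPullback ((yon S).map p) ((yon S).map s₂) ((yon S).map (specQ A C' s))
      ((yon S).map c) := sqS.map (yon S)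
  have hqπ : q ≫ π = (yon S).map (specQ A C' s) := by
    rw [sq.w, ← Functor.map_comp, hwc]
  have hepic : Epi ((yon S).map c) := Groth.Agent.H52.epi_yon_map_of_fppf c hfl hfp hsurj
  have hepiq : Epi q := Groth.Agent.H30.ShfQuot.epi_of_isPullback sq
  -- the second projection of the kernel pair
  obtain ⟨α, hα⟩ : ∃ α : W₂ ⟶ W', (yon S).map α =
      sq.lift ((yon S).map p ≫ q) ((yon S).map s₂) (by rw [Category.assoc, hqπ, sqY.w]) :=
    ⟨(yon S).preimage _, (yon S).map_preimage _⟩
  have hα1 : (yon S).map α ≫ q = (yon S).map p ≫ q := by rw [hα, sq.lift_fst]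
  have hα2 : α ≫ w = s₂ := (yon S).map_injective (by rw [Functor.map_comp, hα, sq.lift_snd])
  have hkp : IsPullback ((yon S).map α) ((yon S).map p) q q := by
    refine IsPullback.of_right ?_ hα1 sq.flip
    rw [← Functor.map_comp, hα2, hqπ]
    exact sqY.flip
  -- the coaction
  obtain ⟨ρ, hρ⟩ : ∃ ρ : C' →ₐ[A] C' ⊗[A] B, α = specUMap s ρ :=
    exists_specUMap s α (by
      rw [← hwc, ← Category.assoc, hα2]
      exact specUMap_specQ s _)
  have hρω : ρ.comp ω = Algebra.TensorProduct.includeRight := by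
    apply specUMap_injective s
    rw [← specUMap_comp, ← hρ]
    exact hα2
  have hB : ∀ (b : B) (c : C'), ρ (c * algebraMap B C' b) = ρ c * (1 ⊗ₜ[A] b) := by
    intro b c
    rw [map_mul]
    congr 1
    exact congrArg (fun k => k b) hρω
  -- counit
  let δ : W' ⟶ W₂ := specUMap s (DescentRing.mu (A := A) (B := B) (C' := C'))
  have hδp : δ ≫ p = 𝟙 _ := by
    rw [specUMap_comp, ← specUMap_id]
    congr 1
    ext x
    simp
  have hδs : δ ≫ s₂ = w := by
    rw [specUMap_comp]
    congr 1
    ext x
    simp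
    rfl
  have hδα : δ ≫ α = 𝟙 _ := by
    apply (yon S).map_injective
    apply sq.hom_ext
    · rw [Functor.map_comp, Category.assoc, hα1, ← Category.assoc, ← Functor.map_comp, hδp]
    · rw [← Functor.map_comp, Category.assoc, hα2, hδs, ← Functor.map_comp, Category.id_comp]
  have hcounit : ∀ c, DescentRing.mu (A := A) (B := B) (ρ c) = c := by
    intro c
    rw [hρ, specUMap_comp, ← specUMap_id] at hδα
    exact congrArg (fun k => k c) (specUMap_injective s hδα)
  -- coassociativity
  let W₃ := specU A ((C' ⊗[A] B) ⊗[A] B) s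
  let m₁ : W₃ ⟶ W₂ := specUMap s (Algebra.TensorProduct.map ρ (AlgHom.id A B))
  let m₂ : W₃ ⟶ W₂ := specUMap s (Algebra.TensorProduct.map
    (Algebra.TensorProduct.includeLeft : C' →ₐ[A] C' ⊗[A] B) (AlgHom.id A B))
  let p₃ : W₃ ⟶ W₂ := specUMap s Algebra.TensorProduct.includeLeft
  have hm₁p : m₁ ≫ p = p₃ ≫ α := by
    rw [hρ, specUMap_comp, specUMap_comp]
    congr 1
  have hm₂p : m₂ ≫ p = p₃ ≫ p := by
    rw [specUMap_comp, specUMap_comp]
    congr 1
  have hm₁₂s : m₁ ≫ s₂ = m₂ ≫ s₂ := by
    rw [specUMap_comp, specUMap_comp]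
    congr 1
    ext x
    simp
  have hmα : m₁ ≫ α = m₂ ≫ α := by
    apply (yon S).map_injective
    apply sq.hom_ext
    · rw [Functor.map_comp, Functor.map_comp, Category.assoc, Category.assoc, hα1,
        ← Category.assoc, ← Category.assoc, ← Functor.map_comp, ← Functor.map_comp, hm₁p, hm₂p,
        Functor.map_comp, Functor.map_comp, Category.assoc, Category.assoc, hα1]
    · rw [← Functor.map_comp, ← Functor.map_comp, Category.assoc, Category.assoc, hα2, hm₁₂s]
  have hcoassoc : ∀ c, (Algebra.TensorProduct.map ρ (AlgHom.id A B)) (ρ c) =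
      (Algebra.TensorProduct.map (Algebra.TensorProduct.includeLeft : C' →ₐ[A] C' ⊗[A] B)
        (AlgHom.id A B)) (ρ c) := by
    intro c
    rw [hρ, specUMap_comp, specUMap_comp] at hmα
    exact congrArg (fun k => k c) (specUMap_injective s hmα)
  have hθ := DescentRing.theta_bijective ρ hB hcounit hcoassoc
  -- the descended scheme
  let Θ : (DescentRing.desc ρ) ⊗[A] B ≃ₐ[A] C' := AlgEquiv.ofBijective (DescentRing.theta ρ) hθ
  let W := specU A (DescentRing.desc ρ) s
  let i : W ⟶ T := specQ A (DescentRing.desc ρ) s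
  let j : W' ⟶ W := specUMap s (DescentRing.desc ρ).val
  have hji : j ≫ i = specQ A C' s := specUMap_specQ s _
  have sqW : IsPullback j w i c := by
    have h1 : IsPullback (specUMap s (Algebra.TensorProduct.includeLeft :
        (DescentRing.desc ρ) →ₐ[A] (DescentRing.desc ρ) ⊗[A] B))
        (specUMap s (Algebra.TensorProduct.includeRight :
        B →ₐ[A] (DescentRing.desc ρ) ⊗[A] B)) i c := isPullback_specUMap_tensor s
    have := isIso_specUMap s Θ
    have e1 : (Θ.toAlgHom).comp (Algebra.TensorProduct.includeLeft :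
        (DescentRing.desc ρ) →ₐ[A] (DescentRing.desc ρ) ⊗[A] B) = (DescentRing.desc ρ).val := by
      ext x
      simp [Θ]
    have e2 : (Θ.toAlgHom).comp (Algebra.TensorProduct.includeRight :
        B →ₐ[A] (DescentRing.desc ρ) ⊗[A] B) = ω := by
      ext x
      simp [Θ]
      rfl
    refine IsPullback.of_iso h1 (asIso (specUMap s Θ.toAlgHom)).symm (Iso.refl _) (Iso.refl _)
      (Iso.refl _) ?_ ?_ (by simp) (by simp)
    · rw [Iso.symm_hom, asIso_inv, Iso.refl_hom, Category.comp_id, eq_comm, IsIso.inv_comp_eq,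
        specUMap_comp, e1]
    · rw [Iso.symm_hom, asIso_inv, Iso.refl_hom, Category.comp_id, eq_comm, IsIso.inv_comp_eq,
        specUMap_comp, e2]
  have sqWY : IsPullback ((yon S).map j) ((yon S).map w) ((yon S).map i) ((yon S).map c) :=
    sqW.map (yon S)
  have hepij : Epi ((yon S).map j) := Groth.Agent.H30.ShfQuot.epi_of_isPullback sqWY
  have hαj : α ≫ j = p ≫ j := by
    rw [hρ, specUMap_comp, specUMap_comp]
    congr 1
    ext x
    exact (DescentRing.mem_desc_iff ρ x.1).1 x.2
  -- the comparison map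
  obtain ⟨ψ, hψ⟩ := Groth.Agent.H52.exists_desc_of_epi_of_isKernelPair q hkp ((yon S).map j)
    (by rw [← Functor.map_comp, ← Functor.map_comp, hαj])
  have hψi : ψ ≫ (yon S).map i = π := by
    rw [← cancel_epi q, ← Category.assoc, hψ, ← Functor.map_comp, hji, hqπ]
  have hepiψ : Epi ψ := by
    have : Epi (q ≫ ψ) := by rw [hψ]; exact hepij
    exact epi_of_epi q ψ
  have hmonoψ : Mono ψ := by
    apply Groth.Agent.H52.mono_of_yon_injective
    intro Z x y hxy
    obtain ⟨Rx, hRx, hRx'⟩ := Groth.Agent.H52.exists_local_lift_of_epi q x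
    obtain ⟨Ry, hRy, hRy'⟩ := Groth.Agent.H52.exists_local_lift_of_epi q y
    refine Groth.Agent.H52.hom_ext_of_covering x y (Rx ⊓ Ry)
      ((J S).intersection_covering hRx hRy) ?_
    intro Z' g hg
    obtain ⟨x₁, hx₁⟩ := hRx' g hg.1
    obtain ⟨y₁, hy₁⟩ := hRy' g hg.2
    obtain ⟨x', rfl⟩ := (yon S).map_surjective x₁
    obtain ⟨y', rfl⟩ := (yon S).map_surjective y₁
    have hxy' : x' ≫ j = y' ≫ j := by
      apply (yon S).map_injective
      rw [Functor.map_comp, Functor.map_comp, ← hψ, ← Category.assoc, ← Category.assoc, hx₁, hy₁,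
        Category.assoc, Category.assoc, hxy]
    let m : Z' ⟶ W₂ := sqS.lift y' (x' ≫ w) (by
      rw [← hji, ← Category.assoc, ← hxy', Category.assoc, hji, Category.assoc, hwc])
    have hm1 : m ≫ p = y' := sqS.lift_fst _ _ _
    have hm2 : m ≫ s₂ = x' ≫ w := sqS.lift_snd _ _ _
    have hmα' : m ≫ α = x' := by
      apply sqW.hom_ext
      · rw [Category.assoc, hαj, ← Category.assoc, hm1, hxy']
      · rw [Category.assoc, hα2, hm2]
    rw [← hx₁, ← hy₁, ← hmα', Functor.map_comp, Category.assoc, hα1, ← Category.assoc,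
      ← Functor.map_comp, hm1]
  have hiso : IsIso ψ := isIso_of_mono_of_epi ψ
  refine ⟨W, i, (asIso ψ).symm, inferInstanceAs (IsAffine (Spec _)), ?_⟩
  rw [Iso.symm_hom, asIso_inv, IsIso.inv_comp_eq, hψi]

end

end Groth.Agent.H50
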