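import Groth.Agent.H50.DescentAffine

set_option autoImplicit false
set_option backward.isDefEq.respectTransparency false
universe u
open CategoryTheory CategoryTheory.Limits AlgebraicGeometry Opposite Topology
open scoped TensorProduct

namespace Groth.Agent.H50

open AlgSp

variable {S : Scheme.{u}}

/-- Effective descent of affine schemes along an fppf cover of affine schemes. -/
theorem exists_affine_of_descent {T T' W' : Over S} (hT : IsAffine T.left) (hT' : IsAffine T'.left)
    (hW' : IsAffine W'.left) (c : T' ⟶ T) (w : W' ⟶ T') {F : Sp S}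
    (π : F ⟶ (yon S).obj T) (q : (yon S).obj W' ⟶ F)
    (sq : IsPullback q ((yon S).map w) π ((yon S).map c))
    (hfl : Flat c.left) (hfp : LocallyOfFinitePresentation c.left) (hsurj : Surjective c.left) :
    ∃ (W : Over S) (i : W ⟶ T) (e : (yon S).obj W ≅ F),
      IsAffine W.left ∧ e.hom ≫ π = (yon S).map i := by
  let A : Type u := Γ(T.left, ⊤)
  let B : Type u := Γ(T'.left, ⊤)
  let C' : Type u := Γ(W'.left, ⊤)
  let _ : Algebra A B := c.left.appTop.hom.toAlgebra
  let _ : Algebra A C' := (c.left.appTop ≫ w.left.appTop).hom.toAlgebra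
  let ω : B →ₐ[A] C' := { w.left.appTop.hom with commutes' := fun a => rfl }
  let s : Spec (CommRingCat.of A) ⟶ S := T.left.isoSpec.inv ≫ T.hom
  have hc : Spec.map (CommRingCat.ofHom (algebraMap A B)) = Spec.map c.left.appTop := rfl
  have hwc : Spec.map (CommRingCat.ofHom (algebraMap A C')) =
      Spec.map w.left.appTop ≫ Spec.map c.left.appTop := by
    rw [← Spec.map_comp]; rfl
  let eT : T ≅ specT A s := Over.isoMk T.left.isoSpec (by simp [s])
  let eT' : T' ≅ specU A B s := Over.isoMk T'.left.isoSpec (by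
    change T'.left.isoSpec.hom ≫ Spec.map (CommRingCat.ofHom (algebraMap A B)) ≫
      T.left.isoSpec.inv ≫ T.hom = T'.hom
    rw [hc, Scheme.isoSpec_hom_naturality_assoc]
    simp)
  let eW' : W' ≅ specU A C' s := Over.isoMk W'.left.isoSpec (by
    change W'.left.isoSpec.hom ≫ Spec.map (CommRingCat.ofHom (algebraMap A C')) ≫
      T.left.isoSpec.inv ≫ T.hom = W'.hom
    rw [hwc, Category.assoc, Scheme.isoSpec_hom_naturality_assoc,
      Scheme.isoSpec_hom_naturality_assoc]
    simp)
  have hcomm1 : eT'.hom ≫ specQ A B s = c ≫ eT.hom := by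
    ext
    change T'.left.isoSpec.hom ≫ Spec.map (CommRingCat.ofHom (algebraMap A B)) =
      c.left ≫ T.left.isoSpec.hom
    rw [hc, Scheme.isoSpec_hom_naturality]
  have hcomm2 : eW'.hom ≫ specUMap s ω = w ≫ eT'.hom := by
    ext
    change W'.left.isoSpec.hom ≫ Spec.map w.left.appTop = w.left ≫ T'.left.isoSpec.hom
    rw [Scheme.isoSpec_hom_naturality]
  have sq' : IsPullback ((yon S).map eW'.inv ≫ q) ((yon S).map (specUMap s ω))
      (π ≫ (yon S).map eT.hom) ((yon S).map (specQ A B s)) := by
    refine IsPullback.of_iso sq ((yon S).mapIso eW') (Iso.refl _) ((yon S).mapIso eT')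
      ((yon S).mapIso eT) ?_ ?_ ?_ ?_
    · simp [← Functor.map_comp_assoc]
    · simp only [Functor.mapIso_hom, ← Functor.map_comp, hcomm2]
    · simp
    · simp only [Functor.mapIso_hom, ← Functor.map_comp, hcomm1]
  have harrow : Arrow.mk c.left ≅ Arrow.mk (Spec.map (CommRingCat.ofHom (algebraMap A B))) :=
    arrowIsoSpecΓOfIsAffine c.left
  obtain ⟨W, i, e, hW, he⟩ := exists_affine_of_descent_spec ω s (π ≫ (yon S).map eT.hom)
    ((yon S).map eW'.inv ≫ q) sq'
    ((MorphismProperty.arrow_mk_iso_iff @Flat harrow).1 hfl)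
    ((MorphismProperty.arrow_mk_iso_iff @LocallyOfFinitePresentation harrow).1 hfp)
    ((MorphismProperty.arrow_mk_iso_iff @Surjective harrow).1 hsurj)
  refine ⟨W, i ≫ eT.inv, e, hW, ?_⟩
  rw [Functor.map_comp, ← he, Category.assoc, Category.assoc, ← Functor.map_comp, Iso.hom_inv_id]
  erw [CategoryTheory.Functor.map_id]
  rw [Category.comp_id]

end Groth.Agent.H50
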