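import Groth.Agent.H50.DescentAffine

set_option autoImplicit false
set_option backward.isDefEq.respectTransparency false
set_option linter.style.haveILetI false
universe u
open CategoryTheory CategoryTheory.Limits AlgebraicGeometry Opposite Topology

namespace Groth.Agent.H50

open AlgSp

variable {S : Scheme.{u}}

/-- The formal part of effective descent: if `F ×_T T' = W'`, `W' ×_T T' = W₂`, `W ×_T T' = W'`
compatibly (the second projection `α` of the kernel pair of `q : W' ⟶ F` is coequalised with the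
first projection `p` by `j : W' ⟶ W`), then `F ≅ W`. -/
theorem exists_iso_of_descent_formal {T T' W' W₂ W : Over S} (c : T' ⟶ T) (w : W' ⟶ T')
    (p : W₂ ⟶ W') (s₂ : W₂ ⟶ T') (α : W₂ ⟶ W') (j : W' ⟶ W) (i : W ⟶ T) {F : Sp S}
    (π : F ⟶ (yon S).obj T) (q : (yon S).obj W' ⟶ F)
    (sq : IsPullback q ((yon S).map w) π ((yon S).map c))
    (sqS : IsPullback p s₂ (w ≫ c) c)
    (sqW : IsPullback j w i c)
    (hepic : Epi ((yon S).map c))
    (hα1 : (yon S).map α ≫ q = (yon S).map p ≫ q) (hα2 : α ≫ w = s₂)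
    (hαj : α ≫ j = p ≫ j) :
    ∃ e : (yon S).obj W ≅ F, e.hom ≫ π = (yon S).map i := by
  have sqY : IsPullback ((yon S).map p) ((yon S).map s₂) ((yon S).map (w ≫ c))
      ((yon S).map c) := sqS.map (yon S)
  have hqπ : q ≫ π = (yon S).map (w ≫ c) := by
    rw [sq.w, ← Functor.map_comp]
  have hepiq : Epi q := Groth.Agent.H30.ShfQuot.epi_of_isPullback sq
  have hkp : IsPullback ((yon S).map α) ((yon S).map p) q q := by
    refine IsPullback.of_right ?_ hα1 sq.flip
    rw [← Functor.map_comp, hα2, hqπ]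
    exact sqY.flip
  have hji : j ≫ i = w ≫ c := sqW.w
  have sqWY : IsPullback ((yon S).map j) ((yon S).map w) ((yon S).map i) ((yon S).map c) :=
    sqW.map (yon S)
  have hepij : Epi ((yon S).map j) := Groth.Agent.H30.ShfQuot.epi_of_isPullback sqWY
  obtain ⟨ψ, hψ⟩ := Groth.Agent.H52.exists_desc_of_epi_of_isKernelPair q hkp ((yon S).map j)
    (by rw [← Functor.map_comp, ← Functor.map_comp, hαj])
  have hψi : ψ ≫ (yon S).map i = π := by
    rw [← cancel_epi q, ← Category.assoc, hψ, ← Functor.map_comp, hji, hqπ]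
  have hepiψ : Epi ψ := by
    have : Epi (q ≫ ψ) := by rw [hψ]; exact hepij
    exact epi_of_epi q ψ
  have hmonoψ : Mono ψ := by
    apply Groth.Agent.H52.mono_of_yon_injective
    intro Z x y hxy
    obtain ⟨Rx, hRx, hRx'⟩ := Groth.Agent.H52.exists_local_lift_of_epi q x
    obtain ⟨Ry, hRy, hRy'⟩ := Groth.Agent.H52.exists_local_lift_of_epi q y
    refine Groth.Agent.H52.hom_ext_of_covering x y (Rx ⊓ Ry)
      ((J S).intersection_covering hRx hRy) ?_
    intro Z' g hg
    obtain ⟨x₁, hx₁⟩ := hRx' g hg.1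
    obtain ⟨y₁, hy₁⟩ := hRy' g hg.2
    obtain ⟨x', rfl⟩ := (yon S).map_surjective x₁
    obtain ⟨y', rfl⟩ := (yon S).map_surjective y₁
    have hxy' : x' ≫ j = y' ≫ j := by
      apply (yon S).map_injective
      rw [Functor.map_comp, Functor.map_comp, ← hψ, ← Category.assoc, ← Category.assoc, hx₁, hy₁,
        Category.assoc, Category.assoc, hxy]
    let m : Z' ⟶ W₂ := sqS.lift y' (x' ≫ w) (by
      rw [← hji, ← Category.assoc, ← hxy', Category.assoc, hji, Category.assoc])
    have hm1 : m ≫ p = y' := sqS.lift_fst _ _ _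
    have hm2 : m ≫ s₂ = x' ≫ w := sqS.lift_snd _ _ _
    have hmα' : m ≫ α = x' := by
      apply sqW.hom_ext
      · rw [Category.assoc, hαj, ← Category.assoc, hm1, hxy']
      · rw [Category.assoc, hα2, hm2]
    rw [← hx₁, ← hy₁, ← hmα', Functor.map_comp, Category.assoc, hα1, ← Category.assoc,
      ← Functor.map_comp, hm1]
  have hiso : IsIso ψ := isIso_of_mono_of_epi ψ
  refine ⟨(asIso ψ).symm, ?_⟩
  rw [Iso.symm_hom, asIso_inv, IsIso.inv_comp_eq, hψi]

end Groth.Agent.H50
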