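import Mathlib.CategoryTheory.Limits.Shapes.Diagonal
import Mathlib.CategoryTheory.Limits.Shapes.Pullback.IsPullback.Basic

set_option autoImplicit false
universe v u
open CategoryTheory CategoryTheory.Limits

namespace Groth.Agent.H50

variable {C : Type u} [Category.{v} C] [HasPullbacks C] {X Y X₀ Y₀ : C} {f : X ⟶ Y}
  {f₀ : X₀ ⟶ Y₀} {pX : X ⟶ X₀} {pY : Y ⟶ Y₀}

/-- The fibre square of a base change is the base change of the fibre square. -/
theorem isPullback_diagonalObj_of_isPullback (hX : IsPullback pX f f₀ pY) :
    IsPullback (pullback.map f f f₀ f₀ pX pX pY hX.w.symm hX.w.symm) (pullback.fst f f ≫ f)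
      (pullback.fst f₀ f₀ ≫ f₀) pY := by
  have hw : pullback.map f f f₀ f₀ pX pX pY hX.w.symm hX.w.symm ≫ pullback.fst f₀ f₀ ≫ f₀ =
      (pullback.fst f f ≫ f) ≫ pY := by
    rw [← Category.assoc, pullback.lift_fst, Category.assoc, Category.assoc, hX.w]
  refine ⟨⟨hw⟩, ⟨PullbackCone.IsLimit.mk _
    (fun s => pullback.lift
      (hX.lift (s.fst ≫ pullback.fst f₀ f₀) s.snd (by
        rw [Category.assoc]; exact s.condition))
      (hX.lift (s.fst ≫ pullback.snd f₀ f₀) s.snd (by
        rw [Category.assoc, ← pullback.condition]; exact s.condition))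
      (by rw [hX.lift_snd, hX.lift_snd])) ?_ ?_ ?_⟩⟩
  · intro s
    apply pullback.hom_ext
    · rw [Category.assoc, pullback.lift_fst, ← Category.assoc, pullback.lift_fst, hX.lift_fst]
    · rw [Category.assoc, pullback.lift_snd, ← Category.assoc, pullback.lift_snd, hX.lift_fst]
  · intro s
    rw [← Category.assoc, pullback.lift_fst, hX.lift_snd]
  · intro s m h1 h2
    apply pullback.hom_ext
    · rw [pullback.lift_fst]
      apply hX.hom_ext
      · rw [hX.lift_fst, ← h1, Category.assoc, Category.assoc, pullback.lift_fst]
      · rw [hX.lift_snd, ← h2, Category.assoc]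
    · rw [pullback.lift_snd]
      apply hX.hom_ext
      · rw [hX.lift_fst, ← h1, Category.assoc, Category.assoc, pullback.lift_snd]
      · rw [hX.lift_snd, ← h2, Category.assoc]
        exact (congrArg (fun k => m ≫ k) pullback.condition).symm

/-- The diagonal of a base change is the base change of the diagonal. -/
theorem isPullback_diagonal_of_isPullback (hX : IsPullback pX f f₀ pY) :
    IsPullback pX (pullback.diagonal f) (pullback.diagonal f₀)
      (pullback.map f f f₀ f₀ pX pX pY hX.w.symm hX.w.symm) := by
  have hw : pX ≫ pullback.diagonal f₀ =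
      pullback.diagonal f ≫ pullback.map f f f₀ f₀ pX pX pY hX.w.symm hX.w.symm := by
    apply pullback.hom_ext
    · rw [Category.assoc, pullback.diagonal_fst, Category.assoc, pullback.lift_fst,
        ← Category.assoc, pullback.diagonal_fst, Category.comp_id, Category.id_comp]
    · rw [Category.assoc, pullback.diagonal_snd, Category.assoc, pullback.lift_snd,
        ← Category.assoc, pullback.diagonal_snd, Category.comp_id, Category.id_comp]
  refine ⟨⟨hw⟩, ⟨PullbackCone.IsLimit.mk _ (fun s => s.snd ≫ pullback.fst f f) ?_ ?_ ?_⟩⟩
  · intro s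
    have h1 := s.condition =≫ pullback.fst f₀ f₀
    rw [Category.assoc, pullback.diagonal_fst, Category.comp_id, Category.assoc,
      pullback.lift_fst] at h1
    rw [Category.assoc, h1]
  · intro s
    have h1 := s.condition =≫ pullback.fst f₀ f₀
    have h2 := s.condition =≫ pullback.snd f₀ f₀
    rw [Category.assoc, pullback.diagonal_fst, Category.comp_id, Category.assoc,
      pullback.lift_fst] at h1
    rw [Category.assoc, pullback.diagonal_snd, Category.comp_id, Category.assoc,
      pullback.lift_snd] at h2
    have h3 : s.snd ≫ pullback.fst f f = s.snd ≫ pullback.snd f f := by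
      apply hX.hom_ext
      · rw [Category.assoc, Category.assoc, ← h1, ← h2]
      · rw [Category.assoc, Category.assoc, pullback.condition]
    apply pullback.hom_ext
    · rw [Category.assoc, pullback.diagonal_fst, Category.comp_id]
    · rw [Category.assoc, pullback.diagonal_snd, Category.comp_id, h3]
  · intro s m h1 h2
    rw [← h2, Category.assoc, pullback.diagonal_fst, Category.comp_id]

end Groth.Agent.H50
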