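import Groth.Agent.H50.Mor
import Groth.Agent.H52.AtlasLocal
import Groth.Agent.H1.Descent
import Groth.Agent.H19.SchDense
import Groth.Agent.S1571
import Groth.Prelude.Def_AlgSpSub

set_option autoImplicit false
set_option backward.isDefEq.respectTransparency false
universe u
open CategoryTheory CategoryTheory.Limits AlgebraicGeometry Opposite Topology

namespace Groth.Agent.H50

open AlgSp

variable {S : Scheme.{u}}

/-- The preimage in a scheme `T` of the image (on points) of a morphism is the image of any
representing base change. -/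
theorem preimage_range_points_of_isPullback {F G : Sp S} (f : F ⟶ G) {T T' : Over S}
    (g : (yon S).obj T ⟶ G) (fst : (yon S).obj T' ⟶ F) (snd : T' ⟶ T)
    (sq : IsPullback fst ((yon S).map snd) f g) :
    Points.ofPt g ⁻¹' Set.range (Points.map f) = Set.range snd.left := by
  ext t
  constructor
  · rintro ⟨z, hz⟩
    rw [Points.ofPt_eq_map_ofScheme] at hz
    obtain ⟨w, -, hw2⟩ := points_exists_of_isPullback sq z (Points.ofScheme T t) hz
    obtain ⟨v, rfl⟩ := (Points.schemeHomeo T').surjective w
    rw [Points.map_yon_map_apply] at hw2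
    exact ⟨v, (Points.schemeHomeo T).injective hw2⟩
  · rintro ⟨v, rfl⟩
    refine ⟨Points.ofPt fst v, ?_⟩
    rw [Points.map_ofPt, sq.w, ← Points.map_ofPt, Points.ofPt_eq_map_ofScheme g]
    congr 1
    rw [Points.ofPt_eq_map_ofScheme]
    exact Points.map_yon_map_apply snd v

/-- A pullback of a representable open immersion along a chart is an open subscheme of the chart. -/
theorem exists_opens_isPullback {F G : Sp S} (j : G ⟶ F) (hj : RepWith @IsOpenImmersion j)
    (V : Over S) (φ : (yon S).obj V ⟶ F) :
    ∃ (W : V.left.Opens) (fst : (yon S).obj (Over.mk (W.ι ≫ V.hom)) ⟶ G),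
      IsPullback fst ((yon S).map (Over.homMk W.ι rfl : Over.mk (W.ι ≫ V.hom) ⟶ V)) j φ ∧
        (W : Set V.left) = Points.ofPt φ ⁻¹' Set.range (Points.map j) := by
  have sq := hj.rep.isPullback φ
  have hoi : IsOpenImmersion (hj.rep.snd φ).left := hj.property_snd φ
  let W : V.left.Opens := (hj.rep.snd φ).left.opensRange
  let e : (hj.rep.pullback φ).left ≅ W.toScheme :=
    IsOpenImmersion.isoOfRangeEq (hj.rep.snd φ).left W.ι (by
      rw [Scheme.Opens.range_ι]; rfl)
  have he : e.hom ≫ W.ι = (hj.rep.snd φ).left :=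
    IsOpenImmersion.isoOfRangeEq_hom_fac _ _ _
  let E : hj.rep.pullback φ ≅ Over.mk (W.ι ≫ V.hom) :=
    Over.isoMk e (by
      change e.hom ≫ W.ι ≫ V.hom = (hj.rep.pullback φ).hom
      rw [← Category.assoc, he, Over.w])
  have hE : E.hom ≫ (Over.homMk W.ι rfl : Over.mk (W.ι ≫ V.hom) ⟶ V) = hj.rep.snd φ := by
    ext
    exact he
  refine ⟨W, (yon S).map E.inv ≫ hj.rep.fst φ, ?_, ?_⟩
  · refine IsPullback.of_iso sq ((yon S).mapIso E) (Iso.refl _) (Iso.refl _) (Iso.refl _) ?_ ?_ ?_ ?_
    · simp
    · simp only [Functor.mapIso_hom, Iso.refl_hom, Category.comp_id, ← Functor.map_comp, hE]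
    · simp
    · simp
  · rw [preimage_range_points_of_isPullback j φ _ _ sq]
    rfl

/-- The complement of an effective Cartier divisor on an algebraic space is an affine, scheme
theoretically dense open subspace. -/
theorem isAffineMor_and_isSchDense_compl {X D U : Sp S} (i : D ⟶ X) (hD : IsEffCartierSub i)
    (j : U ⟶ X) (hj : RepWith @IsOpenImmersion j)
    (hU : Set.range (Points.map j) = (Set.range (Points.map i))ᶜ) :
    IsAffineMor j ∧ IsSchDense j := by
  obtain ⟨hi, V, φ, I, fst₀, hφ1, hφ2, sq₀, hI⟩ := hD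
  obtain ⟨W, fstW, sqW, hW⟩ := exists_opens_isPullback j hj V φ
  have hWI : W = I.support.compl := by
    apply TopologicalSpace.Opens.ext
    rw [hW, hU, Set.preimage_compl, preimage_range_points_of_isPullback i φ _ _ sq₀]
    change (Set.range I.subschemeι)ᶜ = (I.support : Set V.left)ᶜ
    rw [Scheme.IdealSheafData.range_subschemeι]
  obtain ⟨haff, hdom⟩ := Groth.Agent.S1571.result V.left I hI
  rw [← hWI] at haff hdom
  constructor
  · -- affineness by fpqc descent from the chart
    have := Groth.Agent.H1.isAffineHom_descendsAlong_fpqc.{u}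
    have hrep : RepWith @IsAffineHom j :=
      Groth.Agent.H52.repWith_of_atlas @IsAffineHom j hj.rep φ hφ1 hφ2 fstW _ sqW haff
    intro Z hZ g
    have sqZ := hrep.rep.isPullback g
    have haffZ : IsAffineHom (hrep.rep.snd g).left := hrep.property_snd g
    refine ⟨hrep.rep.pullback g, hrep.rep.snd g, hrep.rep.fst g, sqZ, ?_⟩
    have : IsAffine Z.left := hZ
    exact isAffine_of_isAffineHom (hrep.rep.snd g).left
  · have : QuasiCompact W.ι := inferInstance
    exact ⟨hj, V, φ, W, fstW, hφ1, hφ2, sqW,
      Groth.Agent.H19.isSchematicallyDense_of_dominant W⟩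

end Groth.Agent.H50
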