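import Groth.Agent.H50.EtSrcInst

set_option autoImplicit false
universe u

open CategoryTheory AlgebraicGeometry TensorProduct

namespace Groth.Agent.H50

section Alg

variable {R B A : Type u} [CommRing R] [CommRing B] [CommRing A] [Algebra R B] [Algebra B A]
  [Algebra R A] [IsScalarTower R B A]

theorem rTensor_injective_of_faithfullyFlat' [Module.FaithfullyFlat B A]
    (P : Type*) [AddCommGroup P] [Module R P] :
    Function.Injective ((IsScalarTower.toAlgHom R B A).toLinearMap.rTensor P) := by
  have h := Module.FaithfullyFlat.tensorProduct_mk_injective (A := B) (B := A) (B ⊗[R] P)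
  have key : ((IsScalarTower.toAlgHom R B A).toLinearMap.rTensor P) =
      ((AlgebraTensorModule.cancelBaseChange R B A A P).toLinearMap.restrictScalars R) ∘ₗ
        ((TensorProduct.mk B A (B ⊗[R] P) 1).restrictScalars R) := by
    ext b p
    simp [Algebra.smul_def]
  rw [key]
  exact (AlgebraTensorModule.cancelBaseChange R B A A P).injective.comp h

/-- Flatness descends along a faithfully flat extension of the middle ring. -/
theorem flat_of_faithfullyFlat_comp [Module.FaithfullyFlat B A] [Module.Flat R A] :
    Module.Flat R B := by
  rw [Module.Flat.iff_lTensor_preserves_injective_linearMap]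
  intro N N' _ _ _ _ f hf
  have h1 : Function.Injective ((f.lTensor A) ∘ₗ
      ((IsScalarTower.toAlgHom R B A).toLinearMap.rTensor N)) :=
    (Module.Flat.lTensor_preserves_injective_linearMap f hf).comp
      (rTensor_injective_of_faithfullyFlat' (R := R) (B := B) (A := A) N)
  rw [LinearMap.lTensor_comp_rTensor, ← LinearMap.rTensor_comp_lTensor] at h1
  exact Function.Injective.of_comp h1

/-- Quasi-finiteness descends along a faithfully flat extension of the middle ring. -/
theorem quasiFinite_of_faithfullyFlat_comp [Module.FaithfullyFlat B A] [Algebra.QuasiFinite R A] :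
    Algebra.QuasiFinite R B := by
  constructor
  intro P _
  let f : P.Fiber B →ₗ[P.ResidueField] P.Fiber A :=
    TensorProduct.AlgebraTensorModule.lTensor P.ResidueField P.ResidueField
      (IsScalarTower.toAlgHom R B A).toLinearMap
  refine Module.Finite.of_injective f ?_
  have h := rTensor_injective_of_faithfullyFlat' (R := R) (B := B) (A := A) P.ResidueField
  have key : (f : P.Fiber B → P.Fiber A) =
      (TensorProduct.comm R A P.ResidueField) ∘
        ((IsScalarTower.toAlgHom R B A).toLinearMap.rTensor P.ResidueField) ∘
          (TensorProduct.comm R P.ResidueField B) := by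
    ext x
    change P.ResidueField ⊗[R] B at x
    induction x using TensorProduct.induction_on with
    | zero => simp
    | add x y hx hy => simp only [map_add, hx, hy, Function.comp_apply]
    | tmul k b => simp [f]
  rw [key]
  exact (TensorProduct.comm R A P.ResidueField).injective.comp
    (h.comp (TensorProduct.comm R P.ResidueField B).injective)

/-- Formal unramifiedness descends along a faithfully flat formally etale extension of the middle ring. -/
theorem formallyUnramified_of_faithfullyFlat_comp [Algebra.FormallyEtale B A]
    [Module.FaithfullyFlat B A] [Algebra.FormallyUnramified R A] :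
    Algebra.FormallyUnramified R B := by
  constructor
  have : Subsingleton (A ⊗[B] Ω[B⁄R]) :=
    (KaehlerDifferential.tensorKaehlerEquivOfFormallyEtale R B A).subsingleton
  exact Module.FaithfullyFlat.lTensor_reflects_triviality B A _

end Alg

theorem faithfullyFlat_of_isStandardEtale {B A : Type u} [CommRing B] [CommRing A] [Algebra B A]
    [Algebra.IsStandardEtale B A] (h : Function.Surjective (PrimeSpectrum.comap (algebraMap B A))) :
    Module.FaithfullyFlat B A :=
  Module.FaithfullyFlat.of_comap_surjective h

theorem descendsStdEtale_flat : DescendsStdEtale @RingHom.Flat := by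
  intro R B A _ _ _ f g hstd hsurj h
  algebraize [f, g, g.comp f]
  have : Algebra.IsStandardEtale B A := hstd
  have := faithfullyFlat_of_isStandardEtale (B := B) (A := A) hsurj
  have : Module.Flat R B := flat_of_faithfullyFlat_comp (R := R) (B := B) (A := A)
  exact (RingHom.flat_algebraMap_iff).2 this

theorem descendsStdEtale_quasiFinite : DescendsStdEtale @RingHom.QuasiFinite := by
  intro R B A _ _ _ f g hstd hsurj h
  algebraize [f, g, g.comp f]
  have : Algebra.IsStandardEtale B A := hstd
  have := faithfullyFlat_of_isStandardEtale (B := B) (A := A) hsurj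
  have : Algebra.QuasiFinite R B := quasiFinite_of_faithfullyFlat_comp (R := R) (B := B) (A := A)
  exact (RingHom.quasiFinite_algebraMap).2 this

theorem descendsStdEtale_formallyUnramified : DescendsStdEtale @RingHom.FormallyUnramified := by
  intro R B A _ _ _ f g hstd hsurj h
  algebraize [f, g, g.comp f]
  have : Algebra.IsStandardEtale B A := hstd
  have := faithfullyFlat_of_isStandardEtale (B := B) (A := A) hsurj
  have : Algebra.FormallyUnramified R B :=
    formallyUnramified_of_faithfullyFlat_comp (R := R) (B := B) (A := A)
  exact (RingHom.formallyUnramified_algebraMap).2 this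



theorem flat_of_comp_etale_surjective {A B C : Scheme.{u}} (e : A ⟶ B) (h : B ⟶ C)
    [Etale e] [Surjective e] (H : Flat (e ≫ h)) : Flat h :=
  haveI := respectsRight_isOpenImmersion_of @Flat (fun _ _ => inferInstance)
  of_comp_etale_surjective (P := @Flat) descendsStdEtale_flat e h H

theorem locallyQuasiFinite_of_comp_etale_surjective {A B C : Scheme.{u}} (e : A ⟶ B) (h : B ⟶ C)
    [Etale e] [Surjective e] (H : LocallyQuasiFinite (e ≫ h)) : LocallyQuasiFinite h :=
  haveI := respectsRight_isOpenImmersion_of @LocallyQuasiFinite (fun _ _ => inferInstance)
  of_comp_etale_surjective (P := @LocallyQuasiFinite) descendsStdEtale_quasiFinite e h H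

theorem formallyUnramified_of_comp_etale_surjective {A B C : Scheme.{u}} (e : A ⟶ B) (h : B ⟶ C)
    [Etale e] [Surjective e] (H : AlgebraicGeometry.FormallyUnramified (e ≫ h)) :
    AlgebraicGeometry.FormallyUnramified h :=
  haveI := respectsRight_isOpenImmersion_of @AlgebraicGeometry.FormallyUnramified (fun _ _ => inferInstance)
  of_comp_etale_surjective (P := @AlgebraicGeometry.FormallyUnramified)
    descendsStdEtale_formallyUnramified e h H


end Groth.Agent.H50
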