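import Mathlib

set_option autoImplicit false
universe u

open TensorProduct

namespace Groth.Agent.H50

/-- For a flat `C`-algebra `P` and an ideal `J` of `C` all of whose maximal over-ideals are
contracted from primes of `P`, `J` is contracted from its extension. -/
theorem mem_of_map_mem_of_flat {C P : Type u} [CommRing C] [CommRing P] [Algebra C P]
    [Module.Flat C P] (J : Ideal C)
    (hJ : ∀ m : Ideal C, m.IsMaximal → J ≤ m →
      ∃ p : Ideal P, p.IsPrime ∧ p.comap (algebraMap C P) = m)
    (x : C) (hx : algebraMap C P x ∈ J.map (algebraMap C P)) : x ∈ J := by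
  have hff : Module.FaithfullyFlat (C ⧸ J) ((C ⧸ J) ⊗[C] P) := by
    refine ⟨fun m hm htop => ?_⟩
    -- the maximal ideal of `C` below `m`
    have hm' : (m.comap (Ideal.Quotient.mk J)).IsMaximal :=
      Ideal.comap_isMaximal_of_surjective _ Ideal.Quotient.mk_surjective
    have hJm : J ≤ m.comap (Ideal.Quotient.mk J) := by
      intro c hc
      rw [Ideal.mem_comap, Ideal.Quotient.eq_zero_iff_mem.2 hc]
      exact m.zero_mem
    obtain ⟨p, hp, hpm⟩ := hJ _ hm' hJm
    let K := P ⧸ p
    let f1 : (C ⧸ J) →ₐ[C] K := Ideal.Quotient.liftₐ J (Algebra.ofId C K) (by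
      intro c hc
      have : c ∈ p.comap (algebraMap C P) := by rw [hpm]; exact hJm hc
      rw [Ideal.mem_comap] at this
      change algebraMap C K c = 0
      rw [IsScalarTower.algebraMap_apply C P K, Ideal.Quotient.algebraMap_eq,
        Ideal.Quotient.eq_zero_iff_mem]
      exact this)
    let φ : (C ⧸ J) ⊗[C] P →ₐ[C] K :=
      Algebra.TensorProduct.lift f1 (Algebra.ofId P K |>.restrictScalars C)
        (fun _ _ => Commute.all _ _)
    have hker : ∀ t ∈ (m • (⊤ : Submodule (C ⧸ J) ((C ⧸ J) ⊗[C] P))), φ t = 0 := by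
      intro t ht
      refine Submodule.smul_induction_on ht ?_ ?_
      · intro c hc t _
        obtain ⟨c, rfl⟩ := Ideal.Quotient.mk_surjective c
        have hc' : c ∈ p.comap (algebraMap C P) := by rw [hpm]; exact hc
        have : (Ideal.Quotient.mk J c) • t = c • t := by
          rw [← Ideal.Quotient.algebraMap_eq, algebraMap_smul]
        rw [this, map_smul, Algebra.smul_def]
        have h0 : algebraMap C K c = 0 := by
          rw [IsScalarTower.algebraMap_apply C P K, Ideal.Quotient.algebraMap_eq,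
            Ideal.Quotient.eq_zero_iff_mem]
          exact hc'
        rw [h0, zero_mul]
      · intro a b ha hb
        rw [map_add, ha, hb, add_zero]
    have h1 : φ 1 = 0 := hker 1 (by rw [htop]; exact Submodule.mem_top)
    rw [map_one] at h1
    have : Nontrivial K := Ideal.Quotient.nontrivial_iff.2 hp.ne_top
    exact one_ne_zero h1
  have hinj := FaithfulSMul.algebraMap_injective (C ⧸ J) ((C ⧸ J) ⊗[C] P)
  rw [← Ideal.Quotient.eq_zero_iff_mem]
  apply hinj
  rw [map_zero, Algebra.TensorProduct.algebraMap_apply]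
  -- `mk x ⊗ 1 = 1 ⊗ f x`
  have key : ∀ y ∈ J.map (algebraMap C P), ((1 : C ⧸ J) ⊗ₜ[C] y : (C ⧸ J) ⊗[C] P) = 0 := by
    intro y hy
    refine Submodule.span_induction ?_ ?_ ?_ ?_ hy
    · rintro _ ⟨c, hc, rfl⟩
      rw [Algebra.algebraMap_eq_smul_one, ← TensorProduct.smul_tmul, Algebra.smul_def, mul_one,
        Ideal.Quotient.algebraMap_eq, Ideal.Quotient.eq_zero_iff_mem.2 hc, TensorProduct.zero_tmul]
    · exact TensorProduct.tmul_zero _ _
    · intro a b _ _ ha hb
      rw [TensorProduct.tmul_add, ha, hb, add_zero]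
    · intro a b _ hb
      have : ((1 : C ⧸ J) ⊗ₜ[C] (a • b) : (C ⧸ J) ⊗[C] P) =
          ((1 : C ⧸ J) ⊗ₜ[C] a) * ((1 : C ⧸ J) ⊗ₜ[C] b) := by
        rw [Algebra.TensorProduct.tmul_mul_tmul, one_mul, smul_eq_mul]
      rw [this, hb, mul_zero]
  have := key _ hx
  rw [Algebra.algebraMap_eq_smul_one, ← TensorProduct.smul_tmul, Algebra.smul_def, mul_one,
    Ideal.Quotient.algebraMap_eq] at this
  simpa using this

/-- A finite set of generators of an extended ideal can be chosen to come from the ideal. -/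
theorem exists_finset_map_eq {C P : Type u} [CommRing C] [CommRing P] (f : C →+* P) (I : Ideal C)
    (hfg : (I.map f).FG) : ∃ s : Finset C, (s : Set C) ⊆ I ∧ (Ideal.span (s : Set C)).map f = I.map f := by
  classical
  have h1 : (Submodule.span P (f '' (I : Set C))).FG := hfg
  obtain ⟨s', hs', hspan⟩ := (Submodule.fg_span_iff_fg_span_finset_subset _).1 h1
  obtain ⟨s, hs, hss⟩ := Finset.subset_set_image_iff.1 hs'
  subst hss
  refine ⟨s, hs, ?_⟩
  rw [Ideal.map_span]
  change _ = Submodule.span P (f '' (I : Set C))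
  rw [hspan, Finset.coe_image]

/-- Descent of finite generation of an ideal along a flat algebra whose image on spectra is
open and contains the zero locus of the ideal. -/
theorem ideal_fg_of_map_fg_of_flat {C P : Type u} [CommRing C] [CommRing P] [Algebra C P]
    [Module.Flat C P] (I : Ideal C)
    (hopen : IsOpen (Set.range (PrimeSpectrum.comap (algebraMap C P))))
    (hV : PrimeSpectrum.zeroLocus (I : Set C) ⊆ Set.range (PrimeSpectrum.comap (algebraMap C P)))
    (hfg : (I.map (algebraMap C P)).FG) : I.FG := by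
  classical
  obtain ⟨s, hsI, hs⟩ := exists_finset_map_eq (algebraMap C P) I hfg
  obtain ⟨𝔟, h𝔟⟩ := (PrimeSpectrum.isClosed_iff_zeroLocus_ideal _).1 hopen.isClosed_compl
  have hsup : I ⊔ 𝔟 = ⊤ := by
    rw [← PrimeSpectrum.zeroLocus_empty_iff_eq_top, PrimeSpectrum.zeroLocus_sup, ← h𝔟]
    rw [Set.eq_empty_iff_forall_notMem]
    rintro x ⟨hx1, hx2⟩
    exact hx2 (hV hx1)
  obtain ⟨i₀, hi₀, b, hb, hib⟩ := Submodule.mem_sup.1 (hsup ▸ Submodule.mem_top : (1 : C) ∈ I ⊔ 𝔟)
  let I₂ : Ideal C := Ideal.span (↑(insert i₀ s) : Set C)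
  have hI₂ : I₂ ≤ I := by
    rw [Ideal.span_le]
    intro c hc
    rw [Finset.coe_insert] at hc
    rcases hc with rfl | hc
    · exact hi₀
    · exact hsI hc
  have hle : I ≤ I₂ := by
    intro x hx
    refine mem_of_map_mem_of_flat (P := P) I₂ ?_ x ?_
    · intro m hm hIm
      have hi₀m : i₀ ∈ m := hIm (Ideal.subset_span (by simp))
      have hbm : b ∉ m := by
        intro hbm
        exact hm.ne_top ((Ideal.eq_top_iff_one _).2 (hib ▸ m.add_mem hi₀m hbm))
      have hmem : (⟨m, hm.isPrime⟩ : PrimeSpectrum C) ∈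
          Set.range (PrimeSpectrum.comap (algebraMap C P)) := by
        by_contra hcon
        have : (⟨m, hm.isPrime⟩ : PrimeSpectrum C) ∈ PrimeSpectrum.zeroLocus (𝔟 : Set C) := by
          rw [← h𝔟]; exact hcon
        exact hbm (this hb)
      obtain ⟨q, hq⟩ := hmem
      exact ⟨q.asIdeal, q.isPrime, congrArg PrimeSpectrum.asIdeal hq⟩
    · have h1 : algebraMap C P x ∈ I.map (algebraMap C P) := Ideal.mem_map_of_mem _ hx
      rw [← hs] at h1
      refine Ideal.map_mono ?_ h1
      apply Ideal.span_mono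
      rw [Finset.coe_insert]
      exact Set.subset_insert _ _
  rw [le_antisymm hle hI₂]
  exact ⟨insert i₀ s, rfl⟩

end Groth.Agent.H50
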