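import Mathlib

set_option autoImplicit false
universe u

open TensorProduct Polynomial

namespace Groth.Agent.H50

variable {C B A : Type u} [CommRing C] [CommRing B] [CommRing A] [Algebra C B] [Algebra B A]
  [Algebra C A] [IsScalarTower C B A]

/-- Lifting the standard etale pair of a presentation along a surjection `C → B`, multiplying `g` by `f'`. -/
theorem exists_lift_pair (hπ : Function.Surjective (algebraMap C B))
    (P : StandardEtalePresentation B A) :
    ∃ Pt : StandardEtalePair C, Pt.f.map (algebraMap C B) = P.f ∧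
      Pt.g.map (algebraMap C B) = P.g * derivative P.f := by
  obtain ⟨f, hf, -, hfm⟩ := Polynomial.lifts_and_natDegree_eq_and_monic
    (Polynomial.mem_lifts_of_surjective hπ P.f) P.monic_f
  obtain ⟨g, hg⟩ := Polynomial.map_surjective _ hπ P.g
  refine ⟨⟨f, hfm, g * derivative f, ⟨g, 0, 1, by ring⟩⟩, hf, ?_⟩
  rw [Polynomial.map_mul, hg, ← Polynomial.derivative_map, hf]

section

variable (P : StandardEtalePresentation B A) (Pt : StandardEtalePair C)
  (hf : Pt.f.map (algebraMap C B) = P.f) (hg : Pt.g.map (algebraMap C B) = P.g * derivative P.f)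

include hf hg in
theorem lift_hasMap : Pt.HasMap P.x := by
  constructor
  · rw [← Polynomial.aeval_map_algebraMap B, hf]
    exact P.hasMap.1
  · rw [← Polynomial.aeval_map_algebraMap B, hg, map_mul]
    exact P.hasMap.2.mul P.hasMap.isUnit_derivative_f

/-- The map from the lifted standard etale algebra. -/
noncomputable def liftHom : Pt.Ring →ₐ[C] A := Pt.lift P.x (lift_hasMap P Pt hf hg)

theorem liftHom_X : liftHom P Pt hf hg Pt.X = P.x := Pt.lift_X _ _

include hf hg in
theorem hasMap_one_tmul : P.HasMap ((1 : B) ⊗ₜ[C] Pt.X : B ⊗[C] Pt.Ring) := by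
  have h1 : ∀ p : C[X], aeval ((1 : B) ⊗ₜ[C] Pt.X : B ⊗[C] Pt.Ring) (p.map (algebraMap C B)) =
      (1 : B) ⊗ₜ[C] (aeval Pt.X p) := by
    intro p
    rw [Polynomial.aeval_map_algebraMap]
    have := Polynomial.aeval_algHom_apply
      (Algebra.TensorProduct.includeRight (R := C) (A := B) (B := Pt.Ring)) Pt.X p
    simpa using this
  constructor
  · rw [← hf, h1, Pt.hasMap_X.1, TensorProduct.tmul_zero]
  · have h2 : IsUnit (aeval ((1 : B) ⊗ₜ[C] Pt.X : B ⊗[C] Pt.Ring) (P.g * derivative P.f)) := by
      rw [← hg, h1]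
      exact Pt.hasMap_X.2.map (Algebra.TensorProduct.includeRight (R := C) (A := B) (B := Pt.Ring))
    rw [map_mul] at h2
    exact isUnit_of_mul_isUnit_left h2

/-- The base change of the lifted algebra is the original algebra. -/
noncomputable def liftEquiv : B ⊗[C] Pt.Ring ≃ₐ[B] A :=
  AlgEquiv.ofAlgHom
    (Algebra.TensorProduct.lift (Algebra.ofId B A) (liftHom P Pt hf hg) fun _ _ => Commute.all _ _)
    ((P.lift _ (hasMap_one_tmul P Pt hf hg)).comp P.equivRing.toAlgHom)
    (by
      apply P.hom_ext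
      simp [liftHom])
    (by
      ext1
      apply Pt.hom_ext
      simp [liftHom])

theorem liftEquiv_tmul (b : B) (r : Pt.Ring) :
    liftEquiv P Pt hf hg (b ⊗ₜ r) = algebraMap B A b * liftHom P Pt hf hg r := by
  simp [liftEquiv]

theorem liftHom_eq (r : Pt.Ring) :
    liftHom P Pt hf hg r = liftEquiv P Pt hf hg ((1 : B) ⊗ₜ r) := by
  rw [liftEquiv_tmul, map_one, one_mul]

theorem liftHom_surjective (hπ : Function.Surjective (algebraMap C B)) :
    Function.Surjective (liftHom P Pt hf hg) := by
  intro a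
  obtain ⟨t, rfl⟩ := (liftEquiv P Pt hf hg).surjective a
  obtain ⟨r, rfl⟩ := Algebra.TensorProduct.includeRight_surjective (R := C) (S := B) Pt.Ring hπ t
  exact ⟨r, liftHom_eq P Pt hf hg r⟩

theorem ker_liftHom (hπ : Function.Surjective (algebraMap C B)) :
    RingHom.ker (liftHom P Pt hf hg : Pt.Ring →+* A) =
      (RingHom.ker (algebraMap C B)).map (algebraMap C Pt.Ring) := by
  apply le_antisymm
  · intro r hr
    rw [RingHom.mem_ker] at hr
    have h1 : liftHom P Pt hf hg r = 0 := hr
    rw [liftHom_eq] at h1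
    have h2 : ((1 : B) ⊗ₜ[C] r : B ⊗[C] Pt.Ring) = 0 :=
      (liftEquiv P Pt hf hg).injective (by rw [h1, map_zero])
    have h3 : (r ⊗ₜ[C] (1 : B) : Pt.Ring ⊗[C] B) = 0 := by
      have := congrArg (TensorProduct.comm C B Pt.Ring) h2
      simpa using this
    let e := Ideal.quotientKerAlgEquivOfSurjective (f := Algebra.ofId C B) hπ
    have h4 : (r ⊗ₜ[C] (1 : C ⧸ RingHom.ker (Algebra.ofId C B)) : Pt.Ring ⊗[C] _) = 0 := by
      have := congrArg (TensorProduct.congr (LinearEquiv.refl C Pt.Ring) e.symm.toLinearEquiv) h3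
      simpa using this
    have h5 : (Algebra.TensorProduct.quotIdealMapEquivTensorQuot Pt.Ring
        (RingHom.ker (Algebra.ofId C B))) (Ideal.Quotient.mk _ r) = 0 := by
      rw [← h4]
      rfl
    have h6 := (Algebra.TensorProduct.quotIdealMapEquivTensorQuot Pt.Ring
        (RingHom.ker (Algebra.ofId C B))).injective (h5.trans (map_zero _).symm)
    rw [Ideal.Quotient.eq_zero_iff_mem] at h6
    exact h6
  · rw [Ideal.map_le_iff_le_comap]
    intro c hc
    rw [RingHom.mem_ker] at hc
    rw [Ideal.mem_comap, RingHom.mem_ker]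
    change liftHom P Pt hf hg (algebraMap C Pt.Ring c) = 0
    rw [AlgHom.commutes, IsScalarTower.algebraMap_apply C B A, hc, map_zero]

end

end Groth.Agent.H50
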