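import Groth.Agent.H50.EtSrcFP
import Groth.Agent.H50.EtSrcLift
import Groth.Agent.H50.EtSrcEasy

set_option autoImplicit false
set_option linter.style.haveILetI false
universe u

open TensorProduct Polynomial CategoryTheory AlgebraicGeometry

namespace Groth.Agent.H50

/-- Descent of finite presentation along a standard etale, Spec-surjective extension of the
middle ring. -/
theorem finitePresentation_of_etale_of_comap_surjective {R B A : Type u} [CommRing R] [CommRing B]
    [CommRing A] [Algebra R B] [Algebra B A] [Algebra R A] [IsScalarTower R B A]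
    [Algebra.IsStandardEtale B A]
    (hsurj : Function.Surjective (PrimeSpectrum.comap (algebraMap B A)))
    [Algebra.FinitePresentation R A] : Algebra.FinitePresentation R B := by
  have hft : Algebra.FiniteType R B :=
    finiteType_of_etale_of_comap_surjective (R := R) (B := B) (A := A) hsurj
  obtain ⟨n, π, hπ⟩ := Algebra.FiniteType.iff_quotient_mvPolynomial''.1 hft
  let C := MvPolynomial (Fin n) R
  letI : Algebra C B := π.toRingHom.toAlgebra
  haveI : IsScalarTower R C B := IsScalarTower.of_algebraMap_eq fun r => (π.commutes r).symm
  letI : Algebra C A := ((algebraMap B A).comp π.toRingHom).toAlgebra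
  haveI : IsScalarTower C B A := IsScalarTower.of_algebraMap_eq fun _ => rfl
  haveI : IsScalarTower R C A := IsScalarTower.of_algebraMap_eq fun r => by
    rw [IsScalarTower.algebraMap_apply R B A, IsScalarTower.algebraMap_apply R C B]
    rfl
  have hπ' : Function.Surjective (algebraMap C B) := hπ
  obtain ⟨P⟩ := Algebra.IsStandardEtale.nonempty_standardEtalePresentation (R := B) (S := A)
  obtain ⟨Pt, hf, hg⟩ := exists_lift_pair (C := C) hπ' P
  let ψ := liftHom P Pt hf hg
  have hψ : Function.Surjective ψ := liftHom_surjective P Pt hf hg hπ'
  have hker : RingHom.ker (ψ : Pt.Ring →+* A) =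
      (RingHom.ker (algebraMap C B)).map (algebraMap C Pt.Ring) := ker_liftHom P Pt hf hg hπ'
  haveI : Algebra.FinitePresentation C Pt.Ring := inferInstance
  haveI : Module.Flat C Pt.Ring := inferInstance
  letI : Algebra R Pt.Ring := ((algebraMap C Pt.Ring).comp (algebraMap R C)).toAlgebra
  haveI : IsScalarTower R C Pt.Ring := IsScalarTower.of_algebraMap_eq fun _ => rfl
  haveI : Algebra.FinitePresentation R Pt.Ring := Algebra.FinitePresentation.trans R C Pt.Ring
  let ψR : Pt.Ring →ₐ[R] A := ψ.restrictScalars R
  have hfgk : (RingHom.ker ψR.toRingHom).FG :=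
    Algebra.FinitePresentation.ker_fG_of_surjective ψR hψ
  have hfgk' : ((RingHom.ker (algebraMap C B)).map (algebraMap C Pt.Ring)).FG := by
    rw [← hker]; exact hfgk
  have hI : (RingHom.ker (algebraMap C B)).FG := by
    refine ideal_fg_of_map_fg_of_flat (P := Pt.Ring) _ ?_ ?_ hfgk'
    · exact (PrimeSpectrum.isOpenMap_comap_of_hasGoingDown_of_finitePresentation
        (R := C) (S := Pt.Ring)).isOpen_range
    · intro q hq
      have hq' : q ∈ Set.range (PrimeSpectrum.comap (algebraMap C B)) := by
        rw [range_comap_of_surjective _ _ hπ']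
        exact hq
      obtain ⟨qb, rfl⟩ := hq'
      obtain ⟨r, rfl⟩ := hsurj qb
      refine ⟨PrimeSpectrum.comap (ψ : Pt.Ring →+* A) r, ?_⟩
      rw [← PrimeSpectrum.comap_comp_apply, ← PrimeSpectrum.comap_comp_apply]
      congr 1
      refine RingHom.ext fun c => ?_
      change ψ (algebraMap C Pt.Ring c) = algebraMap B A (algebraMap C B c)
      rw [AlgHom.commutes, IsScalarTower.algebraMap_apply C B A]
  exact Algebra.FinitePresentation.of_surjective (f := π) hπ hI

theorem descendsStdEtale_finitePresentation : DescendsStdEtale @RingHom.FinitePresentation := by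
  intro R B A _ _ _ f g hstd hsurj h
  algebraize [f, g, g.comp f]
  have : Algebra.IsStandardEtale B A := hstd
  have : Algebra.FinitePresentation R B :=
    finitePresentation_of_etale_of_comap_surjective (R := R) (B := B) (A := A) hsurj
  exact (RingHom.finitePresentation_algebraMap).2 this

/-- Being locally of finite presentation is etale local on the source. -/
theorem locallyOfFinitePresentation_of_comp_etale_surjective {A B C : Scheme.{u}} (e : A ⟶ B)
    (h : B ⟶ C) [Etale e] [Surjective e] (H : LocallyOfFinitePresentation (e ≫ h)) :
    LocallyOfFinitePresentation h :=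
  haveI := respectsRight_isOpenImmersion_of @LocallyOfFinitePresentation (fun _ _ => inferInstance)
  of_comp_etale_surjective (P := @LocallyOfFinitePresentation)
    descendsStdEtale_finitePresentation e h H

end Groth.Agent.H50
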