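import Groth.Agent.H50.EtSrcShrink

set_option autoImplicit false
universe u

open TensorProduct

namespace Groth.Agent.H50

/-- A property of ring maps descends along faithfully flat standard etale extensions of the target. -/
def DescendsStdEtale (Q : ∀ {R S : Type u} [CommRing R] [CommRing S], (R →+* S) → Prop) : Prop :=
  ∀ ⦃R B A : Type u⦄ [CommRing R] [CommRing B] [CommRing A] (f : R →+* B) (g : B →+* A),
    (letI := g.toAlgebra; Algebra.IsStandardEtale B A) →
      Function.Surjective (PrimeSpectrum.comap g) → Q (g.comp f) → Q f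

attribute [local instance] Algebra.TensorProduct.rightAlgebra

/-- Local form of the descent: around a prime of `B₁` in the image of `Spec A₁`, the property holds after
inverting one element. -/
theorem descends_local {Q : ∀ {R S : Type u} [CommRing R] [CommRing S], (R →+* S) → Prop}
    (hQ : RingHom.PropertyIsLocal @Q) (hD : DescendsStdEtale @Q)
    {R B₁ A₁ : Type u} [CommRing R] [CommRing B₁] [CommRing A₁] (φ : R →+* B₁) (ψ : B₁ →+* A₁)
    (hψ : ψ.Etale) (p : PrimeSpectrum A₁) (hQA : Q (ψ.comp φ)) :
    ∃ s : B₁, s ∉ (PrimeSpectrum.comap ψ p).asIdeal ∧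
      Q ((algebraMap B₁ (Localization.Away s)).comp φ) := by
  algebraize [ψ]
  have : Algebra.IsEtaleAt B₁ p.asIdeal := inferInstance
  obtain ⟨g, hgp, hstd⟩ := Algebra.IsEtaleAt.exists_isStandardEtale (R := B₁) p.asIdeal
  -- the prime `p` extends to `A₁[1/g]`
  have hp : p ∈ Set.range (PrimeSpectrum.comap (algebraMap A₁ (Localization.Away g))) := by
    rw [PrimeSpectrum.localization_comap_range (Localization.Away g) (Submonoid.powers g)]
    change Disjoint _ _
    rw [Set.disjoint_left]
    rintro x ⟨n, rfl⟩ hx
    exact hgp (p.2.mem_of_pow_mem n hx)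
  obtain ⟨p', hp'⟩ := hp
  have hq : PrimeSpectrum.comap ψ p ∈
      Set.range (PrimeSpectrum.comap (algebraMap B₁ (Localization.Away g))) := by
    refine ⟨p', ?_⟩
    rw [IsScalarTower.algebraMap_eq B₁ A₁ (Localization.Away g), PrimeSpectrum.comap_comp_apply, hp']
    rfl
  obtain ⟨s, hs, hsurj⟩ := exists_away_comap_surjective (B := B₁) (A := Localization.Away g) _ hq
  refine ⟨s, hs, ?_⟩
  refine hD ((algebraMap B₁ (Localization.Away s)).comp φ)
    (algebraMap (Localization.Away s) (Localization.Away s ⊗[B₁] Localization.Away g)) ?_ hsurj ?_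
  · convert (inferInstance : Algebra.IsStandardEtale (Localization.Away s)
      (Localization.Away s ⊗[B₁] Localization.Away g))
    exact Algebra.algebra_ext _ _ fun _ => rfl
  · have h1 : Q ((algebraMap A₁ (Localization.Away g)).comp (ψ.comp φ)) :=
      hQ.StableUnderCompositionWithLocalizationAwayTarget _ g _ hQA
    have hloc := isLocalizationAway_tensor (B := B₁) (A := Localization.Away g) s
    have h2 := hQ.StableUnderCompositionWithLocalizationAwayTarget
      (Localization.Away s ⊗[B₁] Localization.Away g) (algebraMap B₁ (Localization.Away g) s) _ h1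
    convert h2 using 1
    ext r
    simp only [RingHom.comp_apply]
    change algebraMap (Localization.Away s) _ (algebraMap B₁ _ (φ r)) =
      (1 : Localization.Away s) ⊗ₜ[B₁] (algebraMap A₁ (Localization.Away g) (ψ (φ r)))
    rw [Algebra.TensorProduct.algebraMap_apply, Algebra.algebraMap_self, RingHom.id_apply,
      show ψ (φ r) = algebraMap B₁ A₁ (φ r) from rfl, ← IsScalarTower.algebraMap_apply,
      Algebra.algebraMap_eq_smul_one (A := Localization.Away g), TensorProduct.tmul_smul,
      TensorProduct.smul_tmul', Algebra.smul_def, mul_one]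

end Groth.Agent.H50
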