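import Groth.Agent.H50.EtSrcLocal

set_option autoImplicit false
set_option backward.isDefEq.respectTransparency false
set_option backward.isDefEq.respectTransparency.types false
universe u

open CategoryTheory AlgebraicGeometry

namespace Groth.Agent.H50

/-- Generic reduction: a property of morphisms of schemes given by a local property of ring maps which descends along
faithfully flat standard etale extensions is etale local on the source. -/
theorem of_comp_etale_surjective {P : MorphismProperty Scheme.{u}}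
    {Q : ∀ {R S : Type u} [CommRing R] [CommRing S], (R →+* S) → Prop} [HasRingHomProperty P Q]
    [P.RespectsRight @IsOpenImmersion] (hD : DescendsStdEtale @Q) {A B C : Scheme.{u}} (e : A ⟶ B) (h : B ⟶ C) [Etale e] [Surjective e]
    (H : P (e ≫ h)) : P h := by
  have hQloc : RingHom.PropertyIsLocal @Q := HasRingHomProperty.isLocal_ringHomProperty P
  rw [IsZariskiLocalAtSource.iff_exists_resLE (P := P)]
  intro b
  obtain ⟨a, rfl⟩ := e.surjective b
  obtain ⟨_, ⟨U, hU, rfl⟩, hcU, -⟩ :=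
    C.isBasis_affineOpens.exists_subset_of_mem_open (Set.mem_univ (h (e a))) isOpen_univ
  obtain ⟨_, ⟨V₀, hV₀, rfl⟩, hbV₀, hV₀U⟩ :=
    B.isBasis_affineOpens.exists_subset_of_mem_open hcU (U.2.preimage h.continuous)
  obtain ⟨_, ⟨W₀, hW₀, rfl⟩, haW₀, hW₀V₀⟩ :=
    A.isBasis_affineOpens.exists_subset_of_mem_open hbV₀ (V₀.2.preimage e.continuous)
  have hψ : (e.appLE V₀ W₀ hW₀V₀).hom.Etale :=
    HasRingHomProperty.appLE @Etale e inferInstance ⟨V₀, hV₀⟩ ⟨W₀, hW₀⟩ hW₀V₀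
  have hWU : W₀ ≤ (e ≫ h) ⁻¹ᵁ U := fun x hx => hV₀U (hW₀V₀ hx)
  have hcomp : (e.appLE V₀ W₀ hW₀V₀).hom.comp (h.appLE U V₀ hV₀U).hom =
      ((e ≫ h).appLE U W₀ hWU).hom := by
    rw [← CommRingCat.hom_comp, Scheme.Hom.appLE_comp_appLE]
  have hQA : Q ((e.appLE V₀ W₀ hW₀V₀).hom.comp (h.appLE U V₀ hV₀U).hom) := by
    rw [hcomp]
    exact HasRingHomProperty.appLE P (e ≫ h) H ⟨U, hU⟩ ⟨W₀, hW₀⟩ hWU
  obtain ⟨s, hs, hQs⟩ := descends_local hQloc hD (h.appLE U V₀ hV₀U).hom (e.appLE V₀ W₀ hW₀V₀).hom hψ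
    (hW₀.primeIdealOf ⟨a, haW₀⟩) hQA
  have hprime : PrimeSpectrum.comap (e.appLE V₀ W₀ hW₀V₀).hom (hW₀.primeIdealOf ⟨a, haW₀⟩) =
      hV₀.primeIdealOf ⟨e a, hbV₀⟩ :=
    IsAffineOpen.comap_primeIdealOf_appLE V₀ hV₀ W₀ hW₀ hW₀V₀ haW₀
  rw [hprime] at hs
  have hmem : e a ∈ B.basicOpen s := by
    rwa [← PrimeSpectrum.mem_basicOpen, IsAffineOpen.primeIdealOf,
      ← hV₀.fromSpec_preimage_basicOpen, Scheme.Hom.mem_preimage, ← Scheme.Hom.comp_apply,
      IsAffineOpen.isoSpec_hom, IsAffineOpen.toSpecΓ_fromSpec] at hs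
  refine ⟨U, B.basicOpen s, hmem, (B.basicOpen_le s).trans hV₀U, ?_⟩
  have : IsAffine _ := hU
  have : IsAffine _ := hV₀.basicOpen s
  rw [HasRingHomProperty.iff_of_isAffine (P := P)]
  refine (hQloc.respectsIso.arrow_mk_iso_iff (arrowResLEAppIso h U _ _)).mpr ?_
  have := hV₀.isLocalization_basicOpen s
  convert hQloc.respectsIso.1 _
    (IsLocalization.algEquiv (.powers s) (Localization.Away s) Γ(B, B.basicOpen s)).toRingEquiv hQs
  ext x
  simp only [RingHom.comp_apply, RingEquiv.toRingHom_eq_coe, RingHom.coe_coe,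
    AlgEquiv.coe_ringEquiv, AlgEquiv.commutes]
  simp only [RingHom.algebraMap_toAlgebra, ← ConcreteCategory.comp_apply, Scheme.Hom.appLE_map]

end Groth.Agent.H50
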