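import Mathlib

set_option autoImplicit false
universe u

open TensorProduct

namespace Groth.Agent.H50

attribute [local instance] Algebra.TensorProduct.rightAlgebra

/-- `A → B_s ⊗ A` is the localization away from the image of `s`. -/
theorem isLocalizationAway_tensor {B A : Type u} [CommRing B] [CommRing A] [Algebra B A] (s : B) :
    IsLocalization.Away (algebraMap B A s) (Localization.Away s ⊗[B] A) := by
  have h : IsLocalization (Algebra.algebraMapSubmonoid A (Submonoid.powers s))
      (Localization.Away s ⊗[B] A) := IsLocalization.tensorRight (Localization.Away s) (Submonoid.powers s)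
  rwa [Algebra.algebraMapSubmonoid_powers] at h

/-- Shrinking the base so that a flat finitely presented algebra becomes surjective on spectra. -/
theorem exists_away_comap_surjective {B A : Type u} [CommRing B] [CommRing A] [Algebra B A]
    [Module.Flat B A] [Algebra.FinitePresentation B A] (q : PrimeSpectrum B)
    (hq : q ∈ Set.range (PrimeSpectrum.comap (algebraMap B A))) :
    ∃ s : B, s ∉ q.asIdeal ∧ Function.Surjective
      (PrimeSpectrum.comap (algebraMap (Localization.Away s) (Localization.Away s ⊗[B] A))) := by
  have hopen : IsOpen (Set.range (PrimeSpectrum.comap (algebraMap B A))) :=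
    (PrimeSpectrum.isOpenMap_comap_of_hasGoingDown_of_finitePresentation).isOpen_range
  obtain ⟨_, ⟨s, rfl⟩, hqs, hs⟩ :=
    PrimeSpectrum.isTopologicalBasis_basic_opens.exists_subset_of_mem_open hq hopen
  refine ⟨s, hqs, fun q' => ?_⟩
  -- the prime of `B` under `q'`
  have hq1 : PrimeSpectrum.comap (algebraMap B (Localization.Away s)) q' ∈
      Set.range (PrimeSpectrum.comap (algebraMap B A)) := by
    apply hs
    have := (PrimeSpectrum.localization_comap_range (Localization.Away s) (Submonoid.powers s)).le
      ⟨q', rfl⟩
    change s ∉ _
    intro hmem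
    exact (Set.disjoint_left.1 this) (Submonoid.mem_powers s) hmem
  obtain ⟨p1, hp1⟩ := hq1
  have hloc := isLocalizationAway_tensor (A := A) s
  -- `p1` does not contain the image of `s`
  have hsp1 : algebraMap B A s ∉ p1.asIdeal := by
    intro hmem
    have h1 : s ∈ (PrimeSpectrum.comap (algebraMap B A) p1).asIdeal := hmem
    rw [hp1] at h1
    have := (PrimeSpectrum.localization_comap_range (Localization.Away s) (Submonoid.powers s)).le
      ⟨q', rfl⟩
    exact (Set.disjoint_left.1 this) (Submonoid.mem_powers s) h1
  have hp1' : p1 ∈ Set.range (PrimeSpectrum.comap (algebraMap A (Localization.Away s ⊗[B] A))) := by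
    rw [PrimeSpectrum.localization_comap_range (Localization.Away s ⊗[B] A)
      (Submonoid.powers (algebraMap B A s))]
    change Disjoint _ _
    rw [Set.disjoint_left]
    rintro x ⟨n, rfl⟩ hx
    exact hsp1 (p1.2.mem_of_pow_mem n hx)
  obtain ⟨p', hp'⟩ := hp1'
  refine ⟨p', ?_⟩
  apply PrimeSpectrum.localization_comap_injective (Localization.Away s) (Submonoid.powers s)
  rw [← hp1, ← hp', ← PrimeSpectrum.comap_comp_apply, ← PrimeSpectrum.comap_comp_apply]
  congr 1
  ext b
  simp [Algebra.TensorProduct.algebraMap_apply, RingHom.algebraMap_toAlgebra,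
    Algebra.algebraMap_eq_smul_one, smul_tmul]

end Groth.Agent.H50
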