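import Mathlib

set_option autoImplicit false
universe u
open TensorProduct CategoryTheory

namespace Groth.Agent.H50

/-- An etale algebra `B` over `A` with surjective map on spectra comes by base change from an
etale algebra with surjective map on spectra over a finitely generated `ℤ`-subalgebra of `A`. -/
theorem exists_etale_model_surjective {A B : Type u} [CommRing A] [CommRing B] [Algebra A B]
    [Algebra.Etale A B]
    (hsurj : Function.Surjective (PrimeSpectrum.comap (algebraMap A B))) :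
    ∃ (A₀ : Subalgebra ℤ A) (B₀ : Type u) (_ : CommRing B₀) (_ : Algebra A₀ B₀),
      A₀.FG ∧ Algebra.Etale A₀ B₀ ∧ Nonempty (B ≃ₐ[A] A ⊗[A₀] B₀) ∧
      Function.Surjective (PrimeSpectrum.comap (algebraMap A₀ B₀)) := by
  classical
  obtain ⟨A₀, B₀, _, _, hfg, hét, ⟨e⟩⟩ := Algebra.Etale.exists_subalgebra_fg ℤ A B
  haveI : Algebra.FiniteType ℤ A₀ := (Subalgebra.fg_iff_finiteType A₀).mp hfg
  haveI : IsNoetherianRing A₀ := Algebra.FiniteType.isNoetherianRing ℤ A₀
  haveI : Module.Flat A₀ B₀ := inferInstance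
  have hopen : IsOpenMap (PrimeSpectrum.comap (algebraMap A₀ B₀)) :=
    PrimeSpectrum.isOpenMap_comap_of_hasGoingDown_of_finitePresentation
  set O : Set (PrimeSpectrum A₀) := Set.range (PrimeSpectrum.comap (algebraMap A₀ B₀)) with hO
  have hOo : IsOpen O := hopen.isOpen_range
  set I₀ : Ideal A₀ := PrimeSpectrum.vanishingIdeal Oᶜ with hI₀
  have hZ : PrimeSpectrum.zeroLocus (I₀ : Set A₀) = Oᶜ := by
    rw [hI₀, PrimeSpectrum.zeroLocus_vanishingIdeal_eq_closure]
    exact hOo.isClosed_compl.closure_eq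
  -- the key claim
  have htop : Ideal.map (algebraMap A₀ A) I₀ = ⊤ := by
    by_contra hne
    obtain ⟨m, hm, hle⟩ := Ideal.exists_le_maximal _ hne
    let p : PrimeSpectrum A := ⟨m, hm.isPrime⟩
    obtain ⟨q, hq⟩ := hsurj p
    -- the point of `Spec B₀`
    let ψ : B₀ →+* B := (e.symm.toAlgHom.toRingHom).comp
      (Algebra.TensorProduct.includeRight : B₀ →ₐ[A₀] A ⊗[A₀] B₀).toRingHom
    have hψ : ψ.comp (algebraMap A₀ B₀) = (algebraMap A B).comp (algebraMap A₀ A) := by
      ext x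
      change e.symm ((1 : A) ⊗ₜ[A₀] algebraMap A₀ B₀ x) = algebraMap A B (algebraMap A₀ A x)
      rw [← e.symm.commutes]
      congr 1
      rw [Algebra.TensorProduct.algebraMap_apply, Algebra.algebraMap_eq_smul_one,
        Algebra.algebraMap_eq_smul_one, TensorProduct.tmul_smul, TensorProduct.smul_tmul']
      rfl
    have h1 : PrimeSpectrum.comap (algebraMap A₀ B₀) (PrimeSpectrum.comap ψ q) =
        PrimeSpectrum.comap (algebraMap A₀ A) p := by
      rw [← hq]
      change PrimeSpectrum.comap (ψ.comp (algebraMap A₀ B₀)) q = _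
      rw [hψ]
      rfl
    have h2 : PrimeSpectrum.comap (algebraMap A₀ A) p ∈ O := ⟨_, h1⟩
    have h3 : PrimeSpectrum.comap (algebraMap A₀ A) p ∈ Oᶜ := by
      rw [← hZ, PrimeSpectrum.mem_zeroLocus]
      intro x hx
      exact hle (Ideal.mem_map_of_mem _ hx)
    exact h3 h2
  -- finitely many coefficients
  have h1 : (1 : A) ∈ Ideal.map (algebraMap A₀ A) I₀ := by rw [htop]; trivial
  rw [Ideal.map, Ideal.span, Submodule.mem_span_iff_exists_finset_subset] at h1
  obtain ⟨f, t, ht, -, hsum⟩ := h1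
  obtain ⟨t₀, ht₀⟩ := hfg
  let A₁ : Subalgebra ℤ A := Algebra.adjoin ℤ ((t₀ : Set A) ∪ (t.image f : Set A))
  have hle : A₀ ≤ A₁ := by
    rw [← ht₀]
    exact Algebra.adjoin_mono Set.subset_union_left
  have hfg₁ : A₁.FG := ⟨t₀ ∪ t.image f, by simp [A₁]⟩
  letI : Algebra A₀ A₁ := (Subalgebra.inclusion hle).toRingHom.toAlgebra
  haveI : IsScalarTower A₀ A₁ A := IsScalarTower.of_algebraMap_eq (fun x => rfl)
  have hfmem : ∀ m ∈ t, f m ∈ A₁ := fun m hm =>
    Algebra.subset_adjoin (Or.inr (by simpa using Finset.mem_image_of_mem f hm))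
  have htop₁ : Ideal.map (algebraMap A₀ A₁) I₀ = ⊤ := by
    rw [Ideal.eq_top_iff_one]
    have hmem : ∀ m ∈ t, ∃ g : A₀, g ∈ I₀ ∧ algebraMap A₀ A g = m := fun m hm => ht hm
    choose! g hg1 hg2 using hmem
    have : (1 : A₁) = ∑ m ∈ t.attach, (⟨f m.1, hfmem m.1 m.2⟩ : A₁) * algebraMap A₀ A₁ (g m.1) := by
      apply Subtype.ext
      have h5 : ((1 : A₁) : A) = 1 := rfl
      rw [h5, ← hsum, ← Finset.sum_attach]
      simp only [AddSubmonoidClass.coe_finsetSum, MulMemClass.coe_mul, smul_eq_mul]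
      refine Finset.sum_congr rfl fun m _ => ?_
      congr 1
      exact (hg2 m.1 m.2).symm
    rw [this]
    refine Ideal.sum_mem _ fun m _ => Ideal.mul_mem_left _ _ ?_
    exact Ideal.mem_map_of_mem _ (hg1 m.1 m.2)
  refine ⟨A₁, A₁ ⊗[A₀] B₀, inferInstance, inferInstance, hfg₁, inferInstance,
    ⟨e.trans (Algebra.TensorProduct.cancelBaseChange A₀ A₁ A A B₀).symm⟩, ?_⟩
  -- surjectivity
  intro p₁
  have hp₀ : PrimeSpectrum.comap (algebraMap A₀ A₁) p₁ ∈ O := by
    by_contra hn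
    have h3 : PrimeSpectrum.comap (algebraMap A₀ A₁) p₁ ∈ PrimeSpectrum.zeroLocus (I₀ : Set A₀) := by
      rw [hZ]; exact hn
    rw [PrimeSpectrum.mem_zeroLocus] at h3
    have h4 : Ideal.map (algebraMap A₀ A₁) I₀ ≤ p₁.asIdeal := by
      rw [Ideal.map_le_iff_le_comap]
      exact h3
    rw [htop₁] at h4
    exact p₁.2.ne_top (top_le_iff.mp h4)
  obtain ⟨q₀, hq₀⟩ := hp₀
  have sq := AlgebraicGeometry.isPullback_SpecMap_of_isPushout _ _ _ _
    (CommRingCat.isPushout_tensorProduct A₀ A₁ B₀)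
  obtain ⟨z, hz1, -⟩ := AlgebraicGeometry.Scheme.Pullback.exists_preimage_pullback
    (f := AlgebraicGeometry.Spec.map (CommRingCat.ofHom (algebraMap A₀ A₁)))
    (g := AlgebraicGeometry.Spec.map (CommRingCat.ofHom (algebraMap A₀ B₀))) p₁ q₀ hq₀.symm
  refine ⟨sq.isoPullback.inv z, ?_⟩
  have h6 : sq.isoPullback.inv ≫ AlgebraicGeometry.Spec.map (CommRingCat.ofHom
      (Algebra.TensorProduct.includeLeftRingHom : A₁ →+* A₁ ⊗[A₀] B₀)) =
      CategoryTheory.Limits.pullback.fst _ _ := sq.isoPullback_inv_fst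
  have h7 := congrArg (fun k => k.base z) h6
  rw [← hz1]
  exact h7

end Groth.Agent.H50
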