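import Groth.Agent.H50.FlatOpen
import Groth.Agent.H47.FtPoint

set_option autoImplicit false
set_option backward.isDefEq.respectTransparency false
universe u
open CategoryTheory CategoryTheory.Limits AlgebraicGeometry Opposite Topology

namespace Groth.Agent.H50

open AlgSp

variable {S : Scheme.{u}}

/-- `x` is a finite type point of `X`. -/
def IsFTPoint (X : Sp S) (x : Points X) : Prop :=
  ∃ (k : Type u) (_ : Field k) (str : Spec (CommRingCat.of k) ⟶ S)
    (ξ : (yon S).obj (Over.mk str) ⟶ X),
    LocP @LocallyOfFiniteType ξ ∧ Points.ofPt ξ (IsLocalRing.closedPoint k) = x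

/-- A field-valued point of an étale chart which is locally of finite type gives a finite type
point. -/
theorem isFTPoint_of_lft_field_chart {X : Sp S} {U : Over S} (φ : (yon S).obj U ⟶ X)
    (hφ : RepWith @Etale φ) (K : Type u) [Field K] (a : Spec (CommRingCat.of K) ⟶ U.left)
    (ha : LocallyOfFiniteType a) :
    IsFTPoint X (Points.ofPt φ (a (IsLocalRing.closedPoint K))) := by
  let k : Over.mk (a ≫ U.hom) ⟶ U := Over.homMk a rfl
  refine ⟨K, inferInstance, a ≫ U.hom, (yon S).map k ≫ φ, ?_, ?_⟩
  · exact goodClass_lft.locP_comp (IsAlgSpace.yon_obj U) _ _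
      (goodClass_lft.locP_yon_map k ha) (goodClass_lft.locP_of_repWith_etale φ hφ)
  · rw [Groth.Agent.H53.ofPt_yon_map_comp]
    rfl

/-- The image of a closed point of an étale chart is a finite type point. -/
theorem isFTPoint_of_isClosed_chart {X : Sp S} {U : Over S} (φ : (yon S).obj U ⟶ X)
    (hφ : RepWith @Etale φ) (u : ↥U.left) (hu : IsClosed ({u} : Set ↥U.left)) :
    IsFTPoint X (Points.ofPt φ u) := by
  have hci : IsClosedImmersion (U.left.fromSpecResidueField u) :=
    isClosed_singleton_iff_isClosedImmersion.mp hu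
  have hlft : LocallyOfFiniteType (U.left.fromSpecResidueField u) := inferInstance
  have := isFTPoint_of_lft_field_chart φ hφ (U.left.residueField u)
    (U.left.fromSpecResidueField u) hlft
  have e : (U.left.fromSpecResidueField u) (IsLocalRing.closedPoint ↑(U.left.residueField u)) = u :=
    Scheme.fromSpecResidueField_apply _ _
  have e2 : Points.ofPt φ ((U.left.fromSpecResidueField u)
      (IsLocalRing.closedPoint ↑(U.left.residueField u))) = Points.ofPt φ u := congrArg _ e
  exact e2 ▸ this

/-- A scheme étale over the spectrum of a field has the discrete topology. -/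
theorem discreteTopology_of_etale_field {W : Scheme.{u}} (k : Type u) [Field k]
    (f : W ⟶ Spec (CommRingCat.of k)) [Etale f] : DiscreteTopology ↥W := by
  have : LocallyQuasiFinite f := locallyQuasiFinite_of_etale f
  have h := f.isDiscrete_preimage_singleton (IsLocalRing.closedPoint k)
  have huniv : f ⁻¹' {IsLocalRing.closedPoint k} = Set.univ := by
    ext w
    simp only [Set.mem_preimage, Set.mem_singleton_iff, Set.mem_univ, iff_true]
    exact Subsingleton.elim _ _
  rw [huniv] at h
  exact isDiscrete_univ_iff.mp h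

/-- A finite type point of an algebraic space is the image of a closed point of some étale
chart. -/
theorem exists_isClosed_chart_of_isFTPoint {X : Sp S} (hX : IsAlgSpace X) (x : Points X)
    (hx : IsFTPoint X x) :
    ∃ (U : Over S) (φ : (yon S).obj U ⟶ X) (u : ↥U.left), RepWith @Etale φ ∧
      IsClosed ({u} : Set ↥U.left) ∧ Points.ofPt φ u = x := by
  obtain ⟨k, _, str, ξ, hξ, rfl⟩ := hx
  obtain ⟨U, φ, hφ1, hφ2⟩ := hX.atlas
  obtain ⟨W, w₁, w₂, sq⟩ := Groth.Agent.H53.exists_pullback_yon ξ φ hφ1.rep
  have hw : Etale w₁.left := Groth.Agent.H53.prop_of_isPullback_yon sq hφ1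
  have hws : Surjective w₁.left := Groth.Agent.H53.prop_of_isPullback_yon sq hφ2
  have hw2 : LocallyOfFiniteType w₂.left :=
    hξ ((yon S).map w₁) φ w₂ ((repWith_yon_map_iff _ _).2 hw) hφ1 sq.w
  obtain ⟨w, hwpt⟩ := hws.surj (IsLocalRing.closedPoint k)
  have hdisc : DiscreteTopology ↥W.left := discreteTopology_of_etale_field k w₁.left
  have hcl : IsClosed ({w} : Set ↥W.left) := isClosed_discrete _
  have hci : IsClosedImmersion (W.left.fromSpecResidueField w) :=
    isClosed_singleton_iff_isClosedImmersion.mp hcl
  have hlft : LocallyOfFiniteType (W.left.fromSpecResidueField w ≫ w₂.left) := inferInstance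
  obtain ⟨U', -, hs, hcl'⟩ :=
    Groth.Agent.H47.exists_isAffineOpen_isClosed_singleton_of_locallyOfFiniteType
      (W.left.residueField w) (W.left.fromSpecResidueField w ≫ w₂.left)
      (IsLocalRing.closedPoint _)
  have e : (W.left.fromSpecResidueField w ≫ w₂.left)
      (IsLocalRing.closedPoint ↑(W.left.residueField w)) = w₂.left w := by
    rw [Scheme.Hom.comp_apply]
    exact congrArg _ (Scheme.fromSpecResidueField_apply _ _)
  refine ⟨Groth.Agent.H51.overOpen U U', (yon S).map (Groth.Agent.H51.overOpenι U U') ≫ φ,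
    ⟨_, hs⟩, Groth.Agent.H51.repWith_etale_restrict φ hφ1 U', hcl', ?_⟩
  rw [Groth.Agent.H51.ofPt_restrict]
  change Points.ofPt φ ((W.left.fromSpecResidueField w ≫ w₂.left)
      (IsLocalRing.closedPoint ↑(W.left.residueField w))) = _
  rw [e, ← Groth.Agent.H53.ofPt_yon_map_comp, ← sq.w, Groth.Agent.H53.ofPt_yon_map_comp, hwpt]

end Groth.Agent.H50
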