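import Groth.Agent.H50.FTPoint

set_option autoImplicit false
set_option backward.isDefEq.respectTransparency false
universe u
open CategoryTheory CategoryTheory.Limits AlgebraicGeometry Opposite Topology

namespace Groth.Agent.H50

open AlgSp

variable {S : Scheme.{u}}

/-- In a scheme, a nonempty locally closed subset contains a point that is closed in some affine
open. -/
theorem exists_isClosed_in_affineOpen_of_isLocallyClosed {U : Scheme.{u}} (T : Set U)
    (hT : IsLocallyClosed T) (hne : T.Nonempty) :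
    ∃ (U₁ : U.Opens) (u : U₁), IsAffineOpen U₁ ∧ u.1 ∈ T ∧ IsClosed ({u} : Set U₁) := by
  obtain ⟨u', hu'⟩ := hne
  obtain ⟨O, Z, hO, hZ, rfl⟩ := hT
  obtain ⟨U₁, hU₁, hu'U₁, hU₁O⟩ := TopologicalSpace.Opens.isBasis_iff_nbhd.mp
    (U.isBasis_affineOpens) (U := ⟨O, hO⟩) (x := u') hu'.1
  have : CompactSpace ↥U₁ := isCompact_iff_compactSpace.mp (IsAffineOpen.isCompact hU₁)
  have hcl : IsClosed (Subtype.val ⁻¹' Z : Set ↥U₁) := hZ.preimage continuous_subtype_val
  obtain ⟨u, huZ, hu⟩ := hcl.exists_closed_singleton ⟨⟨u', hu'U₁⟩, hu'.2⟩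
  exact ⟨U₁, u, hU₁, ⟨hU₁O u.2, huZ⟩, hu⟩

/-- A nonempty locally closed subset of an étale chart contains a point whose image is a finite
type point. -/
theorem exists_isFTPoint_of_isLocallyClosed_chart {X : Sp S} {U : Over S}
    (φ : (yon S).obj U ⟶ X) (hφ : RepWith @Etale φ) (T : Set ↥U.left) (hT : IsLocallyClosed T)
    (hne : T.Nonempty) : ∃ u ∈ T, IsFTPoint X (Points.ofPt φ u) := by
  obtain ⟨U₁, u, -, huT, hu⟩ := exists_isClosed_in_affineOpen_of_isLocallyClosed T hT hne
  refine ⟨u.1, huT, ?_⟩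
  have := isFTPoint_of_isClosed_chart ((yon S).map (Groth.Agent.H51.overOpenι U U₁) ≫ φ)
    (Groth.Agent.H51.repWith_etale_restrict φ hφ U₁) u hu
  rwa [Groth.Agent.H51.ofPt_restrict] at this

/-- The image of a finite type point under a morphism locally of finite type is a finite type
point. -/
theorem IsFTPoint.map {P X : Sp S} (hP : IsAlgSpace P) (g : P ⟶ X)
    (hg : LocP @LocallyOfFiniteType g) (p : Points P) (hp : IsFTPoint P p) :
    IsFTPoint X (Points.map g p) := by
  obtain ⟨k, _, str, ξ, hξ, rfl⟩ := hp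
  refine ⟨k, inferInstance, str, ξ ≫ g, goodClass_lft.locP_comp hP _ _ hξ hg, ?_⟩
  rw [Points.map_ofPt]

/-- Every nonempty locally closed subset of the points of an algebraic space contains a finite
type point. -/
theorem exists_isFTPoint_of_isLocallyClosed {X : Sp S} (hX : IsAlgSpace X)
    (T : Set (Points X)) (hT : IsLocallyClosed T) (hne : T.Nonempty) :
    ∃ x ∈ T, IsFTPoint X x := by
  obtain ⟨U, φ, hφ1, hφ2⟩ := hX.atlas
  obtain ⟨x₀, hx₀⟩ := hne
  obtain ⟨u₀, rfl⟩ := Groth.Agent.H53.exists_ofPt_eq_of_repWith_surjective φ hφ2 x₀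
  obtain ⟨u, hu, hft⟩ := exists_isFTPoint_of_isLocallyClosed_chart φ hφ1 (Points.ofPt φ ⁻¹' T)
    (hT.preimage (Points.continuous_ofPt φ)) ⟨u₀, hx₀⟩
  exact ⟨_, hu, hft⟩

/-- Finite type points are dense in every closed subset. -/
theorem subset_closure_isFTPoint {X : Sp S} (hX : IsAlgSpace X)
    (T : Set (Points X)) (hT : IsClosed T) :
    T ⊆ closure {x | x ∈ T ∧ IsFTPoint X x} := by
  intro x hx
  rw [mem_closure_iff]
  intro O hO hxO
  obtain ⟨x', hx', hft⟩ := exists_isFTPoint_of_isLocallyClosed hX (O ∩ T)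
    ⟨O, T, hO, hT, rfl⟩ ⟨x, hxO, hx⟩
  exact ⟨x', hx'.1, hx'.2, hft⟩

end Groth.Agent.H50
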