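import Groth.Agent.H50.FTPoint2

set_option autoImplicit false
set_option backward.isDefEq.respectTransparency false
universe u
open CategoryTheory CategoryTheory.Limits AlgebraicGeometry Opposite Topology

namespace Groth.Agent.H50

open AlgSp

variable {S : Scheme.{u}}

/-- Under a surjective morphism locally of finite type, every finite type point of the target is the
image of a finite type point of the source. -/
theorem exists_isFTPoint_over {X Y : Sp S} (hX : IsAlgSpace X) (hY : IsAlgSpace Y) (f : X ⟶ Y)
    (hs : IsSurjectiveMor f) (y : Points Y)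
    (hy : IsFTPoint Y y) : ∃ x, Points.map f x = y ∧ IsFTPoint X x := by
  obtain ⟨k, _, str, ξ, hξ, rfl⟩ := hy
  have sq := IsPullback.of_hasPullback f ξ
  have hV : IsAlgSpace ((yon S).obj (Over.mk str)) := IsAlgSpace.yon_obj _
  have hP : IsAlgSpace (pullback f ξ) := Groth.Agent.H49.isAlgSpace_of_isPullback sq hY.diag hX hV
  have hfst : LocP @LocallyOfFiniteType (pullback.fst f ξ) :=
    goodClass_lft.locP_of_isPullback hV hY hX ξ f _ _ sq.flip hξ
  obtain ⟨x₀, hx₀⟩ := hs (Points.ofPt ξ (IsLocalRing.closedPoint k))
  obtain ⟨z, -, -⟩ := points_exists_of_isPullback sq x₀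
    (Points.ofScheme (Over.mk str) (IsLocalRing.closedPoint k))
    (by rw [hx₀, Points.ofPt_eq_map_ofScheme])
  obtain ⟨p, -, hpft⟩ := exists_isFTPoint_of_isLocallyClosed hP Set.univ
    ⟨Set.univ, Set.univ, isOpen_univ, isClosed_univ, (Set.inter_self _).symm⟩ ⟨z, trivial⟩
  refine ⟨Points.map (pullback.fst f ξ) p, ?_, IsFTPoint.map hP _ hfst p hpft⟩
  rw [← Points.map_comp, pullback.condition, Points.map_comp, Points.ofPt_eq_map_ofScheme]
  congr 1
  apply (Points.schemeEquiv (Over.mk str)).symm.injective
  have hss : Subsingleton ↥(Spec (CommRingCat.of k)) := inferInstance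
  exact hss.elim _ _

end Groth.Agent.H50
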