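import Groth.Agent.H50.Sheaf
import Groth.Agent.H50.Cat

set_option autoImplicit false
set_option backward.isDefEq.respectTransparency false
universe u
open CategoryTheory CategoryTheory.Limits AlgebraicGeometry Opposite

namespace Groth.Agent.H50

open AlgSp

variable {S : Scheme.{u}}

/-- If `a : F ⟶ G` is representable by algebraic spaces and `G` is an algebraic space then every map from a
scheme to `F` is representable. -/
theorem representable_from_yon_of_repBySp {F G : Sp S} (a : F ⟶ G) (ha : RepBySp a.hom)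
    (hG : IsAlgSpace G) {T : Over S} (g : (yon S).obj T ⟶ F) : Representable g := by
  let ξ : (yon S).obj T ⟶ G := g ≫ a
  have sq := IsPullback.of_hasPullback a ξ
  have hFT : IsAlgSpace (pullback a ξ) := (repBySp_hom_iff a).1 ha ξ _ _ sq
  let σ : (yon S).obj T ⟶ pullback a ξ := pullback.lift g (𝟙 _) (by simp [ξ])
  have hσ : Representable σ := hFT.representable_from_yon σ
  have hξ : Representable ξ := hG.representable_from_yon ξ
  have hp1 : Representable (pullback.fst a ξ) := MorphismProperty.of_isPullback sq.flip hξ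
  have : g = σ ≫ pullback.fst a ξ := (pullback.lift_fst _ _ _).symm
  rw [this]
  exact MorphismProperty.comp_mem _ _ _ hσ hp1

/-- If `a : F ⟶ G` is representable by algebraic spaces and `G` is an algebraic space then so is `F`. -/
theorem isAlgSpace_of_repBySp {F G : Sp S} (a : F ⟶ G) (ha : RepBySp a.hom)
    (hG : IsAlgSpace G) : IsAlgSpace F where
  diag := Functor.relativelyRepresentable.diag_of_map_from_obj
    (fun _ g => representable_from_yon_of_repBySp a ha hG g)
  atlas := by
    obtain ⟨U, p, hp1, hp2⟩ := hG.atlas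
    have sq := IsPullback.of_hasPullback a p
    have hFU : IsAlgSpace (pullback a p) := (repBySp_hom_iff a).1 ha p _ _ sq
    obtain ⟨W, w, hw1, hw2⟩ := hFU.atlas
    refine ⟨W, w ≫ pullback.fst a p, ?_, ?_⟩
    · exact MorphismProperty.comp_mem _ _ _ hw1 (MorphismProperty.of_isPullback sq.flip hp1)
    · exact MorphismProperty.comp_mem _ _ _ hw2 (MorphismProperty.of_isPullback sq.flip hp2)

/-- Presheaf version. -/
theorem isAlgSpaceP_of_repBySp {F G : PSp S} (a : F ⟶ G) (ha : RepBySp a)
    (hG : IsAlgSpaceP G) : IsAlgSpaceP F := by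
  obtain ⟨hGs, hG⟩ := hG
  have hFs : Presheaf.IsSheaf (J S) F := isSheaf_of_repBySp a ha hGs
  exact ⟨hFs, isAlgSpace_of_repBySp (F := ⟨F, hFs⟩) (G := ⟨G, hGs⟩) (ObjectProperty.homMk a) ha hG⟩

/-- Base change of a map representable by algebraic spaces. -/
theorem repBySp_of_isPullback {F G F' G' : PSp S} {a : F ⟶ G} {ξ : G' ⟶ G} {fst : F' ⟶ F}
    {snd : F' ⟶ G'} (sq : IsPullback fst snd a ξ) (ha : RepBySp a) : RepBySp snd := by
  intro U η F'' fst' snd' sq'
  exact ha (η ≫ ξ) (fst' ≫ fst) snd' (sq'.paste_horiz sq)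

/-- Composition of maps representable by algebraic spaces. -/
theorem repBySp_comp {F G H : PSp S} {a : F ⟶ G} {b : G ⟶ H} (ha : RepBySp a) (hb : RepBySp b) :
    RepBySp (a ≫ b) := by
  intro U ξ F' fst snd sq
  have sqG := IsPullback.of_hasPullback b ξ
  have hG' : IsAlgSpaceP (pullback b ξ) := hb ξ _ _ sqG
  let l : F' ⟶ pullback b ξ := pullback.lift (fst ≫ a) snd (by simpa using sq.w)
  have hl1 : l ≫ pullback.fst b ξ = fst ≫ a := pullback.lift_fst _ _ _
  have hl2 : l ≫ pullback.snd b ξ = snd := pullback.lift_snd _ _ _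
  have sqF : IsPullback l fst (pullback.fst b ξ) a :=
    IsPullback.of_right (by rw [hl2]; exact sq.flip) hl1 sqG.flip
  exact isAlgSpaceP_of_repBySp l (repBySp_of_isPullback sqF.flip ha) hG'

/-- Maps from a scheme to an algebraic space are representable by algebraic spaces. -/
theorem repBySp_of_isAlgSpaceP {V : PSp S} (hV : IsAlgSpaceP V) {U : Over S}
    (σ : (pyon S).obj U ⟶ V) : RepBySp σ := by
  obtain ⟨hs, hV'⟩ := hV
  exact (hV'.representable_from_yon
    (ObjectProperty.homMk σ : (yon S).obj U ⟶ (⟨V, hs⟩ : Sp S))).repBySp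

/-- The relative diagonal of a map representable by algebraic spaces is representable by algebraic spaces. -/
theorem repBySp_diagonal {F G : PSp S} {a : F ⟶ G} (ha : RepBySp a) :
    RepBySp (pullback.diagonal a) := by
  intro U ξ F' fst snd sq
  have sq' := isPullback_sections_of_isPullback_diagonal a ξ sq
  have hV : IsAlgSpaceP (pullback a ((ξ ≫ pullback.fst a a) ≫ a)) :=
    ha _ _ _ (IsPullback.of_hasPullback a _)
  exact repBySp_of_isAlgSpaceP hV _ _ _ _ sq'.flip

/-- Products of maps representable by algebraic spaces. -/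
theorem repBySp_prod_map {F₁ G₁ F₂ G₂ : PSp S} {a₁ : F₁ ⟶ G₁} {a₂ : F₂ ⟶ G₂}
    (h₁ : RepBySp a₁) (h₂ : RepBySp a₂) : RepBySp (prod.map a₁ a₂) := by
  have : prod.map a₁ a₂ = prod.map a₁ (𝟙 F₂) ≫ prod.map (𝟙 G₁) a₂ := by simp
  rw [this]
  exact repBySp_comp (repBySp_of_isPullback (IsPullback.of_prod_fst_with_id a₁ F₂) h₁)
    (repBySp_of_isPullback (isPullback_prod_snd_with_id a₂ G₁) h₂)

/-- If the diagonal of `b` and `a ≫ b` are representable by algebraic spaces, so is `a`. -/
theorem repBySp_of_comp {F G H : PSp S} {a : F ⟶ G} {b : G ⟶ H}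
    (hΔ : RepBySp (pullback.diagonal b)) (hab : RepBySp (a ≫ b)) : RepBySp a := by
  have h1 : RepBySp (pullback.lift (𝟙 F) a (by simp) : F ⟶ pullback (a ≫ b) b) :=
    repBySp_of_isPullback (pullback_lift_diagonal_isPullback a b) hΔ
  have h2 : RepBySp (pullback.snd (a ≫ b) b) :=
    repBySp_of_isPullback (IsPullback.of_hasPullback (a ≫ b) b) hab
  have : a = pullback.lift (𝟙 F) a (by simp) ≫ pullback.snd (a ≫ b) b := by simp
  rw [this]
  exact repBySp_comp h1 h2

/-- A product of two representable presheaves is an algebraic space. -/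
theorem isAlgSpaceP_prod_pyon (T U : Over S) : IsAlgSpaceP ((pyon S).obj T ⨯ (pyon S).obj U) :=
  IsAlgSpaceP.of_iso ((isAlgSpaceP_obj_iff ((yon S).obj (T ⨯ U))).2 (IsAlgSpace.yon_obj _))
    (PreservesLimitPair.iso (pyon S) T U)

theorem repBySp_diag_iff (F : PSp S) :
    RepBySp (Limits.diag F) ↔ ∀ (T : Over S) (ξ : (pyon S).obj T ⟶ F), RepBySp ξ := by
  constructor
  · intro h T ξ U η F' fst snd sq
    have sq1 := isPullback_diag_of_isPullback sq
    let e : (pyon S).obj (T ⨯ U) ≅ (pyon S).obj T ⨯ (pyon S).obj U :=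
      PreservesLimitPair.iso (pyon S) T U
    have sq2 : IsPullback (fst ≫ ξ) (prod.lift fst snd ≫ e.inv) (Limits.diag F)
        (e.hom ≫ prod.map ξ η) :=
      sq1.of_iso (Iso.refl _) (Iso.refl _) e.symm (Iso.refl _) (by simp) (by simp) (by simp)
        (by simp)
    exact h _ _ _ sq2
  · intro h U ξ F' fst snd sq
    let ξ1 := ξ ≫ prod.fst
    let ξ2 := ξ ≫ prod.snd
    have hξ : ξ = Limits.diag _ ≫ prod.map ξ1 ξ2 := by ext <;> simp [ξ1, ξ2]
    have sqE := IsPullback.of_hasPullback ξ1 ξ2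
    have hE : IsAlgSpaceP (pullback ξ1 ξ2) := h U ξ1 ξ2 _ _ sqE
    have t := isPullback_diag_of_isPullback sqE
    have w1 : fst = snd ≫ ξ1 := by simpa [ξ1] using congr($(sq.w) ≫ prod.fst)
    have w2 : fst = snd ≫ ξ2 := by simpa [ξ2] using congr($(sq.w) ≫ prod.snd)
    let k : F' ⟶ pullback ξ1 ξ2 := pullback.lift snd snd (by rw [← w1, ← w2])
    have hk1 : k ≫ pullback.fst ξ1 ξ2 = snd := pullback.lift_fst _ _ _
    have hk2 : k ≫ pullback.snd ξ1 ξ2 = snd := pullback.lift_snd _ _ _
    have s : IsPullback (k ≫ pullback.fst ξ1 ξ2 ≫ ξ1) snd (Limits.diag F)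
        (Limits.diag _ ≫ prod.map ξ1 ξ2) := by
      rw [reassoc_of% hk1, ← w1, ← hξ]; exact sq
    have p : k ≫ prod.lift (pullback.fst ξ1 ξ2) (pullback.snd ξ1 ξ2) = snd ≫ Limits.diag _ := by
      ext <;> simp [hk1, hk2]
    have sqk := IsPullback.of_right s p t
    have hd : RepBySp (Limits.diag ((pyon S).obj U)) :=
      repBySp_of_isAlgSpaceP (isAlgSpaceP_prod_pyon U U) _
    exact isAlgSpaceP_of_repBySp k (repBySp_of_isPullback sqk.flip hd) hE

end Groth.Agent.H50
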