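import Groth.Agent.H50.Mor
import Groth.Agent.H50.RepBySp

set_option autoImplicit false
set_option backward.isDefEq.respectTransparency false
universe u
open CategoryTheory CategoryTheory.Limits AlgebraicGeometry Opposite

namespace Groth.Agent.H50

open AlgSp

variable {S : Scheme.{u}}

/-- The fibre product of an algebraic space with a scheme over an algebraic space is an algebraic space. -/
theorem isAlgSpace_pullback_yon {W Y : Sp S} (hW : IsAlgSpace W) (hY : IsAlgSpace Y) (k : W ⟶ Y)
    {Z : Over S} (g : (yon S).obj Z ⟶ Y) : IsAlgSpace (pullback k g) := by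
  have hg : Representable g := hY.representable_from_yon g
  have hfst : Representable (pullback.fst k g) :=
    MorphismProperty.of_isPullback (IsPullback.of_hasPullback k g).flip hg
  exact isAlgSpace_of_repBySp (pullback.fst k g) hfst.repBySp hW

/-- Surjectivity on points is stable under base change. -/
theorem surjective_points_of_isPullback {P F G H : Sp S} {fst : P ⟶ F} {snd : P ⟶ G} {f : F ⟶ H}
    {g : G ⟶ H} (sq : IsPullback fst snd f g) (hg : Function.Surjective (Points.map g)) :
    Function.Surjective (Points.map fst) := by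
  intro x
  obtain ⟨y, hy⟩ := hg (Points.map f x)
  obtain ⟨z, hz, -⟩ := points_exists_of_isPullback sq x y hy.symm
  exact ⟨z, hz⟩

/-- Universal injectivity descends along a base change that is surjective on points, from a scheme. -/
theorem isUnivInjectiveMor_of_isPullback_surjective {X Y : Sp S} (hY : IsAlgSpace Y) (f : X ⟶ Y)
    (Z : Over S) (g : (yon S).obj Z ⟶ Y) (hg : IsSurjectiveMor g) {P : Sp S}
    (fst : P ⟶ X) (snd : P ⟶ (yon S).obj Z) (sq : IsPullback fst snd f g)
    (h : IsUnivInjectiveMor snd) : IsUnivInjectiveMor f := by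
  intro W W' hW k fst' snd' sq'
  -- `W_Z = W ×_Y Z`
  have sqR := IsPullback.of_hasPullback k g
  have hWZ : IsAlgSpace (pullback k g) := isAlgSpace_pullback_yon hW hY k g
  -- `W'_Z = W' ×_W W_Z`
  have sqL := IsPullback.of_hasPullback snd' (pullback.fst k g)
  -- outer rectangle `W'_Z = X ×_Y W_Z`
  have sqO : IsPullback (pullback.fst snd' (pullback.fst k g) ≫ fst')
      (pullback.snd snd' (pullback.fst k g)) f (pullback.fst k g ≫ k) :=
    sqL.paste_horiz sq'
  have hcomm : (pullback.fst snd' (pullback.fst k g) ≫ fst') ≫ f =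
      (pullback.snd snd' (pullback.fst k g) ≫ pullback.snd k g) ≫ g := by
    rw [sqO.w, Category.assoc, pullback.condition]
  obtain ⟨r, hr1, hr2⟩ := sq.exists_lift _ _ hcomm
  have sqT : IsPullback r (pullback.snd snd' (pullback.fst k g)) snd (pullback.snd k g) := by
    refine (IsPullback.of_bot ?_ hr2.symm sq.flip).flip
    rw [hr1, ← pullback.condition]
    exact sqO.flip
  have hinj : Function.Injective (Points.map (pullback.snd snd' (pullback.fst k g))) :=
    h hWZ (pullback.snd k g) r _ sqT
  have hsurj : Function.Surjective (Points.map (pullback.fst k g)) :=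
    surjective_points_of_isPullback sqR hg
  intro w₁ w₂ hw
  obtain ⟨wZ, hwZ⟩ := hsurj (Points.map snd' w₁)
  obtain ⟨u₁, hu₁, hu₁'⟩ := points_exists_of_isPullback sqL w₁ wZ hwZ.symm
  obtain ⟨u₂, hu₂, hu₂'⟩ := points_exists_of_isPullback sqL w₂ wZ (hw ▸ hwZ.symm)
  have : u₁ = u₂ := hinj (hu₁'.trans hu₂'.symm)
  rw [← hu₁, ← hu₂, this]

end Groth.Agent.H50
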