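import Groth.Agent.H50.SchDenseImage
import Groth.Agent.H50.LocPBase
import Groth.Agent.H50.UnivInj
import Groth.Agent.H52.Residual
import Groth.Agent.H49.AlgSpQC
import Groth.Agent.H49.AlgSpSepDescent
import Groth.Agent.S9972

set_option autoImplicit false
set_option backward.isDefEq.respectTransparency false
universe u
open CategoryTheory CategoryTheory.Limits AlgebraicGeometry Opposite Topology

namespace Groth.Agent.H50

open AlgSp

variable {S : Scheme.{u}}

/-- A surjective flat locally finitely presented morphism of algebraic spaces is an epimorphism of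
sheaves. -/
theorem epi_of_locP_fppf_space {X Z : Sp S} (hX : IsAlgSpace X) (hZ : IsAlgSpace Z) (g : X ⟶ Z)
    (hgs : IsSurjectiveMor g) (hgf : LocP @Flat g) (hgp : LocP @LocallyOfFinitePresentation g) :
    Epi g := by
  obtain ⟨U, c, hc1, hc2⟩ := hX.atlas
  have hcs : IsSurjectiveMor c := Groth.Agent.H49.points_surjective_of_repWith_surjective c hc2
  have : Epi (c ≫ g) :=
    Groth.Agent.H52.epi_of_locP_fppf hZ (c ≫ g)
      (goodClass_lfp.locP_comp hX c g (goodClass_lfp.locP_of_repWith_etale c hc1) hgp)
      (goodClass_flat.locP_comp hX c g (goodClass_flat.locP_of_repWith_etale c hc1) hgf)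
      (Groth.Agent.H49.isSurjectiveMor_comp hcs hgs)
  exact epi_of_epi c g

/-- Stacks-style factorization: a morphism `f : X ⟶ Y` to a space separated over `B` which, over a
quasi-compact scheme theoretically dense open of `Z`, factors through the fppf cover `g : X ⟶ Z`,
factors through `g`. -/
theorem exists_factor_of_factor_over_schDense {B X Y Z V : Sp S} (hB : IsAlgSpace B)
    (hX : IsAlgSpace X) (hY : IsAlgSpace Y) (hZ : IsAlgSpace Z)
    (pX : X ⟶ B) (pY : Y ⟶ B) (pZ : Z ⟶ B)
    (f : X ⟶ Y) (g : X ⟶ Z) (hf : f ≫ pY = pX) (hg : g ≫ pZ = pX)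
    (hYs : IsSeparatedMor pY)
    (hgs : IsSurjectiveMor g) (hgf : LocP @Flat g) (hgp : LocP @LocallyOfFinitePresentation g)
    (v : V ⟶ Z) (hv : IsSchDense v) (hvq : IsQuasiCompactMor v)
    (φ : V ⟶ Y) (hφ : pullback.fst g v ≫ f = pullback.snd g v ≫ φ) :
    ∃ h : Z ⟶ Y, g ≫ h = f := by
  have hepi : Epi g := epi_of_locP_fppf_space hX hZ g hgs hgf hgp
  -- the kernel pair of `g`
  have sqR := IsPullback.of_hasPullback g g
  have hR : IsAlgSpace (pullback g g) :=
    Groth.Agent.H49.isAlgSpace_of_isPullback sqR hZ.diag hX hX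
  -- `pr₁ ≫ g` is flat
  have hpr1 : LocP @Flat (pullback.fst g g) :=
    goodClass_flat.locP_of_isPullback hX hZ hX g g (pullback.snd g g) (pullback.fst g g) sqR.flip hgf
  have hflat : LocP @Flat (pullback.fst g g ≫ g) :=
    goodClass_flat.locP_comp hX _ _ hpr1 hgf
  -- the inverse image of `V` in `R`
  have sqV := IsPullback.of_hasPullback (pullback.fst g g ≫ g) v
  have hjo : RepWith @IsOpenImmersion (pullback.fst (pullback.fst g g ≫ g) v) :=
    MorphismProperty.of_isPullback sqV.flip hv.1
  have hRV : IsAlgSpace (pullback (pullback.fst g g ≫ g) v) := by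
    have hrep : Representable (pullback.fst (pullback.fst g g ≫ g) v) := hjo.rep
    exact isAlgSpace_of_repBySp _ hrep.repBySp hR
  have hjd : IsSchDense (pullback.fst (pullback.fst g g ≫ g) v) :=
    isSchDense_preimage_of_flat hR hZ _ hflat v hv hvq _ _ sqV.flip
  have hjq : IsQuasiCompactMor (pullback.fst (pullback.fst g g ≫ g) v) :=
    Groth.Agent.H49.isQuasiCompactMor_of_isPullback sqV.flip hvq
  have himg := isSchImage_id_of_isSchDense _ hjd hjq
  -- the two maps agree on the inverse image of `V`
  have e1 : pullback.fst (pullback.fst g g ≫ g) v ≫ pullback.fst g g ≫ f =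
      pullback.snd (pullback.fst g g ≫ g) v ≫ φ := by
    have hc : (pullback.fst (pullback.fst g g ≫ g) v ≫ pullback.fst g g) ≫ g =
        pullback.snd (pullback.fst g g ≫ g) v ≫ v := by
      rw [Category.assoc]; exact pullback.condition
    have := pullback.lift _ _ hc ≫= hφ
    simpa using this
  have e2 : pullback.fst (pullback.fst g g ≫ g) v ≫ pullback.snd g g ≫ f =
      pullback.snd (pullback.fst g g ≫ g) v ≫ φ := by
    have hc : (pullback.fst (pullback.fst g g ≫ g) v ≫ pullback.snd g g) ≫ g =
        pullback.snd (pullback.fst g g ≫ g) v ≫ v := by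
      rw [Category.assoc, ← pullback.condition]; exact pullback.condition
    have := pullback.lift _ _ hc ≫= hφ
    simpa using this
  -- apply uniqueness on schematically dense opens
  let R' : Space S := ⟨pullback g g, hR⟩
  let U' : Space S := ⟨pullback (pullback.fst g g ≫ g) v, hRV⟩
  let Y' : Space S := ⟨Y, hY⟩
  let B' : Space S := ⟨B, hB⟩
  have key : (ObjectProperty.homMk (pullback.fst g g ≫ f) : R' ⟶ Y') =
      ObjectProperty.homMk (pullback.snd g g ≫ f) := by
    refine Groth.Agent.S9972.result (U := U') (X := R') (Y := Y') (B := B')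
      (ObjectProperty.homMk pY) hYs _ _ ?_
      (ObjectProperty.homMk (pullback.fst (pullback.fst g g ≫ g) v)) hjo himg ?_
    · apply ObjectProperty.hom_ext
      change (pullback.fst g g ≫ f) ≫ pY = (pullback.snd g g ≫ f) ≫ pY
      rw [Category.assoc, Category.assoc, hf, ← hg, pullback.condition_assoc]
    · apply ObjectProperty.hom_ext
      change pullback.fst (pullback.fst g g ≫ g) v ≫ pullback.fst g g ≫ f =
        pullback.fst (pullback.fst g g ≫ g) v ≫ pullback.snd g g ≫ f
      rw [e1, e2]
  have key' : pullback.fst g g ≫ f = pullback.snd g g ≫ f := congrArg (fun m => m.hom) key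
  exact Groth.Agent.H52.exists_desc_of_epi_of_isKernelPair g (IsKernelPair.of_hasPullback g) f key'

end Groth.Agent.H50
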