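import Groth.Agent.H50.MonoField
import Groth.Agent.H50.UnivInj

set_option autoImplicit false
set_option backward.isDefEq.respectTransparency false
universe u
open CategoryTheory CategoryTheory.Limits AlgebraicGeometry Opposite

namespace Groth.Agent.H50

open AlgSp

variable {S : Scheme.{u}}

/-- Two field-valued points of an algebraic space that agree after a field extension are equal. -/
theorem eq_of_eq_on_field_ext {X : Sp S} (hX : IsAlgSpace X) {K Ω : Type u} [Field K] [Field Ω]
    {str : Spec (CommRingCat.of K) ⟶ S} {w : Spec (CommRingCat.of Ω) ⟶ S}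
    (α : Over.mk w ⟶ Over.mk str) (a a' : (yon S).obj (Over.mk str) ⟶ X)
    (h : (yon S).map α ≫ a = (yon S).map α ≫ a') : a = a' := by
  have hd := hX.diag
  have sq := hd.isPullback (prod.lift a a')
  have hmono : Mono ((yon S).map (hd.snd (prod.lift a a'))) := sq.mono_snd_of_mono
  have hmono' : Mono (hd.snd (prod.lift a a')) := (yon S).mono_of_mono_map hmono
  have hmono'' : Mono (hd.snd (prod.lift a a')).left :=
    (inferInstance : Mono ((Over.forget S).map (hd.snd (prod.lift a a'))))
  -- the point over `Ω` factors through the equalizer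
  obtain ⟨l, -, hl2⟩ := sq.exists_lift ((yon S).map α ≫ a) ((yon S).map α) (by
    apply Limits.prod.hom_ext <;> simp [h])
  obtain ⟨lam, rfl⟩ := (yon S).map_surjective l
  have hne : Nonempty ↥(hd.pullback (prod.lift a a')).left :=
    ⟨lam.left (IsLocalRing.closedPoint Ω)⟩
  have hiso : IsIso (hd.snd (prod.lift a a')).left :=
    isIso_of_mono_to_spec_field (K := K) (hd.snd (prod.lift a a')).left
  have hiso' : IsIso (hd.snd (prod.lift a a')) := by
    have : IsIso ((Over.forget S).map (hd.snd (prod.lift a a'))) := hiso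
    exact isIso_of_reflects_iso _ (Over.forget S)
  have h1 := congr($(sq.w) ≫ prod.fst)
  have h2 := congr($(sq.w) ≫ prod.snd)
  simp only [Category.assoc, prod.lift_fst, prod.lift_snd, Limits.diag] at h1 h2
  rw [← cancel_epi ((yon S).map (hd.snd (prod.lift a a'))), ← h1, ← h2]

/-- Equality of points in terms of morphisms from spectra of fields. -/
theorem mk_eq_mk_iff_toHom {F : Sp S} (p q : FieldPt F) :
    Points.mk p = Points.mk q ↔ ∃ (Ω : Type u) (_ : Field Ω) (w : Spec (CommRingCat.of Ω) ⟶ S)
      (a : Over.mk w ⟶ p.pt) (b : Over.mk w ⟶ q.pt),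
      (yon S).map a ≫ p.toHom = (yon S).map b ≫ q.toHom := by
  rw [Points.mk_eq_mk_iff]
  have key : ∀ (Ω : Type u) (_ : Field Ω) (w : Spec (CommRingCat.of Ω) ⟶ S)
      (a : Over.mk w ⟶ p.pt) (b : Over.mk w ⟶ q.pt),
      F.obj.map a.op p.val = F.obj.map b.op q.val ↔
        (yon S).map a ≫ p.toHom = (yon S).map b ≫ q.toHom := by
    intro Ω _ w a b
    rw [← (J S).uliftYonedaEquiv.injective.eq_iff, ← (J S).uliftYonedaEquiv_naturality,
      ← (J S).uliftYonedaEquiv_naturality, FieldPt.uliftYonedaEquiv_toHom,
      FieldPt.uliftYonedaEquiv_toHom]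
  constructor
  · rintro ⟨Ω, i, w, a, b, hab⟩
    exact ⟨Ω, i, w, a, b, (key Ω i w a b).1 hab⟩
  · rintro ⟨Ω, i, w, a, b, hab⟩
    exact ⟨Ω, i, w, a, b, (key Ω i w a b).2 hab⟩

/-- Injectivity on field-valued points implies universal injectivity. -/
theorem isUnivInjectiveMor_of_field_injective {X Y : Sp S} (f : X ⟶ Y)
    (h : ∀ (K : Type u) [Field K] (str : Spec (CommRingCat.of K) ⟶ S),
      Function.Injective (fun a : (yon S).obj (Over.mk str) ⟶ X => a ≫ f)) :
    IsUnivInjectiveMor f := by
  intro Z Z' _ g fst snd sq z₁ z₂ hz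
  induction z₁ using Points.ind with
  | h p₁ =>
  induction z₂ using Points.ind with
  | h p₂ =>
  rw [Points.map_mk, Points.map_mk, mk_eq_mk_iff_toHom] at hz
  obtain ⟨Ω, _, w, a, b, hab⟩ := hz
  rw [FieldPt.toHom_map, FieldPt.toHom_map, ← Category.assoc, ← Category.assoc] at hab
  rw [mk_eq_mk_iff_toHom]
  refine ⟨Ω, inferInstance, w, a, b, ?_⟩
  apply sq.hom_ext _ hab
  apply h Ω w
  dsimp only
  rw [Category.assoc, Category.assoc, sq.w, ← Category.assoc, ← Category.assoc, hab,
    Category.assoc, Category.assoc, ← sq.w]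
  simp only [Category.assoc]

/-- Universal injectivity of a morphism from an algebraic space implies injectivity on field-valued points. -/
theorem field_injective_of_isUnivInjectiveMor {X Y : Sp S} (hX : IsAlgSpace X) (f : X ⟶ Y)
    (h : IsUnivInjectiveMor f) (K : Type u) [Field K] (str : Spec (CommRingCat.of K) ⟶ S) :
    Function.Injective (fun a : (yon S).obj (Over.mk str) ⟶ X => a ≫ f) := by
  intro a a' haa'
  dsimp only at haa'
  have sq := IsPullback.of_hasPullback f (a ≫ f)
  have hinj := h (IsAlgSpace.yon_obj (Over.mk str)) (a ≫ f) _ _ sq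
  let s : (yon S).obj (Over.mk str) ⟶ pullback f (a ≫ f) := pullback.lift a (𝟙 _) (by simp)
  let s' : (yon S).obj (Over.mk str) ⟶ pullback f (a ≫ f) :=
    pullback.lift a' (𝟙 _) (by simp [haa'])
  have hpt : Points.mk (fieldPtOfHom str s) = Points.mk (fieldPtOfHom str s') := by
    apply hinj
    rw [Points.map_mk, Points.map_mk, fieldPtOfHom_map, fieldPtOfHom_map]
    simp [s, s']
  rw [mk_eq_mk_iff_toHom] at hpt
  obtain ⟨Ω, _, w, α, β, hαβ⟩ := hpt
  rw [toHom_fieldPtOfHom, toHom_fieldPtOfHom] at hαβ
  have h1 := congr($hαβ ≫ pullback.snd f (a ≫ f))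
  simp only [Category.assoc, s, s', pullback.lift_snd] at h1
  have hαβ' : α = β := (yon S).map_injective h1
  subst hαβ'
  have h2 := congr($hαβ ≫ pullback.fst f (a ≫ f))
  simp only [Category.assoc, s, s', pullback.lift_fst] at h2
  exact eq_of_eq_on_field_ext hX α a a' h2

/-- If `f` is injective on field-valued points, its diagonal is surjective on points. -/
theorem isSurjectiveMor_diagonal_of_field_injective {X Y : Sp S} (f : X ⟶ Y)
    (h : ∀ (K : Type u) [Field K] (str : Spec (CommRingCat.of K) ⟶ S),
      Function.Injective (fun a : (yon S).obj (Over.mk str) ⟶ X => a ≫ f)) :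
    IsSurjectiveMor (pullback.diagonal f) := by
  intro z
  induction z using Points.ind with
  | h p =>
  have h12 : p.toHom ≫ pullback.fst f f = p.toHom ≫ pullback.snd f f := by
    apply h p.K p.str
    dsimp only
    rw [Category.assoc, Category.assoc, pullback.condition]
  have hp : p.toHom = (p.toHom ≫ pullback.fst f f) ≫ pullback.diagonal f := by
    apply pullback.hom_ext
    · simp
    · simp [h12]
  refine ⟨Points.mk (fieldPtOfHom p.str (p.toHom ≫ pullback.fst f f)), ?_⟩
  rw [Points.map_mk, fieldPtOfHom_map, ← hp, fieldPtOfHom_toHom]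

/-- If the diagonal of a morphism from an algebraic space is surjective on points, the morphism is injective on field-valued points. -/
theorem field_injective_of_isSurjectiveMor_diagonal {X Y : Sp S} (hX : IsAlgSpace X) (f : X ⟶ Y)
    (h : IsSurjectiveMor (pullback.diagonal f)) (K : Type u) [Field K]
    (str : Spec (CommRingCat.of K) ⟶ S) :
    Function.Injective (fun a : (yon S).obj (Over.mk str) ⟶ X => a ≫ f) := by
  intro a a' haa'
  dsimp only at haa'
  obtain ⟨z, hz⟩ := h (Points.mk (fieldPtOfHom str (pullback.lift a a' haa')))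
  induction z using Points.ind with
  | h q =>
  rw [Points.map_mk, mk_eq_mk_iff_toHom] at hz
  obtain ⟨Ω, _, w, β, α, hαβ⟩ := hz
  rw [toHom_fieldPtOfHom, FieldPt.toHom_map] at hαβ
  have h1 := congr($hαβ ≫ pullback.fst f f)
  have h2 := congr($hαβ ≫ pullback.snd f f)
  simp only [Category.assoc, pullback.diagonal_fst, pullback.diagonal_snd, pullback.lift_fst,
    pullback.lift_snd, Category.comp_id] at h1 h2
  exact eq_of_eq_on_field_ext hX α a a' (h1.symm.trans h2)

end Groth.Agent.H50
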