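import Mathlib

set_option autoImplicit false
set_option backward.isDefEq.respectTransparency false
universe u
open CategoryTheory CategoryTheory.Limits AlgebraicGeometry Opposite Topology

namespace Groth.Agent.H50

/-- A T1 quasi-sober space has Krull dimension at most zero. -/
theorem topologicalKrullDim_le_zero_of_t1 (X : Type*) [TopologicalSpace X] [T1Space X]
    [QuasiSober X] : topologicalKrullDim X ≤ 0 := by
  unfold topologicalKrullDim
  rw [Order.krullDim_nonpos_iff_forall_isMax]
  intro Z Z' hZZ'
  obtain ⟨η, hη⟩ := QuasiSober.sober Z.2 Z.3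
  obtain ⟨η', hη'⟩ := QuasiSober.sober Z'.2 Z'.3
  have h1 : (Z : Set X) = {η} := hη.symm.trans closure_singleton
  have h2 : (Z' : Set X) = {η'} := hη'.symm.trans closure_singleton
  have hle : (Z : Set X) ⊆ Z' := hZZ'
  rw [h1, h2, Set.singleton_subset_iff, Set.mem_singleton_iff] at hle
  change (Z' : Set X) ⊆ Z
  rw [h1, h2, hle]

/-- If a composite of ring maps from a field is finite and the second map is injective, then the first
map is finite. -/
theorem ringHom_finite_of_comp_injective {A L M : Type*} [Field A] [CommRing L] [CommRing M]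
    (ψ : A →+* L) (φ : L →+* M) (hφ : Function.Injective φ) (h : (φ.comp ψ).Finite) :
    ψ.Finite := by
  let _ := ψ.toAlgebra
  let _ := (φ.comp ψ).toAlgebra
  have hM : Module.Finite A M := h
  let f : L →ₗ[A] M :=
    { toFun := φ
      map_add' := map_add φ
      map_smul' := by
        intro a x
        simp only [Algebra.smul_def, map_mul, RingHom.id_apply]
        rfl }
  exact Module.Finite.of_injective f hφ

variable {κ : Type u} [Field κ] {W : Scheme.{u}} (g : W ⟶ Spec (CommRingCat.of κ))

/-- The residue field at `w` is finite over `κ`. -/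
def FinPt (w : W) : Prop := LocallyOfFiniteType (W.fromSpecResidueField w ≫ g)

theorem exists_finPt [LocallyOfFiniteType g] [Nonempty W] : ∃ w, FinPt g w := by
  have : JacobsonSpace W := LocallyOfFiniteType.jacobsonSpace g
  have hcl : closure (closedPoints W) = Set.univ := closure_closedPoints
  have hne : (closedPoints W).Nonempty := by
    by_contra hcon
    rw [Set.not_nonempty_iff_eq_empty] at hcon
    rw [hcon, closure_empty] at hcl
    exact Set.empty_ne_univ hcl
  obtain ⟨w, hw⟩ := hne
  refine ⟨w, ?_⟩
  have : IsClosedImmersion (W.fromSpecResidueField w) :=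
    isClosed_singleton_iff_isClosedImmersion.mp hw
  unfold FinPt
  infer_instance

theorem FinPt.isClosed [LocallyOfFiniteType g] {w : W} (h : FinPt g w) :
    IsClosed ({w} : Set W) := by
  have : JacobsonSpace W := LocallyOfFiniteType.jacobsonSpace g
  rw [isClosed_singleton_iff_locallyOfFiniteType]
  have := h
  unfold FinPt at this
  exact locallyOfFiniteType_of_comp _ g

theorem discreteTopology_of_forall_finPt [LocallyOfFiniteType g] (h : ∀ w, FinPt g w) :
    DiscreteTopology W := by
  have : T1Space W := ⟨fun w => (h w).isClosed g⟩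
  have : IsLocallyNoetherian W := LocallyOfFiniteType.isLocallyNoetherian g
  have : IsLocallyArtinian W :=
    IsLocallyArtinian.of_topologicalKrullDim_le_zero (topologicalKrullDim_le_zero_of_t1 W)
  infer_instance

/-- Finiteness of residue fields propagates along a correspondence `s, t : R ⟶ W` over `κ` with
`t` locally quasi-finite. -/
theorem FinPt.of_rel {R : Scheme.{u}} (s t : R ⟶ W) (hst : s ≫ g = t ≫ g)
    [LocallyQuasiFinite t] (r : R) (h : FinPt g (t r)) : FinPt g (s r) := by
  unfold FinPt at h ⊢
  have hfin : IsFinite (W.fromSpecResidueField (t r) ≫ g) :=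
    isFinite_iff_locallyOfFiniteType_of_jacobsonSpace.mpr h
  -- the residue field extension along `t` is finite
  have e_t : Spec.map (t.residueFieldMap r) ≫ W.fromSpecResidueField (t r) =
      R.fromSpecResidueField r ≫ t := Scheme.Hom.SpecMap_residueFieldMap_fromSpecResidueField t r
  have e_s : Spec.map (s.residueFieldMap r) ≫ W.fromSpecResidueField (s r) =
      R.fromSpecResidueField r ≫ s := Scheme.Hom.SpecMap_residueFieldMap_fromSpecResidueField s r
  have hlqf : LocallyQuasiFinite
      (Spec.map (t.residueFieldMap r) ≫ W.fromSpecResidueField (t r)) := by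
    rw [e_t]; infer_instance
  have hlqf' : LocallyQuasiFinite (Spec.map (t.residueFieldMap r)) :=
    LocallyQuasiFinite.of_comp _ (W.fromSpecResidueField (t r))
  have hart : IsLocallyArtinian (Spec (W.residueField (t r))) := by
    rw [Scheme.isLocallyArtinianScheme_Spec]; infer_instance
  have hfin_t : IsFinite (Spec.map (t.residueFieldMap r)) := IsFinite.of_locallyQuasiFinite _
  have hcomp : IsFinite (Spec.map (s.residueFieldMap r) ≫ W.fromSpecResidueField (s r) ≫ g) := by
    rw [← Category.assoc, e_s, Category.assoc, hst, ← Category.assoc, ← e_t, Category.assoc]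
    infer_instance
  obtain ⟨ψ, hψ⟩ := Spec.map_surjective (W.fromSpecResidueField (s r) ≫ g)
  rw [← hψ, ← Spec.map_comp, IsFinite.SpecMap_iff] at hcomp
  have hψfin : ψ.hom.Finite :=
    ringHom_finite_of_comp_injective ψ.hom (s.residueFieldMap r).hom
      (RingHom.injective _) (by simpa using hcomp)
  have : IsFinite (Spec.map ψ) := (IsFinite.SpecMap_iff ψ).mpr hψfin
  rw [← hψ]
  infer_instance

end Groth.Agent.H50
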