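import Mathlib

set_option autoImplicit false
universe u
open CategoryTheory CategoryTheory.Limits

namespace Groth.Agent.H50

/-- Cancelling a common epimorphism from the two legs of a pushout square. -/
theorem isPushout_of_epi_comp {C : Type*} [Category C] {A B X Y P : C} (e : A ⟶ B) [Epi e]
    (f : B ⟶ X) (g : B ⟶ Y) (i : X ⟶ P) (j : Y ⟶ P)
    (h : IsPushout (e ≫ f) (e ≫ g) i j) : IsPushout f g i j := by
  have w : f ≫ i = g ≫ j := by
    rw [← cancel_epi e]
    simpa using h.w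
  refine ⟨⟨w⟩, ⟨PushoutCocone.IsColimit.mk _
    (fun s => h.desc s.inl s.inr (by simp [s.condition]))
    (fun s => h.inl_desc _ _ _) (fun s => h.inr_desc _ _ _)
    (fun s m h1 h2 => h.hom_ext (by simp [h1]) (by simp [h2]))⟩⟩

/-- The categorical heart of the reduction of the fibrewise flatness criterion to the
local criterion: flatness of the base change to the fibre gives flatness of
`S̄ ⟶ S̄ ⊗_S M` for a localisation `S` of `B`, a quotient (or any algebra) `S̄` of `S` which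
is an algebra over the fibre ring, and a flat `C`-algebra `M` over `S`. -/
theorem flat_pushout_of_epi {B C BK CK S Sbar M P : CommRingCat.{u}}
    (bc : B ⟶ C) (bk : B ⟶ BK) (ck : C ⟶ CK) (kk : BK ⟶ CK) (sq1 : IsPushout bc bk ck kk)
    (hkk : kk.hom.Flat) (θ : BK ⟶ Sbar) (bs : B ⟶ S) [Epi bs] (ss : S ⟶ Sbar)
    (hθ : bk ≫ θ = bs ≫ ss)
    (cm : C ⟶ M) (hcm : cm.hom.Flat) (sm : S ⟶ M) (hsm : bs ≫ sm = bc ≫ cm)
    (i₁ : Sbar ⟶ P) (i₂ : M ⟶ P) (sqP : IsPushout ss sm i₁ i₂) : i₁.hom.Flat := by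
  -- first pushout: `S̄ ⊗_{BK} CK`
  have sq2 := IsPushout.of_hasPushout kk θ
  have h2 : (pushout.inr kk θ).hom.Flat :=
    MorphismProperty.of_isPushout (P := CommRingCat.flat) sq2.flip hkk
  have sq3 : IsPushout bc (bk ≫ θ) (ck ≫ pushout.inl kk θ) (pushout.inr kk θ) :=
    sq1.paste_vert sq2
  -- second pushout along `C ⟶ M`
  have sq4 := IsPushout.of_hasPushout cm (ck ≫ pushout.inl kk θ)
  have h4 : (pushout.inr cm (ck ≫ pushout.inl kk θ)).hom.Flat :=
    MorphismProperty.of_isPushout (P := CommRingCat.flat) sq4.flip hcm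
  have sq5 : IsPushout (bc ≫ cm) (bk ≫ θ) (pushout.inl cm (ck ≫ pushout.inl kk θ))
      (pushout.inr kk θ ≫ pushout.inr cm (ck ≫ pushout.inl kk θ)) :=
    sq3.paste_horiz sq4
  rw [← hsm, hθ] at sq5
  have sq6 := (isPushout_of_epi_comp bs sm ss _ _ sq5).flip
  have hcomp : (pushout.inr kk θ ≫ pushout.inr cm (ck ≫ pushout.inl kk θ)).hom.Flat := by
    rw [CommRingCat.hom_comp]
    exact RingHom.Flat.comp h2 h4
  have e := sqP.inl_isoIsPushout_hom _ _ sq6
  have : i₁ = (pushout.inr kk θ ≫ pushout.inr cm (ck ≫ pushout.inl kk θ)) ≫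
      (sqP.isoIsPushout _ _ sq6).inv := by
    exact (sqP.inl_isoIsPushout_inv _ _ sq6).symm
  rw [this, CommRingCat.hom_comp]
  refine RingHom.Flat.comp hcomp ?_
  exact RingHom.Flat.of_bijective
    (ConcreteCategory.bijective_of_isIso (sqP.isoIsPushout _ _ sq6).inv)

end Groth.Agent.H50
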