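import Groth.Agent.H50.FlatFibCat
import Groth.Agent.S0392

set_option autoImplicit false
set_option linter.style.haveILetI false
universe u
open CategoryTheory CategoryTheory.Limits TensorProduct

namespace Groth.Agent.H50

theorem key_flat_abstract {A B C : Type u} [CommRing A] [CommRing B] [CommRing C] [Algebra A B]
    [Algebra B C] [Algebra A C] [IsScalarTower A B C]
    (κ : Type u) [CommRing κ] [Algebra A κ]
    (hfl : (Algebra.TensorProduct.includeLeftRingHom :
      (B ⊗[A] κ) →+* ((B ⊗[A] κ) ⊗[B] C)).Flat)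
    (S M : Type u) [CommRing S] [CommRing M] [Algebra B S] [Algebra S M] [Algebra B M]
    [IsScalarTower B S M] [Algebra C M] [IsScalarTower B C M] [Module.Flat C M]
    (hepi : Epi (CommRingCat.ofHom (algebraMap B S)))
    (J : Ideal S) (ρ : κ →+* S ⧸ J)
    (hρ : ∀ a : A, ρ (algebraMap A κ a) = algebraMap B (S ⧸ J) (algebraMap A B a)) :
    Module.Flat (S ⧸ J) ((S ⧸ J) ⊗[S] M) := by
  have sq0 := CommRingCat.isPushout_tensorProduct A B κ
  have sq1 := (CommRingCat.isPushout_tensorProduct B (B ⊗[A] κ) C).flip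
  have sqP := CommRingCat.isPushout_tensorProduct S (S ⧸ J) M
  have comm : CommRingCat.ofHom (algebraMap A B) ≫ CommRingCat.ofHom (algebraMap B (S ⧸ J)) =
      CommRingCat.ofHom (algebraMap A κ) ≫ CommRingCat.ofHom ρ := by
    ext a
    exact (hρ a).symm
  have hθ := sq0.inl_desc _ _ comm
  have hbk : CommRingCat.ofHom (algebraMap B (B ⊗[A] κ)) =
      CommRingCat.ofHom (Algebra.TensorProduct.includeLeftRingHom) := by
    ext b
    rfl
  have h := flat_pushout_of_epi (CommRingCat.ofHom (algebraMap B C))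
    (CommRingCat.ofHom (algebraMap B (B ⊗[A] κ))) _ _ sq1 hfl (sq0.desc _ _ comm)
    (CommRingCat.ofHom (algebraMap B S)) (CommRingCat.ofHom (algebraMap S (S ⧸ J)))
    (by
      refine Eq.trans (b := CommRingCat.ofHom (algebraMap B (S ⧸ J))) hθ ?_
      ext b
      exact IsScalarTower.algebraMap_apply B S (S ⧸ J) b)
    (CommRingCat.ofHom (algebraMap C M)) (RingHom.flat_algebraMap_iff.2 inferInstance)
    (CommRingCat.ofHom (algebraMap S M))
    (by
      ext b
      exact (IsScalarTower.algebraMap_apply B S M b).symm.trans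
        (IsScalarTower.algebraMap_apply B C M b))
    _ _ sqP
  have h1 : (Algebra.TensorProduct.includeLeftRingHom : (S ⧸ J) →+* (S ⧸ J) ⊗[S] M).Flat := h
  have h2 : algebraMap (S ⧸ J) ((S ⧸ J) ⊗[S] M) = Algebra.TensorProduct.includeLeftRingHom := by
    ext x
    rfl
  have h' : (algebraMap (S ⧸ J) ((S ⧸ J) ⊗[S] M)).Flat := by
    rw [h2]
    exact h1
  exact RingHom.flat_algebraMap_iff.1 h'

section

variable (A B C : Type u) [CommRing A] [CommRing B] [CommRing C] [Algebra A B] [Algebra B C]
  [Algebra A C] [IsScalarTower A B C]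

/-- Fibrewise flatness of `B ⟶ C` over `A`: for every prime `𝔯` of `A`, the base change of
`B ⟶ C` to the fibre ring `B ⊗[A] κ(𝔯)` is flat. -/
def FibFlat : Prop :=
  ∀ (𝔯 : Ideal A) [𝔯.IsPrime],
    (Algebra.TensorProduct.includeLeftRingHom :
      (B ⊗[A] 𝔯.ResidueField) →+* ((B ⊗[A] 𝔯.ResidueField) ⊗[B] C)).Flat

variable {A B C}

set_option maxHeartbeats 1600000 in
set_option synthInstance.maxHeartbeats 400000 in
theorem flat_localization_of_fibFlat_aux [IsNoetherianRing A] [IsNoetherianRing B]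
    [IsNoetherianRing C] [Module.Flat A C] (H : FibFlat A B C)
    (𝔯 : Ideal A) (𝔭 : Ideal B) (𝔮 : Ideal C) [𝔯.IsPrime] [𝔭.IsPrime] [𝔮.IsPrime]
    [𝔭.LiesOver 𝔯] [𝔮.LiesOver 𝔭] [𝔮.LiesOver 𝔯] :
    Module.Flat B (Localization.AtPrime 𝔮) ∧ Module.Flat A (Localization.AtPrime 𝔭) := by
  letI := Localization.AtPrime.algebraOfLiesOver 𝔯 𝔭
  letI := Localization.AtPrime.algebraOfLiesOver 𝔭 𝔮
  letI := Localization.AtPrime.algebraOfLiesOver 𝔯 𝔮
  haveI : IsNoetherianRing (Localization.AtPrime 𝔯) :=
    IsLocalization.isNoetherianRing 𝔯.primeCompl _ inferInstance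
  haveI : IsNoetherianRing (Localization.AtPrime 𝔭) :=
    IsLocalization.isNoetherianRing 𝔭.primeCompl _ inferInstance
  haveI : IsNoetherianRing (Localization.AtPrime 𝔮) :=
    IsLocalization.isNoetherianRing 𝔮.primeCompl _ inferInstance
  haveI : IsLocalHom (algebraMap (Localization.AtPrime 𝔯) (Localization.AtPrime 𝔭)) :=
    Localization.isLocalHom_localRingHom 𝔯 𝔭 (algebraMap A B) Ideal.LiesOver.over
  haveI : IsLocalHom (algebraMap (Localization.AtPrime 𝔭) (Localization.AtPrime 𝔮)) :=
    Localization.isLocalHom_localRingHom 𝔭 𝔮 (algebraMap B C) Ideal.LiesOver.over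
  -- the crux
  have key : Module.Flat
      (Localization.AtPrime 𝔭 ⧸ (IsLocalRing.maximalIdeal (Localization.AtPrime 𝔯)).map
        (algebraMap (Localization.AtPrime 𝔯) (Localization.AtPrime 𝔭)))
      ((Localization.AtPrime 𝔭 ⧸ (IsLocalRing.maximalIdeal (Localization.AtPrime 𝔯)).map
        (algebraMap (Localization.AtPrime 𝔯) (Localization.AtPrime 𝔭))) ⊗[Localization.AtPrime 𝔭]
          Localization.AtPrime 𝔮) := by
    have hJ : ∀ a ∈ IsLocalRing.maximalIdeal (Localization.AtPrime 𝔯),
        ((algebraMap (Localization.AtPrime 𝔭) (Localization.AtPrime 𝔭 ⧸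
          (IsLocalRing.maximalIdeal (Localization.AtPrime 𝔯)).map
            (algebraMap (Localization.AtPrime 𝔯) (Localization.AtPrime 𝔭)))).comp
          (algebraMap (Localization.AtPrime 𝔯) (Localization.AtPrime 𝔭))) a = 0 := by
      intro a ha
      exact Ideal.Quotient.eq_zero_iff_mem.2 (Ideal.mem_map_of_mem _ ha)
    let ρ : 𝔯.ResidueField →+* (Localization.AtPrime 𝔭 ⧸
        (IsLocalRing.maximalIdeal (Localization.AtPrime 𝔯)).map
          (algebraMap (Localization.AtPrime 𝔯) (Localization.AtPrime 𝔭))) :=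
      Ideal.Quotient.lift (IsLocalRing.maximalIdeal (Localization.AtPrime 𝔯)) _ hJ
    haveI : Module.Flat C (Localization.AtPrime 𝔮) := IsLocalization.flat _ 𝔮.primeCompl
    refine key_flat_abstract (A := A) (B := B) (C := C) 𝔯.ResidueField (H 𝔯)
      (Localization.AtPrime 𝔭) (Localization.AtPrime 𝔮) (Localization.epi 𝔭.primeCompl) _ ρ ?_
    intro a
    rw [IsScalarTower.algebraMap_apply A (Localization.AtPrime 𝔯) 𝔯.ResidueField a]
    change Ideal.Quotient.lift _ _ hJ
      (Ideal.Quotient.mk _ (algebraMap A (Localization.AtPrime 𝔯) a)) = _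
    rw [Ideal.Quotient.lift_mk]
    rw [IsScalarTower.algebraMap_apply B (Localization.AtPrime 𝔭) _ (algebraMap A B a)]
    rw [RingHom.comp_apply]
    congr 1
    rw [← IsScalarTower.algebraMap_apply A (Localization.AtPrime 𝔯) (Localization.AtPrime 𝔭),
      ← IsScalarTower.algebraMap_apply A B (Localization.AtPrime 𝔭)]
  obtain ⟨h1, h2⟩ := Groth.Agent.S0392.result (R := Localization.AtPrime 𝔯)
    (S := Localization.AtPrime 𝔭) (S' := Localization.AtPrime 𝔮) (M := Localization.AtPrime 𝔮) key
  haveI : Module.Flat B (Localization.AtPrime 𝔭) := IsLocalization.flat _ 𝔭.primeCompl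
  haveI : Module.Flat A (Localization.AtPrime 𝔯) := IsLocalization.flat _ 𝔯.primeCompl
  exact ⟨Module.Flat.trans B (Localization.AtPrime 𝔭) (Localization.AtPrime 𝔮),
    Module.Flat.trans A (Localization.AtPrime 𝔯) (Localization.AtPrime 𝔭)⟩

theorem flat_localization_of_fibFlat [IsNoetherianRing A] [IsNoetherianRing B]
    [IsNoetherianRing C] [Module.Flat A C] (H : FibFlat A B C) (𝔮 : Ideal C) [𝔮.IsPrime] :
    Module.Flat B (Localization.AtPrime 𝔮) ∧
      Module.Flat A (Localization.AtPrime (𝔮.under B)) := by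
  haveI : (𝔮.under B).LiesOver (𝔮.under A) := Ideal.under_liesOver_of_liesOver B 𝔮 (𝔮.under A)
  exact flat_localization_of_fibFlat_aux H (𝔮.under A) (𝔮.under B) 𝔮

/-- Ring form of the fibrewise criterion: `C` is flat over `B`. -/
theorem flat_of_fibFlat [IsNoetherianRing A] [IsNoetherianRing B]
    [IsNoetherianRing C] [Module.Flat A C] (H : FibFlat A B C) : Module.Flat B C := by
  refine Module.flat_of_isLocalized_maximal C C (fun P _ => Localization.AtPrime P)
    (fun P _ => Algebra.linearMap C (Localization.AtPrime P)) ?_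
  intro P hP
  exact (flat_localization_of_fibFlat H P).1

/-- Ring form of the fibrewise criterion for the base: if every maximal ideal of `B` is hit by
a prime of some `C` as in the criterion, then `B` is flat over `A`. -/
theorem flat_base_of_fibFlat {A B : Type u} [CommRing A] [CommRing B] [Algebra A B]
    [IsNoetherianRing A] [IsNoetherianRing B]
    (H : ∀ (P : Ideal B) [P.IsMaximal], ∃ (C : Type u) (_ : CommRing C) (_ : Algebra B C)
      (_ : Algebra A C) (_ : IsScalarTower A B C) (_ : IsNoetherianRing C) (_ : Module.Flat A C)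
      (_ : FibFlat A B C) (𝔮 : Ideal C) (_ : 𝔮.IsPrime), 𝔮.under B = P) :
    Module.Flat A B := by
  refine Module.flat_of_isLocalized_maximal B B (fun P _ => Localization.AtPrime P)
    (fun P _ => Algebra.linearMap B (Localization.AtPrime P)) ?_
  intro P hP
  obtain ⟨C, _, _, _, _, _, _, hF, 𝔮, _, rfl⟩ := H P
  exact (flat_localization_of_fibFlat hF 𝔮).2

end

end Groth.Agent.H50
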