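import Groth.Agent.H50.FlatFibRing

set_option autoImplicit false
set_option linter.style.haveILetI false
universe u
open CategoryTheory CategoryTheory.Limits AlgebraicGeometry TensorProduct

namespace Groth.Agent.H50

/-- Scheme-level fibrewise flatness hypothesis for `u : U ⟶ V` over `v : V ⟶ W`. -/
def FibFlatSch {U V W : Scheme.{u}} (u : U ⟶ V) (v : V ⟶ W) : Prop :=
  ∀ (K : Type u) [Field K] (z : Spec (CommRingCat.of K) ⟶ W) (V' U' : Scheme.{u})
    (pV : V' ⟶ V) (qV : V' ⟶ Spec (CommRingCat.of K)) (pU : U' ⟶ U) (u' : U' ⟶ V'),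
    IsPullback pV qV v z → IsPullback pU u' u pV → Flat u'

theorem fibFlat_of_fibFlatSch {A B C : CommRingCat.{u}} (φ : A ⟶ B) (ψ : B ⟶ C)
    (H : FibFlatSch (Spec.map ψ) (Spec.map φ)) :
    @FibFlat A B C _ _ _ φ.hom.toAlgebra ψ.hom.toAlgebra := by
  letI := φ.hom.toAlgebra
  letI := ψ.hom.toAlgebra
  intro 𝔯 _
  have sq0 := CommRingCat.isPushout_tensorProduct A B 𝔯.ResidueField
  have sq1 := (CommRingCat.isPushout_tensorProduct B (B ⊗[A] 𝔯.ResidueField) C).flip
  have p0 := isPullback_SpecMap_of_isPushout _ _ _ _ sq0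
  have p1 := isPullback_SpecMap_of_isPushout _ _ _ _ sq1
  have := H 𝔯.ResidueField _ _ _ _ _ _ _ p0 p1
  exact (HasRingHomProperty.Spec_iff (P := @Flat)).1 this

theorem fibFlatSch_SpecMap_appTop {U V W : Scheme.{u}} [IsAffine U] [IsAffine V] [IsAffine W]
    (u : U ⟶ V) (v : V ⟶ W) (H : FibFlatSch u v) :
    FibFlatSch (Spec.map u.appTop) (Spec.map v.appTop) := by
  intro K _ z V' U' pV qV pU u' sq1 sq2
  have sq1' : IsPullback (pV ≫ V.isoSpec.inv) qV v (z ≫ W.isoSpec.inv) :=
    IsPullback.of_iso sq1 (Iso.refl _) V.isoSpec.symm (Iso.refl _) W.isoSpec.symm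
      (by simp) (by simp) (by simpa using Scheme.isoSpec_inv_naturality v) (by simp)
  have sq2' : IsPullback (pU ≫ U.isoSpec.inv) u' u (pV ≫ V.isoSpec.inv) :=
    IsPullback.of_iso sq2 (Iso.refl _) U.isoSpec.symm (Iso.refl _) V.isoSpec.symm
      (by simp) (by simp) (by simpa using Scheme.isoSpec_inv_naturality u) (by simp)
  exact H K _ V' U' _ qV _ u' sq1' sq2'

/-- Affine form of the fibrewise criterion of flatness (locally Noetherian case): the upper
morphism is flat. -/
theorem flat_of_fibFlatSch_of_isAffine {U V W : Scheme.{u}} [IsAffine U] [IsAffine V] [IsAffine W]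
    [IsLocallyNoetherian U] [IsLocallyNoetherian V] [IsLocallyNoetherian W]
    (u : U ⟶ V) (v : V ⟶ W) (hfl : Flat (u ≫ v)) (H : FibFlatSch u v) : Flat u := by
  have hF := fibFlat_of_fibFlatSch _ _ (fibFlatSch_SpecMap_appTop u v H)
  letI := v.appTop.hom.toAlgebra
  letI := u.appTop.hom.toAlgebra
  letI := (u.appTop.hom.comp v.appTop.hom).toAlgebra
  haveI : IsScalarTower Γ(W, ⊤) Γ(V, ⊤) Γ(U, ⊤) := IsScalarTower.of_algebraMap_eq' rfl
  haveI : IsNoetherianRing Γ(U, ⊤) :=
    IsLocallyNoetherian.component_noetherian ⟨⊤, isAffineOpen_top U⟩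
  haveI : IsNoetherianRing Γ(V, ⊤) :=
    IsLocallyNoetherian.component_noetherian ⟨⊤, isAffineOpen_top V⟩
  haveI : IsNoetherianRing Γ(W, ⊤) :=
    IsLocallyNoetherian.component_noetherian ⟨⊤, isAffineOpen_top W⟩
  haveI : Module.Flat Γ(W, ⊤) Γ(U, ⊤) := by
    have := (HasRingHomProperty.iff_of_isAffine (P := @Flat)).1 hfl
    rw [Scheme.Hom.comp_appTop] at this
    exact this
  have := flat_of_fibFlat hF
  exact (HasRingHomProperty.iff_of_isAffine (P := @Flat)).2 this

/-- Affine form of the fibrewise criterion of flatness (locally Noetherian case): the lower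
morphism is flat, as soon as every point of `V` is hit by a `U` as in the criterion. -/
theorem flat_base_of_fibFlatSch_of_isAffine {V W : Scheme.{u}} [IsAffine V] [IsAffine W]
    [IsLocallyNoetherian V] [IsLocallyNoetherian W] (v : V ⟶ W)
    (H : ∀ y : V, ∃ (U : Scheme.{u}) (_ : IsAffine U) (_ : IsLocallyNoetherian U) (u : U ⟶ V)
      (x : U), u x = y ∧ Flat (u ≫ v) ∧ FibFlatSch u v) : Flat v := by
  letI := v.appTop.hom.toAlgebra
  haveI : IsNoetherianRing Γ(V, ⊤) :=
    IsLocallyNoetherian.component_noetherian ⟨⊤, isAffineOpen_top V⟩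
  haveI : IsNoetherianRing Γ(W, ⊤) :=
    IsLocallyNoetherian.component_noetherian ⟨⊤, isAffineOpen_top W⟩
  have key : Module.Flat Γ(W, ⊤) Γ(V, ⊤) := by
    refine flat_base_of_fibFlat ?_
    intro P hP
    let p : Spec Γ(V, ⊤) := (show PrimeSpectrum Γ(V, ⊤) from ⟨P, hP.isPrime⟩)
    have hp : p.asIdeal = P := rfl
    obtain ⟨U, _, _, u, x, hx, hfl, hF⟩ := H (V.isoSpec.inv p)
    have hF' := fibFlat_of_fibFlatSch _ _ (fibFlatSch_SpecMap_appTop u v hF)
    have hfl' := (HasRingHomProperty.iff_of_isAffine (P := @Flat)).1 hfl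
    rw [Scheme.Hom.comp_appTop] at hfl'
    refine ⟨Γ(U, ⊤), inferInstance, u.appTop.hom.toAlgebra,
      (u.appTop.hom.comp v.appTop.hom).toAlgebra, ?_, ?_, ?_, ?_, (U.isoSpec.hom x).asIdeal,
      (U.isoSpec.hom x).isPrime, ?_⟩
    · exact @IsScalarTower.of_algebraMap_eq' _ _ _ _ _ _ _ u.appTop.hom.toAlgebra
        (u.appTop.hom.comp v.appTop.hom).toAlgebra rfl
    · exact IsLocallyNoetherian.component_noetherian ⟨⊤, isAffineOpen_top U⟩
    · exact hfl'
    · exact hF'
    · have h1 : (U.isoSpec.hom ≫ Spec.map u.appTop) x = (u ≫ V.isoSpec.hom) x := by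
        rw [Scheme.isoSpec_hom_naturality]
      have h2 : Spec.map u.appTop (U.isoSpec.hom x) = p := by
        have h3 : (u ≫ V.isoSpec.hom) x = V.isoSpec.hom (u x) := rfl
        rw [h3, hx] at h1
        refine h1.trans ?_
        exact Scheme.inv_hom_apply V.isoSpec p
      rw [← hp, ← h2]
      rfl
  exact (HasRingHomProperty.iff_of_isAffine (P := @Flat)).2 key

end Groth.Agent.H50
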