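import Groth.Agent.H50.FlatFibSch
import Groth.Agent.H50.LocPClass
import Groth.Agent.H53.Charts

set_option autoImplicit false
set_option backward.isDefEq.respectTransparency false
set_option linter.style.haveILetI false
universe u
open CategoryTheory CategoryTheory.Limits AlgebraicGeometry Opposite Topology

namespace Groth.Agent.H50

open AlgSp

variable {S : Scheme.{u}}

/-- Charts of a fibre: if `γ : h_W ⟶ Z` and `α : h_U ⟶ F` are etale charts, compatible via
`w : U ⟶ W`, and `z₀ : T ⟶ W` is a `T`-point of the chart `W`, then the scheme-theoretic fibre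
`U ×_W T` is an etale chart of the fibre `F ×_Z T`. -/
theorem exists_fibre_chart {F Z Fz : Sp S} (k : F ⟶ Z) {W SpK : Over S}
    (γ : (yon S).obj W ⟶ Z) (hγ : RepWith @Etale γ) (z₀ : SpK ⟶ W)
    (pF : Fz ⟶ F) (qF : Fz ⟶ (yon S).obj SpK) (sqF : IsPullback pF qF k ((yon S).map z₀ ≫ γ))
    {U U' : Over S} (α : (yon S).obj U ⟶ F) (hα : RepWith @Etale α) (w : U ⟶ W)
    (hw : α ≫ k = (yon S).map w ≫ γ) (pU : U' ⟶ U) (qU : U' ⟶ SpK)
    (sqU : IsPullback pU.left qU.left w.left z₀.left) :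
    ∃ a' : (yon S).obj U' ⟶ Fz, RepWith @Etale a' ∧ a' ≫ pF = (yon S).map pU ≫ α ∧
      a' ≫ qF = (yon S).map qU := by
  -- the scheme `T = W ×_Z Spec K`
  obtain ⟨T, t₂, t₁, sqT⟩ :=
    Groth.Agent.H53.exists_pullback_yon ((yon S).map z₀ ≫ γ) γ hγ.rep
  have ht₂ : Etale t₂.left := Groth.Agent.H53.prop_of_isPullback_yon sqT hγ
  -- the section
  obtain ⟨σ', hσ1, hσ2⟩ := sqT.exists_lift (𝟙 _) ((yon S).map z₀) (by simp)
  obtain ⟨σ, rfl⟩ := (yon S).map_surjective σ'
  have hσt₂ : σ ≫ t₂ = 𝟙 SpK := (yon S).map_injective (by simpa using hσ1)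
  have hσt₁ : σ ≫ t₁ = z₀ := (yon S).map_injective (by simpa using hσ2)
  have hσ : Etale σ.left := by
    haveI : Etale (σ.left ≫ t₂.left) := by
      rw [← Over.comp_left, hσt₂]
      change Etale (𝟙 _)
      infer_instance
    exact Etale.of_comp σ.left t₂.left
  have hσ' : RepWith @Etale ((yon S).map σ) := (repWith_yon_map_iff @Etale σ).2 hσ
  -- `U'' = U ×_W T`
  obtain ⟨U'', p, q, sqU''⟩ := Groth.Agent.H53.exists_pullback_yon ((yon S).map w)
    ((yon S).map t₁) (representable_yon_map t₁)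
  -- the given square, in sheaves
  have sqU' : IsPullback ((yon S).map pU) ((yon S).map qU) ((yon S).map w) ((yon S).map z₀) := by
    have : IsPullback pU qU w z₀ := by
      refine IsPullback.of_map (Over.forget S) ?_ sqU
      ext
      exact sqU.w
    exact this.map (yon S)
  -- `U' ⟶ U''`
  have hj : (yon S).map pU ≫ (yon S).map w = ((yon S).map qU ≫ (yon S).map σ) ≫ (yon S).map t₁ := by
    rw [Category.assoc, hσ2]
    exact sqU'.w
  let j' := sqU''.lift ((yon S).map pU) ((yon S).map qU ≫ (yon S).map σ) hj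
  have hj1 : j' ≫ (yon S).map p = (yon S).map pU := sqU''.lift_fst _ _ _
  have hj2 : j' ≫ (yon S).map q = (yon S).map qU ≫ (yon S).map σ := sqU''.lift_snd _ _ _
  have sqj : IsPullback j' ((yon S).map qU) ((yon S).map q) ((yon S).map σ) := by
    refine IsPullback.of_right ?_ hj2 sqU''
    rw [hj1, hσ2]
    exact sqU'
  have hj' : RepWith @Etale j' := MorphismProperty.of_isPullback sqj.flip hσ'
  -- `U'' ⟶ Fz`
  have sqbig : IsPullback ((yon S).map q ≫ (yon S).map t₂) ((yon S).map p)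
      ((yon S).map z₀ ≫ γ) ((yon S).map w ≫ γ) := sqU''.flip.paste_horiz sqT
  have ha : ((yon S).map p ≫ α) ≫ k =
      ((yon S).map q ≫ (yon S).map t₂) ≫ ((yon S).map z₀ ≫ γ) := by
    rw [Category.assoc, hw]
    exact sqbig.w.symm
  let a'' := sqF.lift ((yon S).map p ≫ α) ((yon S).map q ≫ (yon S).map t₂) ha
  have ha1 : a'' ≫ pF = (yon S).map p ≫ α := sqF.lift_fst _ _ _
  have ha2 : a'' ≫ qF = (yon S).map q ≫ (yon S).map t₂ := sqF.lift_snd _ _ _
  have sqa : IsPullback a'' ((yon S).map p) pF α := by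
    refine IsPullback.of_right ?_ ha1 sqF.flip
    rw [ha2, hw]
    exact sqbig
  have ha'' : RepWith @Etale a'' := MorphismProperty.of_isPullback sqa.flip hα
  refine ⟨j' ≫ a'', (RepWith @Etale).comp_mem _ _ hj' ha'', ?_, ?_⟩
  · rw [Category.assoc, ha1, ← Category.assoc, hj1]
  · rw [Category.assoc, ha2, ← Category.assoc, hj2, Category.assoc, hσ1, Category.comp_id]

/-- The fibrewise flatness hypothesis of the criterion for algebraic spaces. -/
def FibHyp {X Y Z : AlgSp.Space S} (f : X ⟶ Y) (h : Y ⟶ Z) : Prop :=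
  ∀ (K : Type u) [Field K] (sK : Spec (CommRingCat.of K) ⟶ S)
    (z : (AlgSp.yon S).obj (Over.mk sK) ⟶ Z.obj) (Xz Yz : AlgSp.Sp S)
    (pX : Xz ⟶ X.obj) (qX : Xz ⟶ (AlgSp.yon S).obj (Over.mk sK))
    (pY : Yz ⟶ Y.obj) (qY : Yz ⟶ (AlgSp.yon S).obj (Over.mk sK)) (fz : Xz ⟶ Yz),
    IsPullback pX qX (f ≫ h).hom z → IsPullback pY qY h.hom z → fz ≫ pY = pX ≫ f.hom →
      fz ≫ qY = qX → AlgSp.LocP @Flat fz

/-- From the hypotheses on algebraic spaces to the hypotheses on a triple of compatible charts. -/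
theorem chart_key {X Y Z : AlgSp.Space S} (f : X ⟶ Y) (h : Y ⟶ Z)
    (hfl : AlgSp.LocP @Flat (f ≫ h).hom) (hfib : FibHyp f h) {U V W : Over S}
    (α : (yon S).obj U ⟶ X.obj) (β : (yon S).obj V ⟶ Y.obj) (γ : (yon S).obj W ⟶ Z.obj)
    (hα : RepWith @Etale α) (hβ : RepWith @Etale β) (hγ : RepWith @Etale γ)
    (u : U ⟶ V) (v : V ⟶ W) (hu : α ≫ f.hom = (yon S).map u ≫ β)
    (hv : β ≫ h.hom = (yon S).map v ≫ γ) :
    Flat (u.left ≫ v.left) ∧ FibFlatSch u.left v.left := by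
  have hfh : (f ≫ h).hom = f.hom ≫ h.hom := rfl
  have huv : α ≫ (f ≫ h).hom = (yon S).map (u ≫ v) ≫ γ := by
    rw [hfh, ← Category.assoc, hu, Category.assoc, hv, Functor.map_comp, Category.assoc]
  refine ⟨hfl α γ (u ≫ v) hα hγ huv, ?_⟩
  intro K _ z₀ V' U' pV qV pU u' sq1 sq2
  -- objects over `S`
  let SpK : Over S := Over.mk (z₀ ≫ W.hom)
  let z₀' : SpK ⟶ W := Over.homMk z₀ rfl
  let V'o : Over S := Over.mk (pV ≫ V.hom)
  let pV' : V'o ⟶ V := Over.homMk pV rfl
  let qV' : V'o ⟶ SpK := Over.homMk qV (by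
    change qV ≫ z₀ ≫ W.hom = pV ≫ V.hom
    rw [← Category.assoc, ← sq1.w, Category.assoc, Over.w v])
  let U'o : Over S := Over.mk (pU ≫ U.hom)
  let pU' : U'o ⟶ U := Over.homMk pU rfl
  let u'' : U'o ⟶ V'o := Over.homMk u' (by
    change u' ≫ pV ≫ V.hom = pU ≫ U.hom
    rw [← Category.assoc, ← sq2.w, Category.assoc, Over.w u])
  -- the fibres
  let z : (yon S).obj SpK ⟶ Z.obj := (yon S).map z₀' ≫ γ
  have sqX := IsPullback.of_hasPullback (f ≫ h).hom z
  have sqY := IsPullback.of_hasPullback h.hom z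
  have hfz : (pullback.fst (f ≫ h).hom z ≫ f.hom) ≫ h.hom = pullback.snd (f ≫ h).hom z ≫ z := by
    rw [Category.assoc, ← hfh]
    exact sqX.w
  let fz := sqY.lift (pullback.fst (f ≫ h).hom z ≫ f.hom) (pullback.snd (f ≫ h).hom z) hfz
  have hfz1 : fz ≫ pullback.fst h.hom z = pullback.fst (f ≫ h).hom z ≫ f.hom := sqY.lift_fst _ _ _
  have hfz2 : fz ≫ pullback.snd h.hom z = pullback.snd (f ≫ h).hom z := sqY.lift_snd _ _ _
  have hloc := hfib K (z₀ ≫ W.hom) z _ _ _ _ _ _ fz sqX sqY hfz1 hfz2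
  -- the charts of the fibres
  obtain ⟨b', hb', hb1, hb2⟩ := exists_fibre_chart h.hom γ hγ z₀' _ _ sqY β hβ v hv pV' qV' sq1
  obtain ⟨a', ha', ha1, ha2⟩ := exists_fibre_chart (f ≫ h).hom γ hγ z₀' _ _ sqX α hα (u ≫ v) huv
    pU' (u'' ≫ qV') (sq2.paste_vert sq1)
  refine hloc a' b' u'' ha' hb' ?_
  refine sqY.hom_ext ?_ ?_
  · rw [Category.assoc, hfz1, ← Category.assoc, ha1, Category.assoc, hu, Category.assoc, hb1,
      ← Category.assoc, ← Category.assoc, ← Functor.map_comp, ← Functor.map_comp]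
    congr 2
    ext
    exact sq2.w
  · rw [Category.assoc, hfz2, ha2, Category.assoc, hb2, ← Functor.map_comp]

end Groth.Agent.H50
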