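import Groth.Agent.H50.FlatFibSp1

set_option autoImplicit false
set_option backward.isDefEq.respectTransparency false
set_option linter.style.haveILetI false
universe u
open CategoryTheory CategoryTheory.Limits AlgebraicGeometry Opposite Topology

namespace Groth.Agent.H50

open AlgSp

variable {S : Scheme.{u}}

/-- The open subscheme `O ⊆ U.left` as an object over `S`. -/
noncomputable abbrev opensOver (U : Over S) (O : U.left.Opens) : Over S := Over.mk (O.ι ≫ U.hom)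

/-- The inclusion of an open subscheme, over `S`. -/
noncomputable abbrev opensOverι (U : Over S) (O : U.left.Opens) : opensOver U O ⟶ U :=
  Over.homMk O.ι rfl

/-- The restriction of a morphism over `S` to open subschemes. -/
noncomputable abbrev opensOverMap {U V : Over S} (u : U ⟶ V) (O : U.left.Opens) (O' : V.left.Opens)
    (e : O ≤ u.left ⁻¹ᵁ O') : opensOver U O ⟶ opensOver V O' :=
  Over.homMk (u.left.resLE O' O e) (by
    change u.left.resLE O' O e ≫ O'.ι ≫ V.hom = O.ι ≫ U.hom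
    rw [← Category.assoc, Scheme.Hom.resLE_comp_ι, Category.assoc, Over.w u])

theorem opensOverMap_comp_ι {U V : Over S} (u : U ⟶ V) (O : U.left.Opens) (O' : V.left.Opens)
    (e : O ≤ u.left ⁻¹ᵁ O') : opensOverMap u O O' e ≫ opensOverι V O' = opensOverι U O ≫ u := by
  ext
  exact Scheme.Hom.resLE_comp_ι _ _

theorem repWith_etale_opensOverι_comp {F : Sp S} {U : Over S} (O : U.left.Opens)
    (a : (yon S).obj U ⟶ F) (ha : RepWith @Etale a) :
    RepWith @Etale ((yon S).map (opensOverι U O) ≫ a) :=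
  Groth.Agent.H53.repWith_etale_map_comp (opensOverι U O)
    (inferInstanceAs (Etale O.ι)) a ha

/-- Restricting a compatible triple of charts to open subschemes. -/
theorem chart_key_opens {X Y Z : AlgSp.Space S} (f : X ⟶ Y) (h : Y ⟶ Z)
    (hfl : AlgSp.LocP @Flat (f ≫ h).hom) (hfib : FibHyp f h) {U V W : Over S}
    (α : (yon S).obj U ⟶ X.obj) (β : (yon S).obj V ⟶ Y.obj) (γ : (yon S).obj W ⟶ Z.obj)
    (hα : RepWith @Etale α) (hβ : RepWith @Etale β) (hγ : RepWith @Etale γ)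
    (u : U ⟶ V) (v : V ⟶ W) (hu : α ≫ f.hom = (yon S).map u ≫ β)
    (hv : β ≫ h.hom = (yon S).map v ≫ γ)
    (Uc : U.left.Opens) (Vb : V.left.Opens) (Wa : W.left.Opens) (e₁ : Uc ≤ u.left ⁻¹ᵁ Vb)
    (e₂ : Vb ≤ v.left ⁻¹ᵁ Wa) :
    Flat (u.left.resLE Vb Uc e₁ ≫ v.left.resLE Wa Vb e₂) ∧
      FibFlatSch (u.left.resLE Vb Uc e₁) (v.left.resLE Wa Vb e₂) := by
  refine chart_key f h hfl hfib ((yon S).map (opensOverι U Uc) ≫ α)
    ((yon S).map (opensOverι V Vb) ≫ β) ((yon S).map (opensOverι W Wa) ≫ γ)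
    (repWith_etale_opensOverι_comp Uc α hα) (repWith_etale_opensOverι_comp Vb β hβ)
    (repWith_etale_opensOverι_comp Wa γ hγ) (opensOverMap u Uc Vb e₁) (opensOverMap v Vb Wa e₂) ?_ ?_
  · rw [Category.assoc, hu, ← Category.assoc, ← Functor.map_comp, ← opensOverMap_comp_ι u Uc Vb e₁,
      Functor.map_comp, Category.assoc]
  · rw [Category.assoc, hv, ← Category.assoc, ← Functor.map_comp, ← opensOverMap_comp_ι v Vb Wa e₂,
      Functor.map_comp, Category.assoc]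

theorem exists_affineOpen_le {X : Scheme.{u}} (O : X.Opens) (x : X) (hx : x ∈ O) :
    ∃ V : X.Opens, IsAffineOpen V ∧ x ∈ V ∧ V ≤ O := by
  obtain ⟨_, ⟨V, hV, rfl⟩, hxV, hVO⟩ :=
    (X.isBasis_affineOpens).exists_subset_of_mem_open hx O.isOpen
  exact ⟨V, hV, hxV, hVO⟩

/-- Conclusion 1 for a compatible triple of locally Noetherian charts. -/
theorem flat_of_noeth_charts {X Y Z : AlgSp.Space S} (f : X ⟶ Y) (h : Y ⟶ Z)
    (hfl : AlgSp.LocP @Flat (f ≫ h).hom) (hfib : FibHyp f h) {U V W : Over S}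
    [IsLocallyNoetherian U.left] [IsLocallyNoetherian V.left] [IsLocallyNoetherian W.left]
    (α : (yon S).obj U ⟶ X.obj) (β : (yon S).obj V ⟶ Y.obj) (γ : (yon S).obj W ⟶ Z.obj)
    (hα : RepWith @Etale α) (hβ : RepWith @Etale β) (hγ : RepWith @Etale γ)
    (u : U ⟶ V) (v : V ⟶ W) (hu : α ≫ f.hom = (yon S).map u ≫ β)
    (hv : β ≫ h.hom = (yon S).map v ≫ γ) : Flat u.left := by
  have key : ∀ x : U.left, ∃ Uc : U.left.Opens, x ∈ Uc ∧ Flat (Uc.ι ≫ u.left) := by
    intro x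
    obtain ⟨Wa, hWa, hxWa, -⟩ := exists_affineOpen_le (⊤ : W.left.Opens) (v.left (u.left x)) trivial
    obtain ⟨Vb, hVb, hxVb, e₂⟩ := exists_affineOpen_le (v.left ⁻¹ᵁ Wa) (u.left x) hxWa
    obtain ⟨Uc, hUc, hxUc, e₁⟩ := exists_affineOpen_le (u.left ⁻¹ᵁ Vb) x hxVb
    refine ⟨Uc, hxUc, ?_⟩
    obtain ⟨h1, h2⟩ := chart_key_opens f h hfl hfib α β γ hα hβ hγ u v hu hv Uc Vb Wa e₁ e₂
    haveI : IsAffine (Uc : Scheme.{u}) := hUc
    haveI : IsAffine (Vb : Scheme.{u}) := hVb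
    haveI : IsAffine (Wa : Scheme.{u}) := hWa
    have h3 : Flat (u.left.resLE Vb Uc e₁) := flat_of_fibFlatSch_of_isAffine _ _ h1 h2
    rw [← Scheme.Hom.resLE_comp_ι u.left e₁]
    infer_instance
  choose Uc hUc1 hUc2 using key
  refine IsZariskiLocalAtSource.of_iSup_eq_top (P := @Flat) Uc ?_ hUc2
  exact top_le_iff.1 (fun x _ => TopologicalSpace.Opens.mem_iSup.2 ⟨x, hUc1 x⟩)

/-- Conclusion 2 for a compatible pair of locally Noetherian charts, each point of the upper one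
being hit by a locally Noetherian chart of `X`. -/
theorem flat_base_of_noeth_charts {X Y Z : AlgSp.Space S} (f : X ⟶ Y) (h : Y ⟶ Z)
    (hfl : AlgSp.LocP @Flat (f ≫ h).hom) (hfib : FibHyp f h) {V W : Over S}
    [IsLocallyNoetherian V.left] [IsLocallyNoetherian W.left]
    (β : (yon S).obj V ⟶ Y.obj) (γ : (yon S).obj W ⟶ Z.obj)
    (hβ : RepWith @Etale β) (hγ : RepWith @Etale γ)
    (v : V ⟶ W) (hv : β ≫ h.hom = (yon S).map v ≫ γ)
    (Hpt : ∀ y : V.left, ∃ (U : Over S) (_ : IsLocallyNoetherian U.left)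
      (α : (yon S).obj U ⟶ X.obj) (_ : RepWith @Etale α) (u : U ⟶ V) (x : U.left),
      α ≫ f.hom = (yon S).map u ≫ β ∧ u.left x = y) : Flat v.left := by
  have key : ∀ y : V.left, ∃ Vb : V.left.Opens, y ∈ Vb ∧ Flat (Vb.ι ≫ v.left) := by
    intro y
    obtain ⟨Wa, hWa, hxWa, -⟩ := exists_affineOpen_le (⊤ : W.left.Opens) (v.left y) trivial
    obtain ⟨Vb, hVb, hxVb, e₂⟩ := exists_affineOpen_le (v.left ⁻¹ᵁ Wa) y hxWa
    refine ⟨Vb, hxVb, ?_⟩
    haveI : IsAffine (Vb : Scheme.{u}) := hVb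
    haveI : IsAffine (Wa : Scheme.{u}) := hWa
    have h3 : Flat (v.left.resLE Wa Vb e₂) := by
      refine flat_base_of_fibFlatSch_of_isAffine _ ?_
      intro y'
      obtain ⟨U, hU, α, hα, u, x, hu, hx⟩ := Hpt (Vb.ι y')
      have hxVb' : x ∈ u.left ⁻¹ᵁ Vb := by
        change u.left x ∈ Vb
        rw [hx]
        exact y'.2
      obtain ⟨Uc, hUc, hxUc, e₁⟩ := exists_affineOpen_le (u.left ⁻¹ᵁ Vb) x hxVb'
      obtain ⟨h1, h2⟩ := chart_key_opens f h hfl hfib α β γ hα hβ hγ u v hu hv Uc Vb Wa e₁ e₂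
      refine ⟨(Uc : Scheme.{u}), hUc, inferInstance, u.left.resLE Vb Uc e₁, ⟨x, hxUc⟩, ?_, h1, h2⟩
      apply Vb.ι.injective
      rw [← Scheme.Hom.comp_apply, Scheme.Hom.resLE_comp_ι]
      exact hx
    rw [← Scheme.Hom.resLE_comp_ι v.left e₂]
    infer_instance
  choose Vb hVb1 hVb2 using key
  refine IsZariskiLocalAtSource.of_iSup_eq_top (P := @Flat) Vb ?_ hVb2
  exact top_le_iff.1 (fun x _ => TopologicalSpace.Opens.mem_iSup.2 ⟨x, hVb1 x⟩)

end Groth.Agent.H50
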