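import Groth.Agent.H50.FlatFibSp2
import Groth.Agent.H50.Points
import Groth.Agent.H53.Points
import Groth.Agent.H49.AlgSpRep

set_option autoImplicit false
set_option backward.isDefEq.respectTransparency false
set_option linter.style.haveILetI false
universe u
open CategoryTheory CategoryTheory.Limits AlgebraicGeometry Opposite Topology

namespace Groth.Agent.H50

open AlgSp

variable {S : Scheme.{u}}

/-- Conclusion 1 of the fibrewise criterion of flatness for locally Noetherian algebraic spaces. -/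
theorem locP_flat_of_fibHyp {X Y Z : AlgSp.Space S} (f : X ⟶ Y) (h : Y ⟶ Z)
    (hX : AlgSp.IsLocNoethSp X.obj) (hYn : AlgSp.IsLocNoethSp Y.obj)
    (hZ : AlgSp.IsLocNoethSp Z.obj)
    (hfl : AlgSp.LocP @Flat (f ≫ h).hom) (hfib : FibHyp f h) : AlgSp.LocP @Flat f.hom := by
  intro U V a b g ha hb comm
  obtain ⟨X₀, aX, haX, hasX, hNX⟩ := hX
  obtain ⟨Y₀, bY, hbY, hbsY, hNY⟩ := hYn
  obtain ⟨Z₀, cZ, hcZ, hcsZ, hNZ⟩ := hZ
  haveI : IsLocallyNoetherian X₀.left := hNX
  haveI : IsLocallyNoetherian Y₀.left := hNY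
  haveI : IsLocallyNoetherian Z₀.left := hNZ
  have hG := goodClass_flat.{u}
  -- `V₁ = V ×_Y Y₀`
  obtain ⟨V₁, p₁, q₁, sqV₁⟩ := Groth.Agent.H53.exists_pullback_yon b bY hbY.rep
  have hp₁e : Etale p₁.left := Groth.Agent.H53.prop_of_isPullback_yon sqV₁ hbY
  have hp₁s : Surjective p₁.left := Groth.Agent.H53.prop_of_isPullback_yon sqV₁ hbsY
  have hq₁e : Etale q₁.left := Groth.Agent.H53.prop_of_isPullback_yon sqV₁.flip hb
  -- `V₂ = V₁ ×_Z Z₀`
  obtain ⟨V₂, p₂, q₂, sqV₂⟩ :=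
    Groth.Agent.H53.exists_pullback_yon (((yon S).map p₁ ≫ b) ≫ h.hom) cZ hcZ.rep
  have hp₂e : Etale p₂.left := Groth.Agent.H53.prop_of_isPullback_yon sqV₂ hcZ
  have hp₂s : Surjective p₂.left := Groth.Agent.H53.prop_of_isPullback_yon sqV₂ hcsZ
  haveI : IsLocallyNoetherian V₂.left :=
    LocallyOfFiniteType.isLocallyNoetherian (p₂.left ≫ q₁.left)
  have hpe : Etale (p₂ ≫ p₁).left := by
    change Etale (p₂.left ≫ p₁.left)
    infer_instance
  have hps : Surjective (p₂ ≫ p₁).left := by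
    change Surjective (p₂.left ≫ p₁.left)
    infer_instance
  -- `U₁ = U ×_V V₂`
  obtain ⟨U₁, r₁, g₁, sqU₁⟩ := Groth.Agent.H53.exists_pullback_yon ((yon S).map g)
    ((yon S).map (p₂ ≫ p₁)) (representable_yon_map _)
  have hr₁e : Etale r₁.left := Groth.Agent.H53.prop_of_isPullback_yon sqU₁
    ((repWith_yon_map_iff @Etale _).2 hpe)
  have hr₁s : Surjective r₁.left := Groth.Agent.H53.prop_of_isPullback_yon sqU₁
    ((repWith_yon_map_iff @Surjective _).2 hps)
  have hrg : r₁ ≫ g = g₁ ≫ (p₂ ≫ p₁) := (yon S).map_injective (by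
    rw [Functor.map_comp, Functor.map_comp]
    exact sqU₁.w)
  -- `U₂ = U₁ ×_X X₀`
  have ha₁ : RepWith @Etale ((yon S).map r₁ ≫ a) :=
    Groth.Agent.H53.repWith_etale_map_comp r₁ hr₁e a ha
  obtain ⟨U₂, r₂, s₂, sqU₂⟩ :=
    Groth.Agent.H53.exists_pullback_yon ((yon S).map r₁ ≫ a) aX haX.rep
  have hr₂e : Etale r₂.left := Groth.Agent.H53.prop_of_isPullback_yon sqU₂ haX
  have hr₂s : Surjective r₂.left := Groth.Agent.H53.prop_of_isPullback_yon sqU₂ hasX
  have hs₂e : Etale s₂.left := Groth.Agent.H53.prop_of_isPullback_yon sqU₂.flip ha₁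
  haveI : IsLocallyNoetherian U₂.left := LocallyOfFiniteType.isLocallyNoetherian s₂.left
  have hre : Etale (r₂ ≫ r₁).left := by
    change Etale (r₂.left ≫ r₁.left)
    infer_instance
  -- the charts
  have hα : RepWith @Etale ((yon S).map (r₂ ≫ r₁) ≫ a) :=
    Groth.Agent.H53.repWith_etale_map_comp _ hre a ha
  have hβ : RepWith @Etale ((yon S).map (p₂ ≫ p₁) ≫ b) :=
    Groth.Agent.H53.repWith_etale_map_comp _ hpe b hb
  have hu : ((yon S).map (r₂ ≫ r₁) ≫ a) ≫ f.hom =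
      (yon S).map (r₂ ≫ g₁) ≫ ((yon S).map (p₂ ≫ p₁) ≫ b) := by
    rw [Category.assoc, comm, ← Category.assoc, ← Category.assoc, ← Functor.map_comp,
      ← Functor.map_comp, Category.assoc, hrg, Category.assoc]
  have hv : ((yon S).map (p₂ ≫ p₁) ≫ b) ≫ h.hom = (yon S).map q₂ ≫ cZ := by
    rw [← sqV₂.w, Functor.map_comp]
    simp only [Category.assoc]
  have hflat := flat_of_noeth_charts f h hfl hfib _ _ cZ hα hβ hcZ (r₂ ≫ g₁) q₂ hu hv
  -- descend
  have h1 : Flat g₁.left := hG.src r₂.left g₁.left hr₂e hr₂s hflat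
  have h2 : Flat (r₁.left ≫ g.left) := by
    have : r₁.left ≫ g.left = g₁.left ≫ (p₂ ≫ p₁).left := congrArg (fun k => k.left) hrg
    rw [this]
    infer_instance
  exact hG.src r₁.left g.left hr₁e hr₁s h2

/-- Conclusion 2 of the fibrewise criterion of flatness for locally Noetherian algebraic spaces. -/
theorem locP_flat_base_of_fibHyp {X Y Z : AlgSp.Space S} (f : X ⟶ Y) (h : Y ⟶ Z)
    (hX : AlgSp.IsLocNoethSp X.obj) (hYn : AlgSp.IsLocNoethSp Y.obj)
    (hZ : AlgSp.IsLocNoethSp Z.obj)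
    (hfl : AlgSp.LocP @Flat (f ≫ h).hom) (hfib : FibHyp f h)
    (hsurj : AlgSp.IsSurjectiveMor f.hom) : AlgSp.LocP @Flat h.hom := by
  intro V W b c k hb hc comm
  obtain ⟨X₀, aX, haX, hasX, hNX⟩ := hX
  obtain ⟨Y₀, bY, hbY, hbsY, hNY⟩ := hYn
  obtain ⟨Z₀, cZ, hcZ, hcsZ, hNZ⟩ := hZ
  haveI : IsLocallyNoetherian X₀.left := hNX
  haveI : IsLocallyNoetherian Y₀.left := hNY
  haveI : IsLocallyNoetherian Z₀.left := hNZ
  have hG := goodClass_flat.{u}
  -- `W₁ = W ×_Z Z₀`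
  obtain ⟨W₁, m₁, n₁, sqW₁⟩ := Groth.Agent.H53.exists_pullback_yon c cZ hcZ.rep
  have hm₁e : Etale m₁.left := Groth.Agent.H53.prop_of_isPullback_yon sqW₁ hcZ
  have hm₁s : Surjective m₁.left := Groth.Agent.H53.prop_of_isPullback_yon sqW₁ hcsZ
  have hn₁e : Etale n₁.left := Groth.Agent.H53.prop_of_isPullback_yon sqW₁.flip hc
  haveI : IsLocallyNoetherian W₁.left := LocallyOfFiniteType.isLocallyNoetherian n₁.left
  have hγ : RepWith @Etale ((yon S).map m₁ ≫ c) :=
    Groth.Agent.H53.repWith_etale_map_comp _ hm₁e c hc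
  -- `V₁ = V ×_W W₁`
  obtain ⟨V₁, p₁, k₁, sqV₁⟩ := Groth.Agent.H53.exists_pullback_yon ((yon S).map k)
    ((yon S).map m₁) (representable_yon_map _)
  have hp₁e : Etale p₁.left := Groth.Agent.H53.prop_of_isPullback_yon sqV₁
    ((repWith_yon_map_iff @Etale _).2 hm₁e)
  have hp₁s : Surjective p₁.left := Groth.Agent.H53.prop_of_isPullback_yon sqV₁
    ((repWith_yon_map_iff @Surjective _).2 hm₁s)
  have hpk : p₁ ≫ k = k₁ ≫ m₁ := (yon S).map_injective (by
    rw [Functor.map_comp, Functor.map_comp]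
    exact sqV₁.w)
  -- `V₂ = V₁ ×_Y Y₀`
  have hb₁ : RepWith @Etale ((yon S).map p₁ ≫ b) :=
    Groth.Agent.H53.repWith_etale_map_comp p₁ hp₁e b hb
  obtain ⟨V₂, p₂, q₂, sqV₂⟩ :=
    Groth.Agent.H53.exists_pullback_yon ((yon S).map p₁ ≫ b) bY hbY.rep
  have hp₂e : Etale p₂.left := Groth.Agent.H53.prop_of_isPullback_yon sqV₂ hbY
  have hp₂s : Surjective p₂.left := Groth.Agent.H53.prop_of_isPullback_yon sqV₂ hbsY
  have hq₂e : Etale q₂.left := Groth.Agent.H53.prop_of_isPullback_yon sqV₂.flip hb₁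
  haveI : IsLocallyNoetherian V₂.left := LocallyOfFiniteType.isLocallyNoetherian q₂.left
  have hpe : Etale (p₂ ≫ p₁).left := by
    change Etale (p₂.left ≫ p₁.left)
    infer_instance
  have hβ : RepWith @Etale ((yon S).map (p₂ ≫ p₁) ≫ b) :=
    Groth.Agent.H53.repWith_etale_map_comp _ hpe b hb
  have hv : ((yon S).map (p₂ ≫ p₁) ≫ b) ≫ h.hom =
      (yon S).map (p₂ ≫ k₁) ≫ ((yon S).map m₁ ≫ c) := by
    rw [Category.assoc, comm, ← Category.assoc, ← Category.assoc, ← Functor.map_comp,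
      ← Functor.map_comp, Category.assoc, hpk, Category.assoc]
  -- every point of `V₂` is hit
  have Hpt : ∀ y : V₂.left, ∃ (U : Over S) (_ : IsLocallyNoetherian U.left)
      (α : (yon S).obj U ⟶ X.obj) (_ : RepWith @Etale α) (u : U ⟶ V₂) (x : U.left),
      α ≫ f.hom = (yon S).map u ≫ ((yon S).map (p₂ ≫ p₁) ≫ b) ∧ u.left x = y := by
    intro y
    set β := (yon S).map (p₂ ≫ p₁) ≫ b with hβdef
    have sqP := IsPullback.of_hasPullback f.hom β
    have hP : IsAlgSpace (pullback f.hom β) :=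
      Groth.Agent.H49.isAlgSpace_of_isPullback sqP Y.property.diag X.property
        (IsAlgSpace.yon_obj V₂)
    obtain ⟨ξ, hξ⟩ := hsurj (Points.ofPt β y)
    rw [Points.ofPt_eq_map_ofScheme] at hξ
    obtain ⟨π, hπ1, hπ2⟩ := points_exists_of_isPullback sqP ξ (Points.ofScheme V₂ y) hξ
    obtain ⟨P₀, c₀, hc₀1, hc₀2⟩ := hP.atlas
    obtain ⟨p₀, hp₀⟩ := Groth.Agent.H53.exists_ofPt_eq_of_repWith_surjective c₀ hc₀2 π
    have hπ₁e : RepWith @Etale (pullback.fst f.hom β) :=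
      MorphismProperty.of_isPullback sqP.flip hβ
    have hc₀π : RepWith @Etale (c₀ ≫ pullback.fst f.hom β) :=
      (RepWith @Etale).comp_mem _ _ hc₀1 hπ₁e
    obtain ⟨U, r, s, sqU⟩ :=
      Groth.Agent.H53.exists_pullback_yon (c₀ ≫ pullback.fst f.hom β) aX haX.rep
    have hre : Etale r.left := Groth.Agent.H53.prop_of_isPullback_yon sqU haX
    have hrs : Surjective r.left := Groth.Agent.H53.prop_of_isPullback_yon sqU hasX
    have hse : Etale s.left := Groth.Agent.H53.prop_of_isPullback_yon sqU.flip hc₀π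
    haveI : IsLocallyNoetherian U.left := LocallyOfFiniteType.isLocallyNoetherian s.left
    obtain ⟨x, hx⟩ := hrs.surj p₀
    obtain ⟨u, hu⟩ := (yon S).map_surjective ((yon S).map r ≫ c₀ ≫ pullback.snd f.hom β)
    refine ⟨U, inferInstance, (yon S).map r ≫ c₀ ≫ pullback.fst f.hom β,
      Groth.Agent.H53.repWith_etale_map_comp r hre _ hc₀π, u, x, ?_, ?_⟩
    · rw [hu]
      simp only [Category.assoc]
      rw [sqP.w]
    · rw [← Points.toScheme_ofPt u x, hu, ← Category.assoc, ← Points.map_ofPt,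
        Groth.Agent.H53.ofPt_yon_map_comp, hx, hp₀, hπ2, Points.toScheme_ofScheme]
  have hflat := flat_base_of_noeth_charts f h hfl hfib _ _ hβ hγ (p₂ ≫ k₁) hv Hpt
  -- descend
  have h1 : Flat k₁.left := hG.src p₂.left k₁.left hp₂e hp₂s hflat
  have h2 : Flat (p₁.left ≫ k.left) := by
    have : p₁.left ≫ k.left = k₁.left ≫ m₁.left := congrArg (fun k => k.left) hpk
    rw [this]
    infer_instance
  exact hG.src p₁.left k.left hp₁e hp₁s h2

end Groth.Agent.H50
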