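import Groth.Agent.H50.Mor

set_option autoImplicit false
set_option backward.isDefEq.respectTransparency false
universe u
open CategoryTheory CategoryTheory.Limits AlgebraicGeometry Opposite

namespace Groth.Agent.H50

open AlgSp

variable {S : Scheme.{u}}

/-- If `h_V` is a quasi-compact sheaf then `V` is a quasi-compact scheme. -/
theorem compactSpace_of_isQuasiCompactSp_yon (V : Over S) (h : IsQuasiCompactSp ((yon S).obj V)) :
    CompactSpace ↥V.left := by
  obtain ⟨W, p, -, hps, hW⟩ := h
  obtain ⟨g, rfl⟩ := (yon S).map_surjective p
  have hg : Surjective g.left := (repWith_yon_map_iff @Surjective g).1 hps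
  have : CompactSpace ↥W.left := hW
  constructor
  rw [← hg.surj.range_eq]
  exact isCompact_range g.left.continuous

/-- `h_V` is a quasi-compact sheaf if `V` is a quasi-compact scheme. -/
theorem isQuasiCompactSp_yon (V : Over S) [CompactSpace ↥V.left] :
    IsQuasiCompactSp ((yon S).obj V) :=
  ⟨V, 𝟙 _, repWith_id @Etale _, repWith_id @Surjective _, inferInstance⟩

/-- A representable morphism which is quasi-compact in the sense of algebraic spaces is representable by
quasi-compact morphisms of schemes. -/
theorem repWith_quasiCompact_of_isQuasiCompactMor {F G : Sp S} (f : F ⟶ G) (hr : Representable f)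
    (hq : IsQuasiCompactMor f) : RepWith @QuasiCompact f := by
  refine MorphismProperty.relative_of_snd hr (fun T g => ?_)
  change QuasiCompact (hr.snd g).left
  rw [quasiCompact_iff_forall_isAffineOpen]
  intro W hW
  let TW : Over S := Over.mk (W.ι ≫ T.hom)
  let ιW : TW ⟶ T := Over.homMk W.ι rfl
  have sq1 := IsPullback.of_hasPullback (hr.snd g) ιW
  have sq2 := sq1.map (yon S)
  have sq3 : IsPullback (pullback.fst (hr.snd g) ιW).left (pullback.snd (hr.snd g) ιW).left
      (hr.snd g).left W.ι := sq1.map (Over.forget S)
  have sq4 := sq2.paste_horiz (hr.isPullback g)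
  have : CompactSpace ↥TW.left := by
    change CompactSpace ↥(W : Scheme)
    exact isCompact_iff_compactSpace.1 hW.isCompact
  have hc : IsQuasiCompactSp ((yon S).obj (pullback (hr.snd g) ιW)) :=
    hq (IsAlgSpace.yon_obj TW) (isQuasiCompactSp_yon TW) _ _ _ sq4
  have hc' := compactSpace_of_isQuasiCompactSp_yon _ hc
  have hrange : Set.range (pullback.fst (hr.snd g) ιW).left = (hr.snd g).left ⁻¹' (W : Set ↥T.left) := by
    let e := sq3.isoPullback
    have h1 : (pullback.fst (hr.snd g) ιW).left = e.hom ≫ pullback.fst (hr.snd g).left W.ι :=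
      (sq3.isoPullback_hom_fst).symm
    have hs : Function.Surjective e.hom := (inferInstance : Surjective e.hom).surj
    rw [h1, Scheme.Hom.comp_base, TopCat.coe_comp, Set.range_comp,
      Set.range_eq_univ.2 hs, Set.image_univ,
      Scheme.Pullback.range_fst]
    simp
  change IsCompact ((hr.snd g).left ⁻¹' (W : Set ↥T.left))
  rw [← hrange]
  exact isCompact_range (pullback.fst (hr.snd g) ιW).left.continuous

end Groth.Agent.H50
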