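import Groth.Agent.H50.FlatOpen
import Groth.Agent.H50.QCMor
import Groth.Agent.H50.UnivInj
import Groth.Agent.H49.AlgSpQC

set_option autoImplicit false
set_option backward.isDefEq.respectTransparency false
universe u
open CategoryTheory CategoryTheory.Limits AlgebraicGeometry Opposite

namespace Groth.Agent.H50

open AlgSp

variable {S : Scheme.{u}}

/-- Key step: for a flat quasi-compact surjective morphism `f : X ⟶ Y` of algebraic spaces and an
affine scheme `V` over `Y`, a subset of `V` is open as soon as its preimage in `|X ×_Y V|` is. -/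
theorem isOpen_of_flat_qc_surj_affine {X Y : Sp S} (hX : IsAlgSpace X) (hY : IsAlgSpace Y)
    (f : X ⟶ Y) (hfl : LocP @Flat f) (hqc : IsQuasiCompactMor f) (hs : IsSurjectiveMor f)
    (T : Set (Points Y)) (hT : IsOpen (Points.map f ⁻¹' T)) (V : Over S) [CompactSpace ↥V.left]
    [QuasiSeparatedSpace ↥V.left]
    (g : (yon S).obj V ⟶ Y) : IsOpen (Points.ofPt g ⁻¹' T) := by
  have sq := IsPullback.of_hasPullback f g
  have hV : IsAlgSpace ((yon S).obj V) := IsAlgSpace.yon_obj V
  have hZ : IsAlgSpace (pullback f g) := Groth.Agent.H49.isAlgSpace_of_isPullback sq hY.diag hX hV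
  obtain ⟨U, c, hc1, hc2, hU⟩ := hqc hV (isQuasiCompactSp_yon V) g _ _ sq
  have hU' : CompactSpace ↥U.left := hU
  obtain ⟨k, hk⟩ := (yon S).map_surjective (c ≫ pullback.snd f g)
  have hsnd : LocP @Flat (pullback.snd f g) :=
    goodClass_flat.locP_of_isPullback hX hY hV f g _ _ sq hfl
  have hkfl : Flat k.left := hsnd c (𝟙 _) k hc1 (repWith_id _ V) (by rw [Category.comp_id, hk])
  have hssurj : Function.Surjective (Points.map (pullback.snd f g)) :=
    surjective_points_of_isPullback sq.flip hs
  have hksurj : Surjective k.left := ⟨fun v => by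
    obtain ⟨z, hz⟩ := hssurj (Points.ofScheme V v)
    obtain ⟨u, rfl⟩ := Groth.Agent.H53.exists_ofPt_eq_of_repWith_surjective c hc2 z
    refine ⟨u, ?_⟩
    apply (Points.schemeEquiv V).injective
    change Points.ofScheme V (k.left u) = Points.ofScheme V v
    rw [← hz, Points.map_ofPt, ← hk]
    have := Groth.Agent.H53.ofPt_yon_map_comp k (𝟙 ((yon S).obj V)) u
    rw [Category.comp_id] at this
    rw [this]⟩
  have hkqc : QuasiCompact k.left := inferInstance
  have hq : Topology.IsQuotientMap k.left := Flat.isQuotientMap_of_surjective k.left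
  rw [← hq.isOpen_preimage]
  have : k.left ⁻¹' (Points.ofPt g ⁻¹' T) =
      Points.ofPt (c ≫ pullback.fst f g) ⁻¹' (Points.map f ⁻¹' T) := by
    ext u
    simp only [Set.mem_preimage]
    rw [← Groth.Agent.H53.ofPt_yon_map_comp, hk, Category.assoc, ← pullback.condition,
      Points.map_ofPt, Category.assoc]
  rw [this]
  exact hT.preimage (Points.continuous_ofPt _)

/-- A flat, quasi-compact, surjective morphism of algebraic spaces is submersive. -/
theorem isQuotientMap_points_of_flat_qc_surj {X Y : Sp S} (hX : IsAlgSpace X) (hY : IsAlgSpace Y)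
    (f : X ⟶ Y) (hfl : LocP @Flat f) (hqc : IsQuasiCompactMor f) (hs : IsSurjectiveMor f) :
    Topology.IsQuotientMap (Points.map f) := by
  rw [Topology.isQuotientMap_iff]
  refine ⟨.of_isOpen_preimage_iff_isOpen fun T =>
    ⟨fun hT => ?_, fun hT => hT.preimage (Points.continuous_map f)⟩, hs⟩
  rw [Points.isOpen_iff]
  intro T' g
  rw [isOpen_iff_forall_mem_open]
  intro t ht
  obtain ⟨_, ⟨V, hV, rfl⟩, htV, -⟩ :=
    (T'.left.isBasis_affineOpens).exists_subset_of_mem_open (a := t) (Set.mem_univ t) isOpen_univ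
  have hV : IsAffineOpen (V : T'.left.Opens) := hV
  have hVa : IsAffine (Groth.Agent.H51.overOpen T' V).left := hV
  have hVc : CompactSpace ↥(Groth.Agent.H51.overOpen T' V).left := inferInstance
  have hVq : QuasiSeparatedSpace ↥(Groth.Agent.H51.overOpen T' V).left := inferInstance
  have hopen := isOpen_of_flat_qc_surj_affine hX hY f hfl hqc hs T hT
    (Groth.Agent.H51.overOpen T' V) ((yon S).map (Groth.Agent.H51.overOpenι T' V) ≫ g)
  refine ⟨(Scheme.Opens.ι V) '' (Points.ofPt ((yon S).map (Groth.Agent.H51.overOpenι T' V) ≫ g) ⁻¹' T), ?_,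
    (Scheme.Opens.ι V).isOpenEmbedding.isOpenMap _ hopen, ⟨⟨t, htV⟩, ?_, rfl⟩⟩
  · rintro _ ⟨v, hv, rfl⟩
    rw [Set.mem_preimage, Groth.Agent.H51.ofPt_restrict] at hv
    exact hv
  · rw [Set.mem_preimage, Groth.Agent.H51.ofPt_restrict]
    exact ht

/-- A flat, quasi-compact, surjective morphism of algebraic spaces is universally submersive. -/
theorem isUnivSubmersiveMor_of_flat_qc_surj {X Y : Sp S} (hX : IsAlgSpace X) (hY : IsAlgSpace Y)
    (f : X ⟶ Y) (hfl : LocP @Flat f) (hqc : IsQuasiCompactMor f) (hs : IsSurjectiveMor f) :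
    IsUnivSubmersiveMor f := by
  intro Z Z' hZ g fst snd sq
  have hZ' : IsAlgSpace Z' := Groth.Agent.H49.isAlgSpace_of_isPullback sq hY.diag hX hZ
  exact isQuotientMap_points_of_flat_qc_surj hZ' hZ snd
    (goodClass_flat.locP_of_isPullback hX hY hZ f g fst snd sq hfl)
    (Groth.Agent.H49.isQuasiCompactMor_of_isPullback sq hqc)
    (surjective_points_of_isPullback sq.flip hs)

end Groth.Agent.H50
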