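import Groth.Agent.H50.Quot
import Groth.Agent.H50.Points
import Groth.Prelude.Def_AlgSpRep
import Mathlib.AlgebraicGeometry.Sites.Fpqc

set_option autoImplicit false
set_option backward.isDefEq.respectTransparency false
universe u
open CategoryTheory CategoryTheory.Limits AlgebraicGeometry Opposite

namespace Groth.Agent.H50

open AlgSp

variable {S : Scheme.{u}}

/-- A representable surjective morphism is surjective on points. -/
theorem surjective_points_of_repWith_surjective {F G : Sp S} (p : F ⟶ G)
    (hp : RepWith @Surjective p) : Function.Surjective (Points.map p) := by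
  intro x
  induction x using Points.ind with
  | h q =>
  have sq := hp.rep.isPullback q.toHom
  have hs : Surjective (hp.rep.snd q.toHom).left := hp.property_snd q.toHom
  obtain ⟨v, -⟩ := hs.surj (IsLocalRing.closedPoint q.K)
  refine ⟨Points.ofPt (hp.rep.fst q.toHom) v, ?_⟩
  rw [Points.map_ofPt, sq.w, ← Points.map_ofPt,
    ← Points.ofScheme_toScheme q.pt (Points.ofPt ((yon S).map (hp.rep.snd q.toHom)) v),
    ← Points.ofPt_eq_map_ofScheme, Points.ofPt_toHom]

/-- A single fppf morphism over `S` generates a covering sieve of the big fppf site of `S`. -/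
theorem generate_singleton_mem_J {U T : Over S} (g : U ⟶ T) [Flat g.left] [Surjective g.left]
    [LocallyOfFinitePresentation g.left] :
    Sieve.ofArrows (fun _ : PUnit.{1} => U) (fun _ => g) ∈ J S T := by
  rw [J_eq, GrothendieckTopology.mem_over_iff, Sieve.overEquiv_ofArrows]
  have := Precoverage.generate_mem_toGrothendieck (Scheme.Hom.singleton_mem_fppfPrecoverage g.left)
  unfold Sieve.ofArrows
  rw [Presieve.ofArrows_pUnit]
  exact this

end Groth.Agent.H50
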