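import Groth.Prelude.Def_AlgSpGpd
import Mathlib.CategoryTheory.Monoidal.Cartesian.Grp

set_option autoImplicit false
set_option backward.isDefEq.respectTransparency false
universe u
open CategoryTheory CategoryTheory.Limits AlgebraicGeometry Opposite MonoidalCategory
  CartesianMonoidalCategory MonObj

namespace Groth.Agent.H50

open AlgSp

variable {S : Scheme.{u}} {B : Sp S} {G X : Over B} [GrpObj G] (a : GAction G X)

/-- the action on `T`-valued points -/
noncomputable def GAct.smul {T : Over B} (g : T ⟶ G) (x : T ⟶ X) : T ⟶ X := lift g x ≫ a.act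

theorem GAct.one_smul {T : Over B} (x : T ⟶ X) : GAct.smul a (1 : T ⟶ G) x = x := by
  unfold GAct.smul
  rw [Hom.one_def]
  have : lift (toUnit T ≫ η[G]) x = lift (toUnit T) x ≫ (η[G] ▷ X) := by
    simp
  rw [this, Category.assoc, a.one_act]
  simp

theorem GAct.mul_smul {T : Over B} (g h : T ⟶ G) (x : T ⟶ X) :
    GAct.smul a (g * h) x = GAct.smul a g (GAct.smul a h x) := by
  unfold GAct.smul
  rw [Hom.mul_def]
  have : lift (lift g h ≫ μ[G]) x = lift (lift g h) x ≫ (μ[G] ▷ X) := by
    simp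
  rw [this, Category.assoc, a.mul_act]
  simp

theorem GAct.smul_left_cancel_of_free (ha : a.IsFree) {T : Over S} (β : (yon S).obj T ⟶ B)
    (g g' : Over.mk β ⟶ G) (x : Over.mk β ⟶ X)
    (h : GAct.smul a g x = GAct.smul a g' x) : g = g' := by
  have h1 : GAct.smul a (g'⁻¹ * g) x = x := by
    rw [GAct.mul_smul, h, ← GAct.mul_smul, inv_mul_cancel, GAct.one_smul]
  have h2 : g'⁻¹ * g = 1 := ha β (g'⁻¹ * g) x h1
  have : g = g' * (g'⁻¹ * g) := by rw [mul_inv_cancel_left]
  rw [this, h2, _root_.mul_one]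

end Groth.Agent.H50
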