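import Mathlib
import Groth.Prelude.Def_Grpd
import Groth.Agent.H90.GrpdFibre

/-!
# Etale localization of groupoids: charts (helper50)

A chart consists of an etale neighbourhood `g₁ : U₁ ⟶ U`, an open and closed part `V` of
`R ×_{s,U} U₁` finite over `U₁`, containing the identity section, and an object `U₂ ⟶ U₁` with a
lift `lam : V ×_{U₁} U₂ ⟶ U₁` of the target map `V ⟶ U` (universal among affine test schemes: a
local Weil restriction).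
-/

set_option autoImplicit false
universe u
open CategoryTheory CategoryTheory.Limits AlgebraicGeometry

namespace Groth.Agent.H50.GLoc

open Groth.Agent.H90

variable {S : Scheme.{u}} (G : Grpd.GroupoidScheme S)

/-- the data of a chart. -/
structure Chart where
  U₁ : Scheme.{u}
  V : Scheme.{u}
  g₁ : U₁ ⟶ G.U
  r : V ⟶ G.R
  π : V ⟶ U₁
  w : r ≫ G.s = π ≫ g₁
  eV : U₁ ⟶ V
  eV_r : eV ≫ r = g₁ ≫ G.e
  eV_π : eV ≫ π = 𝟙 U₁
  U₂ : Scheme.{u}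
  p : U₂ ⟶ U₁
  lam : pullback π p ⟶ U₁
  hlam : lam ≫ g₁ = pullback.fst π p ≫ r ≫ G.t

namespace Chart

variable {G} (C : Chart G)

/-- `R₁ = R ×_{s,U} U₁`. -/
noncomputable abbrev R₁ : Scheme.{u} := pullback G.s C.g₁

/-- `V ⟶ R₁`. -/
noncomputable def ιV : C.V ⟶ C.R₁ := pullback.lift C.r C.π C.w

@[reassoc (attr := simp)]
theorem ιV_fst : C.ιV ≫ pullback.fst G.s C.g₁ = C.r := pullback.lift_fst _ _ _

@[reassoc (attr := simp)]
theorem ιV_snd : C.ιV ≫ pullback.snd G.s C.g₁ = C.π := pullback.lift_snd _ _ _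

/-- `V₂ = V ×_{U₁} U₂`. -/
noncomputable abbrev V₂ : Scheme.{u} := pullback C.π C.p

noncomputable abbrev v : C.V₂ ⟶ C.V := pullback.fst C.π C.p
noncomputable abbrev q : C.V₂ ⟶ C.U₂ := pullback.snd C.π C.p

section points
variable {T : Scheme.{u}}

/-- the value of the lift at the `T`-point `(x, a)` of `V₂`. -/
noncomputable def lamAt (x : T ⟶ C.V) (a : T ⟶ C.U₂) (h : x ≫ C.π = a ≫ C.p) : T ⟶ C.U₁ :=
  pullback.lift x a h ≫ C.lam

theorem lamAt_g₁ (x : T ⟶ C.V) (a : T ⟶ C.U₂) (h : x ≫ C.π = a ≫ C.p) :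
    C.lamAt x a h ≫ C.g₁ = x ≫ C.r ≫ G.t := by
  unfold lamAt
  rw [Category.assoc, C.hlam, pullback.lift_fst_assoc]

theorem r_s (x : T ⟶ C.V) : (x ≫ C.r) ≫ G.s = (x ≫ C.π) ≫ C.g₁ := by
  rw [Category.assoc, C.w, Category.assoc]

/-- `xh ∈ V_{lam (xg, a)}` is composable with `xg`. -/
theorem composable_of (xh xg : T ⟶ C.V) (a : T ⟶ C.U₂) (hg : xg ≫ C.π = a ≫ C.p)
    (hh : xh ≫ C.π = C.lamAt xg a hg) : (xh ≫ C.r) ≫ G.s = (xg ≫ C.r) ≫ G.t := by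
  rw [C.r_s, hh, C.lamAt_g₁, Category.assoc]

theorem comp_lamAt {T' : Scheme.{u}} (y : T' ⟶ T) (x : T ⟶ C.V) (a : T ⟶ C.U₂)
    (h : x ≫ C.π = a ≫ C.p) :
    y ≫ C.lamAt x a h = C.lamAt (y ≫ x) (y ≫ a) (by rw [Category.assoc, h, Category.assoc]) := by
  unfold lamAt
  rw [← Category.assoc]
  congr 1
  apply pullback.hom_ext
  · rw [Category.assoc, pullback.lift_fst, pullback.lift_fst]
  · rw [Category.assoc, pullback.lift_snd, pullback.lift_snd]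

theorem lamAt_congr {x x' : T ⟶ C.V} {a a' : T ⟶ C.U₂} (hx : x = x') (ha : a = a')
    (h : x ≫ C.π = a ≫ C.p) (h' : x' ≫ C.π = a' ≫ C.p) : C.lamAt x a h = C.lamAt x' a' h' := by
  subst hx ha; rfl

theorem lam_eq (z : T ⟶ C.V₂) :
    z ≫ C.lam = C.lamAt (z ≫ C.v) (z ≫ C.q) (by rw [Category.assoc, Category.assoc,
      pullback.condition]) := by
  unfold lamAt
  congr 1
  apply pullback.hom_ext
  · rw [pullback.lift_fst]
  · rw [pullback.lift_snd]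

/-- a `T`-point of `R₁`. -/
noncomputable def ptR₁ (ρ : T ⟶ G.R) (b : T ⟶ C.U₁) (h : ρ ≫ G.s = b ≫ C.g₁) : T ⟶ C.R₁ :=
  pullback.lift ρ b h

/-- the `T`-point `(ρ, b)` of `R₁` lies in the open subscheme `V`. -/
def InV (ρ : T ⟶ G.R) (b : T ⟶ C.U₁) (h : ρ ≫ G.s = b ≫ C.g₁) : Prop :=
  Set.range ⇑(C.ptR₁ ρ b h) ⊆ Set.range ⇑C.ιV

theorem inV_of_lift {ρ : T ⟶ G.R} {b : T ⟶ C.U₁} (h : ρ ≫ G.s = b ≫ C.g₁) (x : T ⟶ C.V)
    (hx : x ≫ C.r = ρ) (hx' : x ≫ C.π = b) : C.InV ρ b h := by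
  have : C.ptR₁ ρ b h = x ≫ C.ιV := by
    unfold ptR₁
    apply pullback.hom_ext
    · rw [pullback.lift_fst, Category.assoc, ιV_fst, hx]
    · rw [pullback.lift_snd, Category.assoc, ιV_snd, hx']
  unfold InV
  rw [this]
  rintro _ ⟨t, rfl⟩
  exact ⟨x t, by simp⟩

theorem InV.exists_lift [IsOpenImmersion C.ιV] {ρ : T ⟶ G.R} {b : T ⟶ C.U₁}
    {h : ρ ≫ G.s = b ≫ C.g₁} (hV : C.InV ρ b h) : ∃ x : T ⟶ C.V, x ≫ C.r = ρ ∧ x ≫ C.π = b := by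
  have hV' : Set.range ⇑(C.ptR₁ ρ b h) ⊆ Set.range ⇑C.ιV := hV
  refine ⟨IsOpenImmersion.lift C.ιV (C.ptR₁ ρ b h) hV', ?_, ?_⟩
  · rw [← C.ιV_fst, IsOpenImmersion.lift_fac_assoc]
    exact pullback.lift_fst _ _ _
  · rw [← C.ιV_snd, IsOpenImmersion.lift_fac_assoc]
    exact pullback.lift_snd _ _ _

theorem comp_ptR₁ {T' : Scheme.{u}} (y : T' ⟶ T) (ρ : T ⟶ G.R) (b : T ⟶ C.U₁)
    (h : ρ ≫ G.s = b ≫ C.g₁) :
    y ≫ C.ptR₁ ρ b h = C.ptR₁ (y ≫ ρ) (y ≫ b) (by rw [Category.assoc, h, Category.assoc]) := by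
  unfold ptR₁
  apply pullback.hom_ext
  · rw [Category.assoc, pullback.lift_fst, pullback.lift_fst]
  · rw [Category.assoc, pullback.lift_snd, pullback.lift_snd]

theorem InV.comp {T' : Scheme.{u}} (y : T' ⟶ T) {ρ : T ⟶ G.R} {b : T ⟶ C.U₁}
    {h : ρ ≫ G.s = b ≫ C.g₁} (hV : C.InV ρ b h) :
    C.InV (y ≫ ρ) (y ≫ b) (by rw [Category.assoc, h, Category.assoc]) := by
  unfold InV
  rw [← C.comp_ptR₁ y ρ b h]
  rintro _ ⟨t, rfl⟩
  exact hV ⟨y t, by simp⟩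

theorem InV.congr {ρ ρ' : T ⟶ G.R} {b b' : T ⟶ C.U₁} (hρ : ρ = ρ') (hb : b = b')
    {h : ρ ≫ G.s = b ≫ C.g₁} (h' : ρ' ≫ G.s = b' ≫ C.g₁) (hV : C.InV ρ b h) : C.InV ρ' b' h' := by
  subst hρ hb; exact hV

/-- membership in `V` can be checked on points. -/
theorem inV_iff_forall {ρ : T ⟶ G.R} {b : T ⟶ C.U₁} (h : ρ ≫ G.s = b ≫ C.g₁) :
    C.InV ρ b h ↔ ∀ t : T, C.ptR₁ ρ b h t ∈ Set.range ⇑C.ιV :=
  Set.range_subset_iff

theorem ιV_mono [IsOpenImmersion C.ιV] {x x' : T ⟶ C.V} (h1 : x ≫ C.r = x' ≫ C.r)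
    (h2 : x ≫ C.π = x' ≫ C.π) : x = x' := by
  rw [← cancel_mono C.ιV]
  apply pullback.hom_ext
  · simpa using h1
  · simpa using h2

end points

/-- the universal property of `(U₂, p, lam)` among affine test schemes. -/
def Univ : Prop :=
  ∀ (T : Scheme.{u}) [IsAffine T] (a : T ⟶ C.U₁) (μ : pullback C.π a ⟶ C.U₁),
    μ ≫ C.g₁ = pullback.fst C.π a ≫ C.r ≫ G.t →
    ∃! b : T ⟶ C.U₂, b ≫ C.p = a ∧ ∀ x : pullback C.π a ⟶ C.V₂,
      x ≫ C.v = pullback.fst C.π a → x ≫ C.q = pullback.snd C.π a ≫ b → x ≫ C.lam = μ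

theorem Univ.uniq (hU : C.Univ) {T : Scheme.{u}} [IsAffine T] (b b' : T ⟶ C.U₂)
    (hp : b ≫ C.p = b' ≫ C.p)
    (H : ∀ (T' : Scheme.{u}) (y : T' ⟶ T) (x : T' ⟶ C.V) (h : x ≫ C.π = (y ≫ b) ≫ C.p)
      (h' : x ≫ C.π = (y ≫ b') ≫ C.p), C.lamAt x (y ≫ b) h = C.lamAt x (y ≫ b') h') :
    b = b' := by
  have hc : pullback.fst C.π (b ≫ C.p) ≫ C.π = (pullback.snd C.π (b ≫ C.p) ≫ b) ≫ C.p := by
    rw [Category.assoc, pullback.condition]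
  obtain ⟨b₀, -, hb₀⟩ := hU T (b ≫ C.p) (C.lamAt (pullback.fst _ _) (pullback.snd _ _ ≫ b) hc)
    (by rw [C.lamAt_g₁])
  have e1 : b = b₀ := by
    apply hb₀
    refine ⟨rfl, fun x hx1 hx2 => ?_⟩
    rw [C.lam_eq]
    exact C.lamAt_congr hx1 hx2 _ _
  have e2 : b' = b₀ := by
    apply hb₀
    refine ⟨hp.symm, fun x hx1 hx2 => ?_⟩
    rw [C.lam_eq]
    refine (C.lamAt_congr hx1 hx2 _ (by
      rw [Category.assoc, ← hp, pullback.condition])).trans ?_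
    exact (H _ (pullback.snd _ _) (pullback.fst _ _) (by rw [Category.assoc, pullback.condition])
      (by rw [Category.assoc, ← hp, pullback.condition])).symm
  rw [e1, e2]

theorem Univ.exists (hU : C.Univ) {T : Scheme.{u}} [IsAffine T] (a : T ⟶ C.U₁)
    (μ : pullback C.π a ⟶ C.U₁) (hμ : μ ≫ C.g₁ = pullback.fst C.π a ≫ C.r ≫ G.t) :
    ∃ b : T ⟶ C.U₂, b ≫ C.p = a ∧
      ∀ (T' : Scheme.{u}) (y : T' ⟶ T) (x : T' ⟶ C.V) (h : x ≫ C.π = y ≫ a)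
        (h' : x ≫ C.π = (y ≫ b) ≫ C.p), C.lamAt x (y ≫ b) h' = pullback.lift x y h ≫ μ := by
  obtain ⟨b, ⟨hb1, hb2⟩, -⟩ := hU T a μ hμ
  refine ⟨b, hb1, fun T' y x h h' => ?_⟩
  have hc : pullback.fst C.π a ≫ C.π = (pullback.snd C.π a ≫ b) ≫ C.p := by
    rw [Category.assoc, hb1, pullback.condition]
  have := hb2 (pullback.lift (pullback.fst _ _) (pullback.snd _ _ ≫ b) hc)
    (pullback.lift_fst _ _ _) (pullback.lift_snd _ _ _)
  rw [← this, ← Category.assoc]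
  unfold lamAt
  congr 1
  apply pullback.hom_ext
  · rw [pullback.lift_fst, Category.assoc, pullback.lift_fst, pullback.lift_fst]
  · rw [pullback.lift_snd, Category.assoc, pullback.lift_snd, pullback.lift_snd_assoc]

end Chart

end Groth.Agent.H50.GLoc
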