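import Groth.Agent.H50.GLocPoint

/-!
# Etale localization of groupoids: field valued points over a point with one-point fibre (helper50)
-/

set_option autoImplicit false
set_option linter.style.haveILetI false
universe u
open CategoryTheory CategoryTheory.Limits AlgebraicGeometry

namespace Groth.Agent.H50.GLoc

open Groth.Agent.H90

/-- if `f ≫ g = 𝟙`, the residue field map of `g` at `f x` is an isomorphism. -/
theorem isIso_residueFieldMap_of_section {X Y : Scheme.{u}} (f : X ⟶ Y) (g : Y ⟶ X)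
    (h : f ≫ g = 𝟙 X) (x : ↥X) : IsIso (g.residueFieldMap (f x)) := by
  have h1 : ∀ k : X ⟶ X, k = 𝟙 X → IsIso (k.residueFieldMap x) := by
    rintro k rfl
    rw [Scheme.residueFieldMap_id]
    exact IsIso.id _
  have h2 := h1 _ h
  rw [Scheme.residueFieldMap_comp] at h2
  set A := g.residueFieldMap (f x) with hA
  set B := f.residueFieldMap x with hB
  have hbij := (ConcreteCategory.isIso_iff_bijective (A ≫ B)).mp h2
  have hBinj : Function.Injective B.hom := B.hom.injective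
  rw [ConcreteCategory.isIso_iff_bijective]
  refine ⟨A.hom.injective, ?_⟩
  intro t
  obtain ⟨t₀, ht₀⟩ := hbij.2 (B.hom t)
  refine ⟨t₀, hBinj ?_⟩
  exact ht₀

theorem isIso_residueFieldMap_congr {X Y : Scheme.{u}} (f : X ⟶ Y) {x x' : ↥X} (e : x = x')
    (h : IsIso (f.residueFieldMap x')) : IsIso (f.residueFieldMap x) := by
  subst e; exact h

/-- two field valued points through the same point `v` with the same image are equal if the
residue field extension at `v` is trivial. -/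
theorem eq_of_comp_eq_of_apply {V U₁ : Scheme.{u}} (π : V ⟶ U₁) (v : ↥V)
    (hv : IsIso (π.residueFieldMap v)) {L : Type u} [Field L] (x x' : Spec (.of L) ⟶ V)
    (hx : ∀ t, x t = v) (hx' : ∀ t, x' t = v) (h : x ≫ π = x' ≫ π) : x = x' := by
  obtain ⟨⟨v₁, φ⟩, rfl⟩ := (Scheme.SpecToEquivOfField L V).symm.surjective x
  obtain ⟨⟨v₂, φ'⟩, rfl⟩ := (Scheme.SpecToEquivOfField L V).symm.surjective x'
  simp only [Scheme.SpecToEquivOfField_symm_apply] at hx hx' h ⊢
  have t : ↥(Spec (.of L)) := IsLocalRing.closedPoint L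
  have e1 : v₁ = v := by
    have := hx t
    rwa [Scheme.Hom.comp_apply, Scheme.fromSpecResidueField_apply] at this
  subst e1
  have e2 : v₂ = v₁ := by
    have := hx' t
    rwa [Scheme.Hom.comp_apply, Scheme.fromSpecResidueField_apply] at this
  subst e2
  rw [Category.assoc, Category.assoc,
    ← Scheme.Hom.SpecMap_residueFieldMap_fromSpecResidueField, ← Category.assoc,
    ← Category.assoc, cancel_mono, ← Spec.map_comp, ← Spec.map_comp, Spec.map_inj,
    cancel_epi] at h
  rw [h]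


variable {S : Scheme.{u}} {G : Grpd.GroupoidScheme S}

namespace Chart

variable {C : Chart G}

theorem inV_congr {T : Scheme.{u}} {ρ ρ' : T ⟶ G.R} {b b' : T ⟶ C.U₁} (hρ : ρ = ρ') (hb : b = b')
    (h : ρ ≫ G.s = b ≫ C.g₁) (h' : ρ' ≫ G.s = b' ≫ C.g₁) (hV : C.InV ρ b h) : C.InV ρ' b' h' := by
  subst hρ hb; exact hV

/-- a point of `U₂` over a point `u₁` with one-point fibre in `V`, at which the lift is normalized,
is good. -/
theorem mem_good_of_point (u₁ : ↥C.U₁) (hfib : ∀ v : ↥C.V, C.π v = u₁ → v = C.eV u₁)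
    (u₂ : ↥C.U₂) (hu₂ : C.p u₂ = u₁)
    (hw : (C.U₂.fromSpecResidueField u₂ ≫ C.p ≫ C.eV) ≫ C.π = C.U₂.fromSpecResidueField u₂ ≫ C.p)
    (hnorm : pullback.lift (C.U₂.fromSpecResidueField u₂ ≫ C.p ≫ C.eV)
      (C.U₂.fromSpecResidueField u₂) hw ≫ C.lam = C.U₂.fromSpecResidueField u₂ ≫ C.p) :
    u₂ ∈ C.Good := by
  apply mem_good_of_forall
  intro L _ a ha
  obtain ⟨⟨z, ψ⟩, rfl⟩ := (Scheme.SpecToEquivOfField L C.U₂).symm.surjective a
  simp only [Scheme.SpecToEquivOfField_symm_apply] at ha ⊢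
  have t₀ : ↥(Spec (.of L)) := IsLocalRing.closedPoint L
  have ez : z = u₂ := by
    have := ha t₀
    rwa [Scheme.Hom.comp_apply, Scheme.fromSpecResidueField_apply] at this
  subst ez
  set ξ := C.U₂.fromSpecResidueField z with hξ
  set y := Spec.map ψ with hy
  set b := (y ≫ ξ) ≫ C.p with hb
  have hbt : ∀ t, b t = u₁ := fun t => by
    rw [hb, Scheme.Hom.comp_apply, ha, hu₂]
  have hiso : IsIso (C.π.residueFieldMap (C.eV u₁)) :=
    isIso_residueFieldMap_of_section C.eV C.π C.eV_π u₁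
  have key : ∀ x : Spec (.of L) ⟶ C.V, x ≫ C.π = b → x = b ≫ C.eV := by
    intro x hx
    refine eq_of_comp_eq_of_apply C.π (C.eV u₁) hiso x (b ≫ C.eV) (fun t => ?_) (fun t => ?_) ?_
    · apply hfib
      rw [← Scheme.Hom.comp_apply, hx, hbt]
    · rw [Scheme.Hom.comp_apply, hbt]
    · rw [hx, Category.assoc, C.eV_π, Category.comp_id]
  have hC : C.CondC (y ≫ ξ) := by
    intro h'
    have h1 : C.lamAt (ξ ≫ C.p ≫ C.eV) ξ hw = ξ ≫ C.p := hnorm
    have h2 := C.comp_lamAt y (ξ ≫ C.p ≫ C.eV) ξ hw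
    rw [h1] at h2
    exact (C.lamAt_congr (by simp only [Category.assoc]) rfl h' _).trans
      (h2.symm.trans (Category.assoc _ _ _).symm)
  have hlam : ∀ (xg : Spec (.of L) ⟶ C.V) (hg : xg ≫ C.π = (y ≫ ξ) ≫ C.p),
      C.lamAt xg (y ≫ ξ) hg = b := by
    intro xg hg
    have e1 : xg = b ≫ C.eV := key xg hg
    have h' : ((y ≫ ξ) ≫ C.p ≫ C.eV) ≫ C.π = (y ≫ ξ) ≫ C.p := by
      simp only [Category.assoc, C.eV_π, Category.comp_id]
    refine (C.lamAt_congr ?_ rfl hg h').trans (hC h')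
    rw [e1, hb]
    simp only [Category.assoc]
  have hbr : (b ≫ C.eV) ≫ C.r = b ≫ C.g₁ ≫ G.e := by
    rw [Category.assoc, C.eV_r]
  have hbπ : (b ≫ C.eV) ≫ C.π = b := by
    rw [Category.assoc, C.eV_π, Category.comp_id]
  refine ⟨?_, ?_, hC⟩
  · -- (a)
    intro xh xg hg hh H1 H2
    have e2 := hlam xg hg
    have e1 : xg = b ≫ C.eV := key xg hg
    have e3 : xh = b ≫ C.eV := key xh (hh.trans e2)
    refine C.inV_of_lift H2 (b ≫ C.eV) ?_ hbπ
    symm
    have : gcomp G (xh ≫ C.r) (xg ≫ C.r) H1 = xh ≫ C.r := by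
      apply gcomp_e
      rw [e1, e3, hbr]
      simp only [Category.assoc]
      rw [← Category.assoc G.e, G.e_s, Category.id_comp]
    rw [this, e3]
  · -- (b)
    intro xk xg hk hg H1 H2
    have e2 := hlam xg hg
    have e1 : xg = b ≫ C.eV := key xg hg
    have e3 : xk = b ≫ C.eV := key xk hk
    have H2' : gcomp G (xk ≫ C.r) (xg ≫ C.r ≫ G.i) H1 ≫ G.s = b ≫ C.g₁ := by
      rw [H2, e2]
    have : C.InV (gcomp G (xk ≫ C.r) (xg ≫ C.r ≫ G.i) H1) b H2' := by
      refine C.inV_of_lift H2' (b ≫ C.eV) ?_ hbπ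
      symm
      have : gcomp G (xk ≫ C.r) (xg ≫ C.r ≫ G.i) H1 = (xk ≫ C.r) ≫ G.t ≫ G.e := by
        apply gcomp_i
        rw [e1, e3]
        simp only [Category.assoc]
      rw [this, e3, hbr]
      simp only [Category.assoc]
      rw [← Category.assoc G.e, G.e_t, Category.id_comp]
    exact inV_congr rfl e2.symm H2' H2 this

end Chart

end Groth.Agent.H50.GLoc
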