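import Groth.Agent.H50.GLocField
import Groth.Prelude.Def_Dual3

/-!
# Etale localization of groupoids: assembly of the quasi-split theorem (helper50)

The theorem `main_of` derives the quasi-split etale localization theorem from two inputs:
`R1Hyp` (scheme level Weil restriction with a normalized point) and `R2Hyp` (the first chart).
-/

set_option autoImplicit false
set_option linter.style.haveILetI false
universe u
open CategoryTheory CategoryTheory.Limits AlgebraicGeometry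

namespace Groth.Agent.H50.GLoc

open Groth.Agent.H90

/-- scheme level Weil restriction with the point clause. -/
def R1Hyp : Prop :=
  ∀ {U U₁ V : Scheme.{u}} [IsAffine U] [IsAffine U₁] [IsAffine V] (g₁ : U₁ ⟶ U) [Etale g₁]
    (π : V ⟶ U₁) [IsFinite π]
    (_ : letI := π.appTop.hom.toAlgebra; Module.Free Γ(U₁, ⊤) Γ(V, ⊤)) (τ : V ⟶ U),
    ∃ (U₂ : Scheme.{u}) (p : U₂ ⟶ U₁) (lam : pullback π p ⟶ U₁), IsAffine U₂ ∧ Etale p ∧
      lam ≫ g₁ = pullback.fst π p ≫ τ ∧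
      (∀ (T : Scheme.{u}) [IsAffine T] (a : T ⟶ U₁) (μ : pullback π a ⟶ U₁),
        μ ≫ g₁ = pullback.fst π a ≫ τ → ∃! b : T ⟶ U₂, b ≫ p = a ∧
          ∀ x : pullback π a ⟶ pullback π p, x ≫ pullback.fst π p = pullback.fst π a →
            x ≫ pullback.snd π p = pullback.snd π a ≫ b → x ≫ lam = μ) ∧
      ∀ (eV : U₁ ⟶ V) (_ : eV ≫ π = 𝟙 U₁) (_ : eV ≫ τ = g₁) (u₁ : ↥U₁)
        (_ : ∀ v : ↥V, π v = u₁ → v = eV u₁),
        ∃ (u₂ : ↥U₂) (hw : (U₂.fromSpecResidueField u₂ ≫ p ≫ eV) ≫ π =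
            U₂.fromSpecResidueField u₂ ≫ p),
          p u₂ = u₁ ∧ IsIso (p.residueFieldMap u₂) ∧
          pullback.lift (U₂.fromSpecResidueField u₂ ≫ p ≫ eV) (U₂.fromSpecResidueField u₂) hw ≫
            lam = U₂.fromSpecResidueField u₂ ≫ p

/-- the first chart. -/
def R2Hyp : Prop :=
  ∀ (S : Scheme.{u}) (G : Grpd.GroupoidScheme S) [IsAffine G.U] [IsSeparated G.s] [Flat G.s]
    [LocallyOfFinitePresentation G.s] (u : ↥G.U) (_ : Dual3.QuasiFiniteAt G.s (G.e u)),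
    ∃ (U₁ V : Scheme.{u}) (g₁ : U₁ ⟶ G.U) (r : V ⟶ G.R) (π : V ⟶ U₁) (eV : U₁ ⟶ V) (u₁ : ↥U₁)
      (w : r ≫ G.s = π ≫ g₁), IsAffine U₁ ∧ IsAffine V ∧ Etale g₁ ∧ g₁ u₁ = u ∧
      IsIso (g₁.residueFieldMap u₁) ∧ eV ≫ r = g₁ ≫ G.e ∧ eV ≫ π = 𝟙 U₁ ∧
      IsOpenImmersion (pullback.lift r π w) ∧ IsClosed (Set.range ⇑(pullback.lift r π w)) ∧
      IsFinite π ∧ Flat π ∧ LocallyOfFinitePresentation π ∧
      (letI := π.appTop.hom.toAlgebra; Module.Free Γ(U₁, ⊤) Γ(V, ⊤)) ∧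
      ∀ v : ↥V, π v = u₁ → v = eV u₁

/-- **Etale localization, quasi-split case**, from the two inputs. -/
theorem main_of (R1 : R1Hyp.{u}) (R2 : R2Hyp.{u}) (S : Scheme.{u}) (G : Grpd.GroupoidScheme S)
    [IsAffine G.U] [IsSeparated G.s] [Flat G.s] [LocallyOfFinitePresentation G.s]
    (u : ↥G.U) (hqf : Dual3.QuasiFiniteAt G.s (G.e u)) :
    ∃ (G' : Grpd.GroupoidScheme S) (φ : Grpd.GroupoidScheme.Hom G' G) (u' : ↥G'.U),
      IsAffine G'.U ∧ Etale φ.fU ∧ φ.fU u' = u ∧ IsIso (φ.fU.residueFieldMap u') ∧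
      IsPullback φ.fR G'.j G.j
        (pullback.map G'.pU G'.pU G.pU G.pU φ.fU φ.fU (𝟙 S)
          ((Category.comp_id _).trans φ.fU_over.symm) ((Category.comp_id _).trans φ.fU_over.symm)) ∧
      ∃ (P : Scheme.{u}) (ιP : P ⟶ G'.R), IsOpenImmersion ιP ∧
        (∃ eP : G'.U ⟶ P, eP ≫ ιP = G'.e) ∧ (∃ iP : P ⟶ P, iP ≫ ιP = ιP ≫ G'.i) ∧
        (∃ cP : pullback (ιP ≫ G'.s) (ιP ≫ G'.t) ⟶ P,
          cP ≫ ιP = pullback.map (ιP ≫ G'.s) (ιP ≫ G'.t) G'.s G'.t ιP ιP (𝟙 G'.U)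
            (Category.comp_id _) (Category.comp_id _) ≫ G'.c) ∧
        IsFinite (ιP ≫ G'.s) ∧ IsFinite (ιP ≫ G'.t) := by
  obtain ⟨U₁, V, g₁, r, π, eV, u₁, w, hU₁, hV, hg₁, hgu, hres₁, heVr, heVπ, hopen, hclosed, hfin,
    hflat, hlfp, hfree, hfib⟩ := R2 S G u hqf
  have heτ : eV ≫ r ≫ G.t = g₁ := by
    rw [← Category.assoc, heVr, Category.assoc, G.e_t, Category.comp_id]
  obtain ⟨U₂, p, lam, hU₂, hp, hlam, huniv, hpoint⟩ := R1 g₁ π hfree (r ≫ G.t)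
  obtain ⟨u₂, hw, hpu, hres₂, hnorm⟩ := hpoint eV heVπ heτ u₁ hfib
  let C : Chart G :=
    { U₁ := U₁, V := V, g₁ := g₁, r := r, π := π, w := w, eV := eV, eV_r := heVr, eV_π := heVπ,
      U₂ := U₂, p := p, lam := lam, hlam := hlam }
  have h : C.Hyp :=
    { open_ιV := hopen
      closed_ιV := hclosed
      fin_π := hfin
      flat_π := hflat
      lfp_π := hlfp
      etale_g₁ := hg₁
      sep_g₁ := inferInstanceAs (IsSeparated g₁)
      univ := huniv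
      aff_U₂ := hU₂ }
  have hgood : u₂ ∈ C.Good := Chart.mem_good_of_point (C := C) u₁ hfib u₂ hpu hw hnorm
  obtain ⟨u₃, hu₃⟩ : ∃ u₃ : ↥(Chart.U₃ h), Chart.ι₃ h u₃ = u₂ := by
    have : u₂ ∈ Set.range ⇑(Chart.ι₃ h) := by rw [Chart.range_ι₃]; exact hgood
    exact this
  refine Chart.Hyp.main h hp u u₃ ?_ ?_
  · change ((Chart.ι₃ h ≫ p) ≫ g₁) u₃ = u
    rw [Scheme.Hom.comp_apply, Scheme.Hom.comp_apply, hu₃, hpu, hgu]
  · change IsIso (((Chart.ι₃ h ≫ p) ≫ g₁).residueFieldMap u₃)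
    rw [Scheme.residueFieldMap_comp, Scheme.residueFieldMap_comp]
    have i1 : IsIso (p.residueFieldMap (Chart.ι₃ h u₃)) :=
      isIso_residueFieldMap_congr p hu₃ hres₂
    have i2 : IsIso (g₁.residueFieldMap ((Chart.ι₃ h ≫ p) u₃)) :=
      isIso_residueFieldMap_congr g₁ (by rw [Scheme.Hom.comp_apply, hu₃, hpu]) hres₁
    have i3 : IsIso ((Chart.ι₃ h).residueFieldMap u₃) := inferInstance
    have i4 := @IsIso.comp_isIso _ _ _ _ _ _ _ i1 i3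
    exact @IsIso.comp_isIso _ _ _ _ _ _ _ i2 i4

end Groth.Agent.H50.GLoc
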