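import Groth.Agent.H50.GLocChart

/-!
# Etale localization of groupoids: the good locus of a chart (helper50)
-/

set_option autoImplicit false
set_option linter.style.haveILetI false
universe u
open CategoryTheory CategoryTheory.Limits AlgebraicGeometry

namespace Groth.Agent.H50.GLoc

open Groth.Agent.H90

variable {S : Scheme.{u}} {G : Grpd.GroupoidScheme S}

namespace Chart

variable (C : Chart G)

/-- the hypotheses on a chart. -/
structure Hyp : Prop where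
  open_ιV : IsOpenImmersion C.ιV
  closed_ιV : IsClosed (Set.range ⇑C.ιV)
  fin_π : IsFinite C.π
  flat_π : Flat C.π
  lfp_π : LocallyOfFinitePresentation C.π
  etale_g₁ : Etale C.g₁
  sep_g₁ : IsSeparated C.g₁
  univ : C.Univ
  aff_U₂ : IsAffine C.U₂

/-! ### condition (a): `V_{lam g} ∘ g ⊆ V_a` -/

/-- pairs `(h, (g, a))` with `h ∈ V_{lam(g, a)}`. -/
noncomputable abbrev Ya : Scheme.{u} := pullback C.π C.lam

theorem Ya_h1 : (pullback.fst C.π C.lam ≫ C.r) ≫ G.s =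
    (pullback.snd C.π C.lam ≫ C.v ≫ C.r) ≫ G.t := by
  rw [Category.assoc, C.w, pullback.condition_assoc, C.hlam]
  simp only [Category.assoc]

theorem Ya_h2 : gcomp G (pullback.fst C.π C.lam ≫ C.r) (pullback.snd C.π C.lam ≫ C.v ≫ C.r)
    C.Ya_h1 ≫ G.s = (pullback.snd C.π C.lam ≫ C.q ≫ C.p) ≫ C.g₁ := by
  rw [gcomp_s]
  simp only [Category.assoc]
  rw [C.w, pullback.condition_assoc]

/-- `(h, (g, a)) ↦ (h ∘ g, p a)`. -/
noncomputable def βa : C.Ya ⟶ C.R₁ :=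
  C.ptR₁ (gcomp G (pullback.fst C.π C.lam ≫ C.r) (pullback.snd C.π C.lam ≫ C.v ≫ C.r) C.Ya_h1)
    (pullback.snd C.π C.lam ≫ C.q ≫ C.p) C.Ya_h2

noncomputable def toU₂a : C.Ya ⟶ C.U₂ := pullback.snd C.π C.lam ≫ C.q

theorem βa_fst : C.βa ≫ pullback.fst G.s C.g₁ =
    gcomp G (pullback.fst C.π C.lam ≫ C.r) (pullback.snd C.π C.lam ≫ C.v ≫ C.r) C.Ya_h1 :=
  pullback.lift_fst _ _ _

theorem βa_snd : C.βa ≫ pullback.snd G.s C.g₁ = pullback.snd C.π C.lam ≫ C.q ≫ C.p :=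
  pullback.lift_snd _ _ _

/-- the locus where (a) fails. -/
def BadA : Set C.U₂ := ⇑C.toU₂a '' (⇑C.βa ⁻¹' (Set.range ⇑C.ιV)ᶜ)

/-! ### condition (b): `V_a ∘ g⁻¹ ⊆ V_{lam g}` -/

noncomputable abbrev Yb : Scheme.{u} := pullback C.q C.q

theorem Yb_h1 : (pullback.fst C.q C.q ≫ C.v ≫ C.r) ≫ G.s =
    (pullback.snd C.q C.q ≫ C.v ≫ C.r ≫ G.i) ≫ G.t := by
  simp only [Category.assoc, G.i_t]
  rw [C.w, pullback.condition_assoc (f := C.π), pullback.condition_assoc (f := C.q),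
    ← pullback.condition_assoc (f := C.π), ← C.w]

theorem Yb_h2 : gcomp G (pullback.fst C.q C.q ≫ C.v ≫ C.r) (pullback.snd C.q C.q ≫ C.v ≫ C.r ≫ G.i)
    C.Yb_h1 ≫ G.s = (pullback.snd C.q C.q ≫ C.lam) ≫ C.g₁ := by
  rw [gcomp_s]
  simp only [Category.assoc, G.i_s, C.hlam]

/-- `((k, a), (g, a)) ↦ (k ∘ g⁻¹, lam (g, a))`. -/
noncomputable def γb : C.Yb ⟶ C.R₁ :=
  C.ptR₁ (gcomp G (pullback.fst C.q C.q ≫ C.v ≫ C.r) (pullback.snd C.q C.q ≫ C.v ≫ C.r ≫ G.i)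
    C.Yb_h1) (pullback.snd C.q C.q ≫ C.lam) C.Yb_h2

noncomputable def toU₂b : C.Yb ⟶ C.U₂ := pullback.fst C.q C.q ≫ C.q

theorem γb_fst : C.γb ≫ pullback.fst G.s C.g₁ =
    gcomp G (pullback.fst C.q C.q ≫ C.v ≫ C.r) (pullback.snd C.q C.q ≫ C.v ≫ C.r ≫ G.i) C.Yb_h1 :=
  pullback.lift_fst _ _ _

theorem γb_snd : C.γb ≫ pullback.snd G.s C.g₁ = pullback.snd C.q C.q ≫ C.lam :=
  pullback.lift_snd _ _ _

/-- the locus where (b) fails. -/
def BadB : Set C.U₂ := ⇑C.toU₂b '' (⇑C.γb ⁻¹' (Set.range ⇑C.ιV)ᶜ)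

/-! ### condition (c): `lam (e, a) = p a` -/

/-- the identity section `U₂ ⟶ V₂`. -/
noncomputable def ε : C.U₂ ⟶ C.V₂ :=
  pullback.lift (C.p ≫ C.eV) (𝟙 C.U₂) (by rw [Category.assoc, C.eV_π, Category.comp_id,
    Category.id_comp])

theorem ε_lam_g₁ : (C.ε ≫ C.lam) ≫ C.g₁ = C.p ≫ C.g₁ := by
  rw [Category.assoc, C.hlam]
  unfold ε
  rw [pullback.lift_fst_assoc, Category.assoc, reassoc_of% C.eV_r, G.e_t, Category.comp_id]

noncomputable def δc : C.U₂ ⟶ pullback C.g₁ C.g₁ := pullback.lift (C.ε ≫ C.lam) C.p C.ε_lam_g₁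

/-- the locus where (c) fails. -/
def BadC : Set C.U₂ := ⇑C.δc ⁻¹' (Set.range ⇑(pullback.diagonal C.g₁))ᶜ

/-- the good locus. -/
def Good : Set C.U₂ := (C.BadA ∪ C.BadB ∪ C.BadC)ᶜ

variable {C}

theorem isClopen_image_of_finite_flat {X Y : Scheme.{u}} (f : X ⟶ Y) [IsFinite f] [Flat f]
    [LocallyOfFinitePresentation f] {Z : Set X} (hZ : IsClopen Z) : IsClopen (⇑f '' Z) :=
  ⟨f.isClosedMap _ hZ.1, isOpenMap_of_generalizingMap f (Flat.generalizingMap f) _ hZ.2⟩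

theorem Hyp.isClopen_range_ιV (h : C.Hyp) : IsClopen (Set.range ⇑C.ιV) :=
  haveI := h.open_ιV
  ⟨h.closed_ιV, C.ιV.isOpenEmbedding.isOpen_range⟩

theorem Hyp.isClopen_badA (h : C.Hyp) : IsClopen C.BadA := by
  haveI := h.fin_π; haveI := h.flat_π; haveI := h.lfp_π
  haveI : IsFinite C.toU₂a := by unfold toU₂a; infer_instance
  haveI : Flat C.toU₂a := by unfold toU₂a; infer_instance
  haveI : LocallyOfFinitePresentation C.toU₂a := by unfold toU₂a; infer_instance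
  exact isClopen_image_of_finite_flat _ (h.isClopen_range_ιV.compl.preimage C.βa.continuous)

theorem Hyp.isClopen_badB (h : C.Hyp) : IsClopen C.BadB := by
  haveI := h.fin_π; haveI := h.flat_π; haveI := h.lfp_π
  haveI : IsFinite C.toU₂b := by unfold toU₂b; infer_instance
  haveI : Flat C.toU₂b := by unfold toU₂b; infer_instance
  haveI : LocallyOfFinitePresentation C.toU₂b := by unfold toU₂b; infer_instance
  exact isClopen_image_of_finite_flat _ (h.isClopen_range_ιV.compl.preimage C.γb.continuous)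

theorem Hyp.isClopen_badC (h : C.Hyp) : IsClopen C.BadC := by
  haveI := h.etale_g₁; haveI := h.sep_g₁
  have : IsClopen (Set.range ⇑(pullback.diagonal C.g₁)) :=
    ⟨(pullback.diagonal C.g₁).isClosedEmbedding.isClosed_range,
      (pullback.diagonal C.g₁).isOpenEmbedding.isOpen_range⟩
  exact this.compl.preimage C.δc.continuous

theorem Hyp.isClopen_good (h : C.Hyp) : IsClopen C.Good :=
  ((h.isClopen_badA.union h.isClopen_badB).union h.isClopen_badC).compl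

/-! ### `T`-points of the good locus -/

variable (C) in
/-- the `T`-point `a` of `U₂` lies in the good locus. -/
def InGood {T : Scheme.{u}} (a : T ⟶ C.U₂) : Prop := ∀ t : T, a t ∈ C.Good

variable {T : Scheme.{u}}

theorem InGood.comp {a : T ⟶ C.U₂} (ha : C.InGood a) {T' : Scheme.{u}} (y : T' ⟶ T) :
    C.InGood (y ≫ a) := fun t => by
  simpa using ha (y t)

theorem InGood.ga {a : T ⟶ C.U₂} (ha : C.InGood a) (xh xg : T ⟶ C.V)
    (hg : xg ≫ C.π = a ≫ C.p) (hh : xh ≫ C.π = C.lamAt xg a hg)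
    (H1 : (xh ≫ C.r) ≫ G.s = (xg ≫ C.r) ≫ G.t)
    (H2 : gcomp G (xh ≫ C.r) (xg ≫ C.r) H1 ≫ G.s = (a ≫ C.p) ≫ C.g₁) :
    C.InV (gcomp G (xh ≫ C.r) (xg ≫ C.r) H1) (a ≫ C.p) H2 := by
  obtain ⟨ξ, hξ1, hξ2⟩ : ∃ ξ : T ⟶ C.Ya, ξ ≫ pullback.fst C.π C.lam = xh ∧
      ξ ≫ pullback.snd C.π C.lam = pullback.lift xg a hg :=
    ⟨pullback.lift xh (pullback.lift xg a hg) hh, pullback.lift_fst _ _ _, pullback.lift_snd _ _ _⟩
  have hξ : ξ ≫ C.βa = C.ptR₁ (gcomp G (xh ≫ C.r) (xg ≫ C.r) H1) (a ≫ C.p) H2 := by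
    unfold βa
    rw [comp_ptR₁]
    unfold ptR₁
    congr 1
    · rw [comp_gcomp]
      apply gcomp_congr
      · rw [reassoc_of% hξ1]
      · rw [reassoc_of% hξ2, pullback.lift_fst_assoc]
    · rw [reassoc_of% hξ2, pullback.lift_snd_assoc]
  have htoU : ξ ≫ C.toU₂a = a := by
    unfold toU₂a
    rw [reassoc_of% hξ2, pullback.lift_snd]
  rw [inV_iff_forall]
  intro t
  by_contra hn
  have h1 : a t ∈ C.BadA := by
    refine ⟨ξ t, ?_, ?_⟩
    · rw [Set.mem_preimage, ← Scheme.Hom.comp_apply, hξ]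
      exact hn
    · rw [← Scheme.Hom.comp_apply, htoU]
  exact ha t (Or.inl (Or.inl h1))

theorem InGood.gb {a : T ⟶ C.U₂} (ha : C.InGood a) (xk xg : T ⟶ C.V)
    (hk : xk ≫ C.π = a ≫ C.p) (hg : xg ≫ C.π = a ≫ C.p)
    (H1 : (xk ≫ C.r) ≫ G.s = (xg ≫ C.r ≫ G.i) ≫ G.t)
    (H2 : gcomp G (xk ≫ C.r) (xg ≫ C.r ≫ G.i) H1 ≫ G.s = C.lamAt xg a hg ≫ C.g₁) :
    C.InV (gcomp G (xk ≫ C.r) (xg ≫ C.r ≫ G.i) H1) (C.lamAt xg a hg) H2 := by
  obtain ⟨ξ, hξ1, hξ2⟩ : ∃ ξ : T ⟶ C.Yb, ξ ≫ pullback.fst C.q C.q = pullback.lift xk a hk ∧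
      ξ ≫ pullback.snd C.q C.q = pullback.lift xg a hg :=
    ⟨pullback.lift (pullback.lift xk a hk) (pullback.lift xg a hg)
      (by rw [pullback.lift_snd, pullback.lift_snd]), pullback.lift_fst _ _ _,
      pullback.lift_snd _ _ _⟩
  have hξ : ξ ≫ C.γb = C.ptR₁ (gcomp G (xk ≫ C.r) (xg ≫ C.r ≫ G.i) H1) (C.lamAt xg a hg) H2 := by
    unfold γb
    rw [comp_ptR₁]
    unfold ptR₁
    congr 1
    · rw [comp_gcomp]
      apply gcomp_congr
      · rw [reassoc_of% hξ1, pullback.lift_fst_assoc]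
      · rw [reassoc_of% hξ2, pullback.lift_fst_assoc]
    · rw [reassoc_of% hξ2]
      rfl
  have htoU : ξ ≫ C.toU₂b = a := by
    unfold toU₂b
    rw [reassoc_of% hξ1, pullback.lift_snd]
  rw [inV_iff_forall]
  intro t
  by_contra hn
  have h1 : a t ∈ C.BadB := by
    refine ⟨ξ t, ?_, ?_⟩
    · rw [Set.mem_preimage, ← Scheme.Hom.comp_apply, hξ]
      exact hn
    · rw [← Scheme.Hom.comp_apply, htoU]
  exact ha t (Or.inl (Or.inr h1))

theorem InGood.gc (h : C.Hyp) {a : T ⟶ C.U₂} (ha : C.InGood a)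
    (h' : (a ≫ C.p ≫ C.eV) ≫ C.π = a ≫ C.p) :
    C.lamAt (a ≫ C.p ≫ C.eV) a h' = a ≫ C.p := by
  haveI := h.etale_g₁
  have hr : Set.range ⇑(a ≫ C.δc) ⊆ Set.range ⇑(pullback.diagonal C.g₁) := by
    rintro _ ⟨t, rfl⟩
    by_contra hn
    exact ha t (Or.inr (by simpa [BadC] using hn))
  have hfac := IsOpenImmersion.lift_fac (pullback.diagonal C.g₁) (a ≫ C.δc) hr
  have h1 := congrArg (· ≫ pullback.fst C.g₁ C.g₁) hfac
  have h2 := congrArg (· ≫ pullback.snd C.g₁ C.g₁) hfac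
  simp only [Category.assoc, pullback.diagonal_fst, pullback.diagonal_snd, Category.comp_id,
    δc, pullback.lift_fst, pullback.lift_snd] at h1 h2
  rw [← h2, h1]
  unfold lamAt
  have : pullback.lift (a ≫ C.p ≫ C.eV) a h' = a ≫ C.ε := by
    unfold ε
    apply pullback.hom_ext
    · rw [pullback.lift_fst, Category.assoc, pullback.lift_fst]
    · rw [pullback.lift_snd, Category.assoc, pullback.lift_snd, Category.comp_id]
  rw [this, Category.assoc]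

end Chart

end Groth.Agent.H50.GLoc
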