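import Mathlib
import Groth.Prelude.Def_Grpd
import Groth.Agent.H90.GrpdFibre

/-!
# Some identities in a groupoid scheme, on `T`-points (helper50)
-/

set_option autoImplicit false
universe u
open CategoryTheory CategoryTheory.Limits AlgebraicGeometry

namespace Groth.Agent.H50.GLoc

open Groth.Agent.H90

variable {S : Scheme.{u}} (G : Grpd.GroupoidScheme S) {T : Scheme.{u}}

/-- `(X ∘ Γ) ∘ Γ⁻¹ = X`. -/
theorem gcomp_gcomp_i (X Γ : T ⟶ G.R) (h : X ≫ G.s = Γ ≫ G.t)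
    (h' : gcomp G X Γ h ≫ G.s = (Γ ≫ G.i) ≫ G.t) :
    gcomp G (gcomp G X Γ h) (Γ ≫ G.i) h' = X := by
  have h2 : Γ ≫ G.s = (Γ ≫ G.i) ≫ G.t := by rw [Category.assoc, G.i_t]
  refine (gcomp_assoc G X Γ (Γ ≫ G.i) h h2).trans ?_
  have e1 : gcomp G Γ (Γ ≫ G.i) h2 = Γ ≫ G.t ≫ G.e := gcomp_i G Γ _ rfl h2
  refine (gcomp_congr G rfl e1 _ (by rw [h, Category.assoc, Category.assoc, G.e_t,
    Category.comp_id])).trans ?_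
  exact gcomp_e G X _ (by rw [reassoc_of% h]) _

/-- `(X ∘ Γ⁻¹) ∘ Γ = X`. -/
theorem gcomp_i_gcomp (X Γ : T ⟶ G.R) (h : X ≫ G.s = (Γ ≫ G.i) ≫ G.t)
    (h' : gcomp G X (Γ ≫ G.i) h ≫ G.s = Γ ≫ G.t) :
    gcomp G (gcomp G X (Γ ≫ G.i) h) Γ h' = X := by
  have h2 : (Γ ≫ G.i) ≫ G.s = Γ ≫ G.t := by rw [Category.assoc, G.i_s]
  refine (gcomp_assoc G X (Γ ≫ G.i) Γ h h2).trans ?_
  have e1 : gcomp G (Γ ≫ G.i) Γ h2 = Γ ≫ G.s ≫ G.e := i_gcomp G Γ _ rfl h2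
  have hs : X ≫ G.s = Γ ≫ G.s := by rw [h, Category.assoc, G.i_t]
  refine (gcomp_congr G rfl e1 _ (by rw [hs, Category.assoc, Category.assoc, G.e_t,
    Category.comp_id])).trans ?_
  exact gcomp_e G X _ (by rw [reassoc_of% hs]) _

/-- `(H ∘ Γ)⁻¹ = Γ⁻¹ ∘ H⁻¹`. -/
theorem gcomp_inv (H Γ : T ⟶ G.R) (h : H ≫ G.s = Γ ≫ G.t)
    (h' : (Γ ≫ G.i) ≫ G.s = (H ≫ G.i) ≫ G.t) :
    gcomp G H Γ h ≫ G.i = gcomp G (Γ ≫ G.i) (H ≫ G.i) h' := by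
  set Z := gcomp G H Γ h with hZ
  set Y := gcomp G (Γ ≫ G.i) (H ≫ G.i) h' with hY
  have hZs : Z ≫ G.s = Γ ≫ G.s := gcomp_s G H Γ h
  have hZt : Z ≫ G.t = H ≫ G.t := gcomp_t G H Γ h
  have hYt : Y ≫ G.t = Γ ≫ G.s := by rw [hY, gcomp_t, Category.assoc, G.i_t]
  have hYs : Y ≫ G.s = H ≫ G.t := by rw [hY, gcomp_s, Category.assoc, G.i_s]
  have hZY : Z ≫ G.s = Y ≫ G.t := by rw [hZs, hYt]
  -- Z ∘ Y = e
  have key : gcomp G Z Y hZY = Z ≫ G.t ≫ G.e := by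
    have hΓ : Γ ≫ G.s = (Γ ≫ G.i) ≫ G.t := by rw [Category.assoc, G.i_t]
    have a1 : gcomp G Z Y hZY = gcomp G H (gcomp G Γ Y (by rw [hYt])) (by rw [gcomp_t, h]) :=
      gcomp_assoc G H Γ Y h (by rw [hYt])
    have a2 : gcomp G Γ Y (by rw [hYt]) =
        gcomp G (gcomp G Γ (Γ ≫ G.i) hΓ) (H ≫ G.i) (by rw [gcomp_s, h']) :=
      (gcomp_assoc G Γ (Γ ≫ G.i) (H ≫ G.i) hΓ h').symm
    have a3 : gcomp G Γ (Γ ≫ G.i) hΓ = Γ ≫ G.t ≫ G.e := gcomp_i G Γ _ rfl hΓ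
    have a4 : gcomp G (gcomp G Γ (Γ ≫ G.i) hΓ) (H ≫ G.i) (by rw [gcomp_s, h']) = H ≫ G.i := by
      refine (gcomp_congr G a3 rfl _ (by
        rw [Category.assoc, Category.assoc, G.e_s, Category.comp_id, Category.assoc, G.i_t, h])).trans ?_
      exact e_gcomp G (H ≫ G.i) _ (by rw [Category.assoc, reassoc_of% G.i_t, reassoc_of% h]) _
    rw [a1]
    refine (gcomp_congr G rfl (a2.trans a4) _ (by rw [Category.assoc, G.i_t])).trans ?_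
    rw [reassoc_of% hZt]
    exact gcomp_i G H _ rfl _
  -- Z⁻¹ = Z⁻¹ ∘ (Z ∘ Y) = (Z⁻¹ ∘ Z) ∘ Y = Y
  have hi : (Z ≫ G.i) ≫ G.s = Z ≫ G.t := by rw [Category.assoc, G.i_s]
  have b1 : gcomp G (Z ≫ G.i) (gcomp G Z Y hZY) (by rw [gcomp_t, hi]) = Z ≫ G.i := by
    refine (gcomp_congr G rfl key _ (by
      rw [hi, Category.assoc, Category.assoc, G.e_t, Category.comp_id])).trans ?_
    exact gcomp_e G (Z ≫ G.i) _ (by rw [Category.assoc, reassoc_of% G.i_s]) _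
  have b2 : gcomp G (Z ≫ G.i) (gcomp G Z Y hZY) (by rw [gcomp_t, hi]) =
      gcomp G (gcomp G (Z ≫ G.i) Z hi) Y (by rw [gcomp_s, hZY]) :=
    (gcomp_assoc G (Z ≫ G.i) Z Y hi hZY).symm
  have b3 : gcomp G (Z ≫ G.i) Z hi = Z ≫ G.s ≫ G.e := i_gcomp G Z _ rfl hi
  have b4 : gcomp G (gcomp G (Z ≫ G.i) Z hi) Y (by rw [gcomp_s, hZY]) = Y := by
    refine (gcomp_congr G b3 rfl _ (by
      rw [Category.assoc, Category.assoc, G.e_s, Category.comp_id, hZY])).trans ?_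
    exact e_gcomp G Y _ (by rw [reassoc_of% hZY]) _
  rw [← b1, b2, b4]

/-- `(K ∘ Γ) ∘ (H ∘ Γ)⁻¹ = K ∘ H⁻¹`. -/
theorem gcomp_gcomp_inv (K H Γ : T ⟶ G.R) (hK : K ≫ G.s = Γ ≫ G.t) (hH : H ≫ G.s = Γ ≫ G.t)
    (h1 : gcomp G K Γ hK ≫ G.s = (gcomp G H Γ hH ≫ G.i) ≫ G.t)
    (h2 : K ≫ G.s = (H ≫ G.i) ≫ G.t) :
    gcomp G (gcomp G K Γ hK) (gcomp G H Γ hH ≫ G.i) h1 = gcomp G K (H ≫ G.i) h2 := by
  have h' : (Γ ≫ G.i) ≫ G.s = (H ≫ G.i) ≫ G.t := by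
    rw [Category.assoc, G.i_s, Category.assoc, G.i_t, hH]
  have hΓ : gcomp G K Γ hK ≫ G.s = (Γ ≫ G.i) ≫ G.t := by rw [gcomp_s, Category.assoc, G.i_t]
  refine (gcomp_congr G rfl (gcomp_inv G H Γ hH h') _
    (by rw [gcomp_t, hΓ])).trans ?_
  refine (gcomp_assoc G (gcomp G K Γ hK) (Γ ≫ G.i) (H ≫ G.i) hΓ h').symm.trans ?_
  exact gcomp_congr G (gcomp_gcomp_i G K Γ hK hΓ) rfl _ _

end Groth.Agent.H50.GLoc
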