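import Groth.Agent.H50.GLocRestrict

/-!
# The restricted groupoid: unfolding lemmas (helper50)
-/

set_option autoImplicit false
universe u
open CategoryTheory CategoryTheory.Limits AlgebraicGeometry

namespace Groth.Agent.H50.GLoc

open Groth.Agent.H90

variable {S : Scheme.{u}} (G : Grpd.GroupoidScheme S) {U' : Scheme.{u}} (g : U' ⟶ G.U)

theorem restr_e_eq : (restr G g).e =
    (mkR (g ≫ G.e) (𝟙 _) (𝟙 _)
      (by rw [Category.assoc, G.e_t, Category.comp_id, Category.id_comp])
      (by rw [Category.assoc, G.e_s, Category.comp_id, Category.id_comp]) : U' ⟶ RR G g) := rfl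

theorem restr_i_eq : (restr G g).i =
    (mkR (fR G g ≫ G.i) (ss G g) (tt G g) (by rw [Category.assoc, G.i_t, fR_s])
      (by rw [Category.assoc, G.i_s, fR_t]) : RR G g ⟶ RR G g) := rfl

theorem restr_s_eq : (restr G g).s = ss G g := rfl
theorem restr_t_eq : (restr G g).t = tt G g := rfl
theorem restr_c_eq : (restr G g).c = cc G g := rfl

end Groth.Agent.H50.GLoc
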