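import Groth.Agent.H50.GLocGpd
import Groth.Agent.H50.GLocRestrict2

/-!
# More groupoid identities; the restricted groupoid as a base change (helper50)
-/

set_option autoImplicit false
universe u
open CategoryTheory CategoryTheory.Limits AlgebraicGeometry

namespace Groth.Agent.H50.GLoc

open Groth.Agent.H90

variable {S : Scheme.{u}} (G : Grpd.GroupoidScheme S)

/-- `(α⁻¹)⁻¹ = α`. -/
theorem comp_i_i {T : Scheme.{u}} (α : T ⟶ G.R) : (α ≫ G.i) ≫ G.i = α := by
  have h : α ≫ G.s = (α ≫ G.i) ≫ G.t := by rw [Category.assoc, G.i_t]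
  have h' : gcomp G α (α ≫ G.i) h ≫ G.s = ((α ≫ G.i) ≫ G.i) ≫ G.t := by
    rw [gcomp_s, Category.assoc (α ≫ G.i), G.i_t]
  have e1 := gcomp_gcomp_i G α (α ≫ G.i) h h'
  have e2 : gcomp G α (α ≫ G.i) h = α ≫ G.t ≫ G.e := gcomp_i G α _ rfl h
  have h'' : (α ≫ G.t ≫ G.e) ≫ G.s = ((α ≫ G.i) ≫ G.i) ≫ G.t := by
    rw [← e2]; exact h'
  have e3 : gcomp G (α ≫ G.t ≫ G.e) ((α ≫ G.i) ≫ G.i) h'' = (α ≫ G.i) ≫ G.i := by
    apply e_gcomp
    simp only [Category.assoc]
    rw [reassoc_of% G.i_t, reassoc_of% G.i_s]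
  exact e3.symm.trans ((gcomp_congr G e2.symm rfl _ _).trans e1)

theorem i_i : G.i ≫ G.i = 𝟙 G.R := by
  have := comp_i_i G (𝟙 G.R)
  rwa [Category.id_comp] at this

variable {U' : Scheme.{u}} (g : U' ⟶ G.U)

/-- forget the lifted target. -/
noncomputable def ψ : RR G g ⟶ pullback G.s g := pullback.lift (fR G g) (ss G g) (fR_s G g)

@[reassoc (attr := simp)]
theorem ψ_fst : ψ G g ≫ pullback.fst G.s g = fR G g := pullback.lift_fst _ _ _

@[reassoc (attr := simp)]
theorem ψ_snd : ψ G g ≫ pullback.snd G.s g = ss G g := pullback.lift_snd _ _ _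

theorem isPullback_ψ : IsPullback (ψ G g) (tt G g) (pullback.fst G.s g ≫ G.t) g := by
  refine ⟨⟨by rw [ψ_fst_assoc, fR_t]⟩, ⟨PullbackCone.IsLimit.mk _
    (fun c => mkR (c.fst ≫ pullback.fst _ _) c.snd (c.fst ≫ pullback.snd _ _)
      (by rw [Category.assoc]; exact c.condition)
      (by rw [Category.assoc, pullback.condition, Category.assoc])) ?_ ?_ ?_⟩⟩
  · intro c
    apply pullback.hom_ext
    · rw [Category.assoc, ψ_fst, mkR_fR]
    · rw [Category.assoc, ψ_snd, mkR_ss]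
  · intro c
    exact mkR_tt _ _ _ _ _
  · intro c m h1 h2
    apply RR_ext
    · rw [mkR_fR, ← h1, Category.assoc, ψ_fst]
    · rw [mkR_tt, h2]
    · rw [mkR_ss, ← h1, Category.assoc, ψ_snd]

instance etale_ψ [Etale g] : Etale (ψ G g) :=
  MorphismProperty.of_isPullback (P := @Etale) (isPullback_ψ G g).flip inferInstance

end Groth.Agent.H50.GLoc
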