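import Mathlib

/-!
# Lifting through a nilpotent nilradical for formally smooth algebras (helper50)
-/

set_option autoImplicit false
universe u

namespace Groth.Agent.H50.GLoc

/-- Let `E` be a formally smooth `A`-algebra, `B₀` an `A`-algebra with nilpotent nilradical `N`.
Given fields `K_A`, `K_E`, evaluations `evA : A → K_A`, `evE : E → K_E` and a bijection
`ι : K_A → K_E` compatible with `A → E`, and `θ : K_A → B₀ / N` extending `A → B₀ / N`,
there is an `A`-algebra map `ψ : E → B₀` such that every prime of `B₀` contracts to `ker evE`. -/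
theorem exists_algHom_comap_eq_ker {A E B₀ K_A K_E : Type u} [CommRing A] [CommRing E]
    [CommRing B₀] [Algebra A E] [Algebra A B₀] [Algebra.FormallySmooth A E] [Field K_A] [Field K_E]
    (evA : A →+* K_A) (evE : E →+* K_E) (ι : K_A →+* K_E) (hι : Function.Bijective ι)
    (hcomp : ι.comp evA = evE.comp (algebraMap A E))
    (θ : K_A →+* B₀ ⧸ nilradical B₀)
    (hθ : θ.comp evA = (Ideal.Quotient.mk (nilradical B₀)).comp (algebraMap A B₀))
    (hN : IsNilpotent (nilradical B₀)) :
    ∃ ψ : E →ₐ[A] B₀, ∀ q : Ideal B₀, q.IsPrime → q.comap ψ = RingHom.ker evE := by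
  let ιe : K_A ≃+* K_E := RingEquiv.ofBijective ι hι
  let ψ₀ : E →+* B₀ ⧸ nilradical B₀ := θ.comp (ιe.symm.toRingHom.comp evE)
  have hψ₀ : ∀ a : A, ψ₀ (algebraMap A E a) = algebraMap A (B₀ ⧸ nilradical B₀) a := by
    intro a
    have h1 : evE (algebraMap A E a) = ι (evA a) := (RingHom.congr_fun hcomp a).symm
    have h2 : ιe.symm (ι (evA a)) = evA a := ιe.symm_apply_apply (evA a)
    change θ (ιe.symm (evE (algebraMap A E a))) = _
    rw [h1, h2]
    exact RingHom.congr_fun hθ a
  let ψ₁ : E →ₐ[A] B₀ ⧸ nilradical B₀ := { ψ₀ with commutes' := hψ₀ }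
  refine ⟨Algebra.FormallySmooth.lift (nilradical B₀) hN ψ₁, fun q hq => ?_⟩
  have hlift : ∀ x : E, Ideal.Quotient.mk (nilradical B₀) (Algebra.FormallySmooth.lift (nilradical B₀) hN ψ₁ x) = ψ₀ x :=
    fun x => Algebra.FormallySmooth.mk_lift (nilradical B₀) hN ψ₁ x
  have hNq : nilradical B₀ ≤ q := nilradical_le_prime q
  ext x
  simp only [Ideal.mem_comap, RingHom.mem_ker]
  constructor
  · intro hx
    -- `ψ₀ x ∈ q / N`, a proper ideal, and `ψ₀ x` is in the image of a field
    by_contra hne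
    have hunit : IsUnit (ιe.symm (evE x)) := (Ne.isUnit (by
      intro h0
      exact hne (by simpa using congrArg ιe h0)))
    have hunit' : IsUnit (ψ₀ x) := hunit.map θ
    rw [← hlift x] at hunit'
    obtain ⟨y, hy⟩ := hunit'.exists_right_inv
    obtain ⟨y', rfl⟩ := Ideal.Quotient.mk_surjective y
    rw [← map_mul, ← map_one (Ideal.Quotient.mk (nilradical B₀)), Ideal.Quotient.eq] at hy
    have h1 : (Algebra.FormallySmooth.lift (nilradical B₀) hN ψ₁ x) * y' - 1 ∈ q := hNq hy
    have h2 : (Algebra.FormallySmooth.lift (nilradical B₀) hN ψ₁ x) * y' ∈ q := q.mul_mem_right _ hx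
    have h3 : (1 : B₀) ∈ q := by
      have := q.sub_mem h2 h1
      simpa using this
    exact hq.ne_top ((Ideal.eq_top_iff_one q).mpr h3)
  · intro hx
    have h0 : ψ₀ x = 0 := by
      change θ (ιe.symm (evE x)) = 0
      rw [hx, map_zero, map_zero]
    have h1 : Ideal.Quotient.mk (nilradical B₀) (Algebra.FormallySmooth.lift (nilradical B₀) hN ψ₁ x) = 0 := by
      rw [hlift, h0]
    exact hNq (Ideal.Quotient.eq_zero_iff_mem.mp h1)

end Groth.Agent.H50.GLoc
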