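import Groth.Agent.H50.GLocLiftAlg

/-!
# Lifting a morphism from an Artinian-like affine scheme through an etale morphism (helper50)
-/

set_option autoImplicit false
set_option linter.style.haveILetI false
universe u
open CategoryTheory CategoryTheory.Limits AlgebraicGeometry

namespace Groth.Agent.H50.GLoc

/-- `Spec`-level version. -/
theorem exists_lift_Spec {A E B₀ : CommRingCat.{u}} (γ : A ⟶ E) (hγ : Etale (Spec.map γ))
    (σ : A ⟶ B₀) (q₁ : ↥(Spec E)) (hres : IsIso ((Spec.map γ).residueFieldMap q₁))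
    (hpt : ∀ z : ↥(Spec B₀), (Spec.map σ) z = (Spec.map γ) q₁)
    (hN : IsNilpotent (nilradical B₀)) :
    ∃ ψ : E ⟶ B₀, γ ≫ ψ = σ ∧ ∀ z : ↥(Spec B₀), (Spec.map ψ) z = q₁ := by
  letI := γ.hom.toAlgebra
  letI := σ.hom.toAlgebra
  have hγ' : γ.hom.Etale := HasRingHomProperty.Spec_iff.mp hγ
  haveI : Algebra.Etale A E := hγ'
  set p : ↥(Spec A) := (Spec.map γ) q₁ with hp
  haveI : p.asIdeal.IsPrime := p.isPrime
  haveI : q₁.asIdeal.IsPrime := q₁.isPrime
  -- evaluations
  let evA : A ⟶ (Spec A).residueField p := (Scheme.ΓSpecIso A).inv ≫ (Spec A).Γevaluation p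
  let evE : E ⟶ (Spec E).residueField q₁ := (Scheme.ΓSpecIso E).inv ≫ (Spec E).Γevaluation q₁
  let ι : (Spec A).residueField p ⟶ (Spec E).residueField q₁ := (Spec.map γ).residueFieldMap q₁
  have hι : Function.Bijective ι.hom := (ConcreteCategory.isIso_iff_bijective ι).mp hres
  have hcomp : evA ≫ ι = γ ≫ evE := by
    simp only [evA, evE, ι, Category.assoc]
    rw [Scheme.Γevaluation_naturality, Scheme.ΓSpecIso_inv_naturality_assoc]
  have hevA : evA = CommRingCat.ofHom (algebraMap A p.asIdeal.ResidueField) ≫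
      (Scheme.Spec.residueFieldIso A p).inv :=
    (Scheme.Spec.algebraMap_residueFieldIso_inv A p).symm
  have hevE : evE = CommRingCat.ofHom (algebraMap E q₁.asIdeal.ResidueField) ≫
      (Scheme.Spec.residueFieldIso E q₁).inv :=
    (Scheme.Spec.algebraMap_residueFieldIso_inv E q₁).symm
  -- the map on the reduced level
  let σbar : A →+* B₀ ⧸ nilradical B₀ := (Ideal.Quotient.mk (nilradical B₀)).comp σ.hom
  have hσ1 : p.asIdeal ≤ RingHom.ker σbar := by
    intro a ha
    rw [RingHom.mem_ker]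
    change Ideal.Quotient.mk _ (σ.hom a) = 0
    rw [Ideal.Quotient.eq_zero_iff_mem, nilradical_eq_sInf, Ideal.mem_sInf]
    intro q hq
    have hq' : q.IsPrime := hq
    have this' : PrimeSpectrum.comap σ.hom ⟨q, hq'⟩ = p := hpt ⟨q, hq'⟩
    have h2 : a ∈ (PrimeSpectrum.comap σ.hom ⟨q, hq'⟩).asIdeal := by rw [this']; exact ha
    exact h2
  have hσ2 : p.asIdeal.primeCompl ≤ (IsUnit.submonoid (B₀ ⧸ nilradical B₀)).comap σbar := by
    intro a ha
    change IsUnit (Ideal.Quotient.mk _ (σ.hom a))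
    apply IsUnit.map
    by_contra hnu
    obtain ⟨m, hm, ham⟩ := exists_max_ideal_of_mem_nonunits hnu
    have this' : PrimeSpectrum.comap σ.hom ⟨m, hm.isPrime⟩ = p := hpt ⟨m, hm.isPrime⟩
    apply ha
    have h2 : a ∈ (PrimeSpectrum.comap σ.hom ⟨m, hm.isPrime⟩).asIdeal := ham
    rw [this'] at h2
    exact h2
  let θ₀ : p.asIdeal.ResidueField →+* B₀ ⧸ nilradical B₀ :=
    Ideal.ResidueField.lift p.asIdeal σbar hσ1 hσ2
  let θ : ((Spec A).residueField p : Type u) →+* B₀ ⧸ nilradical B₀ :=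
    θ₀.comp (Scheme.Spec.residueFieldIso A p).hom.hom
  have hθ : θ.comp evA.hom = (Ideal.Quotient.mk (nilradical B₀)).comp (algebraMap A B₀) := by
    ext a
    change θ₀ ((Scheme.Spec.residueFieldIso A p).hom.hom (evA.hom a)) = σbar a
    rw [hevA]
    change θ₀ ((Scheme.Spec.residueFieldIso A p).hom.hom
      ((Scheme.Spec.residueFieldIso A p).inv.hom (algebraMap A p.asIdeal.ResidueField a))) = _
    have : (Scheme.Spec.residueFieldIso A p).hom.hom
        ((Scheme.Spec.residueFieldIso A p).inv.hom (algebraMap A p.asIdeal.ResidueField a)) =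
        algebraMap A p.asIdeal.ResidueField a := by
      have := congrArg (fun f => f.hom (algebraMap A p.asIdeal.ResidueField a))
        (Scheme.Spec.residueFieldIso A p).inv_hom_id
      exact this
    rw [this]
    exact Ideal.ResidueField.lift_algebraMap _ _ hσ1 hσ2 a
  obtain ⟨ψ, hψ⟩ := exists_algHom_comap_eq_ker (A := A) (E := E) (B₀ := B₀) evA.hom evE.hom ι.hom hι
    (by
      have := congrArg (fun f => f.hom) hcomp
      exact this) θ hθ hN
  refine ⟨CommRingCat.ofHom ψ.toRingHom, ?_, fun z => ?_⟩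
  · ext a
    exact ψ.commutes a
  · change PrimeSpectrum.comap (CommRingCat.ofHom ψ.toRingHom).hom z = q₁
    apply PrimeSpectrum.ext
    change z.asIdeal.comap ψ.toRingHom = q₁.asIdeal
    have := hψ z.asIdeal z.isPrime
    refine this.trans ?_
    rw [hevE]
    ext x
    simp only [RingHom.mem_ker]
    change (Scheme.Spec.residueFieldIso E q₁).inv.hom (algebraMap E q₁.asIdeal.ResidueField x) = 0
      ↔ _
    rw [map_eq_zero_iff _ ((Scheme.Spec.residueFieldIso E q₁).inv.hom.injective)]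
    exact Ideal.algebraMap_residueField_eq_zero


theorem isIso_residueFieldMap_congr_hom {X Y : Scheme.{u}} {k k' : X ⟶ Y} (e : k = k') (x : ↥X)
    (h : IsIso (k'.residueFieldMap x)) : IsIso (k.residueFieldMap x) := by
  subst e; exact h

theorem isIso_residueFieldMap_congr_pt {X Y : Scheme.{u}} (f : X ⟶ Y) {x x' : ↥X} (e : x = x')
    (h : IsIso (f.residueFieldMap x')) : IsIso (f.residueFieldMap x) := by
  subst e; exact h

/-- lifting a morphism `σ' : F ⟶ U` with constant image `g₁ u₁` from an affine scheme with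
nilpotent nilradical through the etale `g₁`, when `u₁` has trivial residue field extension. -/
theorem exists_lift_affine {U U₁ F : Scheme.{u}} [IsAffine U] [IsAffine U₁] [IsAffine F]
    (g₁ : U₁ ⟶ U) [Etale g₁] (σ' : F ⟶ U) (u₁ : ↥U₁) (hres : IsIso (g₁.residueFieldMap u₁))
    (hpt : ∀ z : ↥F, σ' z = g₁ u₁) (hN : IsNilpotent (nilradical Γ(F, ⊤))) :
    ∃ μ₀ : F ⟶ U₁, μ₀ ≫ g₁ = σ' ∧ ∀ z : ↥F, μ₀ z = u₁ := by
  have eγ : Spec.map g₁.appTop = U₁.isoSpec.inv ≫ g₁ ≫ U.isoSpec.hom := by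
    rw [← Scheme.isoSpec_hom_naturality, Iso.inv_hom_id_assoc]
  have eσ : Spec.map σ'.appTop = F.isoSpec.inv ≫ σ' ≫ U.isoSpec.hom := by
    rw [← Scheme.isoSpec_hom_naturality, Iso.inv_hom_id_assoc]
  have hγ : Etale (Spec.map g₁.appTop) := by rw [eγ]; infer_instance
  have hinv : U₁.isoSpec.inv (U₁.isoSpec.hom u₁) = u₁ := by
    rw [← Scheme.Hom.comp_apply, Iso.hom_inv_id]; rfl
  have hres' : IsIso ((Spec.map g₁.appTop).residueFieldMap (U₁.isoSpec.hom u₁)) := by
    refine isIso_residueFieldMap_congr_hom eγ _ ?_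
    rw [Scheme.residueFieldMap_comp, Scheme.residueFieldMap_comp]
    have i1 : IsIso (g₁.residueFieldMap (U₁.isoSpec.inv (U₁.isoSpec.hom u₁))) :=
      isIso_residueFieldMap_congr_pt g₁ hinv hres
    have i2 : IsIso (U.isoSpec.hom.residueFieldMap (g₁ (U₁.isoSpec.inv (U₁.isoSpec.hom u₁)))) :=
      inferInstance
    have i3 : IsIso (U₁.isoSpec.inv.residueFieldMap (U₁.isoSpec.hom u₁)) := inferInstance
    have i4 := @IsIso.comp_isIso _ _ _ _ _ _ _ i2 i1
    exact @IsIso.comp_isIso _ _ _ _ _ _ _ i4 i3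
  have hpt' : ∀ z : ↥(Spec Γ(F, ⊤)), (Spec.map σ'.appTop) z =
      (Spec.map g₁.appTop) (U₁.isoSpec.hom u₁) := by
    intro z
    rw [eσ, eγ]
    simp only [Scheme.Hom.comp_apply]
    rw [hpt, hinv]
  obtain ⟨ψ, hψ1, hψ2⟩ := exists_lift_Spec g₁.appTop hγ σ'.appTop (U₁.isoSpec.hom u₁) hres' hpt' hN
  refine ⟨F.isoSpec.hom ≫ Spec.map ψ ≫ U₁.isoSpec.inv, ?_, fun z => ?_⟩
  · rw [Category.assoc, Category.assoc, ← Scheme.isoSpec_inv_naturality, ← Spec.map_comp_assoc,
      hψ1, Scheme.isoSpec_inv_naturality, Iso.hom_inv_id_assoc]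
  · simp only [Scheme.Hom.comp_apply]
    rw [hψ2, hinv]

end Groth.Agent.H50.GLoc
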