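import Groth.Agent.H50.GLocSub2

/-!
# Etale localization of groupoids: from a chart to a quasi-splitting (helper50)
-/

set_option autoImplicit false
set_option linter.style.haveILetI false
universe u
open CategoryTheory CategoryTheory.Limits AlgebraicGeometry

namespace Groth.Agent.H50.GLoc

open Groth.Agent.H90

variable {S : Scheme.{u}} {G : Grpd.GroupoidScheme S}

namespace Chart

variable (C : Chart G)

/-- the conclusion of the etale localization theorems (without the condition on the points of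
`P`), for the restriction of `G` along `g`. -/
def QuasiSplit {U' : Scheme.{u}} (g : U' ⟶ G.U) : Prop :=
  ∃ (P : Scheme.{u}) (ιP : P ⟶ (restr G g).R), IsOpenImmersion ιP ∧
    (∃ eP : (restr G g).U ⟶ P, eP ≫ ιP = (restr G g).e) ∧
    (∃ iP : P ⟶ P, iP ≫ ιP = ιP ≫ (restr G g).i) ∧
    (∃ cP : pullback (ιP ≫ (restr G g).s) (ιP ≫ (restr G g).t) ⟶ P,
      cP ≫ ιP = pullback.map (ιP ≫ (restr G g).s) (ιP ≫ (restr G g).t) (restr G g).s
        (restr G g).t ιP ιP (𝟙 (restr G g).U) (Category.comp_id _) (Category.comp_id _) ≫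
          (restr G g).c) ∧
    IsFinite (ιP ≫ (restr G g).s) ∧ IsFinite (ιP ≫ (restr G g).t)

variable {C}

theorem Hyp.quasiSplit (h : C.Hyp) (hp : Etale C.p) : QuasiSplit (g₃ h) := by
  obtain ⟨τ₃, hτ⟩ := exists_isTau₃ h
  refine ⟨V₃ h, hτ.ιP, hτ.isOpenImmersion_ιP hp, ⟨eP h, hτ.eP_ιP⟩, ?_, ?_, hτ.isFinite_q₃,
    hτ.isFinite_τ₃⟩
  · obtain ⟨iP, hiP⟩ := hτ.iP_ιP
    exact ⟨iP, hiP⟩
  · obtain ⟨cP, hcP⟩ := hτ.cP_ιP
    exact ⟨cP, hcP⟩

/-- the full conclusion of the quasi-split etale localization theorem from a chart with a good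
point. -/
theorem Hyp.main (h : C.Hyp) (hp : Etale C.p) (u : ↥G.U) (u₃ : ↥(U₃ h)) (hu : g₃ h u₃ = u)
    (hres : IsIso ((g₃ h).residueFieldMap u₃)) :
    ∃ (G' : Grpd.GroupoidScheme S) (φ : Grpd.GroupoidScheme.Hom G' G) (u' : ↥G'.U),
      IsAffine G'.U ∧ Etale φ.fU ∧ φ.fU u' = u ∧ IsIso (φ.fU.residueFieldMap u') ∧
      IsPullback φ.fR G'.j G.j
        (pullback.map G'.pU G'.pU G.pU G.pU φ.fU φ.fU (𝟙 S)
          ((Category.comp_id _).trans φ.fU_over.symm) ((Category.comp_id _).trans φ.fU_over.symm)) ∧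
      ∃ (P : Scheme.{u}) (ιP : P ⟶ G'.R), IsOpenImmersion ιP ∧
        (∃ eP : G'.U ⟶ P, eP ≫ ιP = G'.e) ∧ (∃ iP : P ⟶ P, iP ≫ ιP = ιP ≫ G'.i) ∧
        (∃ cP : pullback (ιP ≫ G'.s) (ιP ≫ G'.t) ⟶ P,
          cP ≫ ιP = pullback.map (ιP ≫ G'.s) (ιP ≫ G'.t) G'.s G'.t ιP ιP (𝟙 G'.U)
            (Category.comp_id _) (Category.comp_id _) ≫ G'.c) ∧
        IsFinite (ιP ≫ G'.s) ∧ IsFinite (ιP ≫ G'.t) := by
  haveI := h.etale_g₁
  haveI : Etale (g₃ h) := by unfold g₃ p₃; infer_instance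
  exact ⟨restr G (g₃ h), restrHom G (g₃ h), u₃, isAffine_U₃ h, ‹_›, hu, hres,
    restr_isPullback G (g₃ h), h.quasiSplit hp⟩

end Chart

end Groth.Agent.H50.GLoc
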