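import Groth.Agent.H50.GLocField
import Groth.Agent.H50.GLocMain

/-!
# Etale localization of groupoids: points with finitely many arrows (helper50)

General criterion for a point of the local Weil restriction to be good, and the fact that the
resulting subgroupoid contains prescribed arrows over the point.
-/

set_option autoImplicit false
set_option linter.style.haveILetI false
universe u
open CategoryTheory CategoryTheory.Limits AlgebraicGeometry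

namespace Groth.Agent.H50.GLoc

open Groth.Agent.H90

/-- two lifts through an etale morphism which agree on all field valued points are equal. -/
theorem eq_of_forall_residue {U₁ U T : Scheme.{u}} (g₁ : U₁ ⟶ U) [Etale g₁] (f₁ f₂ : T ⟶ U₁)
    (hg : f₁ ≫ g₁ = f₂ ≫ g₁)
    (H : ∀ (K : Type u) [Field K] (ζ : Spec (.of K) ⟶ T), ζ ≫ f₁ = ζ ≫ f₂) : f₁ = f₂ := by
  set d : T ⟶ pullback g₁ g₁ := pullback.lift f₁ f₂ hg with hd
  have hr : Set.range ⇑d ⊆ Set.range ⇑(pullback.diagonal g₁) := by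
    rintro _ ⟨t, rfl⟩
    have Ht := H (T.residueField t) (T.fromSpecResidueField t)
    have e : T.fromSpecResidueField t ≫ d =
        (T.fromSpecResidueField t ≫ f₁) ≫ pullback.diagonal g₁ := by
      apply pullback.hom_ext
      · rw [Category.assoc, hd, pullback.lift_fst, Category.assoc, pullback.diagonal_fst,
          Category.comp_id]
      · rw [Category.assoc, hd, pullback.lift_snd, Category.assoc, pullback.diagonal_snd,
          Category.comp_id]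
        exact Ht.symm
    have t₀ : ↥(Spec (T.residueField t)) := IsLocalRing.closedPoint _
    refine ⟨(T.fromSpecResidueField t ≫ f₁) t₀, ?_⟩
    rw [← Scheme.Hom.comp_apply, ← e, Scheme.Hom.comp_apply, Scheme.fromSpecResidueField_apply]
  have hfac := IsOpenImmersion.lift_fac (pullback.diagonal g₁) d hr
  have h1 := congrArg (· ≫ pullback.fst g₁ g₁) hfac
  have h2 := congrArg (· ≫ pullback.snd g₁ g₁) hfac
  simp only [Category.assoc, pullback.diagonal_fst, pullback.diagonal_snd, Category.comp_id, hd,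
    pullback.lift_fst, pullback.lift_snd] at h1 h2
  rw [← h1, h2]

/-- lifting a field valued point along a morphism with trivial residue field extension. -/
theorem exists_lift_of_isIso_residueFieldMap {X Y : Scheme.{u}} (f : X ⟶ Y) (x : ↥X)
    (hx : IsIso (f.residueFieldMap x)) {L : Type u} [Field L] (b : Spec (.of L) ⟶ Y)
    (hb : ∀ t, b t = f x) : ∃ β : Spec (.of L) ⟶ X, β ≫ f = b ∧ ∀ t, β t = x := by
  obtain ⟨⟨y, φ⟩, rfl⟩ := (Scheme.SpecToEquivOfField L Y).symm.surjective b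
  simp only [Scheme.SpecToEquivOfField_symm_apply] at hb ⊢
  have t₀ : ↥(Spec (.of L)) := IsLocalRing.closedPoint L
  have e1 : y = f x := by
    have := hb t₀
    rwa [Scheme.Hom.comp_apply, Scheme.fromSpecResidueField_apply] at this
  subst e1
  refine ⟨Spec.map (inv (f.residueFieldMap x) ≫ φ) ≫ X.fromSpecResidueField x, ?_, fun t => ?_⟩
  · rw [Category.assoc, ← Scheme.Hom.SpecMap_residueFieldMap_fromSpecResidueField,
      ← Category.assoc, ← Spec.map_comp, ← Category.assoc, IsIso.hom_inv_id, Category.id_comp]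
  · rw [Scheme.Hom.comp_apply, Scheme.fromSpecResidueField_apply]


variable {S : Scheme.{u}} {G : Grpd.GroupoidScheme S}

namespace Chart

variable (C : Chart G)

/-- the hypotheses on a point `u₂` of the local Weil restriction over `u₁`. -/
structure PtHyp (u₁ : ↥C.U₁) (u₂ : ↥C.U₂) : Prop where
  hp : C.p u₂ = u₁
  res₁ : IsIso (C.g₁.residueFieldMap u₁)
  res₂ : IsIso (C.p.residueFieldMap u₂)
  P1 : ∀ z : ↥C.V₂, C.q z = u₂ → C.lam z = u₁
  P3 : ∀ (L : Type u) [Field L] (xh xg : Spec (.of L) ⟶ C.V), (∀ t, (xg ≫ C.π) t = u₁) →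
    (∀ t, (xh ≫ C.π) t = u₁) → ∀ (H1 : (xh ≫ C.r) ≫ G.s = (xg ≫ C.r) ≫ G.t)
      (H2 : gcomp G (xh ≫ C.r) (xg ≫ C.r) H1 ≫ G.s = (xg ≫ C.π) ≫ C.g₁),
      C.InV (gcomp G (xh ≫ C.r) (xg ≫ C.r) H1) (xg ≫ C.π) H2
  P4 : ∀ (L : Type u) [Field L] (xk xg : Spec (.of L) ⟶ C.V), xk ≫ C.π = xg ≫ C.π →
    (∀ t, (xg ≫ C.π) t = u₁) → ∀ (b' : Spec (.of L) ⟶ C.U₁), (∀ t, b' t = u₁) →
      ∀ (H1 : (xk ≫ C.r) ≫ G.s = (xg ≫ C.r ≫ G.i) ≫ G.t)
        (H2 : gcomp G (xk ≫ C.r) (xg ≫ C.r ≫ G.i) H1 ≫ G.s = b' ≫ C.g₁),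
        C.InV (gcomp G (xk ≫ C.r) (xg ≫ C.r ≫ G.i) H1) b' H2

variable {C} {u₁ : ↥C.U₁} {u₂ : ↥C.U₂}

theorem PtHyp.lamAt_apply (hP : C.PtHyp u₁ u₂) {T : Scheme.{u}} (x : T ⟶ C.V) (a : T ⟶ C.U₂)
    (h : x ≫ C.π = a ≫ C.p) (t : ↥T) (ha : a t = u₂) : (C.lamAt x a h) t = u₁ := by
  unfold lamAt
  rw [Scheme.Hom.comp_apply]
  apply hP.P1
  rw [← Scheme.Hom.comp_apply, pullback.lift_snd]
  exact ha

/-- a point satisfying `PtHyp` is good. -/
theorem PtHyp.mem_good (hP : C.PtHyp u₁ u₂) : u₂ ∈ C.Good := by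
  apply mem_good_of_forall
  intro L _ a ha
  have hap : ∀ t, (a ≫ C.p) t = u₁ := fun t => by rw [Scheme.Hom.comp_apply, ha, hP.hp]
  refine ⟨?_, ?_, ?_⟩
  · intro xh xg hg hh H1 H2
    have H2' : gcomp G (xh ≫ C.r) (xg ≫ C.r) H1 ≫ G.s = (xg ≫ C.π) ≫ C.g₁ := by rw [H2, hg]
    refine inV_congr rfl hg H2' H2 (hP.P3 L xh xg (fun t => by rw [hg]; exact hap t)
      (fun t => ?_) H1 H2')
    rw [hh]
    exact hP.lamAt_apply xg a hg t (ha t)
  · intro xk xg hk hg H1 H2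
    exact hP.P4 L xk xg (hk.trans hg.symm) (fun t => by rw [hg]; exact hap t) _
      (fun t => hP.lamAt_apply xg a hg t (ha t)) H1 H2
  · intro h'
    refine eq_of_comp_eq_of_apply C.g₁ u₁ hP.res₁ _ _
      (fun t => hP.lamAt_apply _ a h' t (ha t)) hap ?_
    rw [C.lamAt_g₁]
    simp only [Category.assoc]
    rw [← Category.assoc C.eV, C.eV_r, Category.assoc, G.e_t, Category.comp_id]

section tau

variable (hP : C.PtHyp u₁ u₂) (h : C.Hyp) {τ₃ : V₃ h ⟶ U₃ h} (hτ : IsTau₃ h τ₃)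
  (u₃ : ↥(U₃ h)) (hu₃ : ι₃ h u₃ = u₂)

include hP hu₃

theorem PtHyp.p₃_apply : p₃ h u₃ = u₁ := by
  change (ι₃ h ≫ C.p) u₃ = u₁
  rw [Scheme.Hom.comp_apply, hu₃, hP.hp]

theorem PtHyp.isIso_p₃ : IsIso ((p₃ h).residueFieldMap u₃) := by
  change IsIso ((ι₃ h ≫ C.p).residueFieldMap u₃)
  rw [Scheme.residueFieldMap_comp]
  have i1 : IsIso (C.p.residueFieldMap (ι₃ h u₃)) :=
    isIso_residueFieldMap_congr C.p hu₃ hP.res₂
  have i3 : IsIso ((ι₃ h).residueFieldMap u₃) := inferInstance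
  exact @IsIso.comp_isIso _ _ _ _ _ _ _ i1 i3

theorem PtHyp.isIso_g₃ : IsIso ((g₃ h).residueFieldMap u₃) := by
  change IsIso ((p₃ h ≫ C.g₁).residueFieldMap u₃)
  rw [Scheme.residueFieldMap_comp]
  have i1 : IsIso (C.g₁.residueFieldMap (p₃ h u₃)) :=
    isIso_residueFieldMap_congr C.g₁ (hP.p₃_apply h u₃ hu₃) hP.res₁
  have i3 := hP.isIso_p₃ h u₃ hu₃
  exact @IsIso.comp_isIso _ _ _ _ _ _ _ i1 i3

omit hP in
/-- a point of `U₂` through `U₃` at `u₃` is at `u₂`. -/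
theorem ι₃_apply_eq {T : Scheme.{u}} (a : T ⟶ U₃ h) (t : ↥T) (ha : a t = u₃) :
    (a ≫ ι₃ h) t = u₂ := by
  rw [Scheme.Hom.comp_apply, ha, hu₃]

include hτ

/-- the canonical lift `τ₃` maps the fibre of `q₃` over `u₃` to `u₃`. -/
theorem PtHyp.τ₃_point {L : Type u} [Field L] (y₀ : Spec (.of L) ⟶ V₃ h)
    (hy : ∀ t, (y₀ ≫ q₃ h) t = u₃) : ∀ t, (y₀ ≫ τ₃) t = u₃ := by
  haveI := h.etale_g₁
  set β := y₀ ≫ τ₃ with hβ
  have hβp : β ≫ p₃ h = C.lamAt (y₀ ≫ v₃ h) (y₀ ≫ q₃ h ≫ ι₃ h)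
      (by simp only [Category.assoc]; rw [pullback.condition]) := by
    rw [hβ, Category.assoc, hτ.comp_p₃, comp_lam₃]
  have hb' : ∀ t, (β ≫ p₃ h) t = p₃ h u₃ := fun t => by
    rw [hβp, hP.p₃_apply h u₃ hu₃]
    apply hP.lamAt_apply
    rw [← Category.assoc]
    exact ι₃_apply_eq h u₃ hu₃ _ t (hy t)
  obtain ⟨β', hβ'p, hβ't⟩ := exists_lift_of_isIso_residueFieldMap (p₃ h) u₃
    (hP.isIso_p₃ h u₃ hu₃) (β ≫ p₃ h) hb'
  have key : β = β' := by
    apply uniq₃ β β' hβ'p.symm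
    intro T' y' x h1 h2
    apply eq_of_forall_residue C.g₁ _ _ (by rw [C.lamAt_g₁, C.lamAt_g₁])
    intro K _ ζ
    rw [C.comp_lamAt, C.comp_lamAt]
    refine eq_of_comp_eq_of_apply C.g₁ u₁ hP.res₁ _ _ (fun t => ?_) (fun t => ?_)
      (by rw [C.lamAt_g₁, C.lamAt_g₁])
    · -- the left hand side, via the defining property of `τ₃`
      set Y := (ζ ≫ y') ≫ y₀ with hY
      have h1K : (ζ ≫ x) ≫ C.π = (Y ≫ τ₃ ≫ ι₃ h) ≫ C.p := by
        rw [Category.assoc, h1, hY, hβ]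
        simp only [Category.assoc]
      have hg : (Y ≫ v₃ h) ≫ C.π = ((Y ≫ q₃ h) ≫ ι₃ h) ≫ C.p := by
        simp only [Category.assoc]; rw [pullback.condition]
      have hh : (ζ ≫ x) ≫ C.π = C.lamAt (Y ≫ v₃ h) ((Y ≫ q₃ h) ≫ ι₃ h) hg := by
        rw [h1K]
        have : (Y ≫ τ₃ ≫ ι₃ h) ≫ C.p = Y ≫ τ₃ ≫ p₃ h := by simp only [Category.assoc]
        rw [this, hτ.comp_p₃, comp_lam₃]
        exact C.lamAt_congr rfl (Category.assoc _ _ _).symm _ _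
      have H1' : ((ζ ≫ x) ≫ C.r) ≫ G.s = ((Y ≫ v₃ h) ≫ C.r) ≫ G.t := by
        rw [C.r_s, hh, C.lamAt_g₁]
        simp only [Category.assoc]
      obtain ⟨x', hx'r, hx'π⟩ := exists_comp h (Y ≫ q₃ h) (ζ ≫ x) (Y ≫ v₃ h) hg hh H1'
      have H1 : ((ζ ≫ x) ≫ C.r) ≫ G.s = (Y ≫ v₃ h ≫ C.r) ≫ G.t := by
        rw [H1']; simp only [Category.assoc]
      have hx'r' : x' ≫ C.r = gcomp G ((ζ ≫ x) ≫ C.r) (Y ≫ v₃ h ≫ C.r) H1 := by
        rw [hx'r]
        exact gcomp_congr G rfl (Category.assoc _ _ _) _ _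
      have hx'π' : x' ≫ C.π = (Y ≫ q₃ h ≫ ι₃ h) ≫ C.p := by
        rw [hx'π]; simp only [Category.assoc]
      have e := hτ.prop Y (ζ ≫ x) x' H1 hx'r' hx'π' h1K
      have e' : C.lamAt (ζ ≫ x) (ζ ≫ y' ≫ β ≫ ι₃ h)
          (by rw [Category.assoc, h1]; simp only [Category.assoc]) =
          C.lamAt (ζ ≫ x) (Y ≫ τ₃ ≫ ι₃ h) h1K :=
        C.lamAt_congr rfl (by rw [hY, hβ]; simp only [Category.assoc]) _ _
      rw [e', e]
      apply hP.lamAt_apply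
      rw [← Category.assoc]
      refine ι₃_apply_eq h u₃ hu₃ _ t ?_
      rw [hY, Category.assoc, Scheme.Hom.comp_apply]
      exact hy _
    · apply hP.lamAt_apply
      rw [← Category.assoc, ← Category.assoc]
      refine ι₃_apply_eq h u₃ hu₃ _ t ?_
      rw [Scheme.Hom.comp_apply]
      exact hβ't _
  intro t
  rw [key]
  exact hβ't t

omit hP hu₃ hτ in
theorem ρ'_s {T : Scheme.{u}} (ρ' : T ⟶ RR G (g₃ h)) :
    (ρ' ≫ fR G (g₃ h)) ≫ G.s = ((ρ' ≫ ss G (g₃ h)) ≫ p₃ h) ≫ C.g₁ := by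
  rw [Category.assoc, fR_s]
  simp only [Category.assoc]

/-- field valued points of the restricted groupoid over `(u₃, u₃)` whose image in `R₁` lies in
`V` come from `P`. -/
theorem PtHyp.exists_lift_ιP {L : Type u} [Field L] (ρ' : Spec (.of L) ⟶ RR G (g₃ h))
    (hs : ∀ t, (ρ' ≫ ss G (g₃ h)) t = u₃) (ht : ∀ t, (ρ' ≫ tt G (g₃ h)) t = u₃)
    (hV : C.InV (ρ' ≫ fR G (g₃ h)) ((ρ' ≫ ss G (g₃ h)) ≫ p₃ h) (ρ'_s h ρ')) :
    ∃ y₀ : Spec (.of L) ⟶ V₃ h, y₀ ≫ hτ.ιP = ρ' := by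
  haveI := h.open_ιV
  obtain ⟨x, hxr, hxπ⟩ := hV.exists_lift
  refine ⟨pullback.lift x (ρ' ≫ ss G (g₃ h)) hxπ, ?_⟩
  set y₀ : Spec (.of L) ⟶ V₃ h := pullback.lift x (ρ' ≫ ss G (g₃ h)) hxπ with hy₀
  have e1 : y₀ ≫ v₃ h = x := pullback.lift_fst _ _ _
  have e2 : y₀ ≫ q₃ h = ρ' ≫ ss G (g₃ h) := pullback.lift_snd _ _ _
  apply RR_ext
  · rw [Category.assoc, hτ.ιP_fR, ← Category.assoc, e1, hxr]
  · rw [Category.assoc, hτ.ιP_tt]
    refine eq_of_comp_eq_of_apply (g₃ h) u₃ (hP.isIso_g₃ h u₃ hu₃) _ _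
      (hP.τ₃_point h hτ u₃ hu₃ y₀ (fun t => by rw [e2]; exact hs t)) ht ?_
    rw [Category.assoc, ← hτ.ιP_hb, ← Category.assoc, ← Category.assoc, e1, hxr, Category.assoc,
      fR_t, Category.assoc]
  · rw [Category.assoc, hτ.ιP_ss, e2]

end tau

end Chart

end Groth.Agent.H50.GLoc
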