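import Groth.Agent.H50.GLocMulti
import Groth.Prelude.Def_Dual3

/-!
# Etale localization of groupoids: assembly for finitely many arrows (helper50)

`main_multi` derives the (strongly) split etale localization theorems from two inputs: `R1Hyp'`
(scheme level Weil restriction with a point clause) and `R2mHyp` (first chart around a finite set
`Sg` of arrows).
-/

set_option autoImplicit false
set_option linter.style.haveILetI false
universe u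
open CategoryTheory CategoryTheory.Limits AlgebraicGeometry

namespace Groth.Agent.H50.GLoc

open Groth.Agent.H90

/-- scheme level Weil restriction with the general point clause. -/
def R1Hyp' : Prop :=
  ∀ {U U₁ V : Scheme.{u}} [IsAffine U] [IsAffine U₁] [IsAffine V] (g₁ : U₁ ⟶ U) [Etale g₁]
    (π : V ⟶ U₁) [IsFinite π]
    (_ : letI := π.appTop.hom.toAlgebra; Module.Free Γ(U₁, ⊤) Γ(V, ⊤)) (τ : V ⟶ U),
    ∃ (U₂ : Scheme.{u}) (p : U₂ ⟶ U₁) (lam : pullback π p ⟶ U₁), IsAffine U₂ ∧ Etale p ∧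
      lam ≫ g₁ = pullback.fst π p ≫ τ ∧
      (∀ (T : Scheme.{u}) [IsAffine T] (a : T ⟶ U₁) (μ : pullback π a ⟶ U₁),
        μ ≫ g₁ = pullback.fst π a ≫ τ → ∃! b : T ⟶ U₂, b ≫ p = a ∧
          ∀ x : pullback π a ⟶ pullback π p, x ≫ pullback.fst π p = pullback.fst π a →
            x ≫ pullback.snd π p = pullback.snd π a ≫ b → x ≫ lam = μ) ∧
      ∀ (u₁ : ↥U₁), IsIso (g₁.residueFieldMap u₁) → (∀ v : ↥V, π v = u₁ → τ v = g₁ u₁) →
        ∃ u₂ : ↥U₂, p u₂ = u₁ ∧ IsIso (p.residueFieldMap u₂) ∧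
          ∀ z : ↥(pullback π p), pullback.snd π p z = u₂ → lam z = u₁

/-- the first chart around a finite set of arrows. -/
def R2mHyp : Prop :=
  ∀ (S : Scheme.{u}) (G : Grpd.GroupoidScheme S) [IsAffine G.U] [IsSeparated G.s] [Flat G.s]
    [LocallyOfFinitePresentation G.s] (u : ↥G.U) (Sg : Set ↥G.R) (_ : Sg.Finite)
    (_ : ∀ r ∈ Sg, G.s r = u) (_ : G.e u ∈ Sg) (_ : ∀ r ∈ Sg, Dual3.QuasiFiniteAt G.s r),
    ∃ (U₁ V : Scheme.{u}) (g₁ : U₁ ⟶ G.U) (r : V ⟶ G.R) (π : V ⟶ U₁) (eV : U₁ ⟶ V) (u₁ : ↥U₁)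
      (w : r ≫ G.s = π ≫ g₁), IsAffine U₁ ∧ IsAffine V ∧ Etale g₁ ∧ g₁ u₁ = u ∧
      IsIso (g₁.residueFieldMap u₁) ∧ eV ≫ r = g₁ ≫ G.e ∧ eV ≫ π = 𝟙 U₁ ∧
      IsOpenImmersion (pullback.lift r π w) ∧ IsClosed (Set.range ⇑(pullback.lift r π w)) ∧
      IsFinite π ∧ Flat π ∧ LocallyOfFinitePresentation π ∧
      (letI := π.appTop.hom.toAlgebra; Module.Free Γ(U₁, ⊤) Γ(V, ⊤)) ∧
      (∀ v : ↥V, π v = u₁ → r v ∈ Sg) ∧
      (∀ z : ↥(pullback G.s g₁), pullback.snd G.s g₁ z = u₁ → pullback.fst G.s g₁ z ∈ Sg →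
        z ∈ Set.range ⇑(pullback.lift r π w))

/-- **Etale localization around a finite set `Sg` of arrows `u ⟶ u`** closed under composition and
inversion (on field valued points): the open finite subgroupoid `P` contains all field valued
points of the restricted groupoid over `(u', u')` lying over `Sg`. -/
theorem main_multi (R1 : R1Hyp'.{u}) (R2 : R2mHyp.{u}) (S : Scheme.{u}) (G : Grpd.GroupoidScheme S)
    [IsAffine G.U] [IsSeparated G.s] [Flat G.s] [LocallyOfFinitePresentation G.s]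
    (u : ↥G.U) (Sg : Set ↥G.R) (hSfin : Sg.Finite) (hSs : ∀ r ∈ Sg, G.s r = u)
    (hSt : ∀ r ∈ Sg, G.t r = u) (heS : G.e u ∈ Sg) (hqf : ∀ r ∈ Sg, Dual3.QuasiFiniteAt G.s r)
    (SC : ∀ (L : Type u) [Field L] (α β : Spec (.of L) ⟶ G.R) (h : α ≫ G.s = β ≫ G.t),
      (∀ t, α t ∈ Sg) → (∀ t, β t ∈ Sg) → ∀ t, (gcomp G α β h) t ∈ Sg)
    (SI : ∀ (L : Type u) [Field L] (β : Spec (.of L) ⟶ G.R), (∀ t, β t ∈ Sg) →
      ∀ t, (β ≫ G.i) t ∈ Sg) :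
    ∃ (G' : Grpd.GroupoidScheme S) (φ : Grpd.GroupoidScheme.Hom G' G) (u' : ↥G'.U),
      IsAffine G'.U ∧ Etale φ.fU ∧ φ.fU u' = u ∧ IsIso (φ.fU.residueFieldMap u') ∧
      IsPullback φ.fR G'.j G.j
        (pullback.map G'.pU G'.pU G.pU G.pU φ.fU φ.fU (𝟙 S)
          ((Category.comp_id _).trans φ.fU_over.symm) ((Category.comp_id _).trans φ.fU_over.symm)) ∧
      ∃ (P : Scheme.{u}) (ιP : P ⟶ G'.R), IsOpenImmersion ιP ∧
        (∃ eP : G'.U ⟶ P, eP ≫ ιP = G'.e) ∧ (∃ iP : P ⟶ P, iP ≫ ιP = ιP ≫ G'.i) ∧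
        (∃ cP : pullback (ιP ≫ G'.s) (ιP ≫ G'.t) ⟶ P,
          cP ≫ ιP = pullback.map (ιP ≫ G'.s) (ιP ≫ G'.t) G'.s G'.t ιP ιP (𝟙 G'.U)
            (Category.comp_id _) (Category.comp_id _) ≫ G'.c) ∧
        IsFinite (ιP ≫ G'.s) ∧ IsFinite (ιP ≫ G'.t) ∧
        ∀ (L : Type u) [Field L] (ρ' : Spec (.of L) ⟶ G'.R), (∀ t, (ρ' ≫ G'.s) t = u') →
          (∀ t, (ρ' ≫ G'.t) t = u') → (∀ t, (ρ' ≫ φ.fR) t ∈ Sg) →
          ∃ y₀ : Spec (.of L) ⟶ P, y₀ ≫ ιP = ρ' := by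
  obtain ⟨U₁, V, g₁, r, π, eV, u₁, w, hU₁, hV, hg₁, hgu, hres₁, heVr, heVπ, hopen, hclosed, hfin,
    hflat, hlfp, hfree, hV1, hV2⟩ := R2 S G u Sg hSfin hSs heS hqf
  obtain ⟨U₂, p, lam, hU₂, hp, hlam, huniv, hpoint⟩ := R1 g₁ π hfree (r ≫ G.t)
  obtain ⟨u₂, hpu, hres₂, hP1⟩ := hpoint u₁ hres₁ (fun v hv => by
    rw [Scheme.Hom.comp_apply, hSt _ (hV1 v hv), hgu])
  let C : Chart G :=
    { U₁ := U₁, V := V, g₁ := g₁, r := r, π := π, w := w, eV := eV, eV_r := heVr, eV_π := heVπ,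
      U₂ := U₂, p := p, lam := lam, hlam := hlam }
  have h : C.Hyp :=
    { open_ιV := hopen
      closed_ιV := hclosed
      fin_π := hfin
      flat_π := hflat
      lfp_π := hlfp
      etale_g₁ := hg₁
      sep_g₁ := inferInstanceAs (IsSeparated g₁)
      univ := huniv
      aff_U₂ := hU₂ }
  -- points of `R₁` over `u₁` and `Sg` are in `V`
  have hInV : ∀ (L : Type u) [Field L] (ρ : Spec (.of L) ⟶ G.R) (b : Spec (.of L) ⟶ C.U₁)
      (hb : ρ ≫ G.s = b ≫ C.g₁), (∀ t, b t = u₁) → (∀ t, ρ t ∈ Sg) → C.InV ρ b hb := by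
    intro L _ ρ b hb hbt hρ
    rintro _ ⟨t, rfl⟩
    refine hV2 _ ?_ ?_
    · rw [← Scheme.Hom.comp_apply]
      unfold Chart.ptR₁
      rw [pullback.lift_snd]
      exact hbt t
    · rw [← Scheme.Hom.comp_apply]
      unfold Chart.ptR₁
      rw [pullback.lift_fst]
      exact hρ t
  have hVS : ∀ (L : Type u) [Field L] (x : Spec (.of L) ⟶ C.V), (∀ t, (x ≫ C.π) t = u₁) →
      ∀ t, (x ≫ C.r) t ∈ Sg := by
    intro L _ x hx t
    rw [Scheme.Hom.comp_apply]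
    apply hV1
    rw [← Scheme.Hom.comp_apply]
    exact hx t
  have hP : C.PtHyp u₁ u₂ :=
    { hp := hpu
      res₁ := hres₁
      res₂ := hres₂
      P1 := hP1
      P3 := fun L _ xh xg hxg hxh H1 H2 =>
        hInV L _ _ H2 hxg (SC L _ _ H1 (hVS L xh hxh) (hVS L xg hxg))
      P4 := fun L _ xk xg hk hxg b' hb' H1 H2 =>
        hInV L _ _ H2 hb' (SC L _ _ H1 (hVS L xk (fun t => by rw [hk]; exact hxg t))
          (fun t => by
            have := SI L (xg ≫ C.r) (hVS L xg hxg) t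
            rwa [Category.assoc] at this)) }
  have hgood : u₂ ∈ C.Good := hP.mem_good
  obtain ⟨u₃, hu₃⟩ : ∃ u₃ : ↥(Chart.U₃ h), Chart.ι₃ h u₃ = u₂ := by
    have : u₂ ∈ Set.range ⇑(Chart.ι₃ h) := by rw [Chart.range_ι₃]; exact hgood
    exact this
  obtain ⟨τ₃, hτ⟩ := Chart.exists_isTau₃ h
  haveI : Etale (Chart.g₃ h) := by unfold Chart.g₃ Chart.p₃; infer_instance
  have hu : Chart.g₃ h u₃ = u := by
    change (Chart.p₃ h ≫ g₁) u₃ = u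
    rw [Scheme.Hom.comp_apply, hP.p₃_apply h u₃ hu₃, hgu]
  refine ⟨restr G (Chart.g₃ h), restrHom G (Chart.g₃ h), u₃, Chart.isAffine_U₃ h, ‹_›, hu,
    hP.isIso_g₃ h u₃ hu₃, restr_isPullback G (Chart.g₃ h), Chart.V₃ h, hτ.ιP,
    hτ.isOpenImmersion_ιP hp, ⟨Chart.eP h, hτ.eP_ιP⟩, ?_, ?_, hτ.isFinite_q₃, hτ.isFinite_τ₃, ?_⟩
  · obtain ⟨iP, hiP⟩ := hτ.iP_ιP
    exact ⟨iP, hiP⟩
  · obtain ⟨cP, hcP⟩ := hτ.cP_ιP
    exact ⟨cP, hcP⟩
  · intro L _ ρ' hs ht hS'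
    refine hP.exists_lift_ιP h hτ u₃ hu₃ ρ' hs ht (hInV L _ _ _ (fun t => ?_) hS')
    rw [Scheme.Hom.comp_apply]
    exact (congrArg (Chart.p₃ h) (hs t)).trans (hP.p₃_apply h u₃ hu₃)

end Groth.Agent.H50.GLoc
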