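import Groth.Agent.H50.GLocMulti2

/-!
# Etale localization of groupoids: the strongly split and split cases (helper50)
-/

set_option autoImplicit false
set_option linter.style.haveILetI false
universe u
open CategoryTheory CategoryTheory.Limits AlgebraicGeometry

namespace Groth.Agent.H50.GLoc

open Groth.Agent.H90

theorem isIso_residueFieldMap_of_isPreimmersion' {V V' : Scheme.{u}} (j : V ⟶ V')
    [IsPreimmersion j] (v : ↥V) : IsIso (j.residueFieldMap v) := by
  rw [ConcreteCategory.isIso_iff_bijective]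
  refine ⟨(j.residueFieldMap v).hom.injective, ?_⟩
  intro y
  obtain ⟨y', rfl⟩ := IsLocalRing.residue_surjective (R := V.presheaf.stalk v) y
  obtain ⟨z, rfl⟩ := j.stalkMap_surjective v y'
  refine ⟨V'.residue (j v) z, ?_⟩
  exact congrArg (fun t => t.hom z) (Scheme.residue_residueFieldMap j v)

/-- **Etale localization, strongly split case**, from the two inputs. -/
theorem main_strong (R1 : R1Hyp'.{u}) (R2 : R2mHyp.{u}) (S : Scheme.{u})
    (G : Grpd.GroupoidScheme S) [IsAffine G.U] [IsSeparated G.s] [Flat G.s]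
    [LocallyOfFinitePresentation G.s]
    (u : ↥G.U) (hfin : Set.Finite {r : ↥G.R | G.s r = u ∧ G.t r = u})
    (hqf : ∀ r : ↥G.R, G.s r = u → G.t r = u → Dual3.QuasiFiniteAt G.s r) :
    ∃ (G' : Grpd.GroupoidScheme S) (φ : Grpd.GroupoidScheme.Hom G' G) (u' : ↥G'.U),
      IsAffine G'.U ∧ Etale φ.fU ∧ φ.fU u' = u ∧ IsIso (φ.fU.residueFieldMap u') ∧
      IsPullback φ.fR G'.j G.j
        (pullback.map G'.pU G'.pU G.pU G.pU φ.fU φ.fU (𝟙 S)
          ((Category.comp_id _).trans φ.fU_over.symm) ((Category.comp_id _).trans φ.fU_over.symm)) ∧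
      ∃ (P : Scheme.{u}) (ιP : P ⟶ G'.R), IsOpenImmersion ιP ∧
        (∃ eP : G'.U ⟶ P, eP ≫ ιP = G'.e) ∧ (∃ iP : P ⟶ P, iP ≫ ιP = ιP ≫ G'.i) ∧
        (∃ cP : pullback (ιP ≫ G'.s) (ιP ≫ G'.t) ⟶ P,
          cP ≫ ιP = pullback.map (ιP ≫ G'.s) (ιP ≫ G'.t) G'.s G'.t ιP ιP (𝟙 G'.U)
            (Category.comp_id _) (Category.comp_id _) ≫ G'.c) ∧
        IsFinite (ιP ≫ G'.s) ∧ IsFinite (ιP ≫ G'.t) ∧
        ∀ r' : ↥G'.R, G'.s r' = u' → G'.t r' = u' → ∃ p : ↥P, ιP p = r' := by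
  obtain ⟨G', φ, u', h1, h2, h3, h4, h5, P, ιP, h6, h7, h8, h9, h10, h11, h12⟩ :=
    main_multi R1 R2 S G u {r : ↥G.R | G.s r = u ∧ G.t r = u} hfin (fun r hr => hr.1)
      (fun r hr => hr.2)
      (by
        refine ⟨?_, ?_⟩
        · rw [← Scheme.Hom.comp_apply, G.e_s]; rfl
        · rw [← Scheme.Hom.comp_apply, G.e_t]; rfl)
      (fun r hr => hqf r hr.1 hr.2)
      (fun L _ α β h hα hβ t => by
        refine ⟨?_, ?_⟩
        · rw [← Scheme.Hom.comp_apply, gcomp_s, Scheme.Hom.comp_apply]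
          exact (hβ t).1
        · rw [← Scheme.Hom.comp_apply, gcomp_t, Scheme.Hom.comp_apply]
          exact (hα t).2)
      (fun L _ β hβ t => by
        refine ⟨?_, ?_⟩
        · rw [← Scheme.Hom.comp_apply, Category.assoc, G.i_s, Scheme.Hom.comp_apply]
          exact (hβ t).2
        · rw [← Scheme.Hom.comp_apply, Category.assoc, G.i_t, Scheme.Hom.comp_apply]
          exact (hβ t).1)
  refine ⟨G', φ, u', h1, h2, h3, h4, h5, P, ιP, h6, h7, h8, h9, h10, h11, ?_⟩
  intro r' hs ht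
  have t₀ : ↥(Spec (G'.R.residueField r')) := IsLocalRing.closedPoint _
  obtain ⟨y₀, hy₀⟩ := h12 (G'.R.residueField r') (G'.R.fromSpecResidueField r')
    (fun t => by rw [Scheme.Hom.comp_apply, Scheme.fromSpecResidueField_apply, hs])
    (fun t => by rw [Scheme.Hom.comp_apply, Scheme.fromSpecResidueField_apply, ht])
    (fun t => by
      rw [Scheme.Hom.comp_apply, Scheme.fromSpecResidueField_apply]
      refine ⟨?_, ?_⟩
      · rw [← Scheme.Hom.comp_apply, φ.comm_s, Scheme.Hom.comp_apply, hs, h3]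
      · rw [← Scheme.Hom.comp_apply, φ.comm_t, Scheme.Hom.comp_apply, ht, h3])
  refine ⟨y₀ t₀, ?_⟩
  rw [← Scheme.Hom.comp_apply, hy₀, Scheme.fromSpecResidueField_apply]


section stab

variable {S : Scheme.{u}} (G : Grpd.GroupoidScheme S)

/-- the morphism from the stabilizer to the arrows. -/
noncomputable def stabFst : G.stabilizer ⟶ G.R := pullback.fst G.j G.diag

theorem stabFst_j : stabFst G ≫ G.j = G.stabilizerToU ≫ G.diag :=
  pullback.condition (f := G.j) (g := G.diag)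

theorem stab_fst_s : stabFst G ≫ G.s = G.stabilizerToU := by
  have h1 := congrArg (· ≫ pullback.snd G.pU G.pU) (stabFst_j G)
  simp only [Category.assoc, Grpd.GroupoidScheme.j, Grpd.GroupoidScheme.diag, pullback.lift_snd,
    Category.comp_id] at h1
  exact h1

theorem stab_fst_t : stabFst G ≫ G.t = G.stabilizerToU := by
  have h1 := congrArg (· ≫ pullback.fst G.pU G.pU) (stabFst_j G)
  simp only [Category.assoc, Grpd.GroupoidScheme.j, Grpd.GroupoidScheme.diag, pullback.lift_fst,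
    Category.comp_id] at h1
  exact h1

instance isPreimmersion_diag : IsPreimmersion G.diag :=
  (inferInstance : IsPreimmersion (pullback.diagonal G.pU))

instance isPreimmersion_stabFst : IsPreimmersion (stabFst G) :=
  (inferInstance : IsPreimmersion (pullback.fst G.j G.diag))

/-- the set of arrows in the image of the stabilizer points over `u`. -/
def stabSet (u : ↥G.U) : Set ↥G.R :=
  {r | ∃ g : ↥G.stabilizer, G.stabilizerToU g = u ∧ stabFst G g = r}

/-- a `T`-point of `R` with equal source and target as a point of the stabilizer. -/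
noncomputable def toStab {T : Scheme.{u}} (ρ : T ⟶ G.R) (h : ρ ≫ G.s = ρ ≫ G.t) :
    T ⟶ G.stabilizer :=
  pullback.lift ρ (ρ ≫ G.s) (by
    apply pullback.hom_ext
    · rw [Category.assoc, Grpd.GroupoidScheme.j, pullback.lift_fst, Category.assoc,
        Grpd.GroupoidScheme.diag, pullback.lift_fst, Category.comp_id, h]
    · rw [Category.assoc, Grpd.GroupoidScheme.j, pullback.lift_snd, Category.assoc,
        Grpd.GroupoidScheme.diag, pullback.lift_snd, Category.comp_id])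

theorem toStab_fst {T : Scheme.{u}} (ρ : T ⟶ G.R) (h : ρ ≫ G.s = ρ ≫ G.t) :
    toStab G ρ h ≫ stabFst G = ρ := pullback.lift_fst _ _ _

theorem toStab_snd {T : Scheme.{u}} (ρ : T ⟶ G.R) (h : ρ ≫ G.s = ρ ≫ G.t) :
    toStab G ρ h ≫ G.stabilizerToU = ρ ≫ G.s := pullback.lift_snd _ _ _

/-- field valued points of `R` over the stabilizer set. -/
theorem forall_mem_stabSet_iff (u : ↥G.U) {L : Type u} [Field L] (ρ : Spec (.of L) ⟶ G.R) :
    (∀ t, ρ t ∈ stabSet G u) ↔ ρ ≫ G.s = ρ ≫ G.t ∧ ∀ t, (ρ ≫ G.s) t = u := by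
  constructor
  · intro H
    have t₀ : ↥(Spec (.of L)) := IsLocalRing.closedPoint L
    obtain ⟨g, hg1, hg2⟩ := H t₀
    obtain ⟨ρ', hρ', -⟩ := exists_lift_of_isIso_residueFieldMap (stabFst G) g
      (isIso_residueFieldMap_of_isPreimmersion' _ g) ρ (fun t => by
        rw [hg2, Subsingleton.elim t t₀])
    refine ⟨?_, fun t => ?_⟩
    · rw [← hρ', Category.assoc, Category.assoc, stab_fst_s, stab_fst_t]
    · obtain ⟨g', hg'1, hg'2⟩ := H t
      rw [Scheme.Hom.comp_apply, ← hg'2, ← Scheme.Hom.comp_apply, stab_fst_s, hg'1]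
  · rintro ⟨h1, h2⟩ t
    refine ⟨toStab G ρ h1 t, ?_, ?_⟩
    · rw [← Scheme.Hom.comp_apply, toStab_snd]
      exact h2 t
    · rw [← Scheme.Hom.comp_apply, toStab_fst]

end stab

/-- **Etale localization, split case**, from the two inputs. -/
theorem main_split (R1 : R1Hyp'.{u}) (R2 : R2mHyp.{u}) (S : Scheme.{u})
    (G : Grpd.GroupoidScheme S) [IsAffine G.U] [IsSeparated G.s] [Flat G.s]
    [LocallyOfFinitePresentation G.s]
    (u : ↥G.U) (hfin : Set.Finite {g : ↥G.stabilizer | G.stabilizerToU g = u})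
    (hqf : ∀ g : ↥G.stabilizer, G.stabilizerToU g = u →
      Dual3.QuasiFiniteAt G.s ((pullback.fst G.j G.diag : G.stabilizer ⟶ G.R) g)) :
    ∃ (G' : Grpd.GroupoidScheme S) (φ : Grpd.GroupoidScheme.Hom G' G) (u' : ↥G'.U),
      IsAffine G'.U ∧ Etale φ.fU ∧ φ.fU u' = u ∧ IsIso (φ.fU.residueFieldMap u') ∧
      IsPullback φ.fR G'.j G.j
        (pullback.map G'.pU G'.pU G.pU G.pU φ.fU φ.fU (𝟙 S)
          ((Category.comp_id _).trans φ.fU_over.symm) ((Category.comp_id _).trans φ.fU_over.symm)) ∧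
      ∃ (P : Scheme.{u}) (ιP : P ⟶ G'.R), IsOpenImmersion ιP ∧
        (∃ eP : G'.U ⟶ P, eP ≫ ιP = G'.e) ∧ (∃ iP : P ⟶ P, iP ≫ ιP = ιP ≫ G'.i) ∧
        (∃ cP : pullback (ιP ≫ G'.s) (ιP ≫ G'.t) ⟶ P,
          cP ≫ ιP = pullback.map (ιP ≫ G'.s) (ιP ≫ G'.t) G'.s G'.t ιP ιP (𝟙 G'.U)
            (Category.comp_id _) (Category.comp_id _) ≫ G'.c) ∧
        IsFinite (ιP ≫ G'.s) ∧ IsFinite (ιP ≫ G'.t) ∧
        ∀ g' : ↥G'.stabilizer, G'.stabilizerToU g' = u' →
          ∃ p : ↥P, ιP p = (pullback.fst G'.j G'.diag : G'.stabilizer ⟶ G'.R) g' := by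
  obtain ⟨G', φ, u', h1, h2, h3, h4, h5, P, ιP, h6, h7, h8, h9, h10, h11, h12⟩ :=
    main_multi R1 R2 S G u (stabSet G u)
      ((hfin.image (stabFst G)).subset (fun r ⟨g, hg1, hg2⟩ => ⟨g, hg1, hg2⟩))
      (fun r ⟨g, hg1, hg2⟩ => by rw [← hg2, ← Scheme.Hom.comp_apply, stab_fst_s, hg1])
      (fun r ⟨g, hg1, hg2⟩ => by rw [← hg2, ← Scheme.Hom.comp_apply, stab_fst_t, hg1])
      ⟨G.eStab u, by
        rw [← Scheme.Hom.comp_apply]
        have : G.eStab ≫ G.stabilizerToU = 𝟙 _ := pullback.lift_snd _ _ _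
        rw [this]; rfl, by
        rw [← Scheme.Hom.comp_apply]
        have : G.eStab ≫ stabFst G = G.e := pullback.lift_fst _ _ _
        rw [this]⟩
      (fun r ⟨g, hg1, hg2⟩ => hg2 ▸ hqf g hg1)
      (fun L _ α β h hα hβ => by
        rw [forall_mem_stabSet_iff] at hα hβ ⊢
        refine ⟨?_, fun t => ?_⟩
        · rw [gcomp_s, gcomp_t]
          exact hβ.1.trans (h.symm.trans hα.1)
        · rw [gcomp_s]; exact hβ.2 t)
      (fun L _ β hβ => by
        rw [forall_mem_stabSet_iff] at hβ ⊢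
        refine ⟨?_, fun t => ?_⟩
        · rw [Category.assoc, Category.assoc, G.i_s, G.i_t, hβ.1]
        · rw [Category.assoc, G.i_s, ← hβ.1]; exact hβ.2 t)
  refine ⟨G', φ, u', h1, h2, h3, h4, h5, P, ιP, h6, h7, h8, h9, h10, h11, ?_⟩
  intro g' hg'
  change ∃ p : ↥P, ιP p = stabFst G' g'
  set r' := stabFst G' g' with hr'
  have t₀ : ↥(Spec (G'.R.residueField r')) := IsLocalRing.closedPoint _
  have hρ' : ∀ t, (G'.R.fromSpecResidueField r') t ∈ stabSet G' u' := fun t => by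
    rw [Scheme.fromSpecResidueField_apply]
    exact ⟨g', hg', rfl⟩
  have hρ'2 := (forall_mem_stabSet_iff G' u' (L := G'.R.residueField r')
    (G'.R.fromSpecResidueField r')).mp hρ'
  obtain ⟨y₀, hy₀⟩ := h12 (G'.R.residueField r') (G'.R.fromSpecResidueField r')
    hρ'2.2 (fun t => by rw [← hρ'2.1]; exact hρ'2.2 t)
    ((forall_mem_stabSet_iff G u _).mpr ⟨by
        rw [Category.assoc, Category.assoc, φ.comm_s, φ.comm_t, ← Category.assoc,
          ← Category.assoc, hρ'2.1], fun t => by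
        rw [Category.assoc, φ.comm_s, ← Category.assoc, Scheme.Hom.comp_apply, hρ'2.2 t, h3]⟩)
  refine ⟨y₀ t₀, ?_⟩
  rw [← Scheme.Hom.comp_apply, hy₀, Scheme.fromSpecResidueField_apply]

end Groth.Agent.H50.GLoc
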