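import Groth.Agent.H50.GLocMain

/-!
# Etale localization of groupoids: a criterion for a point to be good (helper50)
-/

set_option autoImplicit false
set_option linter.style.haveILetI false
universe u
open CategoryTheory CategoryTheory.Limits AlgebraicGeometry

namespace Groth.Agent.H50.GLoc

open Groth.Agent.H90

variable {S : Scheme.{u}} {G : Grpd.GroupoidScheme S}

namespace Chart

variable (C : Chart G)

/-- condition (a) at a `T`-point. -/
def CondA {T : Scheme.{u}} (a : T ⟶ C.U₂) : Prop :=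
  ∀ (xh xg : T ⟶ C.V) (hg : xg ≫ C.π = a ≫ C.p) (_ : xh ≫ C.π = C.lamAt xg a hg)
    (H1 : (xh ≫ C.r) ≫ G.s = (xg ≫ C.r) ≫ G.t)
    (H2 : gcomp G (xh ≫ C.r) (xg ≫ C.r) H1 ≫ G.s = (a ≫ C.p) ≫ C.g₁),
    C.InV (gcomp G (xh ≫ C.r) (xg ≫ C.r) H1) (a ≫ C.p) H2

/-- condition (b) at a `T`-point. -/
def CondB {T : Scheme.{u}} (a : T ⟶ C.U₂) : Prop :=
  ∀ (xk xg : T ⟶ C.V) (_ : xk ≫ C.π = a ≫ C.p) (hg : xg ≫ C.π = a ≫ C.p)
    (H1 : (xk ≫ C.r) ≫ G.s = (xg ≫ C.r ≫ G.i) ≫ G.t)
    (H2 : gcomp G (xk ≫ C.r) (xg ≫ C.r ≫ G.i) H1 ≫ G.s = C.lamAt xg a hg ≫ C.g₁),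
    C.InV (gcomp G (xk ≫ C.r) (xg ≫ C.r ≫ G.i) H1) (C.lamAt xg a hg) H2

/-- condition (c) at a `T`-point. -/
def CondC {T : Scheme.{u}} (a : T ⟶ C.U₂) : Prop :=
  ∀ h' : (a ≫ C.p ≫ C.eV) ≫ C.π = a ≫ C.p, C.lamAt (a ≫ C.p ≫ C.eV) a h' = a ≫ C.p

variable {C}

/-- condition (c) at a `T`-point gives the factorization through the diagonal. -/
theorem δc_of_condC {T : Scheme.{u}} (a : T ⟶ C.U₂) (hC : C.CondC a) :
    a ≫ C.δc = (a ≫ C.p) ≫ pullback.diagonal C.g₁ := by
  have h' : (a ≫ C.p ≫ C.eV) ≫ C.π = a ≫ C.p := by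
    simp only [Category.assoc, C.eV_π, Category.comp_id]
  have e := hC h'
  unfold δc
  apply pullback.hom_ext
  · rw [Category.assoc, pullback.lift_fst, Category.assoc, pullback.diagonal_fst,
      Category.comp_id]
    refine Eq.trans ?_ e
    unfold lamAt ε
    rw [← Category.assoc]
    congr 1
    apply pullback.hom_ext
    · rw [pullback.lift_fst, Category.assoc, pullback.lift_fst]
    · rw [pullback.lift_snd, Category.assoc, pullback.lift_snd, Category.comp_id]
  · rw [Category.assoc, pullback.lift_snd, Category.assoc, pullback.diagonal_snd,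
      Category.comp_id]

/-- a point all of whose field-valued points satisfy (a), (b), (c) is good. -/
theorem mem_good_of_forall (z : ↥C.U₂)
    (H : ∀ (L : Type u) [Field L] (a : Spec (.of L) ⟶ C.U₂), (∀ t, a t = z) →
      C.CondA a ∧ C.CondB a ∧ C.CondC a) : z ∈ C.Good := by
  rintro ((⟨y₀, hy₀, hy₀'⟩ | ⟨y₀, hy₀, hy₀'⟩) | hc)
  · -- (a)
    set ξ := C.Ya.fromSpecResidueField y₀ with hξ
    have hz : ∀ t, (ξ ≫ C.toU₂a) t = z := fun t => by
      rw [Scheme.Hom.comp_apply, hξ, Scheme.fromSpecResidueField_apply, hy₀']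
    obtain ⟨hA, -, -⟩ := H _ (ξ ≫ C.toU₂a) hz
    have hg : (ξ ≫ pullback.snd C.π C.lam ≫ C.v) ≫ C.π = (ξ ≫ C.toU₂a) ≫ C.p := by
      unfold toU₂a
      simp only [Category.assoc]
      rw [pullback.condition (f := C.π)]
    have hh : (ξ ≫ pullback.fst C.π C.lam) ≫ C.π =
        C.lamAt (ξ ≫ pullback.snd C.π C.lam ≫ C.v) (ξ ≫ C.toU₂a) hg := by
      rw [Category.assoc, pullback.condition, ← Category.assoc, C.lam_eq]
      apply C.lamAt_congr
      · simp only [Category.assoc]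
      · unfold toU₂a; simp only [Category.assoc]
    have H1 := C.composable_of _ _ _ hg hh
    have H2 : gcomp G ((ξ ≫ pullback.fst C.π C.lam) ≫ C.r)
        ((ξ ≫ pullback.snd C.π C.lam ≫ C.v) ≫ C.r) H1 ≫ G.s = ((ξ ≫ C.toU₂a) ≫ C.p) ≫ C.g₁ := by
      rw [gcomp_s, C.r_s, hg]
    have hV := hA _ _ hg hh H1 H2
    apply hy₀
    have key : ξ ≫ C.βa = C.ptR₁ _ _ H2 := by
      unfold ptR₁
      apply pullback.hom_ext
      · rw [Category.assoc, C.βa_fst, pullback.lift_fst, comp_gcomp]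
        apply gcomp_congr <;> simp only [Category.assoc]
      · rw [Category.assoc, C.βa_snd, pullback.lift_snd]
        unfold toU₂a; simp only [Category.assoc]
    have t : ↥(Spec (C.Ya.residueField y₀)) := IsLocalRing.closedPoint _
    have := (C.inV_iff_forall H2).mp hV t
    rw [← key] at this
    rw [Scheme.Hom.comp_apply, hξ, Scheme.fromSpecResidueField_apply] at this
    exact this
  · -- (b)
    set ξ := C.Yb.fromSpecResidueField y₀ with hξ
    have hz : ∀ t, (ξ ≫ C.toU₂b) t = z := fun t => by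
      rw [Scheme.Hom.comp_apply, hξ, Scheme.fromSpecResidueField_apply, hy₀']
    obtain ⟨-, hB, -⟩ := H _ (ξ ≫ C.toU₂b) hz
    have hk : (ξ ≫ pullback.fst C.q C.q ≫ C.v) ≫ C.π = (ξ ≫ C.toU₂b) ≫ C.p := by
      unfold toU₂b
      simp only [Category.assoc]
      rw [pullback.condition (f := C.π)]
    have hg : (ξ ≫ pullback.snd C.q C.q ≫ C.v) ≫ C.π = (ξ ≫ C.toU₂b) ≫ C.p := by
      unfold toU₂b
      simp only [Category.assoc]
      rw [pullback.condition (f := C.π), pullback.condition_assoc (f := C.q)]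
    have H1 : ((ξ ≫ pullback.fst C.q C.q ≫ C.v) ≫ C.r) ≫ G.s =
        ((ξ ≫ pullback.snd C.q C.q ≫ C.v) ≫ C.r ≫ G.i) ≫ G.t := by
      have := congrArg (ξ ≫ ·) C.Yb_h1
      simpa only [Category.assoc] using this
    have H2 : gcomp G ((ξ ≫ pullback.fst C.q C.q ≫ C.v) ≫ C.r)
        ((ξ ≫ pullback.snd C.q C.q ≫ C.v) ≫ C.r ≫ G.i) H1 ≫ G.s =
        C.lamAt (ξ ≫ pullback.snd C.q C.q ≫ C.v) (ξ ≫ C.toU₂b) hg ≫ C.g₁ := by
      rw [gcomp_s, C.lamAt_g₁]
      simp only [Category.assoc, G.i_s]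
    have hV := hB _ _ hk hg H1 H2
    apply hy₀
    have key : ξ ≫ C.γb = C.ptR₁ _ _ H2 := by
      unfold ptR₁
      apply pullback.hom_ext
      · rw [Category.assoc, C.γb_fst, pullback.lift_fst, comp_gcomp]
        apply gcomp_congr <;> simp only [Category.assoc]
      · rw [Category.assoc, C.γb_snd, pullback.lift_snd, ← Category.assoc, C.lam_eq]
        apply C.lamAt_congr
        · simp only [Category.assoc]
        · unfold toU₂b
          simp only [Category.assoc]
          rw [pullback.condition (f := C.q) (g := C.q)]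
    have t : ↥(Spec (C.Yb.residueField y₀)) := IsLocalRing.closedPoint _
    have := (C.inV_iff_forall H2).mp hV t
    rw [← key] at this
    rw [Scheme.Hom.comp_apply, hξ, Scheme.fromSpecResidueField_apply] at this
    exact this
  · -- (c)
    apply hc
    set ξ := C.U₂.fromSpecResidueField z with hξ
    have hz : ∀ t, ξ t = z := fun t => by rw [hξ, Scheme.fromSpecResidueField_apply]
    obtain ⟨-, -, hC⟩ := H _ ξ hz
    have key := δc_of_condC ξ hC
    have t : ↥(Spec (C.U₂.residueField z)) := IsLocalRing.closedPoint _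
    have : C.δc z = (ξ ≫ C.δc) t := by
      rw [Scheme.Hom.comp_apply, hz]
    rw [this, key, Scheme.Hom.comp_apply]
    exact ⟨_, rfl⟩

end Chart

end Groth.Agent.H50.GLoc
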