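import Groth.Agent.H50.GLocLiftSpec
import Groth.Agent.H64.Boot5.SectionPt

/-!
# The point clause of the local Weil restriction, for several points in the fibre (helper50)
-/

set_option autoImplicit false
set_option linter.style.haveILetI false
universe u
open CategoryTheory CategoryTheory.Limits AlgebraicGeometry

namespace Groth.Agent.H50.GLoc

/-- the ring of functions of an affine scheme finite over the spectrum of a field has nilpotent
nilradical. -/
theorem isNilpotent_nilradical_of_isFinite {F : Scheme.{u}} (K : CommRingCat.{u}) (hK : IsField K)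
    (f : F ⟶ Spec K) [IsFinite f] : IsNilpotent (nilradical Γ(F, ⊤)) := by
  haveI : IsAffine F := isAffine_of_isAffineHom f
  have hfin : f.appTop.hom.Finite := Scheme.Hom.finite_appTop f
  haveI : IsNoetherianRing K := by
    letI := hK.toField
    infer_instance
  haveI : IsNoetherianRing Γ(Spec K, ⊤) :=
    isNoetherianRing_of_ringEquiv K (Scheme.ΓSpecIso K).commRingCatIsoToRingEquiv.symm
  letI := f.appTop.hom.toAlgebra
  haveI : Module.Finite Γ(Spec K, ⊤) Γ(F, ⊤) := hfin
  haveI : IsNoetherianRing Γ(F, ⊤) := Algebra.FiniteType.isNoetherianRing Γ(Spec K, ⊤) Γ(F, ⊤)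
  exact IsNoetherianRing.isNilpotent_nilradical _

/-- **The point clause** of the local Weil restriction from its universal property. -/
theorem point'_of_univ {U U₁ V U₂ : Scheme.{u}} [IsAffine U] [IsAffine U₁] [IsAffine V]
    [IsAffine U₂] (g₁ : U₁ ⟶ U) [Etale g₁] (π : V ⟶ U₁) [IsFinite π] (τ : V ⟶ U) (p : U₂ ⟶ U₁)
    (lam : pullback π p ⟶ U₁)
    (huniv : ∀ (T : Scheme.{u}) [IsAffine T] (a : T ⟶ U₁) (μ : pullback π a ⟶ U₁),
      μ ≫ g₁ = pullback.fst π a ≫ τ → ∃! b : T ⟶ U₂, b ≫ p = a ∧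
        ∀ x : pullback π a ⟶ pullback π p, x ≫ pullback.fst π p = pullback.fst π a →
          x ≫ pullback.snd π p = pullback.snd π a ≫ b → x ≫ lam = μ)
    (u₁ : ↥U₁) (hres : IsIso (g₁.residueFieldMap u₁)) (hτ : ∀ v : ↥V, π v = u₁ → τ v = g₁ u₁) :
    ∃ u₂ : ↥U₂, p u₂ = u₁ ∧ IsIso (p.residueFieldMap u₂) ∧
      ∀ z : ↥(pullback π p), pullback.snd π p z = u₂ → lam z = u₁ := by
  set a := U₁.fromSpecResidueField u₁ with ha
  haveI : IsAffine (pullback π a) := isAffine_of_isAffineHom (pullback.snd π a)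
  have hpt : ∀ z : ↥(pullback π a), (pullback.fst π a ≫ τ) z = g₁ u₁ := by
    intro z
    rw [Scheme.Hom.comp_apply]
    apply hτ
    rw [← Scheme.Hom.comp_apply, pullback.condition, Scheme.Hom.comp_apply]
    exact Scheme.fromSpecResidueField_apply u₁ _
  have hN : IsNilpotent (nilradical Γ(pullback π a, ⊤)) :=
    isNilpotent_nilradical_of_isFinite (U₁.residueField u₁)
      (Field.toIsField (U₁.residueField u₁)) (pullback.snd π a)
  obtain ⟨μ₀, hμ1, hμ2⟩ := exists_lift_affine g₁ (pullback.fst π a ≫ τ) u₁ hres hpt hN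
  obtain ⟨b₀, ⟨hb1, hb2⟩, -⟩ := huniv (Spec (U₁.residueField u₁)) a μ₀ hμ1
  obtain ⟨h1, h2⟩ := Groth.Agent.H64.Boot5.isIso_residueFieldMap_of_section p u₁ b₀ hb1
  refine ⟨_, h1, h2, ?_⟩
  intro z hz
  have hc : pullback.fst π a ≫ π = (pullback.snd π a ≫ b₀) ≫ p := by
    rw [Category.assoc, hb1, pullback.condition]
  set x₀ : pullback π a ⟶ pullback π p :=
    pullback.lift (pullback.fst π a) (pullback.snd π a ≫ b₀) hc with hx₀
  have e1 : x₀ ≫ pullback.fst π p = pullback.fst π a := pullback.lift_fst _ _ _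
  have e2 : x₀ ≫ pullback.snd π p = pullback.snd π a ≫ b₀ := pullback.lift_snd _ _ _
  have hx₀lam : x₀ ≫ lam = μ₀ := hb2 x₀ e1 e2
  have sq : IsPullback x₀ (pullback.snd π a) (pullback.snd π p) b₀ := by
    refine IsPullback.of_right ?_ e2 (IsPullback.of_hasPullback π p)
    rw [e1, hb1]
    exact IsPullback.of_hasPullback π a
  obtain ⟨z', hz'1, -⟩ := Scheme.exists_preimage_of_isPullback sq z
    (IsLocalRing.closedPoint (U₁.residueField u₁)) hz
  rw [← hz'1, ← Scheme.Hom.comp_apply, hx₀lam]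
  exact hμ2 z'

end Groth.Agent.H50.GLoc
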