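import Groth.Agent.H50.GLocPointU
import Groth.Agent.H50.GLocMulti3
import Groth.Agent.H50.GLocFinal
import Groth.Agent.H65.WeilRestrSch

/-!
# The Weil restriction input `R1Hyp'` and the quasi-split theorem from `R1Hyp'` (helper50)
-/

set_option autoImplicit false
set_option linter.style.haveILetI false
universe u
open CategoryTheory CategoryTheory.Limits AlgebraicGeometry

namespace Groth.Agent.H50.GLoc

open Groth.Agent.H90

/-- the scheme level Weil restriction (helper65) with the general point clause. -/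
theorem r1Hyp' : R1Hyp'.{u} := by
  intro U U₁ V _ _ _ g₁ _ π _ hfree τ
  obtain ⟨U₂, p, lam, hA, hE, hlam, huniv⟩ :=
    Groth.Agent.H65.WeilRestrSch.exists_res_univ g₁ π hfree τ
  exact ⟨U₂, p, lam, hA, hE, hlam, huniv, fun u₁ hres hτ =>
    point'_of_univ g₁ π τ p lam huniv u₁ hres hτ⟩

/-- the single point clause (with normalization) follows from the general point clause when the
residue field extension at `u₁` is trivial. -/
theorem main_of' (R1 : R1Hyp'.{u}) (R2 : R2Hyp.{u}) (S : Scheme.{u}) (G : Grpd.GroupoidScheme S)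
    [IsAffine G.U] [IsSeparated G.s] [Flat G.s] [LocallyOfFinitePresentation G.s]
    (u : ↥G.U) (hqf : Dual3.QuasiFiniteAt G.s (G.e u)) :
    ∃ (G' : Grpd.GroupoidScheme S) (φ : Grpd.GroupoidScheme.Hom G' G) (u' : ↥G'.U),
      IsAffine G'.U ∧ Etale φ.fU ∧ φ.fU u' = u ∧ IsIso (φ.fU.residueFieldMap u') ∧
      IsPullback φ.fR G'.j G.j
        (pullback.map G'.pU G'.pU G.pU G.pU φ.fU φ.fU (𝟙 S)
          ((Category.comp_id _).trans φ.fU_over.symm) ((Category.comp_id _).trans φ.fU_over.symm)) ∧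
      ∃ (P : Scheme.{u}) (ιP : P ⟶ G'.R), IsOpenImmersion ιP ∧
        (∃ eP : G'.U ⟶ P, eP ≫ ιP = G'.e) ∧ (∃ iP : P ⟶ P, iP ≫ ιP = ιP ≫ G'.i) ∧
        (∃ cP : pullback (ιP ≫ G'.s) (ιP ≫ G'.t) ⟶ P,
          cP ≫ ιP = pullback.map (ιP ≫ G'.s) (ιP ≫ G'.t) G'.s G'.t ιP ιP (𝟙 G'.U)
            (Category.comp_id _) (Category.comp_id _) ≫ G'.c) ∧
        IsFinite (ιP ≫ G'.s) ∧ IsFinite (ιP ≫ G'.t) := by
  obtain ⟨U₁, V, g₁, r, π, eV, u₁, w, hU₁, hV, hg₁, hgu, hres₁, heVr, heVπ, hopen, hclosed, hfin,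
    hflat, hlfp, hfree, hfib⟩ := R2 S G u hqf
  have heτ : eV ≫ r ≫ G.t = g₁ := by
    rw [← Category.assoc, heVr, Category.assoc, G.e_t, Category.comp_id]
  obtain ⟨U₂, p, lam, hU₂, hp, hlam, huniv, hpoint⟩ := R1 g₁ π hfree (r ≫ G.t)
  obtain ⟨u₂, hpu, hres₂, hP1⟩ := hpoint u₁ hres₁ (fun v hv => by
    rw [hfib v hv, ← Scheme.Hom.comp_apply, heτ])
  let C : Chart G :=
    { U₁ := U₁, V := V, g₁ := g₁, r := r, π := π, w := w, eV := eV, eV_r := heVr, eV_π := heVπ,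
      U₂ := U₂, p := p, lam := lam, hlam := hlam }
  have h : C.Hyp :=
    { open_ιV := hopen
      closed_ιV := hclosed
      fin_π := hfin
      flat_π := hflat
      lfp_π := hlfp
      etale_g₁ := hg₁
      sep_g₁ := inferInstanceAs (IsSeparated g₁)
      univ := huniv
      aff_U₂ := hU₂ }
  have hw : (C.U₂.fromSpecResidueField u₂ ≫ C.p ≫ C.eV) ≫ C.π =
      C.U₂.fromSpecResidueField u₂ ≫ C.p := by
    simp only [Category.assoc, C.eV_π, Category.comp_id]
  have hnorm : C.lamAt (C.U₂.fromSpecResidueField u₂ ≫ C.p ≫ C.eV)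
      (C.U₂.fromSpecResidueField u₂) hw = C.U₂.fromSpecResidueField u₂ ≫ C.p := by
    refine eq_of_comp_eq_of_apply (L := C.U₂.residueField u₂) C.g₁ u₁ hres₁ _ _ (fun t => ?_)
      (fun t => ?_) ?_
    · unfold Chart.lamAt
      rw [Scheme.Hom.comp_apply]
      apply hP1
      rw [← Scheme.Hom.comp_apply, pullback.lift_snd]
      exact Scheme.fromSpecResidueField_apply u₂ _
    · rw [Scheme.Hom.comp_apply]
      exact (congrArg C.p (Scheme.fromSpecResidueField_apply u₂ _)).trans hpu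
    · rw [C.lamAt_g₁]
      simp only [Category.assoc]
      rw [← Category.assoc C.eV, C.eV_r, Category.assoc, G.e_t, Category.comp_id]
  have hgood : u₂ ∈ C.Good := Chart.mem_good_of_point (C := C) u₁ hfib u₂ hpu hw hnorm
  obtain ⟨u₃, hu₃⟩ : ∃ u₃ : ↥(Chart.U₃ h), Chart.ι₃ h u₃ = u₂ := by
    have : u₂ ∈ Set.range ⇑(Chart.ι₃ h) := by rw [Chart.range_ι₃]; exact hgood
    exact this
  refine Chart.Hyp.main h hp u u₃ ?_ ?_
  · change ((Chart.ι₃ h ≫ p) ≫ g₁) u₃ = u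
    rw [Scheme.Hom.comp_apply, Scheme.Hom.comp_apply, hu₃, hpu, hgu]
  · change IsIso (((Chart.ι₃ h ≫ p) ≫ g₁).residueFieldMap u₃)
    rw [Scheme.residueFieldMap_comp, Scheme.residueFieldMap_comp]
    have i1 : IsIso (p.residueFieldMap (Chart.ι₃ h u₃)) :=
      isIso_residueFieldMap_congr p hu₃ hres₂
    have i2 : IsIso (g₁.residueFieldMap ((Chart.ι₃ h ≫ p) u₃)) :=
      isIso_residueFieldMap_congr g₁ (by rw [Scheme.Hom.comp_apply, hu₃, hpu]) hres₁
    have i3 : IsIso ((Chart.ι₃ h).residueFieldMap u₃) := inferInstance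
    have i4 := @IsIso.comp_isIso _ _ _ _ _ _ _ i1 i3
    exact @IsIso.comp_isIso _ _ _ _ _ _ _ i2 i4

end Groth.Agent.H50.GLoc
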