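import Mathlib
import Groth.Prelude.Def_Grpd
import Groth.Agent.H90.GrpdFibre

/-!
# The restriction of a groupoid scheme along an arbitrary morphism `g : U' ⟶ U` (helper50)

`R' = R ×_{j, U ×_S U} (U' ×_S U')`, with `T`-points `(ρ, b, a)`, `ρ : a ≫ g ⟶ b ≫ g`.
-/

set_option autoImplicit false
universe u
open CategoryTheory CategoryTheory.Limits AlgebraicGeometry

namespace Groth.Agent.H50.GLoc

open Groth.Agent.H90

variable {S : Scheme.{u}} (G : Grpd.GroupoidScheme S) {U' : Scheme.{u}} (g : U' ⟶ G.U)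

/-- `U' ×_S U' ⟶ U ×_S U`. -/
noncomputable def gg : pullback (g ≫ G.pU) (g ≫ G.pU) ⟶ pullback G.pU G.pU :=
  pullback.map (g ≫ G.pU) (g ≫ G.pU) G.pU G.pU g g (𝟙 S) (Category.comp_id _) (Category.comp_id _)

/-- the arrows of the restricted groupoid. -/
noncomputable abbrev RR : Scheme.{u} := pullback G.j (gg G g)

noncomputable def fR : RR G g ⟶ G.R := pullback.fst G.j (gg G g)
noncomputable def tt : RR G g ⟶ U' := pullback.snd G.j (gg G g) ≫ pullback.fst _ _
noncomputable def ss : RR G g ⟶ U' := pullback.snd G.j (gg G g) ≫ pullback.snd _ _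

@[reassoc]
theorem fR_t : fR G g ≫ G.t = tt G g ≫ g := by
  have h := pullback.condition (f := G.j) (g := gg G g)
  have h1 := congrArg (· ≫ pullback.fst G.pU G.pU) h
  simp only [Category.assoc, Grpd.GroupoidScheme.j, gg, pullback.lift_fst, pullback.map] at h1
  exact h1

@[reassoc]
theorem fR_s : fR G g ≫ G.s = ss G g ≫ g := by
  have h := pullback.condition (f := G.j) (g := gg G g)
  have h1 := congrArg (· ≫ pullback.snd G.pU G.pU) h
  simp only [Category.assoc, Grpd.GroupoidScheme.j, gg, pullback.lift_snd, pullback.map] at h1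
  exact h1

section mk
variable {G g} {T : Scheme.{u}}

/-- the `T`-point `(ρ, b, a)` of `R'`. -/
noncomputable def mkR (ρ : T ⟶ G.R) (b a : T ⟶ U') (hb : ρ ≫ G.t = b ≫ g)
    (ha : ρ ≫ G.s = a ≫ g) : T ⟶ RR G g :=
  pullback.lift ρ
    (pullback.lift b a (by
      rw [← Category.assoc, ← hb, ← Category.assoc, ← ha, Category.assoc, Category.assoc,
        G.t_over, G.s_over]))
    (by
      unfold Grpd.GroupoidScheme.j gg
      apply pullback.hom_ext
      · simp only [Category.assoc, pullback.lift_fst, pullback.map]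
        rw [pullback.lift_fst_assoc, hb]
      · simp only [Category.assoc, pullback.lift_snd, pullback.map]
        rw [pullback.lift_snd_assoc, ha])

@[reassoc (attr := simp)]
theorem mkR_fR (ρ : T ⟶ G.R) (b a : T ⟶ U') (hb : ρ ≫ G.t = b ≫ g) (ha : ρ ≫ G.s = a ≫ g) :
    mkR ρ b a hb ha ≫ fR G g = ρ := pullback.lift_fst _ _ _

@[reassoc (attr := simp)]
theorem mkR_tt (ρ : T ⟶ G.R) (b a : T ⟶ U') (hb : ρ ≫ G.t = b ≫ g) (ha : ρ ≫ G.s = a ≫ g) :
    mkR ρ b a hb ha ≫ tt G g = b := by
  unfold mkR tt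
  rw [pullback.lift_snd_assoc, pullback.lift_fst]

@[reassoc (attr := simp)]
theorem mkR_ss (ρ : T ⟶ G.R) (b a : T ⟶ U') (hb : ρ ≫ G.t = b ≫ g) (ha : ρ ≫ G.s = a ≫ g) :
    mkR ρ b a hb ha ≫ ss G g = a := by
  unfold mkR ss
  rw [pullback.lift_snd_assoc, pullback.lift_snd]

theorem RR_ext {x y : T ⟶ RR G g} (h1 : x ≫ fR G g = y ≫ fR G g)
    (h2 : x ≫ tt G g = y ≫ tt G g) (h3 : x ≫ ss G g = y ≫ ss G g) : x = y := by
  apply pullback.hom_ext
  · exact h1
  · apply pullback.hom_ext
    · simpa only [Category.assoc, tt] using h2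
    · simpa only [Category.assoc, ss] using h3

theorem mkR_congr {ρ ρ' : T ⟶ G.R} {b b' a a' : T ⟶ U'} (hρ : ρ = ρ') (hbb : b = b') (haa : a = a')
    (hb : ρ ≫ G.t = b ≫ g) (ha : ρ ≫ G.s = a ≫ g) (hb' : ρ' ≫ G.t = b' ≫ g)
    (ha' : ρ' ≫ G.s = a' ≫ g) : mkR ρ b a hb ha = mkR ρ' b' a' hb' ha' := by
  subst hρ hbb haa; rfl

theorem comp_mkR {T' : Scheme.{u}} (x : T' ⟶ T) (ρ : T ⟶ G.R) (b a : T ⟶ U')
    (hb : ρ ≫ G.t = b ≫ g) (ha : ρ ≫ G.s = a ≫ g) :
    x ≫ mkR ρ b a hb ha = mkR (x ≫ ρ) (x ≫ b) (x ≫ a)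
      (by rw [Category.assoc, hb, Category.assoc]) (by rw [Category.assoc, ha, Category.assoc]) := by
  apply RR_ext <;> simp

theorem eq_mkR (x : T ⟶ RR G g) :
    x = mkR (x ≫ fR G g) (x ≫ tt G g) (x ≫ ss G g)
      (by rw [Category.assoc, fR_t, Category.assoc]) (by rw [Category.assoc, fR_s, Category.assoc]) := by
  apply RR_ext <;> simp

end mk

/-- composition of the restricted groupoid. -/
noncomputable def cc : pullback (ss G g) (tt G g) ⟶ RR G g :=
  mkR (gcomp G (pullback.fst _ _ ≫ fR G g) (pullback.snd _ _ ≫ fR G g)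
      (by rw [Category.assoc, Category.assoc, fR_s, fR_t, pullback.condition_assoc]))
    (pullback.fst _ _ ≫ tt G g) (pullback.snd _ _ ≫ ss G g)
    (by rw [gcomp_t, Category.assoc, Category.assoc, fR_t])
    (by rw [gcomp_s, Category.assoc, Category.assoc, fR_s])

theorem lift_cc {T : Scheme.{u}} (α β : T ⟶ RR G g) (h : α ≫ ss G g = β ≫ tt G g) :
    pullback.lift α β h ≫ cc G g =
      mkR (gcomp G (α ≫ fR G g) (β ≫ fR G g)
        (by rw [Category.assoc, Category.assoc, fR_s, fR_t, reassoc_of% h]))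
        (α ≫ tt G g) (β ≫ ss G g)
        (by rw [gcomp_t, Category.assoc, Category.assoc, fR_t])
        (by rw [gcomp_s, Category.assoc, Category.assoc, fR_s]) := by
  unfold cc
  rw [comp_mkR]
  apply mkR_congr
  · rw [comp_gcomp]
    apply gcomp_congr
    · rw [pullback.lift_fst_assoc]
    · rw [pullback.lift_snd_assoc]
  · rw [pullback.lift_fst_assoc]
  · rw [pullback.lift_snd_assoc]

/-- the restricted groupoid scheme. -/
noncomputable def restr : Grpd.GroupoidScheme S where
  U := U'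
  R := RR G g
  pU := g ≫ G.pU
  pR := fR G g ≫ G.pR
  s := ss G g
  t := tt G g
  e := mkR (g ≫ G.e) (𝟙 _) (𝟙 _) (by rw [Category.assoc, G.e_t, Category.comp_id, Category.id_comp])
    (by rw [Category.assoc, G.e_s, Category.comp_id, Category.id_comp])
  i := mkR (fR G g ≫ G.i) (ss G g) (tt G g) (by rw [Category.assoc, G.i_t, fR_s])
    (by rw [Category.assoc, G.i_s, fR_t])
  c := cc G g
  s_over := by rw [← Category.assoc, ← fR_s, Category.assoc, G.s_over]
  t_over := by rw [← Category.assoc, ← fR_t, Category.assoc, G.t_over]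
  comp_s α β h := by rw [lift_cc, mkR_ss]
  comp_t α β h := by rw [lift_cc, mkR_tt]
  assoc α β γ h₁ h₂ := by
    refine (lift_cc G g _ _ _).trans (Eq.trans ?_ (lift_cc G g _ _ _).symm)
    have H1 : (α ≫ fR G g) ≫ G.s = (β ≫ fR G g) ≫ G.t := by
      rw [Category.assoc, Category.assoc, fR_s, fR_t, reassoc_of% h₁]
    have H2 : (β ≫ fR G g) ≫ G.s = (γ ≫ fR G g) ≫ G.t := by
      rw [Category.assoc, Category.assoc, fR_s, fR_t, reassoc_of% h₂]
    have e1 : (pullback.lift α β h₁ ≫ cc G g) ≫ fR G g =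
        gcomp G (α ≫ fR G g) (β ≫ fR G g) H1 := by rw [lift_cc, mkR_fR]
    have e2 : (pullback.lift β γ h₂ ≫ cc G g) ≫ fR G g =
        gcomp G (β ≫ fR G g) (γ ≫ fR G g) H2 := by rw [lift_cc, mkR_fR]
    apply mkR_congr
    · exact (gcomp_congr G e1 rfl _ ((gcomp_s G _ _ H1).trans H2)).trans
        ((gcomp_assoc G _ _ _ H1 H2).trans
          (gcomp_congr G rfl e2.symm (H1.trans (gcomp_t G _ _ H2).symm) _))
    · rw [lift_cc, mkR_tt]
    · rw [lift_cc, mkR_ss]
  e_s := mkR_ss _ _ _ _ _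
  e_t := mkR_tt _ _ _ _ _
  comp_e α := by
    rw [lift_cc]
    refine (mkR_congr ?_ rfl ?_ _ _ _ _).trans (eq_mkR α).symm
    · apply gcomp_e
      simp only [Category.assoc, mkR_fR, fR_s_assoc]
    · simp only [Category.assoc, mkR_ss, Category.comp_id]
  e_comp α := by
    rw [lift_cc]
    refine (mkR_congr ?_ ?_ rfl _ _ _ _).trans (eq_mkR α).symm
    · apply e_gcomp
      simp only [Category.assoc, mkR_fR, fR_t_assoc]
    · simp only [Category.assoc, mkR_tt, Category.comp_id]
  i_s := mkR_ss _ _ _ _ _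
  i_t := mkR_tt _ _ _ _ _
  comp_i α := by
    refine (lift_cc G g _ _ _).trans ?_
    refine Eq.trans ?_ ((Category.assoc _ _ _).symm.trans (comp_mkR (α ≫ tt G g) _ _ _ _ _)).symm
    apply mkR_congr
    · rw [gcomp_i G _ _ (by simp only [Category.assoc, mkR_fR])]
      simp only [Category.assoc, fR_t_assoc]
    · simp only [Category.assoc, Category.comp_id]
    · simp only [Category.assoc, mkR_ss, Category.comp_id]
  i_comp α := by
    refine (lift_cc G g _ _ _).trans ?_
    refine Eq.trans ?_ ((Category.assoc _ _ _).symm.trans (comp_mkR (α ≫ ss G g) _ _ _ _ _)).symm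
    apply mkR_congr
    · rw [i_gcomp G _ _ (by simp only [Category.assoc, mkR_fR])]
      simp only [Category.assoc, fR_s_assoc]
    · simp only [Category.assoc, mkR_tt, Category.comp_id]
    · simp only [Category.assoc, Category.comp_id]

/-- the canonical morphism of groupoids `G|_{U'} ⟶ G`. -/
noncomputable def restrHom : Grpd.GroupoidScheme.Hom (restr G g) G where
  fU := g
  fR := fR G g
  fU_over := rfl
  comm_s := fR_s G g
  comm_t := fR_t G g
  comm_c α β h := by
    exact (congrArg (· ≫ fR G g) (lift_cc G g α β h)).trans (mkR_fR _ _ _ _ _)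

theorem restr_isPullback :
    IsPullback (restrHom G g).fR (restr G g).j G.j
      (pullback.map (restr G g).pU (restr G g).pU G.pU G.pU (restrHom G g).fU (restrHom G g).fU (𝟙 S)
        ((Category.comp_id _).trans (restrHom G g).fU_over.symm)
        ((Category.comp_id _).trans (restrHom G g).fU_over.symm)) := by
  have h : (restr G g).j = pullback.snd G.j (gg G g) := by
    unfold Grpd.GroupoidScheme.j
    apply pullback.hom_ext
    · rw [pullback.lift_fst]; rfl
    · rw [pullback.lift_snd]; rfl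
  rw [h]
  exact IsPullback.of_hasPullback G.j (gg G g)

end Groth.Agent.H50.GLoc
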