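import Groth.Agent.H50.GLocTau
import Groth.Agent.H50.GLocRestrict2

/-!
# Etale localization of groupoids: the finite open subgroupoid (helper50)
-/

set_option autoImplicit false
set_option linter.style.haveILetI false
universe u
open CategoryTheory CategoryTheory.Limits AlgebraicGeometry

namespace Groth.Agent.H50.GLoc

open Groth.Agent.H90

variable {S : Scheme.{u}} {G : Grpd.GroupoidScheme S}

namespace Chart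

variable {C : Chart G} (h : C.Hyp)

/-- the canonical lift `τ₃ : V₃ ⟶ U₃` with its properties. -/
structure IsTau₃ (τ₃ : V₃ h ⟶ U₃ h) : Prop where
  isTau : IsTau h (τ₃ ≫ ι₃ h)

theorem exists_isTau₃ : ∃ τ₃ : V₃ h ⟶ U₃ h, IsTau₃ h τ₃ := by
  obtain ⟨τ, hτ⟩ := exists_isTau h
  obtain ⟨τ₃, hτ₃⟩ := exists_lift_of_inGood h τ hτ.inGood
  exact ⟨τ₃, ⟨by rw [hτ₃]; exact hτ⟩⟩

variable {h} {τ₃ : V₃ h ⟶ U₃ h} (hτ : IsTau₃ h τ₃)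

include hτ

theorem IsTau₃.comp_p₃ : τ₃ ≫ Chart.p₃ h = lam₃ h := by
  rw [← hτ.isTau.p, Category.assoc]

theorem IsTau₃.prop {T' : Scheme.{u}} (y : T' ⟶ V₃ h) (x x' : T' ⟶ C.V)
    (H1 : (x ≫ C.r) ≫ G.s = (y ≫ v₃ h ≫ C.r) ≫ G.t)
    (hx'r : x' ≫ C.r = gcomp G (x ≫ C.r) (y ≫ v₃ h ≫ C.r) H1)
    (hx'π : x' ≫ C.π = (y ≫ q₃ h ≫ ι₃ h) ≫ C.p)
    (h1 : x ≫ C.π = (y ≫ τ₃ ≫ ι₃ h) ≫ C.p) :
    C.lamAt x (y ≫ τ₃ ≫ ι₃ h) h1 = C.lamAt x' (y ≫ q₃ h ≫ ι₃ h) hx'π :=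
  hτ.isTau.prop T' y x x' H1 hx'r hx'π h1

omit hτ in
/-- uniqueness of morphisms to `U₃`. -/
theorem uniq₃ {T : Scheme.{u}} [IsAffine T] (b b' : T ⟶ U₃ h) (hp : b ≫ p₃ h = b' ≫ p₃ h)
    (H : ∀ (T' : Scheme.{u}) (y : T' ⟶ T) (x : T' ⟶ C.V) (h1 : x ≫ C.π = (y ≫ b ≫ ι₃ h) ≫ C.p)
      (h2 : x ≫ C.π = (y ≫ b' ≫ ι₃ h) ≫ C.p),
      C.lamAt x (y ≫ b ≫ ι₃ h) h1 = C.lamAt x (y ≫ b' ≫ ι₃ h) h2) : b = b' := by
  rw [← cancel_mono (ι₃ h)]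
  apply Univ.uniq C h.univ
  · simpa only [Category.assoc] using hp
  · intro T' y x h1 h2
    exact H T' y x h1 h2

omit hτ in
theorem V₃_ext {T : Scheme.{u}} {z z' : T ⟶ V₃ h} (h1 : z ≫ v₃ h = z' ≫ v₃ h)
    (h2 : z ≫ q₃ h = z' ≫ q₃ h) : z = z' := pullback.hom_ext h1 h2

variable (h) in
/-- `U₃ ⟶ U`. -/
noncomputable abbrev g₃ : U₃ h ⟶ G.U := p₃ h ≫ C.g₁

theorem IsTau₃.ιP_hb : (v₃ h ≫ C.r) ≫ G.t = τ₃ ≫ g₃ h := by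
  rw [← Category.assoc τ₃, hτ.comp_p₃, lam₃_g₁, Category.assoc]

omit hτ in
theorem ιP_ha : (v₃ h ≫ C.r) ≫ G.s = q₃ h ≫ g₃ h := by
  rw [C.r_s, pullback.condition, Category.assoc]

/-- the subgroupoid `P = V₃ ⟶ R|_{U₃}`. -/
noncomputable def IsTau₃.ιP : V₃ h ⟶ RR G (g₃ h) :=
  mkR (v₃ h ≫ C.r) τ₃ (q₃ h) hτ.ιP_hb ιP_ha

@[reassoc]
theorem IsTau₃.ιP_fR : hτ.ιP ≫ fR G (g₃ h) = v₃ h ≫ C.r := mkR_fR _ _ _ _ _

@[reassoc]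
theorem IsTau₃.ιP_tt : hτ.ιP ≫ tt G (g₃ h) = τ₃ := mkR_tt _ _ _ _ _

@[reassoc]
theorem IsTau₃.ιP_ss : hτ.ιP ≫ ss G (g₃ h) = q₃ h := mkR_ss _ _ _ _ _

omit hτ in
variable (h) in
/-- the identity section of `P`. -/
noncomputable def eP : U₃ h ⟶ V₃ h :=
  pullback.lift (p₃ h ≫ C.eV) (𝟙 _) (by rw [Category.assoc, C.eV_π, Category.comp_id,
    Category.id_comp])

omit hτ in
@[reassoc]
theorem eP_v₃ : eP h ≫ v₃ h = p₃ h ≫ C.eV := pullback.lift_fst _ _ _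

omit hτ in
@[reassoc]
theorem eP_q₃ : eP h ≫ q₃ h = 𝟙 _ := pullback.lift_snd _ _ _

theorem IsTau₃.eP_τ₃ : eP h ≫ τ₃ = 𝟙 _ := by
  apply uniq₃
  · rw [Category.assoc, hτ.comp_p₃, comp_lam₃, Category.id_comp]
    have h' : ((𝟙 (U₃ h) ≫ ι₃ h) ≫ C.p ≫ C.eV) ≫ C.π = (𝟙 (U₃ h) ≫ ι₃ h) ≫ C.p := by
      simp only [Category.assoc, C.eV_π, Category.comp_id]
    refine (C.lamAt_congr ?_ ?_ _ h').trans ((lamAt_eV h (𝟙 _) h').trans ?_)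
    · rw [eP_v₃]; simp only [Category.assoc, Category.id_comp]
    · rw [eP_q₃_assoc, Category.id_comp]
    · rw [Category.id_comp]
  · intro T' y x h1 h2
    have hxπ : x ≫ C.π = y ≫ p₃ h := by
      rw [h2]; simp only [Category.assoc, Category.id_comp]
    have H1 : (x ≫ C.r) ≫ G.s = ((y ≫ eP h) ≫ v₃ h ≫ C.r) ≫ G.t := by
      rw [C.r_s, hxπ]
      simp only [Category.assoc, eP_v₃_assoc, C.eV_r, G.e_t, Category.comp_id]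
    have hx'r : x ≫ C.r = gcomp G (x ≫ C.r) ((y ≫ eP h) ≫ v₃ h ≫ C.r) H1 := by
      symm
      apply gcomp_e
      rw [← Category.assoc (x ≫ C.r), C.r_s, hxπ]
      simp only [Category.assoc, eP_v₃_assoc, C.eV_r]
    have hx'π : x ≫ C.π = ((y ≫ eP h) ≫ q₃ h ≫ ι₃ h) ≫ C.p := by
      rw [hxπ]; simp only [Category.assoc, eP_q₃_assoc]
    have h1' : x ≫ C.π = ((y ≫ eP h) ≫ τ₃ ≫ ι₃ h) ≫ C.p := by
      rw [h1]; simp only [Category.assoc]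
    refine (C.lamAt_congr rfl (by simp only [Category.assoc]) _ h1').trans
      ((hτ.prop (y ≫ eP h) x x H1 hx'r hx'π h1').trans (C.lamAt_congr rfl ?_ _ _))
    simp only [Category.assoc, eP_q₃_assoc, Category.id_comp]

theorem IsTau₃.eP_ιP : eP h ≫ hτ.ιP = (restr G (g₃ h)).e := by
  rw [restr_e_eq]
  apply RR_ext
  · rw [Category.assoc, hτ.ιP_fR, eP_v₃_assoc, C.eV_r, mkR_fR, Category.assoc]
    simp only [Category.assoc]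
  · rw [Category.assoc, hτ.ιP_tt, hτ.eP_τ₃, mkR_tt]
  · rw [Category.assoc, hτ.ιP_ss, eP_q₃, mkR_ss]

/-- the inverse of `P`. -/
theorem IsTau₃.exists_iP : ∃ iP : V₃ h ⟶ V₃ h,
    iP ≫ v₃ h ≫ C.r = v₃ h ≫ C.r ≫ G.i ∧ iP ≫ q₃ h = τ₃ ∧ iP ≫ τ₃ = q₃ h := by
  have hk : (q₃ h ≫ p₃ h ≫ C.eV) ≫ C.π = (q₃ h ≫ ι₃ h) ≫ C.p := by
    simp only [Category.assoc, C.eV_π, Category.comp_id]
  have hg : v₃ h ≫ C.π = (q₃ h ≫ ι₃ h) ≫ C.p := v₃_π h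
  have hsrc : (v₃ h ≫ C.r) ≫ G.s = q₃ h ≫ p₃ h ≫ C.g₁ := ιP_ha
  have hsrc' : v₃ h ≫ C.r ≫ G.s = q₃ h ≫ ι₃ h ≫ C.p ≫ C.g₁ := by
    simpa only [Category.assoc] using hsrc
  have H1 : ((q₃ h ≫ p₃ h ≫ C.eV) ≫ C.r) ≫ G.s = (v₃ h ≫ C.r ≫ G.i) ≫ G.t := by
    simp only [Category.assoc, C.eV_r, G.e_s, Category.comp_id, G.i_t]
    simpa only [Category.assoc] using hsrc.symm
  obtain ⟨xi, hxir, hxiπ⟩ := exists_comp_inv h (q₃ h) (q₃ h ≫ p₃ h ≫ C.eV) (v₃ h) hk hg H1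
  have hxir' : xi ≫ C.r = v₃ h ≫ C.r ≫ G.i := by
    rw [hxir]
    apply e_gcomp
    simp only [Category.assoc, C.eV_r]
    rw [reassoc_of% G.i_t, reassoc_of% hsrc']
  have hxiπ' : xi ≫ C.π = τ₃ ≫ p₃ h := by
    rw [hxiπ, hτ.comp_p₃]; rfl
  refine ⟨pullback.lift xi τ₃ hxiπ', ?_, pullback.lift_snd _ _ _, ?_⟩
  · rw [pullback.lift_fst_assoc, hxir']
  set iP : V₃ h ⟶ V₃ h := pullback.lift xi τ₃ hxiπ' with hiP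
  have iP_v₃ : iP ≫ v₃ h = xi := pullback.lift_fst _ _ _
  have iP_q₃ : iP ≫ q₃ h = τ₃ := pullback.lift_snd _ _ _
  -- the `U₁`-component
  have hp : (iP ≫ τ₃) ≫ p₃ h = q₃ h ≫ p₃ h := by
    rw [Category.assoc, hτ.comp_p₃, comp_lam₃]
    have h1 : xi ≫ C.π = (𝟙 (V₃ h) ≫ τ₃ ≫ ι₃ h) ≫ C.p := by
      rw [hxiπ']; simp only [Category.assoc, Category.id_comp]
    have Hc : (xi ≫ C.r) ≫ G.s = (𝟙 (V₃ h) ≫ v₃ h ≫ C.r) ≫ G.t := by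
      rw [hxir', Category.id_comp]; simp only [Category.assoc, G.i_s]
    have hx'r : (q₃ h ≫ p₃ h ≫ C.eV) ≫ C.r = gcomp G (xi ≫ C.r) (𝟙 (V₃ h) ≫ v₃ h ≫ C.r) Hc := by
      symm
      have hc2 : ((v₃ h ≫ C.r) ≫ G.i) ≫ G.s = (v₃ h ≫ C.r) ≫ G.t := by
        rw [Category.assoc, G.i_s]
      refine (gcomp_congr G (hxir'.trans (Category.assoc _ _ _).symm) (Category.id_comp _) _
        hc2).trans ((i_gcomp G (v₃ h ≫ C.r) _ rfl hc2).trans ?_)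
      simp only [Category.assoc, C.eV_r]
      rw [reassoc_of% hsrc']
    have hx'π : (q₃ h ≫ p₃ h ≫ C.eV) ≫ C.π = (𝟙 (V₃ h) ≫ q₃ h ≫ ι₃ h) ≫ C.p := by
      simp only [Category.assoc, C.eV_π, Category.comp_id, Category.id_comp]
    have e1 := hτ.prop (𝟙 (V₃ h)) xi (q₃ h ≫ p₃ h ≫ C.eV) Hc hx'r hx'π h1
    have h' : ((q₃ h ≫ ι₃ h) ≫ C.p ≫ C.eV) ≫ C.π = (q₃ h ≫ ι₃ h) ≫ C.p := by
      simp only [Category.assoc, C.eV_π, Category.comp_id]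
    refine (C.lamAt_congr iP_v₃ ?_ _ h1).trans (e1.trans ((C.lamAt_congr ?_ ?_ _ h').trans
      ((lamAt_eV h (q₃ h) h').trans (Category.assoc _ _ _))))
    · rw [reassoc_of% iP_q₃, Category.id_comp]
    · simp only [Category.assoc]
    · rw [Category.id_comp]
  apply uniq₃ _ _ hp
  intro T' y x h1 h2
  have hxπ : x ≫ C.π = y ≫ q₃ h ≫ p₃ h := by
    rw [h2]; simp only [Category.assoc]
  -- step A
  have hg' : ((y ≫ iP) ≫ v₃ h) ≫ C.π = (((y ≫ iP) ≫ q₃ h) ≫ ι₃ h) ≫ C.p := IsTau.f4 (y ≫ iP)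
  have hh' : x ≫ C.π = C.lamAt ((y ≫ iP) ≫ v₃ h) (((y ≫ iP) ≫ q₃ h) ≫ ι₃ h) hg' := by
    have e0 : x ≫ C.π = (y ≫ iP) ≫ lam₃ h := by
      rw [hxπ, ← hτ.comp_p₃]
      have := congrArg (y ≫ ·) hp
      simp only [Category.assoc] at this ⊢
      exact this.symm
    exact e0.trans ((comp_lam₃ h (y ≫ iP)).trans
      (C.lamAt_congr rfl (Category.assoc _ _ _).symm _ _))
  have HA := C.composable_of _ _ _ hg' hh'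
  obtain ⟨x₁, hx₁r, hx₁π⟩ := exists_comp h ((y ≫ iP) ≫ q₃ h) x ((y ≫ iP) ≫ v₃ h) hg' hh' HA
  -- step B
  have HB : (x ≫ C.r) ≫ G.s = ((y ≫ iP) ≫ v₃ h ≫ C.r) ≫ G.t := by
    rw [HA]; simp only [Category.assoc]
  have hx₁π' : x₁ ≫ C.π = ((y ≫ iP) ≫ q₃ h ≫ ι₃ h) ≫ C.p := by
    rw [hx₁π]; simp only [Category.assoc]
  have h1' : x ≫ C.π = ((y ≫ iP) ≫ τ₃ ≫ ι₃ h) ≫ C.p := by
    rw [h1]; simp only [Category.assoc]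
  have eB := hτ.prop (y ≫ iP) x x₁ HB
    (hx₁r.trans (gcomp_congr G rfl (Category.assoc _ _ _) _ _)) hx₁π' h1'
  -- step C
  have hx₁π'' : x₁ ≫ C.π = (y ≫ τ₃ ≫ ι₃ h) ≫ C.p := by
    rw [hx₁π']; simp only [Category.assoc, reassoc_of% iP_q₃]
  have hxr₁ : x₁ ≫ C.r = gcomp G (x ≫ C.r) ((y ≫ v₃ h ≫ C.r) ≫ G.i)
      (by rw [HB]; simp only [Category.assoc, reassoc_of% iP_v₃, hxir', G.i_t, G.i_s]) := by
    rw [hx₁r]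
    apply gcomp_congr G rfl
    simp only [Category.assoc, reassoc_of% iP_v₃, hxir']
  have HC : (x₁ ≫ C.r) ≫ G.s = (y ≫ v₃ h ≫ C.r) ≫ G.t := by
    rw [hxr₁, gcomp_s, Category.assoc, G.i_s]
  have hxC : x ≫ C.r = gcomp G (x₁ ≫ C.r) (y ≫ v₃ h ≫ C.r) HC := by
    symm
    refine (gcomp_congr G hxr₁ rfl _ ?_).trans (gcomp_i_gcomp G _ _ _ _)
    rw [gcomp_s, Category.assoc, G.i_s]
  have hxπ' : x ≫ C.π = (y ≫ q₃ h ≫ ι₃ h) ≫ C.p := by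
    rw [hxπ]; simp only [Category.assoc]
  have eC := hτ.prop y x₁ x HC hxC hxπ' hx₁π''
  refine (C.lamAt_congr rfl ?_ _ h1').trans (eB.trans ((C.lamAt_congr rfl ?_ _ hx₁π'').trans
    (eC.trans (C.lamAt_congr rfl ?_ _ _))))
  · simp only [Category.assoc]
  · simp only [Category.assoc, reassoc_of% iP_q₃]
  · simp only [Category.assoc]

/-- the composition of `P`. -/
theorem IsTau₃.exists_cP {Pb : Scheme.{u}} [IsAffine Pb] (f s : Pb ⟶ V₃ h)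
    (hfs : f ≫ q₃ h = s ≫ τ₃) (Hc : (f ≫ v₃ h ≫ C.r) ≫ G.s = (s ≫ v₃ h ≫ C.r) ≫ G.t) :
    ∃ cP : Pb ⟶ V₃ h, cP ≫ v₃ h ≫ C.r = gcomp G (f ≫ v₃ h ≫ C.r) (s ≫ v₃ h ≫ C.r) Hc ∧
      cP ≫ q₃ h = s ≫ q₃ h ∧ cP ≫ τ₃ = f ≫ τ₃ := by
  have hg : (s ≫ v₃ h) ≫ C.π = ((s ≫ q₃ h) ≫ ι₃ h) ≫ C.p := IsTau.f4 s
  have hfπ : (f ≫ v₃ h) ≫ C.π = s ≫ lam₃ h := by
    rw [Category.assoc, pullback.condition, reassoc_of% hfs, hτ.comp_p₃]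
  have hh : (f ≫ v₃ h) ≫ C.π = C.lamAt (s ≫ v₃ h) ((s ≫ q₃ h) ≫ ι₃ h) hg :=
    hfπ.trans ((comp_lam₃ h s).trans (C.lamAt_congr rfl (Category.assoc _ _ _).symm _ _))
  have Hc' : ((f ≫ v₃ h) ≫ C.r) ≫ G.s = ((s ≫ v₃ h) ≫ C.r) ≫ G.t := by
    simpa only [Category.assoc] using Hc
  obtain ⟨xc, hxcr, hxcπ⟩ := exists_comp h (s ≫ q₃ h) (f ≫ v₃ h) (s ≫ v₃ h) hg hh Hc'
  have hxcπ' : xc ≫ C.π = (s ≫ q₃ h) ≫ p₃ h := by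
    rw [hxcπ]; simp only [Category.assoc]
  have hxcr' : xc ≫ C.r = gcomp G (f ≫ v₃ h ≫ C.r) (s ≫ v₃ h ≫ C.r) Hc :=
    hxcr.trans (gcomp_congr G (Category.assoc _ _ _) (Category.assoc _ _ _) _ _)
  refine ⟨pullback.lift xc (s ≫ q₃ h) hxcπ', ?_, pullback.lift_snd _ _ _, ?_⟩
  · rw [pullback.lift_fst_assoc, hxcr']
  set cP : Pb ⟶ V₃ h := pullback.lift xc (s ≫ q₃ h) hxcπ' with hcP
  have cP_v₃ : cP ≫ v₃ h = xc := pullback.lift_fst _ _ _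
  have cP_q₃ : cP ≫ q₃ h = s ≫ q₃ h := pullback.lift_snd _ _ _
  -- the `U₁`-component
  have h1 : (f ≫ v₃ h) ≫ C.π = (s ≫ τ₃ ≫ ι₃ h) ≫ C.p := by
    rw [hfπ, ← hτ.comp_p₃]; simp only [Category.assoc]
  have Hc'' : ((f ≫ v₃ h) ≫ C.r) ≫ G.s = (s ≫ v₃ h ≫ C.r) ≫ G.t := by
    simpa only [Category.assoc] using Hc
  have hxcπ'' : xc ≫ C.π = (s ≫ q₃ h ≫ ι₃ h) ≫ C.p := by
    rw [hxcπ]; simp only [Category.assoc]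
  have e1 := hτ.prop s (f ≫ v₃ h) xc Hc''
    (hxcr.trans (gcomp_congr G rfl (Category.assoc _ _ _) _ _)) hxcπ'' h1
  have hp : (cP ≫ τ₃) ≫ p₃ h = (f ≫ τ₃) ≫ p₃ h := by
    rw [Category.assoc, Category.assoc, hτ.comp_p₃, comp_lam₃, comp_lam₃]
    refine (C.lamAt_congr cP_v₃ ?_ _ hxcπ'').trans (e1.symm.trans (C.lamAt_congr rfl ?_ _ _))
    · rw [reassoc_of% cP_q₃]
    · rw [reassoc_of% hfs]
  apply uniq₃ _ _ hp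
  intro T' y x h1x h2x
  -- left hand side
  have hgL : ((y ≫ cP) ≫ v₃ h) ≫ C.π = (((y ≫ cP) ≫ q₃ h) ≫ ι₃ h) ≫ C.p := IsTau.f4 (y ≫ cP)
  have hhL : x ≫ C.π = C.lamAt ((y ≫ cP) ≫ v₃ h) (((y ≫ cP) ≫ q₃ h) ≫ ι₃ h) hgL := by
    have e0 : x ≫ C.π = (y ≫ cP) ≫ lam₃ h := by
      rw [h1x, ← hτ.comp_p₃]; simp only [Category.assoc]
    exact e0.trans ((comp_lam₃ h (y ≫ cP)).trans
      (C.lamAt_congr rfl (Category.assoc _ _ _).symm _ _))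
  have HL := C.composable_of _ _ _ hgL hhL
  obtain ⟨x₁, hx₁r, hx₁π⟩ := exists_comp h ((y ≫ cP) ≫ q₃ h) x ((y ≫ cP) ≫ v₃ h) hgL hhL HL
  have HL' : (x ≫ C.r) ≫ G.s = ((y ≫ cP) ≫ v₃ h ≫ C.r) ≫ G.t := by
    rw [HL]; simp only [Category.assoc]
  have hx₁πL : x₁ ≫ C.π = ((y ≫ cP) ≫ q₃ h ≫ ι₃ h) ≫ C.p := by
    rw [hx₁π]; simp only [Category.assoc]
  have h1L : x ≫ C.π = ((y ≫ cP) ≫ τ₃ ≫ ι₃ h) ≫ C.p := by
    rw [h1x]; simp only [Category.assoc]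
  have eL := hτ.prop (y ≫ cP) x x₁ HL'
    (hx₁r.trans (gcomp_congr G rfl (Category.assoc _ _ _) _ _)) hx₁πL h1L
  -- right hand side, first step
  have hgR : ((y ≫ f) ≫ v₃ h) ≫ C.π = (((y ≫ f) ≫ q₃ h) ≫ ι₃ h) ≫ C.p := IsTau.f4 (y ≫ f)
  have hhR : x ≫ C.π = C.lamAt ((y ≫ f) ≫ v₃ h) (((y ≫ f) ≫ q₃ h) ≫ ι₃ h) hgR := by
    have e0 : x ≫ C.π = (y ≫ f) ≫ lam₃ h := by
      rw [h2x, ← hτ.comp_p₃]; simp only [Category.assoc]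
    exact e0.trans ((comp_lam₃ h (y ≫ f)).trans
      (C.lamAt_congr rfl (Category.assoc _ _ _).symm _ _))
  have HR := C.composable_of _ _ _ hgR hhR
  obtain ⟨x₂, hx₂r, hx₂π⟩ := exists_comp h ((y ≫ f) ≫ q₃ h) x ((y ≫ f) ≫ v₃ h) hgR hhR HR
  have HR' : (x ≫ C.r) ≫ G.s = ((y ≫ f) ≫ v₃ h ≫ C.r) ≫ G.t := by
    rw [HR]; simp only [Category.assoc]
  have hx₂πR : x₂ ≫ C.π = ((y ≫ f) ≫ q₃ h ≫ ι₃ h) ≫ C.p := by
    rw [hx₂π]; simp only [Category.assoc]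
  have h1R : x ≫ C.π = ((y ≫ f) ≫ τ₃ ≫ ι₃ h) ≫ C.p := by
    rw [h2x]; simp only [Category.assoc]
  have eR := hτ.prop (y ≫ f) x x₂ HR'
    (hx₂r.trans (gcomp_congr G rfl (Category.assoc _ _ _) _ _)) hx₂πR h1R
  -- right hand side, second step
  have hx₂π' : x₂ ≫ C.π = ((y ≫ s) ≫ τ₃ ≫ ι₃ h) ≫ C.p := by
    rw [hx₂πR]; simp only [Category.assoc, reassoc_of% hfs]
  have hx₁π' : x₁ ≫ C.π = ((y ≫ s) ≫ q₃ h ≫ ι₃ h) ≫ C.p := by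
    rw [hx₁πL]; simp only [Category.assoc, reassoc_of% cP_q₃]
  have HS : (x₂ ≫ C.r) ≫ G.s = ((y ≫ s) ≫ v₃ h ≫ C.r) ≫ G.t := by
    rw [hx₂r, gcomp_s]
    have := congrArg (y ≫ ·) Hc
    simpa only [Category.assoc] using this
  have hx₁S : x₁ ≫ C.r = gcomp G (x₂ ≫ C.r) ((y ≫ s) ≫ v₃ h ≫ C.r) HS := by
    rw [hx₁r]
    have hyc : ((y ≫ cP) ≫ v₃ h) ≫ C.r =
        gcomp G (((y ≫ f) ≫ v₃ h) ≫ C.r) ((y ≫ s) ≫ v₃ h ≫ C.r)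
          (by rw [← HS, hx₂r, gcomp_s]) := by
      rw [Category.assoc y, cP_v₃, Category.assoc, hxcr', comp_gcomp]
      apply gcomp_congr <;> simp only [Category.assoc]
    refine (gcomp_congr G rfl hyc _ ?_).trans ((gcomp_assoc G _ _ _ HR _).symm.trans
      (gcomp_congr G hx₂r.symm rfl _ _))
    rw [gcomp_t, HR]
  have eS := hτ.prop (y ≫ s) x₂ x₁ HS hx₁S hx₁π' hx₂π'
  refine (C.lamAt_congr rfl ?_ _ h1L).trans (eL.trans ((C.lamAt_congr rfl ?_ _ hx₁π').trans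
    (eS.symm.trans ((C.lamAt_congr rfl ?_ _ hx₂πR).trans (eR.symm.trans
      (C.lamAt_congr rfl ?_ _ _))))))
  · simp only [Category.assoc]
  · simp only [Category.assoc, reassoc_of% cP_q₃]
  · simp only [Category.assoc, reassoc_of% hfs]
  · simp only [Category.assoc]

end Chart

end Groth.Agent.H50.GLoc
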