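import Groth.Agent.H50.GLocSub
import Groth.Agent.H50.GLocGpd2

/-!
# Etale localization of groupoids: `P` is a finite open subgroupoid (helper50)
-/

set_option autoImplicit false
set_option linter.style.haveILetI false
universe u
open CategoryTheory CategoryTheory.Limits AlgebraicGeometry

namespace Groth.Agent.H50.GLoc

open Groth.Agent.H90

variable {S : Scheme.{u}} {G : Grpd.GroupoidScheme S}

namespace Chart

variable {C : Chart G} {h : C.Hyp} {τ₃ : V₃ h ⟶ U₃ h} (hτ : IsTau₃ h τ₃)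

variable (h) in
/-- `R ×_{s,U} U₃ ⟶ R ×_{s,U} U₁`. -/
noncomputable def κ₃ : pullback G.s (g₃ h) ⟶ C.R₁ :=
  pullback.lift (pullback.fst _ _) (pullback.snd _ _ ≫ p₃ h)
    (by rw [pullback.condition, Category.assoc])

include hτ

theorem IsTau₃.isPullback_ιP :
    IsPullback (hτ.ιP ≫ ψ G (g₃ h)) (v₃ h) (κ₃ h) C.ιV := by
  refine ⟨⟨?_⟩, ⟨PullbackCone.IsLimit.mk _
    (fun c => pullback.lift c.snd (c.fst ≫ pullback.snd _ _) ?_) ?_ ?_ ?_⟩⟩
  · unfold κ₃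
    apply pullback.hom_ext
    · simp only [Category.assoc, pullback.lift_fst, ψ_fst, hτ.ιP_fR, C.ιV_fst]
    · simp only [Category.assoc, pullback.lift_snd, ψ_snd_assoc, hτ.ιP_ss_assoc, C.ιV_snd]
      exact (pullback.condition (f := C.π)).symm
  · have := congrArg (· ≫ pullback.snd G.s C.g₁) c.condition
    simp only [Category.assoc, C.ιV_snd, κ₃, pullback.lift_snd] at this
    rw [← this, Category.assoc]
  · intro c
    apply pullback.hom_ext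
    · have := congrArg (· ≫ pullback.fst G.s C.g₁) c.condition
      simp only [Category.assoc, C.ιV_fst, κ₃, pullback.lift_fst] at this
      simp only [Category.assoc, ψ_fst, hτ.ιP_fR]
      rw [pullback.lift_fst_assoc, this]
    · simp only [Category.assoc, ψ_snd, hτ.ιP_ss]
      rw [pullback.lift_snd]
  · intro c
    exact pullback.lift_fst _ _ _
  · intro c m h1 h2
    apply pullback.hom_ext
    · rw [pullback.lift_fst]; exact h2
    · rw [pullback.lift_snd, ← h1]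
      simp only [Category.assoc, ψ_snd, hτ.ιP_ss]

theorem IsTau₃.isOpenImmersion_ιP (hp : Etale C.p) : IsOpenImmersion hτ.ιP := by
  haveI := h.open_ιV
  haveI := h.etale_g₁
  haveI : Etale (g₃ h) := by unfold g₃ p₃; infer_instance
  haveI : IsOpenImmersion (hτ.ιP ≫ ψ G (g₃ h)) :=
    MorphismProperty.of_isPullback (P := @IsOpenImmersion) hτ.isPullback_ιP.flip inferInstance
  haveI : Mono hτ.ιP := mono_of_mono hτ.ιP (ψ G (g₃ h))
  haveI : Etale hτ.ιP := Etale.of_comp hτ.ιP (ψ G (g₃ h))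
  exact IsOpenImmersion.of_flat_of_mono hτ.ιP

theorem IsTau₃.isFinite_q₃ : IsFinite (hτ.ιP ≫ ss G (g₃ h)) := by
  haveI := h.fin_π
  rw [hτ.ιP_ss]
  infer_instance

theorem IsTau₃.isFinite_τ₃ : IsFinite (hτ.ιP ≫ tt G (g₃ h)) := by
  haveI := h.fin_π
  haveI := h.open_ιV
  rw [hτ.ιP_tt]
  obtain ⟨iP, h1, h2, h3⟩ := hτ.exists_iP
  have hii : iP ≫ iP = 𝟙 _ := by
    apply V₃_ext
    · apply C.ιV_mono
      · simp only [Category.assoc, Category.id_comp]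
        rw [h1, reassoc_of% h1, i_i G, Category.comp_id]
      · simp only [Category.assoc, Category.id_comp]
        rw [pullback.condition, reassoc_of% h2, reassoc_of% h3]
    · rw [Category.assoc, h2, h3, Category.id_comp]
  haveI : IsIso iP := ⟨iP, hii, hii⟩
  rw [← h2]
  infer_instance

theorem IsTau₃.iP_ιP : ∃ iP : V₃ h ⟶ V₃ h, iP ≫ hτ.ιP = hτ.ιP ≫
    (mkR (fR G (g₃ h) ≫ G.i) (ss G (g₃ h)) (tt G (g₃ h)) (by rw [Category.assoc, G.i_t, fR_s])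
      (by rw [Category.assoc, G.i_s, fR_t]) : RR G (g₃ h) ⟶ RR G (g₃ h)) := by
  obtain ⟨iP, h1, h2, h3⟩ := hτ.exists_iP
  refine ⟨iP, ?_⟩
  apply RR_ext
  · simp only [Category.assoc, mkR_fR, hτ.ιP_fR, hτ.ιP_fR_assoc, h1]
  · simp only [Category.assoc, mkR_tt, hτ.ιP_tt, hτ.ιP_ss, h3]
  · simp only [Category.assoc, mkR_ss, hτ.ιP_tt, hτ.ιP_ss, h2]

theorem IsTau₃.cP_ιP :
    ∃ cP : pullback (hτ.ιP ≫ ss G (g₃ h)) (hτ.ιP ≫ tt G (g₃ h)) ⟶ V₃ h,
      cP ≫ hτ.ιP = pullback.map (hτ.ιP ≫ ss G (g₃ h)) (hτ.ιP ≫ tt G (g₃ h)) (ss G (g₃ h))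
        (tt G (g₃ h)) hτ.ιP hτ.ιP (𝟙 _) (Category.comp_id _) (Category.comp_id _) ≫
          cc G (g₃ h) := by
  have hfs : pullback.fst (hτ.ιP ≫ ss G (g₃ h)) (hτ.ιP ≫ tt G (g₃ h)) ≫ q₃ h =
      pullback.snd (hτ.ιP ≫ ss G (g₃ h)) (hτ.ιP ≫ tt G (g₃ h)) ≫ τ₃ := by
    have := pullback.condition (f := hτ.ιP ≫ ss G (g₃ h)) (g := hτ.ιP ≫ tt G (g₃ h))
    exact (congrArg (pullback.fst _ _ ≫ ·) hτ.ιP_ss).symm.trans
      (this.trans (congrArg (pullback.snd _ _ ≫ ·) hτ.ιP_tt))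
  have Hc : (pullback.fst (hτ.ιP ≫ ss G (g₃ h)) (hτ.ιP ≫ tt G (g₃ h)) ≫ v₃ h ≫ C.r) ≫ G.s =
      (pullback.snd (hτ.ιP ≫ ss G (g₃ h)) (hτ.ιP ≫ tt G (g₃ h)) ≫ v₃ h ≫ C.r) ≫ G.t := by
    rw [Category.assoc, ιP_ha, reassoc_of% hfs, Category.assoc, hτ.ιP_hb]
  haveI : IsAffine (pullback (hτ.ιP ≫ ss G (g₃ h)) (hτ.ιP ≫ tt G (g₃ h))) := inferInstance
  obtain ⟨cP, h1, h2, h3⟩ := hτ.exists_cP _ _ hfs Hc
  refine ⟨cP, ?_⟩
  have hmap : pullback.map (hτ.ιP ≫ ss G (g₃ h)) (hτ.ιP ≫ tt G (g₃ h)) (ss G (g₃ h))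
      (tt G (g₃ h)) hτ.ιP hτ.ιP (𝟙 _) (Category.comp_id _) (Category.comp_id _) =
      pullback.lift (pullback.fst _ _ ≫ hτ.ιP) (pullback.snd _ _ ≫ hτ.ιP)
        (by simp only [Category.assoc]; exact pullback.condition) := by
    apply pullback.hom_ext <;> simp [pullback.map]
  rw [hmap, lift_cc]
  apply RR_ext
  · simp only [Category.assoc, mkR_fR, hτ.ιP_fR, h1]
  · simp only [Category.assoc, mkR_tt, hτ.ιP_tt, h3]
  · simp only [Category.assoc, mkR_ss, hτ.ιP_ss, h2]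

end Chart

end Groth.Agent.H50.GLoc
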