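import Groth.Agent.H50.GLocGood
import Groth.Agent.H50.GLocGpd

/-!
# Etale localization of groupoids: the canonical lift `τ` on the good locus (helper50)
-/

set_option autoImplicit false
set_option linter.style.haveILetI false
universe u
open CategoryTheory CategoryTheory.Limits AlgebraicGeometry

namespace Groth.Agent.H50.GLoc

open Groth.Agent.H90

variable {S : Scheme.{u}} {G : Grpd.GroupoidScheme S}

/-- two points with the same image have a common field-valued point. -/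
theorem exists_field_points {X Y Z : Scheme.{u}} (f : X ⟶ Z) (g : Y ⟶ Z) (x : X) (y : Y)
    (h : f x = g y) :
    ∃ (K : Type u) (_ : Field K) (ξ : Spec (.of K) ⟶ X) (ω : Spec (.of K) ⟶ Y),
      ξ ≫ f = ω ≫ g ∧ (∀ t, ξ t = x) ∧ (∀ t, ω t = y) := by
  obtain ⟨z, hz1, hz2⟩ := Scheme.Pullback.exists_preimage_pullback x y h
  refine ⟨(pullback f g).residueField z, inferInstance,
    (pullback f g).fromSpecResidueField z ≫ pullback.fst f g,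
    (pullback f g).fromSpecResidueField z ≫ pullback.snd f g, ?_, ?_, ?_⟩
  · rw [Category.assoc, Category.assoc, pullback.condition]
  · intro t
    rw [Scheme.Hom.comp_apply, Scheme.fromSpecResidueField_apply, hz1]
  · intro t
    rw [Scheme.Hom.comp_apply, Scheme.fromSpecResidueField_apply, hz2]

namespace Chart

variable {C : Chart G} (h : C.Hyp)

/-- the good locus as an open subscheme of `U₂`. -/
def goodOpen : C.U₂.Opens := ⟨C.Good, h.isClopen_good.2⟩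

/-- the good locus as a scheme. -/
noncomputable abbrev U₃ : Scheme.{u} := (goodOpen h).toScheme

noncomputable abbrev ι₃ : U₃ h ⟶ C.U₂ := (goodOpen h).ι

theorem range_ι₃ : Set.range ⇑(ι₃ h) = C.Good := by
  rw [Scheme.Opens.range_ι]; rfl

instance isAffine_U₃ : IsAffine (U₃ h) := by
  haveI := h.aff_U₂
  haveI : IsClosedImmersion (ι₃ h) :=
    IsClosedImmersion.of_isPreimmersion _ (by rw [range_ι₃]; exact h.isClopen_good.1)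
  exact isAffine_of_isAffineHom (ι₃ h)

theorem inGood_comp_ι₃ {T : Scheme.{u}} (a : T ⟶ U₃ h) : C.InGood (a ≫ ι₃ h) := fun t => by
  rw [← range_ι₃ h, Scheme.Hom.comp_apply]
  exact ⟨_, rfl⟩

theorem exists_lift_of_inGood {T : Scheme.{u}} (a : T ⟶ C.U₂) (ha : C.InGood a) :
    ∃ a₃ : T ⟶ U₃ h, a₃ ≫ ι₃ h = a := by
  refine ⟨IsOpenImmersion.lift (ι₃ h) a ?_, IsOpenImmersion.lift_fac _ _ _⟩
  rintro _ ⟨t, rfl⟩
  rw [range_ι₃]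
  exact ha t

noncomputable abbrev p₃ : U₃ h ⟶ C.U₁ := ι₃ h ≫ C.p

/-- `V₃ = V ×_{U₁} U₃`. -/
noncomputable abbrev V₃ : Scheme.{u} := pullback C.π (p₃ h)
noncomputable abbrev v₃ : V₃ h ⟶ C.V := pullback.fst C.π (p₃ h)
noncomputable abbrev q₃ : V₃ h ⟶ U₃ h := pullback.snd C.π (p₃ h)

instance isAffine_V₃ : IsAffine (V₃ h) := by
  haveI := h.fin_π
  exact isAffine_of_isAffineHom (q₃ h)

theorem v₃_π : v₃ h ≫ C.π = (q₃ h ≫ ι₃ h) ≫ C.p := by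
  rw [Category.assoc]; exact pullback.condition

/-- the restriction of the lift to `V₃`. -/
noncomputable def lam₃ : V₃ h ⟶ C.U₁ := C.lamAt (v₃ h) (q₃ h ≫ ι₃ h) (v₃_π h)

theorem comp_lam₃ {T : Scheme.{u}} (y : T ⟶ V₃ h) :
    y ≫ lam₃ h = C.lamAt (y ≫ v₃ h) (y ≫ q₃ h ≫ ι₃ h)
      (by simp only [Category.assoc]; rw [pullback.condition]) := by
  unfold lam₃
  rw [C.comp_lamAt]

theorem lam₃_g₁ : lam₃ h ≫ C.g₁ = v₃ h ≫ C.r ≫ G.t := C.lamAt_g₁ _ _ _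

/-- composition `V_{lam g} × {g} ⟶ V` over the good locus. -/
theorem exists_comp {T : Scheme.{u}} (a₃ : T ⟶ U₃ h) (xh xg : T ⟶ C.V)
    (hg : xg ≫ C.π = (a₃ ≫ ι₃ h) ≫ C.p) (hh : xh ≫ C.π = C.lamAt xg (a₃ ≫ ι₃ h) hg)
    (H1 : (xh ≫ C.r) ≫ G.s = (xg ≫ C.r) ≫ G.t) :
    ∃ x' : T ⟶ C.V, x' ≫ C.r = gcomp G (xh ≫ C.r) (xg ≫ C.r) H1 ∧
      x' ≫ C.π = (a₃ ≫ ι₃ h) ≫ C.p := by
  haveI := h.open_ιV
  have H2 : gcomp G (xh ≫ C.r) (xg ≫ C.r) H1 ≫ G.s = ((a₃ ≫ ι₃ h) ≫ C.p) ≫ C.g₁ := by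
    rw [gcomp_s, Category.assoc, C.w, reassoc_of% hg]
    simp only [Category.assoc]
  exact ((inGood_comp_ι₃ h a₃).ga xh xg hg hh H1 H2).exists_lift

/-- inversion-translation `V_a × {g ∈ V_a} ⟶ V_{lam g}` over the good locus. -/
theorem exists_comp_inv {T : Scheme.{u}} (a₃ : T ⟶ U₃ h) (xk xg : T ⟶ C.V)
    (hk : xk ≫ C.π = (a₃ ≫ ι₃ h) ≫ C.p) (hg : xg ≫ C.π = (a₃ ≫ ι₃ h) ≫ C.p)
    (H1 : (xk ≫ C.r) ≫ G.s = (xg ≫ C.r ≫ G.i) ≫ G.t) :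
    ∃ x' : T ⟶ C.V, x' ≫ C.r = gcomp G (xk ≫ C.r) (xg ≫ C.r ≫ G.i) H1 ∧
      x' ≫ C.π = C.lamAt xg (a₃ ≫ ι₃ h) hg := by
  haveI := h.open_ιV
  have H2 : gcomp G (xk ≫ C.r) (xg ≫ C.r ≫ G.i) H1 ≫ G.s =
      C.lamAt xg (a₃ ≫ ι₃ h) hg ≫ C.g₁ := by
    rw [gcomp_s, C.lamAt_g₁]
    simp only [Category.assoc, G.i_s]
  exact ((inGood_comp_ι₃ h a₃).gb xk xg hk hg H1 H2).exists_lift

theorem lamAt_eV {T : Scheme.{u}} (a₃ : T ⟶ U₃ h)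
    (h' : ((a₃ ≫ ι₃ h) ≫ C.p ≫ C.eV) ≫ C.π = (a₃ ≫ ι₃ h) ≫ C.p) :
    C.lamAt ((a₃ ≫ ι₃ h) ≫ C.p ≫ C.eV) (a₃ ≫ ι₃ h) h' = (a₃ ≫ ι₃ h) ≫ C.p :=
  (inGood_comp_ι₃ h a₃).gc h h'

/-- pairs `(x, z)`, `z` a point of `V₃`, `x ∈ V_{lam₃ z}`. -/
noncomputable abbrev Y₃ : Scheme.{u} := pullback C.π (lam₃ h)

theorem exists_τ : ∃ τ : V₃ h ⟶ C.U₂, τ ≫ C.p = lam₃ h ∧
    ∀ (T' : Scheme.{u}) (y : T' ⟶ V₃ h) (x x' : T' ⟶ C.V)
      (H1 : (x ≫ C.r) ≫ G.s = (y ≫ v₃ h ≫ C.r) ≫ G.t)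
      (_ : x' ≫ C.r = gcomp G (x ≫ C.r) (y ≫ v₃ h ≫ C.r) H1)
      (hx'π : x' ≫ C.π = (y ≫ q₃ h ≫ ι₃ h) ≫ C.p)
      (h1 : x ≫ C.π = (y ≫ τ) ≫ C.p),
      C.lamAt x (y ≫ τ) h1 = C.lamAt x' (y ≫ q₃ h ≫ ι₃ h) hx'π := by
  haveI := h.open_ιV
  have hg : (pullback.snd C.π (lam₃ h) ≫ v₃ h) ≫ C.π =
      ((pullback.snd C.π (lam₃ h) ≫ q₃ h) ≫ ι₃ h) ≫ C.p := by
    simp only [Category.assoc]; rw [pullback.condition]
  have hh : pullback.fst C.π (lam₃ h) ≫ C.π =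
      C.lamAt (pullback.snd C.π (lam₃ h) ≫ v₃ h) ((pullback.snd C.π (lam₃ h) ≫ q₃ h) ≫ ι₃ h) hg := by
    rw [pullback.condition, comp_lam₃]
    exact C.lamAt_congr rfl (Category.assoc _ _ _).symm _ _
  have H0 : (pullback.fst C.π (lam₃ h) ≫ C.r) ≫ G.s =
      ((pullback.snd C.π (lam₃ h) ≫ v₃ h) ≫ C.r) ≫ G.t := by
    rw [Category.assoc, C.w, reassoc_of% hh, C.lamAt_g₁]
    simp only [Category.assoc]
  obtain ⟨ρ, hρr, hρπ⟩ := exists_comp h (pullback.snd C.π (lam₃ h) ≫ q₃ h)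
    (pullback.fst C.π (lam₃ h)) (pullback.snd C.π (lam₃ h) ≫ v₃ h) hg hh H0
  have hμ : C.lamAt ρ ((pullback.snd C.π (lam₃ h) ≫ q₃ h) ≫ ι₃ h) hρπ ≫ C.g₁ =
      pullback.fst C.π (lam₃ h) ≫ C.r ≫ G.t := by
    rw [C.lamAt_g₁, ← Category.assoc, hρr, gcomp_t, Category.assoc]
  obtain ⟨τ, hτp, hτ⟩ := Univ.exists C h.univ (lam₃ h) _ hμ
  refine ⟨τ, hτp, fun T' y x x' H1 hx'r hx'π h1 => ?_⟩
  have hx : x ≫ C.π = y ≫ lam₃ h := by rw [h1, Category.assoc, hτp]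
  rw [hτ T' y x hx h1, C.comp_lamAt]
  apply C.lamAt_congr
  · apply C.ιV_mono
    · rw [Category.assoc, hρr, hx'r, comp_gcomp]
      apply gcomp_congr
      · rw [pullback.lift_fst_assoc]
      · simp only [Category.assoc]; rw [pullback.lift_snd_assoc]
    · rw [Category.assoc, hρπ, hx'π]
      simp only [Category.assoc]
      rw [pullback.lift_snd_assoc]
  · simp only [Category.assoc]
    rw [pullback.lift_snd_assoc]

/-- the defining properties of the canonical lift `τ : V₃ ⟶ U₂`. -/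
structure IsTau (τ : V₃ h ⟶ C.U₂) : Prop where
  p : τ ≫ C.p = lam₃ h
  prop : ∀ (T' : Scheme.{u}) (y : T' ⟶ V₃ h) (x x' : T' ⟶ C.V)
      (H1 : (x ≫ C.r) ≫ G.s = (y ≫ v₃ h ≫ C.r) ≫ G.t)
      (_ : x' ≫ C.r = gcomp G (x ≫ C.r) (y ≫ v₃ h ≫ C.r) H1)
      (hx'π : x' ≫ C.π = (y ≫ q₃ h ≫ ι₃ h) ≫ C.p)
      (h1 : x ≫ C.π = (y ≫ τ) ≫ C.p),
      C.lamAt x (y ≫ τ) h1 = C.lamAt x' (y ≫ q₃ h ≫ ι₃ h) hx'π

theorem exists_isTau : ∃ τ : V₃ h ⟶ C.U₂, IsTau h τ := by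
  obtain ⟨τ, h1, h2⟩ := exists_τ h
  exact ⟨τ, h1, h2⟩

section stab

variable {h} {τ : V₃ h ⟶ C.U₂} (hτ : IsTau h τ) {T : Scheme.{u}} (ω : T ⟶ V₃ h)

include hτ

omit hτ in
theorem IsTau.f4 : (ω ≫ v₃ h) ≫ C.π = ((ω ≫ q₃ h) ≫ ι₃ h) ≫ C.p := by
  simp only [Category.assoc]; rw [pullback.condition]

theorem IsTau.f3 : (ω ≫ τ) ≫ C.p = C.lamAt (ω ≫ v₃ h) ((ω ≫ q₃ h) ≫ ι₃ h) (IsTau.f4 ω) := by
  rw [Category.assoc, hτ.p, comp_lam₃]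
  exact C.lamAt_congr rfl (Category.assoc _ _ _).symm _ _

/-- condition (a) holds at the points `ω ≫ τ`. -/
theorem IsTau.stabA (xh g₂ : T ⟶ C.V) (f1 : g₂ ≫ C.π = (ω ≫ τ) ≫ C.p)
    (f2 : xh ≫ C.π = C.lamAt g₂ (ω ≫ τ) f1) (H : (xh ≫ C.r) ≫ G.s = (g₂ ≫ C.r) ≫ G.t) :
    ∃ x₃ : T ⟶ C.V, x₃ ≫ C.r = gcomp G (xh ≫ C.r) (g₂ ≫ C.r) H ∧
      x₃ ≫ C.π = (ω ≫ τ) ≫ C.p := by
  have f4 := IsTau.f4 (h := h) ω
  have f3 := hτ.f3 ω
  -- step 1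
  have hh1 : g₂ ≫ C.π = C.lamAt (ω ≫ v₃ h) ((ω ≫ q₃ h) ≫ ι₃ h) f4 := f1.trans f3
  have H11 : (g₂ ≫ C.r) ≫ G.s = ((ω ≫ v₃ h) ≫ C.r) ≫ G.t := by
    rw [Category.assoc, C.w, reassoc_of% hh1, C.lamAt_g₁]
    simp only [Category.assoc]
  obtain ⟨x₁, hx₁r, hx₁π⟩ := exists_comp h (ω ≫ q₃ h) g₂ (ω ≫ v₃ h) f4 hh1 H11
  -- step 2
  have H1' : (g₂ ≫ C.r) ≫ G.s = (ω ≫ v₃ h ≫ C.r) ≫ G.t := by
    rw [H11]; simp only [Category.assoc]
  have hx₁π' : x₁ ≫ C.π = (ω ≫ q₃ h ≫ ι₃ h) ≫ C.p := by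
    rw [hx₁π]; simp only [Category.assoc]
  have e2 := hτ.prop T ω g₂ x₁ H1'
    (hx₁r.trans (gcomp_congr G rfl (Category.assoc _ _ _) _ _)) hx₁π' f1
  -- step 3
  have hh2 : xh ≫ C.π = C.lamAt x₁ ((ω ≫ q₃ h) ≫ ι₃ h) hx₁π :=
    f2.trans (e2.trans (C.lamAt_congr rfl (Category.assoc _ _ _).symm _ _))
  have H21 : (xh ≫ C.r) ≫ G.s = (x₁ ≫ C.r) ≫ G.t := by
    rw [Category.assoc, C.w, reassoc_of% hh2, C.lamAt_g₁]
    simp only [Category.assoc]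
  obtain ⟨x₂, hx₂r, hx₂π⟩ := exists_comp h (ω ≫ q₃ h) xh x₁ hx₁π hh2 H21
  -- step 4
  have H31 : (x₂ ≫ C.r) ≫ G.s = ((ω ≫ v₃ h) ≫ C.r ≫ G.i) ≫ G.t := by
    rw [hx₂r, gcomp_s, hx₁r, gcomp_s]
    simp only [Category.assoc, G.i_t]
  obtain ⟨x₃, hx₃r, hx₃π⟩ := exists_comp_inv h (ω ≫ q₃ h) x₂ (ω ≫ v₃ h) hx₂π f4 H31
  refine ⟨x₃, ?_, hx₃π.trans f3.symm⟩
  rw [hx₃r]
  have e1 : x₂ ≫ C.r = gcomp G (gcomp G (xh ≫ C.r) (g₂ ≫ C.r) H) ((ω ≫ v₃ h) ≫ C.r)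
      ((gcomp_s G _ _ H).trans H11) := by
    rw [hx₂r]
    exact (gcomp_congr G rfl hx₁r _ _).trans (gcomp_assoc G _ _ _ H H11).symm
  refine (gcomp_congr G e1 (Category.assoc _ _ _).symm _ ?_).trans (gcomp_gcomp_i G _ _ _ _)
  simp only [gcomp_s, Category.assoc, G.i_t]

/-- condition (b) holds at the points `ω ≫ τ`. -/
theorem IsTau.stabB (xk g₂ : T ⟶ C.V) (fk : xk ≫ C.π = (ω ≫ τ) ≫ C.p)
    (f1 : g₂ ≫ C.π = (ω ≫ τ) ≫ C.p) (H : (xk ≫ C.r) ≫ G.s = (g₂ ≫ C.r ≫ G.i) ≫ G.t) :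
    ∃ x₃ : T ⟶ C.V, x₃ ≫ C.r = gcomp G (xk ≫ C.r) (g₂ ≫ C.r ≫ G.i) H ∧
      x₃ ≫ C.π = C.lamAt g₂ (ω ≫ τ) f1 := by
  have f4 := IsTau.f4 (h := h) ω
  have f3 := hτ.f3 ω
  -- step 1
  have hhk : xk ≫ C.π = C.lamAt (ω ≫ v₃ h) ((ω ≫ q₃ h) ≫ ι₃ h) f4 := fk.trans f3
  have hh1 : g₂ ≫ C.π = C.lamAt (ω ≫ v₃ h) ((ω ≫ q₃ h) ≫ ι₃ h) f4 := f1.trans f3
  have Hk1 : (xk ≫ C.r) ≫ G.s = ((ω ≫ v₃ h) ≫ C.r) ≫ G.t := by
    rw [Category.assoc, C.w, reassoc_of% hhk, C.lamAt_g₁]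
    simp only [Category.assoc]
  have H11 : (g₂ ≫ C.r) ≫ G.s = ((ω ≫ v₃ h) ≫ C.r) ≫ G.t := by
    rw [Category.assoc, C.w, reassoc_of% hh1, C.lamAt_g₁]
    simp only [Category.assoc]
  obtain ⟨xk', hxk'r, hxk'π⟩ := exists_comp h (ω ≫ q₃ h) xk (ω ≫ v₃ h) f4 hhk Hk1
  obtain ⟨x₁, hx₁r, hx₁π⟩ := exists_comp h (ω ≫ q₃ h) g₂ (ω ≫ v₃ h) f4 hh1 H11
  -- step 2
  have H1' : (g₂ ≫ C.r) ≫ G.s = (ω ≫ v₃ h ≫ C.r) ≫ G.t := by
    rw [H11]; simp only [Category.assoc]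
  have hx₁π' : x₁ ≫ C.π = (ω ≫ q₃ h ≫ ι₃ h) ≫ C.p := by
    rw [hx₁π]; simp only [Category.assoc]
  have e2 := hτ.prop T ω g₂ x₁ H1'
    (hx₁r.trans (gcomp_congr G rfl (Category.assoc _ _ _) _ _)) hx₁π' f1
  -- step 3
  have H31 : (xk' ≫ C.r) ≫ G.s = (x₁ ≫ C.r ≫ G.i) ≫ G.t := by
    rw [hxk'r, gcomp_s]
    simp only [Category.assoc, G.i_t]
    rw [← Category.assoc x₁, hx₁r, gcomp_s]
    simp only [Category.assoc]
  obtain ⟨x₃, hx₃r, hx₃π⟩ := exists_comp_inv h (ω ≫ q₃ h) xk' x₁ hxk'π hx₁π H31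
  refine ⟨x₃, ?_, hx₃π.trans ((C.lamAt_congr rfl (Category.assoc _ _ _) _ _).trans e2.symm)⟩
  rw [hx₃r]
  have hs : (xk ≫ C.r) ≫ G.s = ((g₂ ≫ C.r) ≫ G.i) ≫ G.t := by
    rw [H]; simp only [Category.assoc]
  refine (gcomp_congr G hxk'r ?_ _ ?_).trans ((gcomp_gcomp_inv G (xk ≫ C.r) (g₂ ≫ C.r)
    ((ω ≫ v₃ h) ≫ C.r) Hk1 H11 ?_ hs).trans (gcomp_congr G rfl (Category.assoc _ _ _) _ _))
  · rw [← Category.assoc, hx₁r]
  · simp only [gcomp_s, Category.assoc, G.i_t]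
  · simp only [gcomp_s, Category.assoc, G.i_t]

/-- condition (c) holds at the points `ω ≫ τ`. -/
theorem IsTau.stabC (h' : ((ω ≫ τ) ≫ C.p ≫ C.eV) ≫ C.π = (ω ≫ τ) ≫ C.p) :
    C.lamAt ((ω ≫ τ) ≫ C.p ≫ C.eV) (ω ≫ τ) h' = (ω ≫ τ) ≫ C.p := by
  have f4 := IsTau.f4 (h := h) ω
  have f3 := hτ.f3 ω
  have hg₁ : ((ω ≫ τ) ≫ C.p) ≫ C.g₁ = (ω ≫ v₃ h ≫ C.r) ≫ G.t := by
    rw [f3, C.lamAt_g₁]; simp only [Category.assoc]
  have H1 : (((ω ≫ τ) ≫ C.p ≫ C.eV) ≫ C.r) ≫ G.s = (ω ≫ v₃ h ≫ C.r) ≫ G.t := by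
    simp only [Category.assoc, C.eV_r, G.e_s, Category.comp_id]
    simpa only [Category.assoc] using hg₁
  have hx' : (ω ≫ v₃ h) ≫ C.r = gcomp G (((ω ≫ τ) ≫ C.p ≫ C.eV) ≫ C.r) (ω ≫ v₃ h ≫ C.r) H1 := by
    refine ((e_gcomp G (ω ≫ v₃ h ≫ C.r) _ ?_ H1).trans (Category.assoc _ _ _).symm).symm
    simp only [Category.assoc, C.eV_r]
    rw [← reassoc_of% hg₁]
  have hx'π : (ω ≫ v₃ h) ≫ C.π = (ω ≫ q₃ h ≫ ι₃ h) ≫ C.p := by
    rw [f4]; simp only [Category.assoc]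
  rw [hτ.prop T ω _ (ω ≫ v₃ h) H1 hx' hx'π h', f3]
  exact C.lamAt_congr rfl (Category.assoc _ _ _).symm _ _

end stab

/-- the canonical lift maps into the good locus. -/
theorem IsTau.inGood {τ : V₃ h ⟶ C.U₂} (hτ : IsTau h τ) : C.InGood τ := by
  intro z
  rintro ((⟨y₀, hy₀, hy₀'⟩ | ⟨y₀, hy₀, hy₀'⟩) | hc)
  · -- condition (a)
    obtain ⟨w, hw1, -⟩ := Scheme.Pullback.exists_preimage_pullback (f := C.toU₂a) (g := τ) y₀ z hy₀'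
    have cond : pullback.fst C.toU₂a τ ≫ C.toU₂a = pullback.snd C.toU₂a τ ≫ τ := pullback.condition
    have f1 : (pullback.fst C.toU₂a τ ≫ pullback.snd C.π C.lam ≫ C.v) ≫ C.π =
        (pullback.snd C.toU₂a τ ≫ τ) ≫ C.p := by
      rw [← cond]
      unfold toU₂a
      simp only [Category.assoc]
      rw [pullback.condition]
    have f2 : (pullback.fst C.toU₂a τ ≫ pullback.fst C.π C.lam) ≫ C.π =
        C.lamAt (pullback.fst C.toU₂a τ ≫ pullback.snd C.π C.lam ≫ C.v)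
          (pullback.snd C.toU₂a τ ≫ τ) f1 := by
      rw [Category.assoc, pullback.condition, ← Category.assoc, C.lam_eq]
      apply C.lamAt_congr
      · simp only [Category.assoc]
      · rw [← cond]; unfold toU₂a; simp only [Category.assoc]
    have H := C.composable_of _ _ _ f1 f2
    obtain ⟨x₃, hx₃r, hx₃π⟩ := hτ.stabA (pullback.snd C.toU₂a τ) _ _ f1 f2 H
    have key : pullback.fst C.toU₂a τ ≫ C.βa = x₃ ≫ C.ιV := by
      apply pullback.hom_ext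
      · rw [Category.assoc, C.βa_fst, Category.assoc, C.ιV_fst, hx₃r, comp_gcomp]
        apply gcomp_congr <;> simp only [Category.assoc]
      · rw [Category.assoc, C.βa_snd, Category.assoc, C.ιV_snd, hx₃π, ← cond]
        unfold toU₂a
        simp only [Category.assoc]
    apply hy₀
    rw [← hw1, ← Scheme.Hom.comp_apply, key, Scheme.Hom.comp_apply]
    exact ⟨_, rfl⟩
  · -- condition (b)
    obtain ⟨w, hw1, -⟩ := Scheme.Pullback.exists_preimage_pullback (f := C.toU₂b) (g := τ) y₀ z hy₀'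
    have cond : pullback.fst C.toU₂b τ ≫ C.toU₂b = pullback.snd C.toU₂b τ ≫ τ := pullback.condition
    have fk : (pullback.fst C.toU₂b τ ≫ pullback.fst C.q C.q ≫ C.v) ≫ C.π =
        (pullback.snd C.toU₂b τ ≫ τ) ≫ C.p := by
      rw [← cond]
      unfold toU₂b
      simp only [Category.assoc]
      rw [pullback.condition (f := C.π)]
    have f1 : (pullback.fst C.toU₂b τ ≫ pullback.snd C.q C.q ≫ C.v) ≫ C.π =
        (pullback.snd C.toU₂b τ ≫ τ) ≫ C.p := by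
      rw [← cond]
      unfold toU₂b
      simp only [Category.assoc]
      rw [pullback.condition (f := C.π), pullback.condition_assoc (f := C.q)]
    have H : ((pullback.fst C.toU₂b τ ≫ pullback.fst C.q C.q ≫ C.v) ≫ C.r) ≫ G.s =
        ((pullback.fst C.toU₂b τ ≫ pullback.snd C.q C.q ≫ C.v) ≫ C.r ≫ G.i) ≫ G.t := by
      have := congrArg (pullback.fst C.toU₂b τ ≫ ·) C.Yb_h1
      simpa only [Category.assoc] using this
    obtain ⟨x₃, hx₃r, hx₃π⟩ := hτ.stabB (pullback.snd C.toU₂b τ) _ _ fk f1 H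
    have key : pullback.fst C.toU₂b τ ≫ C.γb = x₃ ≫ C.ιV := by
      apply pullback.hom_ext
      · rw [Category.assoc, C.γb_fst, Category.assoc, C.ιV_fst, hx₃r, comp_gcomp]
        apply gcomp_congr <;> simp only [Category.assoc]
      · rw [Category.assoc, C.γb_snd, Category.assoc, C.ιV_snd, hx₃π, ← Category.assoc,
          C.lam_eq]
        apply C.lamAt_congr
        · simp only [Category.assoc]
        · rw [← cond]; unfold toU₂b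
          simp only [Category.assoc]
          rw [pullback.condition (f := C.q) (g := C.q)]
    apply hy₀
    rw [← hw1, ← Scheme.Hom.comp_apply, key, Scheme.Hom.comp_apply]
    exact ⟨_, rfl⟩
  · -- condition (c)
    apply hc
    have h' : ((𝟙 (V₃ h) ≫ τ) ≫ C.p ≫ C.eV) ≫ C.π = (𝟙 (V₃ h) ≫ τ) ≫ C.p := by
      simp only [Category.assoc, C.eV_π, Category.comp_id]
    have e := hτ.stabC (𝟙 (V₃ h)) h'
    have key : τ ≫ C.δc = (τ ≫ C.p) ≫ pullback.diagonal C.g₁ := by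
      unfold δc
      apply pullback.hom_ext
      · rw [Category.assoc, pullback.lift_fst, Category.assoc, pullback.diagonal_fst,
          Category.comp_id]
        have h'' : (τ ≫ C.p ≫ C.eV) ≫ C.π = τ ≫ C.p := by
          simp only [Category.assoc, C.eV_π, Category.comp_id]
        have e' : C.lamAt (τ ≫ C.p ≫ C.eV) τ h'' = τ ≫ C.p :=
          (C.lamAt_congr (by rw [Category.id_comp]) (Category.id_comp _).symm _ _).trans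
            (e.trans (by rw [Category.id_comp]))
        rw [← e']
        unfold lamAt ε
        rw [← Category.assoc]
        congr 1
        apply pullback.hom_ext
        · rw [pullback.lift_fst, Category.assoc, pullback.lift_fst]
        · rw [pullback.lift_snd, Category.assoc, pullback.lift_snd, Category.comp_id]
      · rw [Category.assoc, pullback.lift_snd, Category.assoc, pullback.diagonal_snd,
          Category.comp_id]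
    rw [← Scheme.Hom.comp_apply, key, Scheme.Hom.comp_apply]
    exact ⟨_, rfl⟩

end Chart

end Groth.Agent.H50.GLoc
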