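import Groth.Agent.H50.Charts
import Groth.Agent.H50.Fppf
import Mathlib.AlgebraicGeometry.AlgClosed.Basic
import Mathlib.Topology.JacobsonSpace

set_option autoImplicit false
set_option backward.isDefEq.respectTransparency false
universe u
open CategoryTheory CategoryTheory.Limits AlgebraicGeometry Opposite

namespace Groth.Agent.H50

open AlgSp

variable {S : Scheme.{u}}

/-- A nonempty scheme locally of finite type over an algebraically closed field has a rational point. -/
theorem exists_section_of_lft_algClosed {k : Type u} [Field k] [IsAlgClosed k] {F : Scheme.{u}}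
    (π : F ⟶ Spec (CommRingCat.of k)) [LocallyOfFiniteType π] [Nonempty F] :
    ∃ τ : Spec (CommRingCat.of k) ⟶ F, τ ≫ π = 𝟙 _ := by
  have : JacobsonSpace ↥F := LocallyOfFiniteType.jacobsonSpace π
  have hne : (closedPoints ↥F).Nonempty := by
    by_contra h
    rw [Set.not_nonempty_iff_eq_empty] at h
    have := closure_closedPoints (X := ↥F)
    rw [h, closure_empty] at this
    exact Set.empty_ne_univ this
  obtain ⟨x, hx⟩ := hne
  exact ⟨pointOfClosedPoint π x hx, pointOfClosedPoint_comp π x hx⟩

/-- Over `S`: a morphism over `S` to `Spec k`, locally of finite type with nonempty source, has a section over `S`. -/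
theorem exists_section_over {k : Type u} [Field k] [IsAlgClosed k]
    {str : Spec (CommRingCat.of k) ⟶ S} {F : Over S} (π : F ⟶ Over.mk str)
    (h1 : LocallyOfFiniteType π.left) (h2 : Nonempty ↥F.left) :
    ∃ τ : Over.mk str ⟶ F, τ ≫ π = 𝟙 _ := by
  obtain ⟨τ, hτ⟩ := exists_section_of_lft_algClosed (k := k) π.left
  refine ⟨Over.homMk τ ?_, ?_⟩
  · change τ ≫ F.hom = str
    rw [← Over.w π, ← Category.assoc, hτ]
    exact Category.id_comp _
  · apply Over.OverMorphism.ext
    exact hτ

/-- A surjective morphism locally of finite type lifts geometric points. -/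
theorem exists_geometric_lift {X Y : Sp S} (hX : IsAlgSpace X) (hY : IsAlgSpace Y) (f : X ⟶ Y)
    (hf : LocP @LocallyOfFiniteType f) (hs : IsSurjectiveMor f) (k : Type u) [Field k]
    [IsAlgClosed k] (str : Spec (CommRingCat.of k) ⟶ S) (y : (yon S).obj (Over.mk str) ⟶ Y) :
    ∃ x : (yon S).obj (Over.mk str) ⟶ X, x ≫ f = y := by
  obtain ⟨V₀, b, hb1, hb2⟩ := hY.atlas
  -- lift `y` to the atlas
  obtain ⟨T, e, t, sqT⟩ := Groth.Agent.H53.exists_pullback_yon y b hb1.rep
  have he : Etale e.left := Groth.Agent.H53.prop_of_isPullback_yon sqT hb1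
  have hes : Surjective e.left := Groth.Agent.H53.prop_of_isPullback_yon sqT hb2
  have hTne : Nonempty ↥T.left := by
    obtain ⟨z, -⟩ := hes.surj (IsLocalRing.closedPoint k)
    exact ⟨z⟩
  obtain ⟨σ, hσ⟩ := exists_section_over e inferInstance hTne
  have hy : (yon S).map (σ ≫ t) ≫ b = y := by
    rw [Functor.map_comp, Category.assoc, ← sqT.w, ← Category.assoc, ← Functor.map_comp, hσ,
      CategoryTheory.Functor.map_id, Category.id_comp]
  -- the chart of `f`
  obtain ⟨U₀, a₀, ha1, ha2⟩ := hX.atlas
  obtain ⟨U₁, u, h, sqU⟩ := Groth.Agent.H53.exists_pullback_yon (a₀ ≫ f) b hb1.rep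
  have hu : Etale u.left := Groth.Agent.H53.prop_of_isPullback_yon sqU hb1
  have hlft : LocallyOfFiniteType h.left :=
    hf ((yon S).map u ≫ a₀) b h (Groth.Agent.H53.repWith_etale_map_comp u hu a₀ ha1) hb1
      (by rw [Category.assoc, sqU.w])
  have hsurj : Surjective h.left := by
    refine ⟨fun v => ?_⟩
    obtain ⟨x, hx⟩ := hs (Points.ofPt b v)
    obtain ⟨z, rfl⟩ := surjective_points_of_repWith_surjective a₀ ha2 x
    obtain ⟨u₀, rfl⟩ := (Points.schemeHomeo U₀).surjective z
    have h1 : Points.ofPt (a₀ ≫ f) u₀ = Points.ofPt b v := by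
      rw [← hx, Points.ofPt_eq_map_ofScheme, Points.map_comp]
      rfl
    obtain ⟨w, -, hw⟩ := Groth.Agent.H53.exists_pt_of_isPullback_yon sqU u₀ v h1
    exact ⟨w, hw⟩
  -- the fibre over the lifted point
  have sqF := (IsPullback.of_hasPullback h (σ ≫ t)).map (Over.forget S)
  have hF1 : LocallyOfFiniteType (pullback.snd h (σ ≫ t)).left :=
    MorphismProperty.of_isPullback (P := @LocallyOfFiniteType) sqF hlft
  have hF2 : Surjective (pullback.snd h (σ ≫ t)).left :=
    MorphismProperty.of_isPullback (P := @Surjective) sqF hsurj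
  have hFne : Nonempty ↥(pullback h (σ ≫ t)).left := by
    obtain ⟨z, -⟩ := hF2.surj (IsLocalRing.closedPoint k)
    exact ⟨z⟩
  obtain ⟨τ, hτ⟩ := exists_section_over (pullback.snd h (σ ≫ t)) hF1 hFne
  refine ⟨(yon S).map (τ ≫ pullback.fst h (σ ≫ t) ≫ u) ≫ a₀, ?_⟩
  rw [Category.assoc, Functor.map_comp, Functor.map_comp, Category.assoc, Category.assoc, sqU.w,
    ← Category.assoc ((yon S).map (pullback.fst h (σ ≫ t))), ← Functor.map_comp,
    pullback.condition, ← Category.assoc, ← Functor.map_comp, ← Category.assoc, hτ,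
    Category.id_comp, hy]

end Groth.Agent.H50
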