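import Groth.Prelude.Def_AlgSpGpd

set_option autoImplicit false
set_option backward.isDefEq.respectTransparency false
universe u
open CategoryTheory CategoryTheory.Limits AlgebraicGeometry Opposite

namespace Groth.Agent.H50

open AlgSp

variable {S : Scheme.{u}} {B : Sp S} (G : GroupoidSp B)

/-- composition of generalized arrows -/
noncomputable def gcomp {T : Sp S} (α β : T ⟶ G.R) (h : α ≫ G.s = β ≫ G.t) : T ⟶ G.R :=
  pullback.lift α β h ≫ G.c

theorem gcomp_congr {T : Sp S} {α α' β β' : T ⟶ G.R} (hα : α = α') (hβ : β = β')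
    (h : α ≫ G.s = β ≫ G.t) :
    gcomp G α β h = gcomp G α' β' (by rw [← hα, ← hβ]; exact h) := by
  subst hα hβ; rfl

theorem precomp_gcomp {T T' : Sp S} (f : T' ⟶ T) (α β : T ⟶ G.R) (h : α ≫ G.s = β ≫ G.t) :
    f ≫ gcomp G α β h = gcomp G (f ≫ α) (f ≫ β) (by rw [Category.assoc, Category.assoc, h]) := by
  unfold gcomp
  rw [← Category.assoc]
  congr 1
  apply pullback.hom_ext <;> simp

theorem gcomp_s {T : Sp S} (α β : T ⟶ G.R) (h : α ≫ G.s = β ≫ G.t) :
    gcomp G α β h ≫ G.s = β ≫ G.s := G.comp_s α β h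

theorem gcomp_t {T : Sp S} (α β : T ⟶ G.R) (h : α ≫ G.s = β ≫ G.t) :
    gcomp G α β h ≫ G.t = α ≫ G.t := G.comp_t α β h

theorem gcomp_assoc {T : Sp S} (α β γ : T ⟶ G.R) (h₁ : α ≫ G.s = β ≫ G.t)
    (h₂ : β ≫ G.s = γ ≫ G.t) :
    gcomp G (gcomp G α β h₁) γ ((gcomp_s G α β h₁).trans h₂) =
      gcomp G α (gcomp G β γ h₂) (h₁.trans (gcomp_t G β γ h₂).symm) :=
  G.assoc α β γ h₁ h₂

theorem gcomp_e {T : Sp S} (α : T ⟶ G.R) :
    gcomp G α (α ≫ G.s ≫ G.e)
      (by rw [Category.assoc, Category.assoc, G.e_t, Category.comp_id]) = α :=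
  G.comp_e α

theorem gcomp_i {T : Sp S} (α : T ⟶ G.R) :
    gcomp G α (α ≫ G.i) (by rw [Category.assoc, G.i_t]) = α ≫ G.t ≫ G.e :=
  G.comp_i α

theorem i_gcomp {T : Sp S} (α : T ⟶ G.R) :
    gcomp G (α ≫ G.i) α (by rw [Category.assoc, G.i_s]) = α ≫ G.s ≫ G.e :=
  G.i_comp α

/-- right translation by a generalized arrow `γ` from `u'` to `u`, on source fibres -/
noncomputable def rtrans {T : Sp S} (γ : T ⟶ G.R) (u u' : T ⟶ G.U) (hu : γ ≫ G.t = u)
    (hu' : γ ≫ G.s = u') : pullback u G.s ⟶ pullback u' G.s :=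
  pullback.lift (pullback.fst u G.s)
    (gcomp G (pullback.snd u G.s) (pullback.fst u G.s ≫ γ)
      (by rw [Category.assoc, hu, pullback.condition]))
    (by rw [gcomp_s, Category.assoc, hu'])

@[reassoc (attr := simp)]
theorem rtrans_fst {T : Sp S} (γ : T ⟶ G.R) (u u' : T ⟶ G.U) (hu : γ ≫ G.t = u)
    (hu' : γ ≫ G.s = u') : rtrans G γ u u' hu hu' ≫ pullback.fst u' G.s = pullback.fst u G.s :=
  pullback.lift_fst _ _ _

theorem rtrans_snd {T : Sp S} (γ : T ⟶ G.R) (u u' : T ⟶ G.U) (hu : γ ≫ G.t = u)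
    (hu' : γ ≫ G.s = u') : rtrans G γ u u' hu hu' ≫ pullback.snd u' G.s =
      gcomp G (pullback.snd u G.s) (pullback.fst u G.s ≫ γ)
      (by rw [Category.assoc, hu, pullback.condition]) :=
  pullback.lift_snd _ _ _

theorem rtrans_rtrans_inv {T : Sp S} (γ : T ⟶ G.R) (u u' : T ⟶ G.U) (hu : γ ≫ G.t = u)
    (hu' : γ ≫ G.s = u') :
    rtrans G γ u u' hu hu' ≫ rtrans G (γ ≫ G.i) u' u (by rw [Category.assoc, G.i_t, hu'])
      (by rw [Category.assoc, G.i_s, hu]) = 𝟙 _ := by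
  apply pullback.hom_ext
  · simp
  · rw [Category.assoc, rtrans_snd, precomp_gcomp, Category.id_comp]
    have h1 : rtrans G γ u u' hu hu' ≫ pullback.snd u' G.s =
        gcomp G (pullback.snd u G.s) (pullback.fst u G.s ≫ γ)
          (by rw [Category.assoc, hu, pullback.condition]) := rtrans_snd G γ u u' hu hu'
    have h2 : rtrans G γ u u' hu hu' ≫ pullback.fst u' G.s ≫ γ ≫ G.i =
        (pullback.fst u G.s ≫ γ) ≫ G.i := by
      rw [rtrans_fst_assoc, Category.assoc]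
    rw [gcomp_congr G h1 h2, gcomp_assoc G _ _ _ _ (by simp [G.i_t])]
    have h3 : gcomp G (pullback.fst u G.s ≫ γ) ((pullback.fst u G.s ≫ γ) ≫ G.i)
        (by simp [G.i_t]) = pullback.snd u G.s ≫ G.s ≫ G.e := by
      rw [gcomp_i, Category.assoc, ← Category.assoc γ, hu, ← Category.assoc, pullback.condition,
        Category.assoc]
    rw [gcomp_congr G rfl h3, gcomp_e]

theorem rtrans_inv_rtrans {T : Sp S} (γ : T ⟶ G.R) (u u' : T ⟶ G.U) (hu : γ ≫ G.t = u)
    (hu' : γ ≫ G.s = u') :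
    rtrans G (γ ≫ G.i) u' u (by rw [Category.assoc, G.i_t, hu'])
      (by rw [Category.assoc, G.i_s, hu]) ≫ rtrans G γ u u' hu hu' = 𝟙 _ := by
  apply pullback.hom_ext
  · simp
  · rw [Category.assoc, rtrans_snd, precomp_gcomp, Category.id_comp]
    have h1 := rtrans_snd G (γ ≫ G.i) u' u (by rw [Category.assoc, G.i_t, hu'])
      (by rw [Category.assoc, G.i_s, hu])
    have h2 : rtrans G (γ ≫ G.i) u' u (by rw [Category.assoc, G.i_t, hu'])
      (by rw [Category.assoc, G.i_s, hu]) ≫ pullback.fst u G.s ≫ γ =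
        (pullback.fst u' G.s ≫ γ) := by
      rw [rtrans_fst_assoc]
    have h1' : pullback.fst u' G.s ≫ γ ≫ G.i = (pullback.fst u' G.s ≫ γ) ≫ G.i := by
      rw [Category.assoc]
    rw [gcomp_congr G h1 h2, gcomp_congr G (gcomp_congr G rfl h1' _) rfl,
      gcomp_assoc G _ _ _ _ (by simp [G.i_s])]
    have h3 : gcomp G ((pullback.fst u' G.s ≫ γ) ≫ G.i) (pullback.fst u' G.s ≫ γ)
        (by simp [G.i_s]) = pullback.snd u' G.s ≫ G.s ≫ G.e := by
      rw [i_gcomp, Category.assoc, ← Category.assoc γ, hu', ← Category.assoc, pullback.condition,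
        Category.assoc]
    rw [gcomp_congr G rfl h3, gcomp_e]

/-- source fibres over the two ends of a generalized arrow are isomorphic -/
theorem nonempty_fibre_iso {T : Sp S} (γ : T ⟶ G.R) (u u' : T ⟶ G.U) (hu : γ ≫ G.t = u)
    (hu' : γ ≫ G.s = u') :
    Nonempty (Over.mk (pullback.fst u G.s) ≅ Over.mk (pullback.fst u' G.s)) :=
  ⟨Over.isoMk ⟨rtrans G γ u u' hu hu', rtrans G (γ ≫ G.i) u' u (by rw [Category.assoc, G.i_t, hu'])
      (by rw [Category.assoc, G.i_s, hu]), rtrans_rtrans_inv G γ u u' hu hu',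
      rtrans_inv_rtrans G γ u u' hu hu'⟩ (by simp)⟩

end Groth.Agent.H50
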