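import Groth.Agent.H50.GpdDiag
import Groth.Agent.H50.UnivOpen

set_option autoImplicit false
set_option backward.isDefEq.respectTransparency false
universe u
open CategoryTheory CategoryTheory.Limits AlgebraicGeometry Opposite

namespace Groth.Agent.H50

open AlgSp

variable {S : Scheme.{u}} {B : Sp S} (G : GroupoidSp B)

/-- `α = (α ∘ β) ∘ β⁻¹`. -/
theorem eq_gcomp_gcomp_inv {T : Sp S} (α β : T ⟶ G.R) (h : α ≫ G.s = β ≫ G.t) :
    α = gcomp G (gcomp G α β h) (β ≫ G.i) (by rw [gcomp_s, Category.assoc, G.i_t]) := by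
  rw [gcomp_assoc G α β (β ≫ G.i) h (by rw [Category.assoc, G.i_t])]
  have h3 : gcomp G β (β ≫ G.i) (by rw [Category.assoc, G.i_t]) = α ≫ G.s ≫ G.e := by
    rw [gcomp_i, ← Category.assoc, ← h, Category.assoc]
  rw [gcomp_congr G rfl h3]
  exact (G.comp_e α).symm

/-- `(γ ∘ β⁻¹) ∘ β = γ`. -/
theorem gcomp_inv_gcomp {T : Sp S} (γ β : T ⟶ G.R) (h : γ ≫ G.s = β ≫ G.s) :
    gcomp G (gcomp G γ (β ≫ G.i) (by rw [Category.assoc, G.i_t]; exact h)) β
      (by rw [gcomp_s, Category.assoc, G.i_s]) = γ := by
  rw [gcomp_assoc G γ (β ≫ G.i) β (by rw [Category.assoc, G.i_t]; exact h)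
    (by rw [Category.assoc, G.i_s])]
  have h3 : gcomp G (β ≫ G.i) β (by rw [Category.assoc, G.i_s]) = γ ≫ G.s ≫ G.e := by
    rw [i_gcomp, ← Category.assoc, ← h, Category.assoc]
  rw [gcomp_congr G rfl h3]
  exact G.comp_e γ

/-- The composition of a groupoid is the base change of the source map along itself. -/
theorem isPullback_c_snd : IsPullback G.c (pullback.snd G.s G.t) G.s G.s := by
  have hc : ∀ {Z : Sp S} (φ : Z ⟶ pullback G.s G.t),
      φ ≫ G.c = gcomp G (φ ≫ pullback.fst G.s G.t) (φ ≫ pullback.snd G.s G.t)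
        (by rw [Category.assoc, Category.assoc, pullback.condition]) := by
    intro Z φ
    have hc0 : G.c = gcomp G (pullback.fst G.s G.t) (pullback.snd G.s G.t) pullback.condition := by
      unfold gcomp
      have : pullback.lift (pullback.fst G.s G.t) (pullback.snd G.s G.t) pullback.condition =
          𝟙 _ := by apply pullback.hom_ext <;> simp
      rw [this, Category.id_comp]
    conv_lhs => rw [hc0]
    exact precomp_gcomp G φ _ _ _
  refine IsPullback.mk' ?_ ?_ ?_
  · have := hc (𝟙 (pullback G.s G.t))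
    rw [Category.id_comp] at this
    rw [this, gcomp_s, Category.id_comp]
  · intro Z φ φ' h1 h2
    apply pullback.hom_ext
    · rw [hc φ, hc φ'] at h1
      rw [eq_gcomp_gcomp_inv G (φ ≫ pullback.fst G.s G.t) (φ ≫ pullback.snd G.s G.t)
        (by rw [Category.assoc, Category.assoc, pullback.condition]),
        eq_gcomp_gcomp_inv G (φ' ≫ pullback.fst G.s G.t) (φ' ≫ pullback.snd G.s G.t)
        (by rw [Category.assoc, Category.assoc, pullback.condition])]
      exact gcomp_congr G h1 (by rw [h2]) _
    · exact h2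
  · intro Z γ β h
    refine ⟨pullback.lift (gcomp G γ (β ≫ G.i) (by rw [Category.assoc, G.i_t]; exact h)) β
      (by rw [gcomp_s, Category.assoc, G.i_s]), ?_, ?_⟩
    · rw [hc]
      have e1 : pullback.lift (gcomp G γ (β ≫ G.i) (by rw [Category.assoc, G.i_t]; exact h)) β
          (by rw [gcomp_s, Category.assoc, G.i_s]) ≫ pullback.fst G.s G.t =
          gcomp G γ (β ≫ G.i) (by rw [Category.assoc, G.i_t]; exact h) := pullback.lift_fst _ _ _
      have e2 : pullback.lift (gcomp G γ (β ≫ G.i) (by rw [Category.assoc, G.i_t]; exact h)) β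
          (by rw [gcomp_s, Category.assoc, G.i_s]) ≫ pullback.snd G.s G.t = β :=
        pullback.lift_snd _ _ _
      rw [gcomp_congr G e1 e2]
      exact gcomp_inv_gcomp G γ β h
    · exact pullback.lift_snd _ _ _

variable {G} in
/-- `LocP` can be checked after composing with an isomorphism of the target. -/
theorem locP_of_comp_iso (P : MorphismProperty Scheme.{u}) {X Y Y' : Sp S} (f : X ⟶ Y)
    (e : Y ≅ Y') (h : LocP P (f ≫ e.hom)) : LocP P f := by
  intro U V a b g ha hb hcomm
  have : (RepWith (S := S) @Etale).RespectsIso :=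
    MorphismProperty.IsStableUnderBaseChange.respectsIso
  refine h a (b ≫ e.hom) g ha (MorphismProperty.RespectsIso.postcomp _ e.hom b hb) ?_
  rw [← Category.assoc, hcomm, Category.assoc]

/-- The composition of a groupoid in algebraic spaces whose object space is the spectrum of a field
is flat and universally open. -/
theorem gpd_comp_flat_univOpen_of_field (hR : IsAlgSpace G.R)
    (k : Type u) [Field k] (σ : Spec (CommRingCat.of k) ⟶ S)
    (eU : G.U ≅ (yon S).obj (Over.mk σ)) :
    LocP @Flat G.c ∧ IsUnivOpenMor G.c := by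
  have hU : IsAlgSpace G.U := (IsAlgSpace.yon_obj (Over.mk σ)).of_iso eU.symm
  have sq := isPullback_c_snd G
  have hP : IsAlgSpace (pullback G.s G.t) :=
    Groth.Agent.H49.isAlgSpace_of_isPullback (IsPullback.of_hasPullback G.s G.t) hU.diag hR hR
  have hs1 : LocP @Flat G.s := locP_of_comp_iso _ G.s eU (locP_flat_to_field k σ _)
  have hs2 : LocP @UniversallyOpen G.s := locP_of_comp_iso _ G.s eU (locP_univOpen_to_field k σ _)
  refine ⟨goodClass_flat.locP_of_isPullback hR hU hR G.s G.s _ _ sq.flip hs1, ?_⟩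
  exact isUnivOpenMor_of_locP_univOpen hP hR G.c
    (goodClass_univOpen.locP_of_isPullback hR hU hR G.s G.s _ _ sq.flip hs2)

end Groth.Agent.H50
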