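import Groth.Agent.H50.GrpDiag

set_option autoImplicit false
set_option backward.isDefEq.respectTransparency false
universe u
open CategoryTheory CategoryTheory.Limits AlgebraicGeometry Opposite

namespace Groth.Agent.H50

open AlgSp

variable {S : Scheme.{u}} {B : Sp S} (G : GroupoidSp B)

theorem pj_t : pullback.fst G.j G.j ≫ G.t = pullback.snd G.j G.j ≫ G.t := by
  have := congr($(pullback.condition (f := G.j) (g := G.j)) ≫ pullback.fst G.pU G.pU)
  simpa using this

theorem pj_s : pullback.fst G.j G.j ≫ G.s = pullback.snd G.j G.j ≫ G.s := by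
  have := congr($(pullback.condition (f := G.j) (g := G.j)) ≫ pullback.snd G.pU G.pU)
  simpa using this

/-- `(α, β) ↦ α⁻¹ ∘ β` on pairs of arrows with the same source and target. -/
noncomputable def divR : pullback G.j G.j ⟶ G.R :=
  gcomp G (pullback.fst G.j G.j ≫ G.i) (pullback.snd G.j G.j)
    (by rw [Category.assoc, G.i_s]; exact pj_t G)

theorem divR_t : divR G ≫ G.t = pullback.fst G.j G.j ≫ G.s := by
  unfold divR
  rw [gcomp_t, Category.assoc, G.i_t]

theorem divR_s : divR G ≫ G.s = pullback.fst G.j G.j ≫ G.s := by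
  unfold divR
  rw [gcomp_s, pj_s]

/-- The division map to the stabilizer. -/
noncomputable def divStab : pullback G.j G.j ⟶ G.stabilizer :=
  pullback.lift (divR G) (pullback.fst G.j G.j ≫ G.s) (by
    apply pullback.hom_ext
    · simp [GroupoidSp.diag, divR_t]
    · simp [GroupoidSp.diag, divR_s])

theorem divStab_ι : divStab G ≫ G.stabilizerι = divR G := pullback.lift_fst _ _ _

theorem divStab_toU : divStab G ≫ G.stabilizerToU = pullback.fst G.j G.j ≫ G.s :=
  pullback.lift_snd _ _ _

theorem stabilizer_hom_ext {T : Sp S} {a b : T ⟶ G.stabilizer}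
    (h1 : a ≫ G.stabilizerι = b ≫ G.stabilizerι) (h2 : a ≫ G.stabilizerToU = b ≫ G.stabilizerToU) :
    a = b := pullback.hom_ext h1 h2

theorem diag_fst : G.diag ≫ pullback.fst G.pU G.pU = 𝟙 G.U := pullback.lift_fst _ _ _

theorem diag_snd : G.diag ≫ pullback.snd G.pU G.pU = 𝟙 G.U := pullback.lift_snd _ _ _

theorem stabilizerι_s : G.stabilizerι ≫ G.s = G.stabilizerToU := by
  have := congr($(pullback.condition (f := G.j) (g := G.diag)) ≫ pullback.snd G.pU G.pU)
  rw [Category.assoc, Category.assoc, G.j_snd, diag_snd, Category.comp_id] at this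
  exact this

theorem stabilizerι_t : G.stabilizerι ≫ G.t = G.stabilizerToU := by
  have := congr($(pullback.condition (f := G.j) (g := G.diag)) ≫ pullback.fst G.pU G.pU)
  rw [Category.assoc, Category.assoc, G.j_fst, diag_fst, Category.comp_id] at this
  exact this

/-- `α⁻¹ ∘ β = e` implies `α = β`. -/
theorem eq_of_inv_gcomp_eq_e {T : Sp S} (α β : T ⟶ G.R) (hts : α ≫ G.t = β ≫ G.t)
    (h : gcomp G (α ≫ G.i) β (by rw [Category.assoc, G.i_s]; exact hts) = α ≫ G.s ≫ G.e) :
    α = β := by
  have h1 : gcomp G α (gcomp G (α ≫ G.i) β (by rw [Category.assoc, G.i_s]; exact hts))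
      (by rw [gcomp_t, Category.assoc, G.i_t]) = β := by
    rw [← gcomp_assoc G α (α ≫ G.i) β (by rw [Category.assoc, G.i_t])
      (by rw [Category.assoc, G.i_s]; exact hts)]
    have h3 : gcomp G α (α ≫ G.i) (by rw [Category.assoc, G.i_t]) = β ≫ G.t ≫ G.e := by
      rw [gcomp_i, ← Category.assoc, hts, Category.assoc]
    rw [gcomp_congr G h3 rfl]
    exact G.e_comp β
  have h2 : gcomp G α (gcomp G (α ≫ G.i) β (by rw [Category.assoc, G.i_s]; exact hts))
      (by rw [gcomp_t, Category.assoc, G.i_t]) = α := by
    rw [gcomp_congr G rfl h]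
    exact G.comp_e α
  rw [← h2, h1]

variable {G}

theorem unit_toU {eG : G.U ⟶ G.stabilizer} (heG : eG ≫ G.stabilizerι = G.e) :
    eG ≫ G.stabilizerToU = 𝟙 G.U := by
  rw [← stabilizerι_s, ← Category.assoc, heG, G.e_s]

/-- The diagonal of `j` is the base change of the unit section of the stabilizer along the division map. -/
theorem isPullback_diagonal_j {eG : G.U ⟶ G.stabilizer} (heG : eG ≫ G.stabilizerι = G.e) :
    IsPullback G.s (pullback.diagonal G.j) eG (divStab G) := by
  refine IsPullback.mk' ?_ ?_ ?_
  · apply stabilizer_hom_ext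
    · rw [Category.assoc, heG, Category.assoc, divStab_ι]
      unfold divR
      rw [precomp_gcomp]
      have h1 : pullback.diagonal G.j ≫ pullback.fst G.j G.j ≫ G.i = 𝟙 G.R ≫ G.i := by simp
      have h2 : pullback.diagonal G.j ≫ pullback.snd G.j G.j = 𝟙 G.R := by simp
      rw [gcomp_congr G h1 h2, i_gcomp, Category.id_comp]
    · rw [Category.assoc, unit_toU heG, Category.assoc, divStab_toU]
      simp
  · intro Z φ φ' _ h2
    simpa using congr($h2 ≫ pullback.fst G.j G.j)
  · intro Z a b hab
    have hι : a ≫ G.e = b ≫ divR G := by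
      have := congr($hab ≫ G.stabilizerι)
      simpa only [Category.assoc, heG, divStab_ι] using this
    have hU : a = b ≫ pullback.fst G.j G.j ≫ G.s := by
      have := congr($hab ≫ G.stabilizerToU)
      simpa only [Category.assoc, unit_toU heG, divStab_toU, Category.comp_id] using this
    obtain ⟨α, hα⟩ : ∃ α, α = b ≫ pullback.fst G.j G.j := ⟨_, rfl⟩
    obtain ⟨β, hβ⟩ : ∃ β, β = b ≫ pullback.snd G.j G.j := ⟨_, rfl⟩
    have hts : α ≫ G.t = β ≫ G.t := by rw [hα, hβ, Category.assoc, Category.assoc, pj_t]
    have hdiv : b ≫ divR G = gcomp G (α ≫ G.i) β (by rw [Category.assoc, G.i_s]; exact hts) := by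
      unfold divR
      rw [precomp_gcomp]
      exact gcomp_congr G (by rw [hα, Category.assoc]) hβ.symm _
    have key : α = β := by
      refine eq_of_inv_gcomp_eq_e G α β hts ?_
      rw [← hdiv, ← hι, hU, hα]
      simp only [Category.assoc]
    refine ⟨α, ?_, ?_⟩
    · rw [hU, hα, Category.assoc]
    · apply pullback.hom_ext
      · simp [hα]
      · simp only [Category.assoc, pullback.diagonal_snd, Category.comp_id]
        rw [key, hβ]

end Groth.Agent.H50

namespace Groth.Agent.H50

open AlgSp

variable {S : Scheme.{u}} {B : Sp S} {G : GroupoidSp B}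

/-- The three base change relations between the diagonal of `j`, the diagonal of the stabilizer and the unit
section. -/
theorem gpd_diag_cycle (Q : MorphismProperty (Sp S)) [Q.IsStableUnderBaseChange]
    {eG : G.U ⟶ G.stabilizer} (heG : eG ≫ G.stabilizerι = G.e) :
    (Q (pullback.diagonal G.j) → Q (pullback.diagonal G.stabilizerToU)) ∧
      (Q (pullback.diagonal G.stabilizerToU) → Q eG) ∧ (Q eG → Q (pullback.diagonal G.j)) := by
  have : Q.RespectsIso := MorphismProperty.IsStableUnderBaseChange.respectsIso
  refine ⟨fun h => ?_, fun h => ?_, fun h => ?_⟩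
  · exact MorphismProperty.of_isPullback (P := Q.diagonal) (IsPullback.of_hasPullback G.j G.diag) h
  · exact MorphismProperty.of_isPullback
      (isPullback_section_diagonal G.stabilizerToU eG (unit_toU heG)) h
  · exact MorphismProperty.of_isPullback (isPullback_diagonal_j heG) h

end Groth.Agent.H50
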