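import Groth.Agent.H50.Points
import Groth.Agent.H50.Quot

set_option autoImplicit false
set_option backward.isDefEq.respectTransparency false
universe u
open CategoryTheory CategoryTheory.Limits AlgebraicGeometry Opposite

namespace Groth.Agent.H50

open AlgSp

variable {S : Scheme.{u}}

theorem points_mk_eq_fieldPtOfHom {F : Sp S} (p : FieldPt F) :
    Points.mk p = Points.mk (fieldPtOfHom p.str p.toHom) := by rw [fieldPtOfHom_toHom]

/-- The relation on points defined by a pre-equivalence relation is an equivalence relation. -/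
theorem points_rel_equivalence {R U : Sp S} (s t : R ⟶ U) (h : IsPreEqvRelSp s t) :
    _root_.Equivalence (fun x y : Points U =>
      ∃ r : Points R, Points.map t r = x ∧ Points.map s r = y) := by
  refine ⟨?_, ?_, ?_⟩
  · intro x
    induction x using Points.ind with
    | h p =>
    obtain ⟨r, hr1, hr2⟩ := (h p.pt).refl p.toHom
    refine ⟨Points.mk (fieldPtOfHom p.str r), ?_, ?_⟩
    · rw [Points.map_mk, fieldPtOfHom_map, hr1, fieldPtOfHom_toHom]
    · rw [Points.map_mk, fieldPtOfHom_map, hr2, fieldPtOfHom_toHom]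
  · rintro x y ⟨ρ, rfl, rfl⟩
    induction ρ using Points.ind with
    | h p =>
    obtain ⟨r', hr1, hr2⟩ := (h p.pt).symm ⟨p.toHom, rfl, rfl⟩
    refine ⟨Points.mk (fieldPtOfHom p.str r'), ?_, ?_⟩
    · rw [Points.map_mk, fieldPtOfHom_map, hr1, ← fieldPtOfHom_map, fieldPtOfHom_toHom,
        Points.map_mk]
    · rw [Points.map_mk, fieldPtOfHom_map, hr2, ← fieldPtOfHom_map, fieldPtOfHom_toHom,
        Points.map_mk]
  · rintro x y z ⟨ρ₁, rfl, h1⟩ ⟨ρ₂, h2, rfl⟩
    obtain ⟨ζ, hζ1, hζ2⟩ := points_exists_of_isPullback (IsPullback.of_hasPullback s t) ρ₁ ρ₂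
      (h1.trans h2.symm)
    induction ζ using Points.ind with
    | h p =>
    subst hζ1 hζ2
    let r1 := p.toHom ≫ pullback.fst s t
    let r2 := p.toHom ≫ pullback.snd s t
    have h12 : r1 ≫ s = r2 ≫ t := by simp [r1, r2, pullback.condition]
    obtain ⟨r3, hr1, hr2⟩ := (h p.pt).trans ⟨r1, rfl, rfl⟩ ⟨r2, h12.symm, rfl⟩
    refine ⟨Points.mk (fieldPtOfHom p.str r3), ?_, ?_⟩
    · rw [Points.map_mk, fieldPtOfHom_map, hr1, ← Points.map_comp, Points.map_mk,
        ← fieldPtOfHom_map, ← fieldPtOfHom_map, fieldPtOfHom_toHom]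
      rfl
    · rw [Points.map_mk, fieldPtOfHom_map, hr2, ← Points.map_comp, Points.map_mk,
        ← fieldPtOfHom_map, ← fieldPtOfHom_map, fieldPtOfHom_toHom]
      rfl

end Groth.Agent.H50
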