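import Groth.Agent.H50.LocPBase
import Groth.Agent.H49.AlgSpRep
import Groth.Prelude.Def_AlgSpGpd

set_option autoImplicit false
set_option backward.isDefEq.respectTransparency false
universe u
open CategoryTheory CategoryTheory.Limits AlgebraicGeometry Opposite

namespace Groth.Agent.H50

open AlgSp

variable {S : Scheme.{u}} {B : Sp S} {G' G : GroupoidSp B} (φ : GroupoidSp.Hom G' G)

/-- Existence part of the universal property of a restriction. -/
theorem restriction_exists (hφ : φ.IsRestriction) {T : Sp S} (ρ : T ⟶ G.R) (a b : T ⟶ G'.U)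
    (ha : ρ ≫ G.t = a ≫ φ.fU) (hb : ρ ≫ G.s = b ≫ φ.fU) :
    ∃ m : T ⟶ G'.R, m ≫ φ.fR = ρ ∧ m ≫ G'.t = a ∧ m ≫ G'.s = b := by
  have hab : a ≫ G'.pU = b ≫ G'.pU := by
    rw [← φ.fU_over, ← Category.assoc, ← ha, ← Category.assoc, ← hb, Category.assoc, Category.assoc,
      G.t_over, G.s_over]
  have hcond : ρ ≫ G.j = pullback.lift a b hab ≫ φ.prodMap := by
    apply pullback.hom_ext
    · simp [GroupoidSp.Hom.prodMap, ha]
    · simp [GroupoidSp.Hom.prodMap, hb]
  obtain ⟨m, hm1, hm2⟩ := hφ.exists_lift ρ (pullback.lift a b hab) hcond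
  refine ⟨m, hm1, ?_, ?_⟩
  · rw [← G'.j_fst, ← Category.assoc, hm2, pullback.lift_fst]
  · rw [← G'.j_snd, ← Category.assoc, hm2, pullback.lift_snd]

/-- Uniqueness part of the universal property of a restriction. -/
theorem restriction_hom_ext (hφ : φ.IsRestriction) {T : Sp S} (m m' : T ⟶ G'.R)
    (h1 : m ≫ φ.fR = m' ≫ φ.fR) (h2 : m ≫ G'.t = m' ≫ G'.t) (h3 : m ≫ G'.s = m' ≫ G'.s) :
    m = m' := by
  apply hφ.hom_ext h1
  apply pullback.hom_ext
  · simpa using h2
  · simpa using h3

/-- `R' = (R ×_{s,U} U') ×_{t,U} U'`. -/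
theorem isPullback_restriction_s (hφ : φ.IsRestriction) :
    IsPullback G'.t (pullback.lift φ.fR G'.s φ.comm_s : G'.R ⟶ pullback G.s φ.fU) φ.fU
      (pullback.fst G.s φ.fU ≫ G.t) := by
  refine ⟨⟨?_⟩, ⟨PullbackCone.IsLimit.mk _ ?_ ?_ ?_ ?_⟩⟩
  · rw [← Category.assoc, pullback.lift_fst, φ.comm_t]
  · intro c
    exact (restriction_exists φ hφ (c.snd ≫ pullback.fst G.s φ.fU) c.fst
      (c.snd ≫ pullback.snd G.s φ.fU) (by rw [Category.assoc, ← c.condition])
      (by rw [Category.assoc, Category.assoc, pullback.condition])).choose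
  · intro c
    exact (restriction_exists φ hφ (c.snd ≫ pullback.fst G.s φ.fU) c.fst
      (c.snd ≫ pullback.snd G.s φ.fU) (by rw [Category.assoc, ← c.condition])
      (by rw [Category.assoc, Category.assoc, pullback.condition])).choose_spec.2.1
  · intro c
    have h := (restriction_exists φ hφ (c.snd ≫ pullback.fst G.s φ.fU) c.fst
      (c.snd ≫ pullback.snd G.s φ.fU) (by rw [Category.assoc, ← c.condition])
      (by rw [Category.assoc, Category.assoc, pullback.condition])).choose_spec
    apply pullback.hom_ext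
    · rw [Category.assoc, pullback.lift_fst, h.1]
    · rw [Category.assoc, pullback.lift_snd, h.2.2]
  · intro c m hm1 hm2
    have h := (restriction_exists φ hφ (c.snd ≫ pullback.fst G.s φ.fU) c.fst
      (c.snd ≫ pullback.snd G.s φ.fU) (by rw [Category.assoc, ← c.condition])
      (by rw [Category.assoc, Category.assoc, pullback.condition])).choose_spec
    apply restriction_hom_ext φ hφ
    · rw [h.1, ← hm2, Category.assoc, pullback.lift_fst]
    · rw [h.2.1, hm1]
    · rw [h.2.2, ← hm2, Category.assoc, pullback.lift_snd]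

/-- `R' = (R ×_{t,U} U') ×_{s,U} U'`. -/
theorem isPullback_restriction_t (hφ : φ.IsRestriction) :
    IsPullback G'.s (pullback.lift φ.fR G'.t φ.comm_t : G'.R ⟶ pullback G.t φ.fU) φ.fU
      (pullback.fst G.t φ.fU ≫ G.s) := by
  refine ⟨⟨?_⟩, ⟨PullbackCone.IsLimit.mk _ ?_ ?_ ?_ ?_⟩⟩
  · rw [← Category.assoc, pullback.lift_fst, φ.comm_s]
  · intro c
    exact (restriction_exists φ hφ (c.snd ≫ pullback.fst G.t φ.fU)
      (c.snd ≫ pullback.snd G.t φ.fU) c.fst
      (by rw [Category.assoc, Category.assoc, pullback.condition])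
      (by rw [Category.assoc, ← c.condition])).choose
  · intro c
    exact (restriction_exists φ hφ (c.snd ≫ pullback.fst G.t φ.fU)
      (c.snd ≫ pullback.snd G.t φ.fU) c.fst
      (by rw [Category.assoc, Category.assoc, pullback.condition])
      (by rw [Category.assoc, ← c.condition])).choose_spec.2.2
  · intro c
    have h := (restriction_exists φ hφ (c.snd ≫ pullback.fst G.t φ.fU)
      (c.snd ≫ pullback.snd G.t φ.fU) c.fst
      (by rw [Category.assoc, Category.assoc, pullback.condition])
      (by rw [Category.assoc, ← c.condition])).choose_spec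
    apply pullback.hom_ext
    · rw [Category.assoc, pullback.lift_fst, h.1]
    · rw [Category.assoc, pullback.lift_snd, h.2.1]
  · intro c m hm1 hm2
    have h := (restriction_exists φ hφ (c.snd ≫ pullback.fst G.t φ.fU)
      (c.snd ≫ pullback.snd G.t φ.fU) c.fst
      (by rw [Category.assoc, Category.assoc, pullback.condition])
      (by rw [Category.assoc, ← c.condition])).choose_spec
    apply restriction_hom_ext φ hφ
    · rw [h.1, ← hm2, Category.assoc, pullback.lift_fst]
    · rw [h.2.1, ← hm2, Category.assoc, pullback.lift_snd]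
    · rw [h.2.2, hm1]

/-- Restriction of a groupoid preserves `LocP P` of source and target, for good classes. -/
theorem GoodClass.restrict {P : MorphismProperty Scheme.{u}} (hG : GoodClass P)
    (hU : IsAlgSpace G.U) (hR : IsAlgSpace G.R) (hU' : IsAlgSpace G'.U)
    (hφ : φ.IsRestriction) (hs : LocP P G.s) (ht : LocP P G.t) (hg : LocP P φ.fU) :
    LocP P G'.s ∧ LocP P G'.t := by
  constructor
  · have hM : IsAlgSpace (pullback G.s φ.fU) :=
      Groth.Agent.H49.isAlgSpace_of_isPullback (IsPullback.of_hasPullback G.s φ.fU) hU.diag hR hU'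
    have h1 : LocP P (pullback.snd G.s φ.fU) :=
      hG.locP_of_isPullback hR hU hU' G.s φ.fU _ _ (IsPullback.of_hasPullback G.s φ.fU) hs
    have h2 : LocP P (pullback.lift φ.fR G'.s φ.comm_s : G'.R ⟶ pullback G.s φ.fU) :=
      hG.locP_of_isPullback hU' hU hM φ.fU _ G'.t _ (isPullback_restriction_s φ hφ) hg
    have := hG.locP_comp hM _ _ h2 h1
    rwa [pullback.lift_snd] at this
  · have hM : IsAlgSpace (pullback G.t φ.fU) :=
      Groth.Agent.H49.isAlgSpace_of_isPullback (IsPullback.of_hasPullback G.t φ.fU) hU.diag hR hU'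
    have h1 : LocP P (pullback.snd G.t φ.fU) :=
      hG.locP_of_isPullback hR hU hU' G.t φ.fU _ _ (IsPullback.of_hasPullback G.t φ.fU) ht
    have h2 : LocP P (pullback.lift φ.fR G'.t φ.comm_t : G'.R ⟶ pullback G.t φ.fU) :=
      hG.locP_of_isPullback hU' hU hM φ.fU _ G'.s _ (isPullback_restriction_t φ hφ) hg
    have := hG.locP_comp hM _ _ h2 h1
    rwa [pullback.lift_snd] at this

end Groth.Agent.H50
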