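import Groth.Agent.H50.Mor
import Groth.Agent.H49.AlgSpDiagProps
import Groth.Agent.H49.DiagPullback
import Mathlib.AlgebraicGeometry.Morphisms.Separated

set_option autoImplicit false
set_option backward.isDefEq.respectTransparency false
universe u
open CategoryTheory CategoryTheory.Limits AlgebraicGeometry Opposite

namespace Groth.Agent.H50

open AlgSp

variable {S : Scheme.{u}}

/-- Cancellation: if `a ≫ b` and the diagonal of `b` are representable, so is `a`. -/
theorem representable_of_comp {F G H : Sp S} (a : F ⟶ G) (b : G ⟶ H)
    (hΔ : Representable (pullback.diagonal b)) (hc : Representable (a ≫ b)) : Representable a := by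
  have h1 : Representable (pullback.lift (𝟙 F) a (by simp) : F ⟶ pullback (a ≫ b) b) :=
    MorphismProperty.of_isPullback (pullback_lift_diagonal_isPullback a b) hΔ
  have h2 : Representable (pullback.snd (a ≫ b) b) :=
    MorphismProperty.of_isPullback (IsPullback.of_hasPullback (a ≫ b) b) hc
  have : a = pullback.lift (𝟙 F) a (by simp) ≫ pullback.snd (a ≫ b) b := by simp
  rw [this]
  exact MorphismProperty.comp_mem _ _ _ h1 h2

/-- Cancellation for `RepWith P`. -/
theorem repWith_of_comp (P : MorphismProperty Scheme.{u}) [P.IsStableUnderComposition]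
    {F G H : Sp S} (a : F ⟶ G) (b : G ⟶ H)
    (hΔ : RepWith P (pullback.diagonal b)) (hc : RepWith P (a ≫ b)) : RepWith P a := by
  have h1 : RepWith P (pullback.lift (𝟙 F) a (by simp) : F ⟶ pullback (a ≫ b) b) :=
    MorphismProperty.of_isPullback (pullback_lift_diagonal_isPullback a b) hΔ
  have h2 : RepWith P (pullback.snd (a ≫ b) b) :=
    MorphismProperty.of_isPullback (IsPullback.of_hasPullback (a ≫ b) b) hc
  have : a = pullback.lift (𝟙 F) a (by simp) ≫ pullback.snd (a ≫ b) b := by simp
  rw [this]
  exact MorphismProperty.comp_mem _ _ _ h1 h2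

theorem isPullback_congr_right {C : Type*} [Category C] {P X Y Z : C} {fst : P ⟶ X} {snd : P ⟶ Y}
    {f f' : X ⟶ Z} {g : Y ⟶ Z} (h : f = f') (sq : IsPullback fst snd f g) :
    IsPullback fst snd f' g := by
  subst h; exact sq

/-- The relative diagonal inherits the representable properties of the absolute diagonal. -/
theorem repWith_diagonal_of_diag (P : MorphismProperty Scheme.{u}) [P.IsStableUnderBaseChange]
    {Y X : Sp S} (b : Y ⟶ X) (h : RepWith P (Limits.diag Y)) :
    RepWith P (pullback.diagonal b) := by
  have hj : pullback.diagonal b ≫ prod.lift (pullback.fst b b) (pullback.snd b b) =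
      Limits.diag Y := by
    apply Limits.prod.hom_ext <;> simp
  refine MorphismProperty.relative.of_exists (fun T g => ?_)
  have sq := h.rep.isPullback (g ≫ prod.lift (pullback.fst b b) (pullback.snd b b))
  have sq' : IsPullback (h.rep.fst (g ≫ prod.lift (pullback.fst b b) (pullback.snd b b)))
      ((yon S).map (h.rep.snd (g ≫ prod.lift (pullback.fst b b) (pullback.snd b b))))
      (pullback.diagonal b ≫ prod.lift (pullback.fst b b) (pullback.snd b b))
      (g ≫ prod.lift (pullback.fst b b) (pullback.snd b b)) := isPullback_congr_right hj.symm sq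
  exact ⟨_, _, _, Groth.Agent.H49.isPullback_of_comp_mono _ sq', h.property_snd _⟩

theorem representable_diagonal_of_diag {Y X : Sp S} (b : Y ⟶ X)
    (h : Representable (Limits.diag Y)) : Representable (pullback.diagonal b) := by
  have hj : pullback.diagonal b ≫ prod.lift (pullback.fst b b) (pullback.snd b b) =
      Limits.diag Y := by
    apply Limits.prod.hom_ext <;> simp
  intro T g
  have sq := h.isPullback (g ≫ prod.lift (pullback.fst b b) (pullback.snd b b))
  have sq' : IsPullback (h.fst (g ≫ prod.lift (pullback.fst b b) (pullback.snd b b)))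
      ((yon S).map (h.snd (g ≫ prod.lift (pullback.fst b b) (pullback.snd b b))))
      (pullback.diagonal b ≫ prod.lift (pullback.fst b b) (pullback.snd b b))
      (g ≫ prod.lift (pullback.fst b b) (pullback.snd b b)) := isPullback_congr_right hj.symm sq
  exact ⟨_, _, _, Groth.Agent.H49.isPullback_of_comp_mono _ sq'⟩

/-- The relative diagonal of a morphism from an algebraic space is representable, locally of finite
type, locally quasi-finite, separated and a monomorphism. -/
theorem repWith_diagonal_of_isAlgSpace {Y X : Sp S} (hY : IsAlgSpace Y) (b : Y ⟶ X) :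
    Representable (pullback.diagonal b) ∧ RepWith @LocallyOfFiniteType (pullback.diagonal b) ∧
      RepWith (@LocallyQuasiFinite ⊓ @LocallyOfFiniteType) (pullback.diagonal b) ∧
      RepWith @IsSeparated (pullback.diagonal b) ∧
      RepWith (MorphismProperty.monomorphisms Scheme.{u}) (pullback.diagonal b) := by
  obtain ⟨h1, h2⟩ := Groth.Agent.H49.repWith_diag_lft_mono hY
  have h1' := repWith_diagonal_of_diag _ b h1
  have h2' := repWith_diagonal_of_diag _ b h2
  refine ⟨h1'.rep, h1', ⟨h1'.rep, fun U V g fst snd sq => ?_⟩,
    ⟨h1'.rep, fun U V g fst snd sq => ?_⟩, h2'⟩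
  · have hl : LocallyOfFiniteType snd.left := h1'.property g fst snd sq
    have hm : Mono snd.left := h2'.property g fst snd sq
    have hq : LocallyQuasiFinite snd.left := inferInstance
    exact ⟨hq, hl⟩
  · have hm : Mono snd.left := h2'.property g fst snd sq
    exact (inferInstance : IsSeparated snd.left)

end Groth.Agent.H50
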