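import Groth.Agent.H50.QCMor
import Groth.Agent.H50.Perm
import Groth.Agent.H50.Gpd
import Mathlib.CategoryTheory.Monoidal.Cartesian.Grp

set_option autoImplicit false
set_option backward.isDefEq.respectTransparency false
universe u
open CategoryTheory CategoryTheory.Limits AlgebraicGeometry Opposite

namespace Groth.Agent.H50

open AlgSp

/-- A section of `p` is a base change of the diagonal of `p`. -/
theorem isPullback_section_diagonal {C : Type*} [Category C] [HasPullbacks C] {X Y : C} (p : X ⟶ Y)
    (σ : Y ⟶ X) (h : σ ≫ p = 𝟙 Y) :
    IsPullback σ σ (pullback.diagonal p)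
      (pullback.lift (𝟙 X) (p ≫ σ) (by rw [Category.assoc, h, Category.comp_id, Category.id_comp])) := by
  refine IsPullback.mk' ?_ ?_ ?_
  · apply pullback.hom_ext
    · simp
    · simp [reassoc_of% h]
  · intro Z φ φ' h1 _
    have := congr($h1 ≫ p)
    simpa [h] using this
  · intro Z a b hab
    have h1 : a = b := by simpa using congr($hab ≫ pullback.fst p p)
    have h2 : a = b ≫ p ≫ σ := by simpa using congr($hab ≫ pullback.snd p p)
    subst h1
    exact ⟨a ≫ p, by rw [Category.assoc]; exact h2.symm, by rw [Category.assoc]; exact h2.symm⟩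

section Grp

open MonoidalCategory CartesianMonoidalCategory MonObj

/-- In a cartesian monoidal category, the diagonal of a group object is the base change of its unit along the
division morphism. -/
theorem isPullback_unit_diag {C : Type*} [Category C] [CartesianMonoidalCategory C] (G : C) [GrpObj G] :
    IsPullback (toUnit G) (lift (𝟙 G) (𝟙 G)) η[G] ((fst G G)⁻¹ * snd G G) := by
  refine IsPullback.mk' ?_ ?_ ?_
  · rw [← Hom.one_def, MonObj.comp_mul, GrpObj.comp_inv, lift_fst, lift_snd, inv_mul_cancel]
  · intro Z φ φ' _ h2
    simpa using congr($h2 ≫ fst G G)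
  · intro Z a b hab
    have ha : a = toUnit Z := toUnit_unique _ _
    subst ha
    rw [← Hom.one_def, MonObj.comp_mul, GrpObj.comp_inv] at hab
    have h1 : b ≫ fst G G = b ≫ snd G G := by
      have := congr(b ≫ fst G G * $hab)
      simpa using this
    refine ⟨b ≫ fst G G, toUnit_unique _ _, ?_⟩
    apply CartesianMonoidalCategory.hom_ext
    · simp
    · simp [h1]

end Grp

end Groth.Agent.H50
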