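import Groth.Agent.H50.GrpDiag
import Groth.Agent.H50.UnivOpen

set_option autoImplicit false
set_option backward.isDefEq.respectTransparency false
universe u
open CategoryTheory CategoryTheory.Limits AlgebraicGeometry Opposite

namespace Groth.Agent.H50

section Grp

open MonoidalCategory CartesianMonoidalCategory MonObj

/-- In a cartesian monoidal category, the multiplication of a group object is the base change of the
structure morphism along itself (shear isomorphism). -/
theorem isPullback_mul_snd {C : Type*} [Category C] [CartesianMonoidalCategory C] (G : C) [GrpObj G] :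
    IsPullback μ[G] (snd G G) (toUnit G) (toUnit G) := by
  have hμ : ∀ {Z : C} (φ : Z ⟶ G ⊗ G), φ ≫ μ[G] = (φ ≫ fst G G) * (φ ≫ snd G G) := by
    intro Z φ
    rw [Hom.mul_def]
    congr 1
    apply CartesianMonoidalCategory.hom_ext <;> simp
  refine IsPullback.mk' ?_ ?_ ?_
  · exact toUnit_unique _ _
  · intro Z φ φ' h1 h2
    rw [hμ, hμ, h2] at h1
    apply CartesianMonoidalCategory.hom_ext
    · exact mul_right_cancel h1
    · exact h2
  · intro Z a b _
    refine ⟨lift (a * b⁻¹) b, ?_, ?_⟩
    · rw [hμ, lift_fst, lift_snd, inv_mul_cancel_right]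
    · exact lift_snd _ _

end Grp

open AlgSp MonoidalCategory CartesianMonoidalCategory MonObj

/-- The multiplication of a group algebraic space over a field is flat and universally open. -/
theorem grp_mul_flat_univOpen_of_field {S : Scheme.{u}} (k : Type u) [Field k]
    (σ : Spec (CommRingCat.of k) ⟶ S)
    (G : Over ((yon S).obj (Over.mk σ))) [GrpObj G] (hG : IsAlgSpace G.left) :
    LocP @Flat (μ[G]).left ∧ IsUnivOpenMor (μ[G]).left := by
  have sq : IsPullback (μ[G]).left (snd G G).left G.hom G.hom :=
    (isPullback_mul_snd G).map (Over.forget _)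
  have hB : IsAlgSpace ((yon S).obj (Over.mk σ)) := IsAlgSpace.yon_obj _
  have hGG : IsAlgSpace (G ⊗ G).left := Groth.Agent.H49.isAlgSpace_of_isPullback sq hB.diag hG hG
  have hs1 : LocP @Flat G.hom := locP_flat_to_field k σ _
  have hs2 : LocP @UniversallyOpen G.hom := locP_univOpen_to_field k σ _
  refine ⟨goodClass_flat.locP_of_isPullback hG hB hG G.hom G.hom _ _ sq.flip hs1, ?_⟩
  exact isUnivOpenMor_of_locP_univOpen hGG hG _
    (goodClass_univOpen.locP_of_isPullback hG hB hG G.hom G.hom _ _ sq.flip hs2)

end Groth.Agent.H50
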