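import Groth.Agent.H50.QCFlat
import Groth.Prelude.Def_AlgSpModX

set_option autoImplicit false
set_option backward.isDefEq.respectTransparency false
set_option linter.style.haveILetI false
universe u
open CategoryTheory CategoryTheory.Limits AlgebraicGeometry Opposite Topology

namespace Groth.Agent.H50

open AlgSp

variable {S : Scheme.{u}}

theorem ofIdealTop_le_ker_iff {E T₁ : Scheme.{u}} [IsAffine E] (I₀ : Ideal Γ(E, ⊤)) (s : T₁ ⟶ E) :
    Scheme.IdealSheafData.ofIdealTop I₀ ≤ s.ker ↔ I₀ ≤ RingHom.ker s.appTop.hom := by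
  rw [Scheme.ker_of_isAffine]
  exact map_le_map_iff (Scheme.IdealSheafData.equivOfIsAffine (X := E)).symm

theorem le_ker_comp_appTop_iff {A B C : Scheme.{u}} (f : A ⟶ B) (g : B ⟶ C) (I₀ : Ideal Γ(C, ⊤)) :
    I₀ ≤ RingHom.ker (f ≫ g).appTop.hom ↔ I₀.map g.appTop.hom ≤ RingHom.ker f.appTop.hom := by
  rw [Scheme.Hom.comp_appTop, CommRingCat.hom_comp, ← RingHom.comap_ker, Ideal.map_le_iff_le_comap]

/-- Vanishing of an ideal sheaf on a morphism is Zariski local on the source. -/
theorem ker_le_of_openCover {T T₁ : Over S} (K : T.left.IdealSheafData) (s : T₁ ⟶ T) {σ : Type*}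
    (O : σ → T₁.left.Opens) (hO : ⨆ k, O k = ⊤)
    (h : ∀ k, K ≤ (opensOvι T₁ (O k) ≫ s).left.ker) : K ≤ s.left.ker := by
  refine ker_le_of_locally K s _ (ofArrows_opens_mem_J O hO) ?_
  rintro T₂ ψ ⟨Z, k, _, ⟨i⟩, rfl⟩
  rw [Category.assoc, Over.comp_left]
  exact le_trans (h i) (Scheme.Hom.le_ker_comp _ _)

variable {X : Sp S}

/-- One direction of the compatibility of a quasi-coherent sheaf of ideals on the small etale site
with etale morphisms between charts. -/
theorem IdealEt.le_ker_of_le_ker (I : IdealEt X) (hI : I.IsQCoh) (E E' : EtOver X)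
    (hE : IsAffine E.obj.left.left) (hE' : IsAffine E'.obj.left.left) {W : Over S}
    (s : W ⟶ E.obj.left) (s' : W ⟶ E'.obj.left) (hs : Etale s.left)
    (h : (yon S).map s ≫ E.obj.hom = (yon S).map s' ≫ E'.obj.hom) {T₁ : Over S} (c : T₁ ⟶ W)
    (hc : I.ideal E hE ≤ RingHom.ker (c ≫ s).left.appTop.hom) :
    I.ideal E' hE' ≤ RingHom.ker (c ≫ s').left.appTop.hom := by
  haveI := hE'
  rw [← ofIdealTop_le_ker_iff]
  refine ker_le_of_openCover _ (c ≫ s') (fun D : W.left.affineOpens => c.left ⁻¹ᵁ D.1) ?_ ?_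
  · rw [← Scheme.Hom.preimage_iSup, iSup_affineOpens_eq_top]
    rfl
  · intro D
    -- the chart `D`
    have hDe : RepWith @Etale ((yon S).map (opensOvι W D.1 ≫ s) ≫ E.obj.hom) :=
      Groth.Agent.H53.repWith_etale_map_comp (opensOvι W D.1 ≫ s)
        (by
          rw [Over.comp_left]
          haveI := hs
          haveI : Etale (opensOvι W D.1).left := (inferInstance : Etale D.1.ι)
          infer_instance) _ E.property
    let ED : EtOver X := EtOver.mk _ hDe
    have hED : IsAffine ED.obj.left.left := D.2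
    let g : ED ⟶ E := EtOver.homMk (opensOvι W D.1 ≫ s) rfl
    let g' : ED ⟶ E' := EtOver.homMk (opensOvι W D.1 ≫ s') (by
      change (yon S).map (opensOvι W D.1 ≫ s') ≫ E'.obj.hom =
        (yon S).map (opensOvι W D.1 ≫ s) ≫ E.obj.hom
      rw [Functor.map_comp, Functor.map_comp, Category.assoc, Category.assoc, h])
    have e1 : I.ideal ED hED = (I.ideal E hE).map g.hom.left.left.appTop.hom :=
      le_antisymm (hI g hE hED) (I.map_le g hE hED)
    have e2 : I.ideal ED hED = (I.ideal E' hE').map g'.hom.left.left.appTop.hom :=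
      le_antisymm (hI g' hE' hED) (I.map_le g' hE' hED)
    have hcomm : opensOvι T₁ (c.left ⁻¹ᵁ D.1) ≫ c = restrictOv c D.1 ≫ opensOvι W D.1 :=
      (restrictOv_ι c D.1).symm
    -- the hypothesis, restricted
    have h1 : I.ideal E hE ≤
        RingHom.ker ((restrictOv c D.1).left ≫ g.hom.left.left).appTop.hom := by
      have : (restrictOv c D.1).left ≫ g.hom.left.left =
          (opensOvι T₁ (c.left ⁻¹ᵁ D.1)).left ≫ (c ≫ s).left := by
        change (restrictOv c D.1 ≫ opensOvι W D.1 ≫ s).left = (opensOvι T₁ _ ≫ c ≫ s).left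
        rw [← Category.assoc, ← hcomm, Category.assoc]
      rw [this, Scheme.Hom.comp_appTop, CommRingCat.hom_comp, ← RingHom.comap_ker]
      exact le_trans hc (Ideal.ker_le_comap _)
    rw [le_ker_comp_appTop_iff, ← e1, e2, ← le_ker_comp_appTop_iff] at h1
    rw [ofIdealTop_le_ker_iff]
    have : (opensOvι T₁ (c.left ⁻¹ᵁ D.1) ≫ c ≫ s').left =
        (restrictOv c D.1).left ≫ g'.hom.left.left := by
      change _ = (restrictOv c D.1 ≫ opensOvι W D.1 ≫ s').left
      rw [← Category.assoc, hcomm, Category.assoc]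
    rw [this]
    exact h1

/-- The predicate cutting out the closed subspace of a sheaf of ideals. -/
def cutPred (I : IdealEt X) : ElemPred X where
  Q T₀ x := ∀ (E : EtOver X) (hE : IsAffine E.obj.left.left) ⦃T₁ : Over S⦄ (t : T₁ ⟶ T₀)
    (s : T₁ ⟶ E.obj.left), (yon S).map s ≫ E.obj.hom = (yon S).map t ≫ x →
      I.ideal E hE ≤ RingHom.ker s.left.appTop.hom
  map := by
    intro T₀ T₀' φ x hx E hE T₁ t s h
    exact hx E hE (t ≫ φ) s (by rw [h, Functor.map_comp, Category.assoc])
  loc := by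
    intro T₀ x R hR h E hE T₁ t s hs
    haveI := hE
    rw [← ofIdealTop_le_ker_iff]
    refine ker_le_of_locally _ s (R.pullback t) ((J S).pullback_stable t hR) ?_
    intro T₂ ψ hψ
    rw [ofIdealTop_le_ker_iff]
    exact h (ψ ≫ t) hψ E hE (𝟙 T₂) (ψ ≫ s) (by
      rw [Functor.map_comp, Category.assoc, hs, CategoryTheory.Functor.map_id, Category.id_comp,
        Functor.map_comp, Category.assoc])

/-- Computation of the predicate on an affine chart. -/
theorem cutPred_chart_iff (I : IdealEt X) (hI : I.IsQCoh) (E : EtOver X)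
    (hE : IsAffine E.obj.left.left) {T₁ : Over S} (s : T₁ ⟶ E.obj.left) :
    (cutPred I).Q ((yon S).map s ≫ E.obj.hom) ↔ I.ideal E hE ≤ RingHom.ker s.left.appTop.hom := by
  constructor
  · intro h
    exact h E hE (𝟙 T₁) s (by rw [CategoryTheory.Functor.map_id, Category.id_comp])
  · intro h E' hE' T₁' t s' hs
    obtain ⟨W, pr, pr', sq⟩ := Groth.Agent.H53.exists_pullback_yon E.obj.hom E'.obj.hom
      E'.property.rep
    haveI : Etale pr.left := Groth.Agent.H53.prop_of_isPullback_yon sq E'.property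
    obtain ⟨l, hl1, hl2⟩ := sq.exists_lift ((yon S).map (t ≫ s)) ((yon S).map s') (by
      rw [hs, Functor.map_comp, Category.assoc])
    obtain ⟨c, rfl⟩ := (yon S).map_surjective l
    have h1 : c ≫ pr = t ≫ s := (yon S).map_injective (by rw [Functor.map_comp, hl1])
    have h2 : c ≫ pr' = s' := (yon S).map_injective (by rw [Functor.map_comp, hl2])
    have := IdealEt.le_ker_of_le_ker I hI E E' hE hE' pr pr' inferInstance sq.w c (by
      rw [h1, Over.comp_left, Scheme.Hom.comp_appTop, CommRingCat.hom_comp, ← RingHom.comap_ker]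
      exact le_trans h (Ideal.ker_le_comap _))
    rwa [h2] at this

/-- A subsheaf cut out by a local predicate whose pullback to an atlas is Zariski locally a closed
subscheme is a closed subspace. -/
theorem ElemPred.repWith_isClosedImmersion_ι (E : ElemPred X) {A : Over S}
    (p : (yon S).obj A ⟶ X) (hp : RepWith @Etale p) (hps : RepWith @Surjective p)
    (hloc : ∀ α : ↥A.left, ∃ (D : A.left.Opens) (W : Scheme.{u}) (ι : W ⟶ D.toScheme), α ∈ D ∧
      IsClosedImmersion ι ∧
      ∀ ⦃T : Scheme.{u}⦄ (g : T ⟶ D.toScheme), E.onScheme p (g ≫ D.ι) ↔ ∃ w : T ⟶ W, w ≫ ι = g) :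
    RepWith @IsClosedImmersion E.ι := by
  obtain ⟨W₀, ι₀, hι₀, hW₀⟩ : ∃ (W₀ : Scheme.{u}) (ι₀ : W₀ ⟶ A.left), IsClosedImmersion ι₀ ∧
      ∀ ⦃T : Scheme.{u}⦄ (g : T ⟶ A.left), E.onScheme p g ↔ ∃ w : T ⟶ W₀, w ≫ ι₀ = g := by
    apply Groth.Agent.H40.CD.closed_of_zariski_local
    · intro T T' h g hg
      have e : (Over.homMk (h ≫ g) rfl : Over.mk ((h ≫ g) ≫ A.hom) ⟶ A) =
          (Over.homMk h (by simp) : Over.mk ((h ≫ g) ≫ A.hom) ⟶ Over.mk (g ≫ A.hom)) ≫
            Over.homMk g rfl := by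
        ext : 1
        simp
      unfold ElemPred.onScheme at hg ⊢
      have := E.map
        (Over.homMk h (by simp) : Over.mk ((h ≫ g) ≫ A.hom) ⟶ Over.mk (g ≫ A.hom)) _ hg
      rw [← Category.assoc, ← Functor.map_comp, ← e] at this
      exact this
    · intro T g σ O hO h
      refine (E.onScheme_iff p (Over.homMk g rfl : Over.mk (g ≫ A.hom) ⟶ A)).2 ?_
      refine E.of_openCover _ O hO ?_
      intro i
      rw [← Category.assoc, ← Functor.map_comp]
      exact (E.onScheme_iff p _).1 (h i)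
    · exact hloc
  let ZA : Over S := Over.mk (ι₀ ≫ A.hom)
  let ιA : ZA ⟶ A := Over.homMk ι₀ rfl
  haveI : IsClosedImmersion ιA.left := hι₀
  haveI : Mono ιA := Over.mono_of_mono_left _
  haveI := mono_yon_map ιA
  have hQ : E.Q ((yon S).map ιA ≫ p) :=
    (E.onScheme_iff p ιA).1 ((hW₀ ι₀).2 ⟨𝟙 _, Category.id_comp _⟩)
  obtain ⟨e, he⟩ := (E.exists_factor_ι_iff _).2 hQ
  have sq : IsPullback e ((yon S).map ιA) E.ι p := by
    apply Groth.Agent.H51.isPullback_of_forall_yon he
    intro T a b hab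
    obtain ⟨s, rfl⟩ := (yon S).map_surjective b
    have h1 : E.Q ((yon S).map s ≫ p) := by
      rw [← hab]; exact (E.exists_factor_ι_iff _).1 ⟨a, rfl⟩
    obtain ⟨w, hw⟩ := (hW₀ s.left).1 ((E.onScheme_iff p s).2 h1)
    have hc : (Over.homMk w (by rw [← Over.w s, ← hw, Category.assoc]; rfl) : T ⟶ ZA) ≫ ιA = s := by
      ext : 1
      exact hw
    refine ⟨(yon S).map (Over.homMk w (by rw [← Over.w s, ← hw, Category.assoc]; rfl) : T ⟶ ZA),
      ⟨?_, by rw [← Functor.map_comp, hc]⟩, ?_⟩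
    · rw [← cancel_mono E.ι, Category.assoc, he, ← Category.assoc, ← Functor.map_comp, hc, hab]
    · rintro d ⟨-, hd⟩
      rw [← cancel_mono ((yon S).map ιA), hd, ← Functor.map_comp, hc]
  exact repWith_isClosedImmersion_of_etale_cover E.ι p hp hps e ((yon S).map ιA) sq
    ((repWith_yon_map_iff _ _).2 hι₀)

/-- The closed subspace cut out by a quasi-coherent sheaf of ideals is a closed subspace. -/
theorem repWith_isClosedImmersion_cutPred_ι (hX : IsAlgSpace X) (I : IdealEt X) (hI : I.IsQCoh) :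
    RepWith @IsClosedImmersion (cutPred I).ι := by
  obtain ⟨A, p, hp, hps⟩ := hX.atlas
  refine (cutPred I).repWith_isClosedImmersion_ι p hp hps ?_
  intro α
  obtain ⟨D, hD, hαD⟩ : ∃ D : A.left.Opens, IsAffineOpen D ∧ α ∈ D := by
    obtain ⟨_, ⟨D, hD, rfl⟩, hαD, -⟩ := A.left.isBasis_affineOpens.exists_subset_of_mem_open
      (Set.mem_univ α) isOpen_univ
    exact ⟨D, hD, hαD⟩
  have hb : RepWith @Etale ((yon S).map (opensOvι A D) ≫ p) :=
    Groth.Agent.H53.repWith_etale_map_comp (opensOvι A D) (inferInstance : Etale D.ι) p hp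
  let ED : EtOver X := EtOver.mk _ hb
  have hED : IsAffine ED.obj.left.left := hD
  haveI : IsAffine D.toScheme := hD
  refine ⟨D, (Scheme.IdealSheafData.ofIdealTop (I.ideal ED hED)).subscheme,
    (Scheme.IdealSheafData.ofIdealTop (I.ideal ED hED)).subschemeι, hαD, inferInstance, ?_⟩
  intro T g
  let gov : Over.mk (g ≫ (opensOv A D).hom) ⟶ opensOv A D := Over.homMk g rfl
  have h1 : (cutPred I).onScheme p (g ≫ D.ι) ↔
      (cutPred I).Q ((yon S).map gov ≫ (yon S).map (opensOvι A D) ≫ p) := by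
    rw [← Category.assoc, ← Functor.map_comp]
    exact (cutPred I).onScheme_iff p (gov ≫ opensOvι A D)
  rw [h1]
  have h2 : (cutPred I).Q ((yon S).map gov ≫ (yon S).map (opensOvι A D) ≫ p) ↔
      I.ideal ED hED ≤ RingHom.ker g.appTop.hom := cutPred_chart_iff I hI ED hED gov
  refine h2.trans ?_
  rw [← ofIdealTop_le_ker_iff]
  constructor
  · intro h
    exact ⟨IsClosedImmersion.lift (Scheme.IdealSheafData.ofIdealTop (I.ideal ED hED)).subschemeι g
      (by rw [Scheme.IdealSheafData.ker_subschemeι]; exact h), IsClosedImmersion.lift_fac _ _ _⟩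
  · rintro ⟨w, rfl⟩
    refine le_trans ?_ (Scheme.Hom.le_ker_comp _ _)
    exact (Scheme.IdealSheafData.ker_subschemeι _).ge

end Groth.Agent.H50
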