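import Groth.Agent.H50.IdealEt1

set_option autoImplicit false
set_option backward.isDefEq.respectTransparency false
set_option linter.style.haveILetI false
universe u
open CategoryTheory CategoryTheory.Limits AlgebraicGeometry Opposite Topology

namespace Groth.Agent.H50

open AlgSp

variable {S : Scheme.{u}}

theorem ker_appTop_subschemeι_ofIdealTop {E : Scheme.{u}} [IsAffine E] (I₀ : Ideal Γ(E, ⊤)) :
    RingHom.ker (Scheme.IdealSheafData.ofIdealTop I₀).subschemeι.appTop.hom = I₀ := by
  apply le_antisymm
  · have h := (ofIdealTop_le_ker_iff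
      (RingHom.ker (Scheme.IdealSheafData.ofIdealTop I₀).subschemeι.appTop.hom)
      (Scheme.IdealSheafData.ofIdealTop I₀).subschemeι).2 le_rfl
    rw [Scheme.IdealSheafData.ker_subschemeι] at h
    exact (map_le_map_iff (Scheme.IdealSheafData.equivOfIsAffine (X := E)).symm).1 h
  · exact (ofIdealTop_le_ker_iff I₀ _).1 (Scheme.IdealSheafData.ker_subschemeι _).ge

variable {X : Sp S}

/-- A point of an affine etale chart factors through a closed subspace iff the ideal of the closed
subspace on the chart vanishes on it. -/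
theorem exists_factor_iff_idealOfRep_le {Z : Sp S} (i : Z ⟶ X)
    (hi : RepWith @IsClosedImmersion i) (E : EtOver X) (hE : IsAffine E.obj.left.left)
    {T₁ : Over S} (s : T₁ ⟶ E.obj.left) :
    (∃ a : (yon S).obj T₁ ⟶ Z, a ≫ i = (yon S).map s ≫ E.obj.hom) ↔
      (idealOfRep hi.1).ideal E hE ≤ RingHom.ker s.left.appTop.hom := by
  haveI := hE
  have sq := hi.1.isPullback E.obj.hom
  haveI : IsClosedImmersion (hi.1.snd E.obj.hom).left := hi.2 _ _ _ sq
  constructor
  · rintro ⟨a, ha⟩
    obtain ⟨l, -, hl⟩ := sq.exists_lift a ((yon S).map s) ha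
    obtain ⟨c, rfl⟩ := (yon S).map_surjective l
    have hc : c ≫ hi.1.snd E.obj.hom = s := (yon S).map_injective (by rw [Functor.map_comp, hl])
    change RingHom.ker (hi.1.snd E.obj.hom).left.appTop.hom ≤ _
    rw [← hc, Over.comp_left, Scheme.Hom.comp_appTop, CommRingCat.hom_comp, ← RingHom.comap_ker]
    exact Ideal.ker_le_comap _
  · intro h
    change RingHom.ker (hi.1.snd E.obj.hom).left.appTop.hom ≤ _ at h
    rw [← ofIdealTop_le_ker_iff, ← Scheme.ker_of_isAffine] at h
    obtain ⟨c, hc⟩ := exists_over_lift_of_ker_le (hi.1.snd E.obj.hom) s h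
    exact ⟨(yon S).map c ≫ hi.1.fst E.obj.hom, by
      rw [Category.assoc, sq.w, ← Category.assoc, ← Functor.map_comp, hc]⟩

/-- The closed subspace cut out by a quasi-coherent sheaf of ideals has that sheaf of ideals. -/
theorem isCutOutBy_cutPred_ι (hX : IsAlgSpace X) (I : IdealEt X) (hI : I.IsQCoh) :
    IsCutOutBy I (cutPred I).ι := by
  refine ⟨repWith_isClosedImmersion_cutPred_ι hX I hI, ?_⟩
  apply IdealEt.ext
  funext E hE
  haveI := hE
  have hi := repWith_isClosedImmersion_cutPred_ι hX I hI
  have key : ∀ {T₁ : Over S} (s : T₁ ⟶ E.obj.left),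
      (idealOfRep hi.1).ideal E hE ≤ RingHom.ker s.left.appTop.hom ↔
        I.ideal E hE ≤ RingHom.ker s.left.appTop.hom := by
    intro T₁ s
    rw [← exists_factor_iff_idealOfRep_le (cutPred I).ι hi E hE s,
      (cutPred I).exists_factor_ι_iff, cutPred_chart_iff I hI E hE s]
  apply le_antisymm
  · -- use the closed subscheme of `I(E)`
    have := (key (subOvι E.obj.left (Scheme.IdealSheafData.ofIdealTop (I.ideal E hE)))).2
      (ker_appTop_subschemeι_ofIdealTop (I.ideal E hE)).ge
    exact le_trans this (ker_appTop_subschemeι_ofIdealTop (I.ideal E hE)).le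
  · -- use the pullback of the closed subspace itself
    exact (key (hi.1.snd E.obj.hom)).1 le_rfl

theorem isAlgSpace_cutPred_sp (hX : IsAlgSpace X) (I : IdealEt X) (hI : I.IsQCoh) :
    IsAlgSpace (cutPred I).sp :=
  Groth.Agent.H49.isAlgSpace_of_representable_to (cutPred I).ι
    (repWith_isClosedImmersion_cutPred_ι hX I hI).rep hX

end Groth.Agent.H50
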