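import Groth.Agent.H50.IdealEt2

set_option autoImplicit false
set_option backward.isDefEq.respectTransparency false
set_option linter.style.haveILetI false
universe u
open CategoryTheory CategoryTheory.Limits AlgebraicGeometry Opposite Topology

namespace Groth.Agent.H50

open AlgSp

variable {S : Scheme.{u}} {X : Sp S}

/-- The ideal of a representable morphism vanishes on every point of a chart lifting to the
source. -/
theorem idealOfRep_le_ker_of_comm {F : Sp S} {g : F ⟶ X} (hg : Representable g) (E : EtOver X)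
    (hE : IsAffine E.obj.left.left) {T₁ : Over S} (s : T₁ ⟶ E.obj.left)
    (a : (yon S).obj T₁ ⟶ F) (h : a ≫ g = (yon S).map s ≫ E.obj.hom) :
    (idealOfRep hg).ideal E hE ≤ RingHom.ker s.left.appTop.hom := by
  have sq := hg.isPullback E.obj.hom
  obtain ⟨l, -, hl⟩ := sq.exists_lift a ((yon S).map s) h
  obtain ⟨c, rfl⟩ := (yon S).map_surjective l
  have hc : c ≫ hg.snd E.obj.hom = s := (yon S).map_injective (by rw [Functor.map_comp, hl])
  change RingHom.ker (hg.snd E.obj.hom).left.appTop.hom ≤ _
  rw [← hc, Over.comp_left, Scheme.Hom.comp_appTop, CommRingCat.hom_comp, ← RingHom.comap_ker]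
  exact Ideal.ker_le_comap _

/-- A point of an algebraic space factors through a closed subspace as soon as the ideal of the
closed subspace vanishes on all its pullbacks to affine etale charts. -/
theorem exists_factor_of_forall_chart (hX : IsAlgSpace X) {Z : Sp S} (i : Z ⟶ X)
    (hi : RepWith @IsClosedImmersion i) {T : Over S} (h : (yon S).obj T ⟶ X)
    (H : ∀ (E : EtOver X) (hE : IsAffine E.obj.left.left) ⦃T₁ : Over S⦄ (t : T₁ ⟶ T)
      (s : T₁ ⟶ E.obj.left), (yon S).map s ≫ E.obj.hom = (yon S).map t ≫ h →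
        (idealOfRep hi.1).ideal E hE ≤ RingHom.ker s.left.appTop.hom) :
    ∃ k : (yon S).obj T ⟶ Z, k ≫ i = h := by
  haveI : Mono i := Groth.Agent.H49.mono_of_repWith_mono isClosedImmersion_le_mono i hi
  obtain ⟨A, p, hp, hps⟩ := hX.atlas
  refine exists_lift_of_mono_of_chart_cover i p hp hps (fun D : A.left.affineOpens => D.1)
    (iSup_affineOpens_eq_top _) h ?_
  intro D T₁ t s hs
  have hb : RepWith @Etale ((yon S).map (opensOvι A D.1) ≫ p) :=
    Groth.Agent.H53.repWith_etale_map_comp (opensOvι A D.1) (inferInstance : Etale D.1.ι) p hp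
  let ED : EtOver X := EtOver.mk _ hb
  have hED : IsAffine ED.obj.left.left := D.2
  exact (exists_factor_iff_idealOfRep_le i hi ED hED s).2 (H ED hED t s hs)

/-- Points of a closed subspace cut out by a sheaf of ideals. -/
theorem exists_factor_iff_le_idealOfRep (hX : IsAlgSpace X) {Z : Sp S} (i : Z ⟶ X)
    (hi : RepWith @IsClosedImmersion i) {T : Over S} (h : (yon S).obj T ⟶ X)
    (hh : Representable h) :
    (∃ k : (yon S).obj T ⟶ Z, k ≫ i = h) ↔ idealOfRep hi.1 ≤ idealOfRep hh := by
  constructor
  · rintro ⟨k, rfl⟩ E hE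
    refine idealOfRep_le_ker_of_comm hi.1 E hE (hh.snd E.obj.hom) (hh.fst E.obj.hom ≫ k) ?_
    rw [Category.assoc, (hh.isPullback E.obj.hom).w]
  · intro hle
    refine exists_factor_of_forall_chart hX i hi h ?_
    intro E hE T₁ t s hs
    exact le_trans (hle E hE) (idealOfRep_le_ker_of_comm hh E hE s ((yon S).map t) hs.symm)

/-- Inclusion of closed subspaces in terms of their sheaves of ideals. -/
theorem exists_factor_iff_idealOfRep_le_idealOfRep (hX : IsAlgSpace X) {Z Z' : Sp S} (i : Z ⟶ X)
    (i' : Z' ⟶ X) (hi : RepWith @IsClosedImmersion i) (hi' : RepWith @IsClosedImmersion i') :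
    (∃ k : Z' ⟶ Z, k ≫ i = i') ↔ idealOfRep hi.1 ≤ idealOfRep hi'.1 := by
  haveI : Mono i := Groth.Agent.H49.mono_of_repWith_mono isClosedImmersion_le_mono i hi
  constructor
  · rintro ⟨k, rfl⟩ E hE
    refine idealOfRep_le_ker_of_comm hi.1 E hE (hi'.1.snd E.obj.hom) (hi'.1.fst E.obj.hom ≫ k) ?_
    rw [Category.assoc, (hi'.1.isPullback E.obj.hom).w]
  · intro hle
    apply exists_factor_of_mono_of_forall_yon
    intro T x
    refine exists_factor_of_forall_chart hX i hi (x ≫ i') ?_
    intro E hE T₁ t s hs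
    refine le_trans (hle E hE) (idealOfRep_le_ker_of_comm hi'.1 E hE s ((yon S).map t ≫ x) ?_)
    rw [Category.assoc, hs]

end Groth.Agent.H50
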