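import Groth.Agent.H50.IdealEt3
import Groth.Agent.H50.QCMor

set_option autoImplicit false
set_option backward.isDefEq.respectTransparency false
set_option linter.style.haveILetI false
universe u
open CategoryTheory CategoryTheory.Limits AlgebraicGeometry Opposite Topology

namespace Groth.Agent.H50

open AlgSp

variable {S : Scheme.{u}}

/-- Two ideals of functions on an affine scheme vanishing on the same points are equal. -/
theorem ideal_eq_of_forall_le_ker_iff {E : Over S} (hE : IsAffine E.left)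
    (I₁ I₂ : Ideal Γ(E.left, ⊤))
    (h : ∀ ⦃T₁ : Over S⦄ (s : T₁ ⟶ E),
      I₁ ≤ RingHom.ker s.left.appTop.hom ↔ I₂ ≤ RingHom.ker s.left.appTop.hom) : I₁ = I₂ := by
  haveI := hE
  apply le_antisymm
  · exact le_trans ((h (subOvι E (Scheme.IdealSheafData.ofIdealTop I₂))).2
      (ker_appTop_subschemeι_ofIdealTop I₂).ge) (ker_appTop_subschemeι_ofIdealTop I₂).le
  · exact le_trans ((h (subOvι E (Scheme.IdealSheafData.ofIdealTop I₁))).1
      (ker_appTop_subschemeι_ofIdealTop I₁).ge) (ker_appTop_subschemeι_ofIdealTop I₁).le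

variable {X Y : Sp S}

/-- Flat base change for the kernel of functions, affine form. -/
theorem ker_appTop_le_map_of_isPullback {U T W P : Scheme.{u}} [IsAffine T] [IsAffine W]
    (g : U ⟶ T) [QuasiCompact g] (s : W ⟶ T) [Flat s] (fst : P ⟶ U) (snd : P ⟶ W)
    (sq : IsPullback fst snd g s) :
    RingHom.ker snd.appTop.hom ≤ (RingHom.ker g.appTop.hom).map s.appTop.hom := by
  have key := ker_snd_le_iff_of_flat g s fst snd sq
    (Scheme.IdealSheafData.ofIdealTop ((RingHom.ker g.appTop.hom).map s.appTop.hom)).subschemeι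
  rw [Scheme.ker_of_isAffine snd, Scheme.ker_of_isAffine g,
    ofIdealTop_le_ker_iff, ofIdealTop_le_ker_iff, le_ker_comp_appTop_iff,
    ker_appTop_subschemeι_ofIdealTop] at key
  exact key.2 le_rfl

/-- The kernel of `O_Y ⟶ f_* O_X` is quasi-coherent for `f` quasi-compact. -/
theorem isQCoh_idealOfRep (f : X ⟶ Y) (hf : Representable f) (hqc : IsQuasiCompactMor f) :
    (idealOfRep hf).IsQCoh := by
  intro E E' g hE hE'
  haveI := hE
  haveI := hE'
  have sq := EtOver.isPullback_bcMap_left hf g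
  haveI : QuasiCompact (hf.snd E.obj.hom).left :=
    (repWith_quasiCompact_of_isQuasiCompactMor f hf hqc).2 _ _ _ (hf.isPullback E.obj.hom)
  haveI : Etale g.hom.left.left := EtOver.etale_left g
  exact ker_appTop_le_map_of_isPullback (hf.snd E.obj.hom).left g.hom.left.left _ _ sq

/-- The sheaf of ideals of the scheme theoretic image of a quasi-compact representable morphism is
the kernel of `O_Y ⟶ f_* O_X`. -/
theorem idealOfRep_qcImgι (hY : IsAlgSpace Y) (f : X ⟶ Y) (hf : Representable f)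
    (hqc : IsQuasiCompactMor f) :
    idealOfRep (repWith_isClosedImmersion_qcImgι hY hqc).1 = idealOfRep hf := by
  apply IdealEt.ext
  funext E hE
  haveI := hE
  apply ideal_eq_of_forall_le_ker_iff hE
  intro T₁ s
  have hq : QuasiCompact (hf.snd E.obj.hom).left :=
    (repWith_quasiCompact_of_isQuasiCompactMor f hf hqc).2 _ _ _ (hf.isPullback E.obj.hom)
  let A : QCAtlas f E.obj.hom := QCAtlas.ofIsPullback (hf.isPullback E.obj.hom) (𝟙 _)
    (hf.snd E.obj.hom) (Category.id_comp _) hq (repWith_id @Etale _) (repWith_id @Surjective _)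
  rw [← exists_factor_iff_idealOfRep_le (qcImgι f) (repWith_isClosedImmersion_qcImgι hY hqc) E hE s,
    exists_factor_qcImgι_iff, qcPred_chart_iff f E.obj.hom E.property A s]
  change (hf.snd E.obj.hom).left.ker ≤ _ ↔ RingHom.ker (hf.snd E.obj.hom).left.appTop.hom ≤ _
  rw [Scheme.ker_of_isAffine (hf.snd E.obj.hom).left, ofIdealTop_le_ker_iff]

/-- Closed subspaces with the same sheaf of ideals are isomorphic over the ambient space. -/
theorem exists_iso_of_idealOfRep_eq (hY : IsAlgSpace Y) {Z Z' : Sp S} (i : Z ⟶ Y) (i' : Z' ⟶ Y)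
    (hi : RepWith @IsClosedImmersion i) (hi' : RepWith @IsClosedImmersion i')
    (h : idealOfRep hi.1 = idealOfRep hi'.1) : ∃ e : Z ≅ Z', e.hom ≫ i' = i := by
  haveI : Mono i := Groth.Agent.H49.mono_of_repWith_mono isClosedImmersion_le_mono i hi
  haveI : Mono i' := Groth.Agent.H49.mono_of_repWith_mono isClosedImmersion_le_mono i' hi'
  obtain ⟨k, hk⟩ := (exists_factor_iff_idealOfRep_le_idealOfRep hY i i' hi hi').2
    (fun E hE => by rw [h])
  obtain ⟨k', hk'⟩ := (exists_factor_iff_idealOfRep_le_idealOfRep hY i' i hi' hi).2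
    (fun E hE => by rw [h])
  refine ⟨⟨k', k, ?_, ?_⟩, hk'⟩
  · rw [← cancel_mono i, Category.assoc, hk, hk', Category.id_comp]
  · rw [← cancel_mono i', Category.assoc, hk', hk, Category.id_comp]

/-- Isomorphic closed subspaces have the same sheaf of ideals. -/
theorem idealOfRep_eq_of_iso (hY : IsAlgSpace Y) {Z Z' : Sp S} (i : Z ⟶ Y) (i' : Z' ⟶ Y)
    (hi : RepWith @IsClosedImmersion i) (hi' : RepWith @IsClosedImmersion i')
    (e : Z ≅ Z') (he : e.hom ≫ i' = i) : idealOfRep hi.1 = idealOfRep hi'.1 := by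
  apply IdealEt.ext
  funext E hE
  apply le_antisymm
  · exact (exists_factor_iff_idealOfRep_le_idealOfRep hY i i' hi hi').1
      ⟨e.inv, by rw [← he, Iso.inv_hom_id_assoc]⟩ E hE
  · exact (exists_factor_iff_idealOfRep_le_idealOfRep hY i' i hi' hi).1 ⟨e.hom, he⟩ E hE

/-- The scheme theoretic image of a quasi-compact representable morphism is the closed subspace cut
out by the kernel of `O_Y ⟶ f_* O_X`. -/
theorem isSchImage_iff_isCutOutBy (hY : IsAlgSpace Y) (f : X ⟶ Y) (hf : Representable f)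
    (hqc : IsQuasiCompactMor f) {Z : Sp S} (hZ : IsAlgSpace Z) (i : Z ⟶ Y) :
    IsSchImage f i ↔ IsCutOutBy (idealOfRep hf) i := by
  have hq := repWith_isClosedImmersion_qcImgι hY hqc
  have hqim := isSchImage_qcImgι hY hqc
  constructor
  · intro h
    obtain ⟨e, he⟩ := exists_iso_of_isSchImage f i (qcImgι f) hZ (isAlgSpace_qcImg hY hqc) h hqim
    exact ⟨h.1, (idealOfRep_eq_of_iso hY i (qcImgι f) h.1 hq e he).trans
      (idealOfRep_qcImgι hY f hf hqc)⟩
  · rintro ⟨hi, h⟩
    obtain ⟨e, he⟩ := exists_iso_of_idealOfRep_eq hY i (qcImgι f) hi hq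
      (h.trans (idealOfRep_qcImgι hY f hf hqc).symm)
    refine ⟨hi, ?_, ?_⟩
    · obtain ⟨f', hf'⟩ := hqim.2.1
      exact ⟨f' ≫ e.inv, by rw [Category.assoc, ← he, Iso.inv_hom_id_assoc, hf']⟩
    · intro Z' i' hZ' hi' hfac
      obtain ⟨k, hk⟩ := hqim.2.2 i' hZ' hi' hfac
      exact ⟨e.hom ≫ k, by rw [Category.assoc, hk, he]⟩

end Groth.Agent.H50
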