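import Groth.Agent.H50.SchDenseFlat
import Groth.Agent.H50.Mor
import Groth.Agent.H52.Epi

set_option autoImplicit false
set_option backward.isDefEq.respectTransparency false
universe u
open CategoryTheory CategoryTheory.Limits AlgebraicGeometry Opposite Topology

namespace Groth.Agent.H50

open AlgSp

variable {S : Scheme.{u}}

/-- A closed immersion through which a quasi-compact scheme theoretically dense open factors is an
isomorphism. -/
theorem isIso_of_isClosedImmersion_of_schDense_factors {T V : Scheme.{u}} (i : T ⟶ V)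
    [IsClosedImmersion i] (W : V.Opens) [QuasiCompact W.ι] (hW : CInt.IsSchematicallyDense W)
    (w : W.toScheme ⟶ T) (hw : w ≫ i = W.ι) : IsIso i := by
  rw [IsClosedImmersion.isIso_iff_ker_eq_bot]
  have h1 := Scheme.Hom.le_ker_comp w i
  rw [hw] at h1
  have h2 : W.ι.ker = ⊥ :=
    (Groth.Agent.H19.dominant_of_isSchematicallyDense W hW).ker_eq_bot
  rw [h2] at h1
  exact le_bot_iff.mp h1

theorem repWith_isClosedImmersion_id (X : Sp S) : RepWith @IsClosedImmersion (𝟙 X) := by
  have : (RepWith @IsClosedImmersion).ContainsIdentities (C := Sp S) := inferInstance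
  exact MorphismProperty.id_mem _ X

/-- A representable closed immersion into `X` through which a quasi-compact scheme theoretically
dense open subspace factors has a section. -/
theorem exists_section_of_isSchDense {X V Z' : Sp S} (j : V ⟶ X) (hj : IsSchDense j)
    (hjq : IsQuasiCompactMor j) (i' : Z' ⟶ X) (hi' : RepWith @IsClosedImmersion i')
    (f'' : V ⟶ Z') (hf'' : f'' ≫ i' = j) : ∃ k : X ⟶ Z', k ≫ i' = 𝟙 X := by
  obtain ⟨hjo, V₀, φ, W, fst₀, hφ1, hφ2, sq₀, hW⟩ := hj
  have hjqc : RepWith @QuasiCompact j := repWith_quasiCompact_of_isQuasiCompactMor j hjo.rep hjq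
  have hWqc : QuasiCompact W.ι := hjqc.property φ fst₀ _ sq₀
  have sqT := hi'.rep.isPullback φ
  have hcl : IsClosedImmersion (hi'.rep.snd φ).left := hi'.property _ _ _ sqT
  -- the lift of `W` into the base change
  obtain ⟨w', hw'1, hw'2⟩ := sqT.exists_lift (fst₀ ≫ f'')
    ((yon S).map (Over.homMk W.ι rfl : Over.mk (W.ι ≫ V₀.hom) ⟶ V₀))
    (by rw [Category.assoc, hf'', sq₀.w])
  obtain ⟨w, rfl⟩ := (yon S).map_surjective w'
  have hw : w ≫ hi'.rep.snd φ = (Over.homMk W.ι rfl : Over.mk (W.ι ≫ V₀.hom) ⟶ V₀) := by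
    apply (yon S).map_injective
    rw [Functor.map_comp, hw'2]
  have hwl : w.left ≫ (hi'.rep.snd φ).left = W.ι := congrArg (fun m => m.left) hw
  have hiso : IsIso (hi'.rep.snd φ).left :=
    isIso_of_isClosedImmersion_of_schDense_factors _ W hW w.left hwl
  have hiso' : IsIso (hi'.rep.snd φ) := by
    have : IsIso ((Over.forget S).map (hi'.rep.snd φ)) := hiso
    exact isIso_of_reflects_iso _ (Over.forget S)
  -- the section over the chart
  obtain ⟨s₀, hs₀⟩ : ∃ s₀ : (yon S).obj V₀ ⟶ Z', s₀ ≫ i' = φ := by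
    refine ⟨inv ((yon S).map (hi'.rep.snd φ)) ≫ hi'.rep.fst φ, ?_⟩
    rw [Category.assoc, sqT.w, IsIso.inv_hom_id_assoc]
  have hmono : Mono i' :=
    mono_of_repWith (P := @IsClosedImmersion) (fun _ _ f hf => by
      have : IsClosedImmersion f := hf
      exact (inferInstance : Mono f)) i' hi'
  have hepi : Epi φ := Groth.Agent.H52.epi_of_repWith_etale_surjective φ hφ1 hφ2
  have hcoeq : pullback.fst φ φ ≫ s₀ = pullback.snd φ φ ≫ s₀ := by
    rw [← cancel_mono i', Category.assoc, Category.assoc, hs₀, pullback.condition]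
  obtain ⟨k, hk⟩ := Groth.Agent.H52.exists_desc_of_epi_of_isKernelPair φ
    (IsKernelPair.of_hasPullback φ) s₀ hcoeq
  refine ⟨k, ?_⟩
  rw [← cancel_epi φ, ← Category.assoc, hk, hs₀, Category.comp_id]

/-- The scheme theoretic closure of a quasi-compact scheme theoretically dense open subspace is the
whole space. -/
theorem isSchImage_id_of_isSchDense {X V : Sp S} (j : V ⟶ X) (hj : IsSchDense j)
    (hjq : IsQuasiCompactMor j) : IsSchImage j (𝟙 X) := by
  refine ⟨repWith_isClosedImmersion_id X, ⟨j, Category.comp_id j⟩, ?_⟩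
  intro Z' i' _ hi' hfac
  obtain ⟨f'', hf''⟩ := hfac
  exact exists_section_of_isSchDense j hj hjq i' hi' f'' hf''

end Groth.Agent.H50
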