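import Groth.Agent.H50.SchDenseChart
import Groth.Prelude.Def_AlgSpOX2
import Mathlib.CategoryTheory.Sites.LocallyInjective

set_option autoImplicit false
set_option backward.isDefEq.respectTransparency false
universe u
open CategoryTheory CategoryTheory.Limits AlgebraicGeometry Opposite Topology

namespace Groth.Agent.H50

open AlgSp

variable {S : Scheme.{u}}

theorem bcRingHom_app_apply {X Y : Sp S} {f : X ⟶ Y} (hf : Representable f) (E : EtOver Y)
    (s : ULift.{u + 1} Γ(E.obj.left.left, ⊤)) :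
    ((bcRingHom hf).hom.app (op E)) s = ULift.up ((hf.snd E.obj.hom).left.appTop.hom s.down) := rfl

theorem injective_app_of_mono {X : Sp S} {F G : EtSh X RingCat.{u + 1}} (φ : F ⟶ G) [Mono φ]
    (E : (EtOver X)ᵒᵖ) : Function.Injective (φ.hom.app E) := by
  have h1 : Mono ((sheafToPresheaf _ _).map φ) := inferInstance
  have h2 : Mono (((sheafToPresheaf _ _).map φ).app E) := inferInstance
  exact (ConcreteCategory.mono_iff_injective_of_preservesPullback _).1 h2

/-- The comparison `O_Y ⟶ f_* O_X` is a monomorphism iff it is injective on sections over every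
scheme etale over `Y`. -/
theorem mono_bcRingHom_iff {X Y : Sp S} {f : X ⟶ Y} (hf : Representable f) :
    Mono (bcRingHom hf) ↔
      ∀ E : EtOver Y, Function.Injective (hf.snd E.obj.hom).left.appTop.hom := by
  constructor
  · intro hm E a b hab
    have h := injective_app_of_mono (bcRingHom hf) (op E)
    have := @h (ULift.up a) (ULift.up b) (by
      rw [bcRingHom_app_apply, bcRingHom_app_apply]
      exact congrArg ULift.up hab)
    exact congrArg ULift.down this
  · intro h
    apply Sheaf.mono_of_injective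
    intro E a b hab
    obtain ⟨E⟩ := E
    have hab' : ((bcRingHom hf).hom.app (op E)) a = ((bcRingHom hf).hom.app (op E)) b := hab
    rw [bcRingHom_app_apply, bcRingHom_app_apply] at hab'
    have := h E (congrArg ULift.down hab')
    exact ULift.ext _ _ this

/-- For an open immersion of schemes, injectivity on global sections is injectivity of restriction
to the image. -/
theorem injective_appTop_iff_of_isOpenImmersion {T Y : Scheme.{u}} (ι : T ⟶ Y) [IsOpenImmersion ι] :
    Function.Injective ι.appTop.hom ↔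
      Function.Injective (Y.presheaf.map (homOfLE (inf_le_left : ⊤ ⊓ ι.opensRange ≤ ⊤)).op) := by
  rw [Groth.Agent.H19.injective_res_iff]
  let e : T ≅ ι.opensRange.toScheme :=
    IsOpenImmersion.isoOfRangeEq ι ι.opensRange.ι (by rw [Scheme.Opens.range_ι]; rfl)
  have he : e.hom ≫ ι.opensRange.ι = ι := IsOpenImmersion.isoOfRangeEq_hom_fac _ _ _
  have h1 : ι.appTop = ι.opensRange.ι.appTop ≫ e.hom.appTop := by
    rw [← Scheme.Hom.comp_appTop, he]
  have hiso : Function.Bijective e.hom.appTop.hom :=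
    (ConcreteCategory.isIso_iff_bijective _).1 (inferInstance : IsIso e.hom.appTop)
  rw [h1]
  change Function.Injective (e.hom.appTop.hom ∘ ι.opensRange.ι.appTop.hom) ↔ _
  rw [hiso.injective.of_comp_iff]
  rfl

/-- Transport of a pullback square of an open immersion to the open subscheme on its range. -/
theorem exists_isPullback_opensRange {F G : Sp S} (j : G ⟶ F) {V T : Over S}
    (φ : (yon S).obj V ⟶ F) (fstT : (yon S).obj T ⟶ G) (ι : T ⟶ V) [IsOpenImmersion ι.left]
    (sq : IsPullback fstT ((yon S).map ι) j φ) :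
    ∃ fst : (yon S).obj (Over.mk (ι.left.opensRange.ι ≫ V.hom)) ⟶ G,
      IsPullback fst ((yon S).map (Over.homMk ι.left.opensRange.ι rfl :
        Over.mk (ι.left.opensRange.ι ≫ V.hom) ⟶ V)) j φ := by
  let W : V.left.Opens := ι.left.opensRange
  let e : T.left ≅ W.toScheme :=
    IsOpenImmersion.isoOfRangeEq ι.left W.ι (by rw [Scheme.Opens.range_ι]; rfl)
  have he : e.hom ≫ W.ι = ι.left := IsOpenImmersion.isoOfRangeEq_hom_fac _ _ _
  let E : T ≅ Over.mk (W.ι ≫ V.hom) :=
    Over.isoMk e (by
      change e.hom ≫ W.ι ≫ V.hom = T.hom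
      rw [← Category.assoc, he, Over.w])
  have hE : E.hom ≫ (Over.homMk W.ι rfl : Over.mk (W.ι ≫ V.hom) ⟶ V) = ι := by
    ext
    exact he
  refine ⟨(yon S).map E.inv ≫ fstT, ?_⟩
  refine IsPullback.of_iso sq ((yon S).mapIso E) (Iso.refl _) (Iso.refl _) (Iso.refl _) ?_ ?_ ?_ ?_
  · simp
  · simp only [Functor.mapIso_hom, Iso.refl_hom, Category.comp_id, ← Functor.map_comp]
    exact congrArg ((yon S).map) hE.symm
  · simp
  · simp

/-- (⇒) of the criterion: a scheme theoretically dense open subspace has injective comparison map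
on every scheme etale over the space. -/
theorem injective_appTop_of_isSchDense {X U : Sp S} (j : U ⟶ X) (hj : IsSchDense j)
    (E : EtOver X) : Function.Injective (hj.1.1.snd E.obj.hom).left.appTop.hom := by
  have sq := hj.1.1.isPullback E.obj.hom
  have hoi : IsOpenImmersion (hj.1.1.snd E.obj.hom).left := hj.1.2 _ _ _ sq
  obtain ⟨fst, sqW⟩ := exists_isPullback_opensRange j E.obj.hom _ _ sq
  have hd := isSchematicallyDense_chart_of_isSchDense j hj E.obj.left E.obj.hom E.property _ fst sqW
  rw [injective_appTop_iff_of_isOpenImmersion]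
  exact hd ⊤

/-- Scheme-level: if for every open `V'` the restriction of the open immersion `κ : T' ⟶ V` with
image inside `V' ⊓ W` is injective on `Γ(V')`, then restriction to `V' ⊓ W` is injective. -/
theorem injective_res_of_injective_appTop {V : Scheme.{u}} (V' W : V.Opens) {T' : Scheme.{u}}
    (ι : T' ⟶ V'.toScheme) (hι : ∀ t, (V'.ι (ι t)) ∈ W)
    (hinj : Function.Injective ι.appTop.hom) :
    Function.Injective (V.presheaf.map (homOfLE (inf_le_left : V' ⊓ W ≤ V')).op) := by
  rw [injective_iff_map_eq_zero]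
  intro s hs
  have hiso : Function.Injective V'.topIso.inv.hom :=
    ((ConcreteCategory.isIso_iff_bijective _).1 (inferInstance : IsIso V'.topIso.inv)).1
  apply hiso
  rw [map_zero]
  apply hinj
  rw [map_zero]
  -- `ι.appTop (topIso.inv s) = (ι ≫ V'.ι).appLE V' ⊤ s`
  have hmem : ∀ t : T', V'.ι (ι t) ∈ V' := fun t => (ι t).2
  have hle0 : (⊤ : T'.Opens) ≤ (ι ≫ V'.ι) ⁻¹ᵁ V' := fun t _ => hmem t
  have hle1 : (⊤ : V'.toScheme.Opens) ≤ V'.ι ⁻¹ᵁ V' := fun t _ => t.2
  have e1 : V'.topIso.inv ≫ ι.appTop = (ι ≫ V'.ι).appLE V' ⊤ hle0 := by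
    rw [← Scheme.Hom.appLE_comp_appLE ι V'.ι V' ⊤ ⊤ hle1 le_top]
    have e2 : V'.ι.appLE V' ⊤ hle1 = V'.topIso.inv := by
      simp only [Scheme.Hom.appLE, Scheme.Opens.topIso, Scheme.Opens.ι_app,
        Scheme.Opens.toScheme_presheaf_map, ← Functor.map_comp]
      exact congrArg _ (Subsingleton.elim _ _)
    have e4 : ι.appLE ⊤ ⊤ le_top = ι.appTop := ι.appLE_eq_app (U := ⊤)
    rw [e2, e4]
  have e1' : ι.appTop.hom (V'.topIso.inv.hom s) = ((ι ≫ V'.ι).appLE V' ⊤ hle0).hom s := by
    rw [← e1]; rfl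
  rw [e1']
  have hle : (⊤ : T'.Opens) ≤ (ι ≫ V'.ι) ⁻¹ᵁ (V' ⊓ W) := fun t _ => ⟨hmem t, hι t⟩
  have e3 : (ι ≫ V'.ι).appLE V' ⊤ hle0 =
      V.presheaf.map (homOfLE (inf_le_left : V' ⊓ W ≤ V')).op ≫ (ι ≫ V'.ι).appLE (V' ⊓ W) ⊤ hle := by
    rw [Scheme.Hom.map_appLE]
  rw [e3, CommRingCat.comp_apply, hs, map_zero]

/-- (⇐) of the criterion. -/
theorem isSchDense_of_injective_appTop {X U : Sp S} (hX : IsAlgSpace X) (j : U ⟶ X)
    (hj : RepWith @IsOpenImmersion j)
    (H : ∀ E : EtOver X, Function.Injective (hj.1.snd E.obj.hom).left.appTop.hom) :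
    IsSchDense j := by
  obtain ⟨V, φ, hφ1, hφ2⟩ := hX.atlas
  obtain ⟨W, fstW, sqW, hWs⟩ := exists_opens_isPullback j hj V φ
  refine ⟨hj, V, φ, W, fstW, hφ1, hφ2, sqW, ?_⟩
  intro V'
  have ha : RepWith @Etale
      ((yon S).map (Over.homMk V'.ι rfl : Over.mk (V'.ι ≫ V.hom) ⟶ V) ≫ φ) :=
    (RepWith @Etale).comp_mem _ _
      ((repWith_yon_map_iff _ _).2 (show Etale V'.ι from inferInstance)) hφ1
  let E : EtOver X := EtOver.mk _ ha
  have sqT := hj.1.isPullback E.obj.hom
  refine injective_res_of_injective_appTop V' W (hj.1.snd E.obj.hom).left ?_ (H E)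
  intro t
  change V'.ι ((hj.1.snd E.obj.hom).left t) ∈ (W : Set V.left)
  rw [hWs]
  simp only [Set.mem_preimage]
  have h1 := Groth.Agent.H53.ofPt_yon_map_comp
    (Over.homMk V'.ι rfl : Over.mk (V'.ι ≫ V.hom) ⟶ V) φ ((hj.1.snd E.obj.hom).left t)
  have h2 := preimage_range_points_of_isPullback j E.obj.hom _ _ sqT
  have hmem : (hj.1.snd E.obj.hom).left t ∈
      Points.ofPt E.obj.hom ⁻¹' Set.range (Points.map j) := by
    rw [h2]; exact ⟨t, rfl⟩
  have h3 : Points.ofPt E.obj.hom ((hj.1.snd E.obj.hom).left t) ∈ Set.range (Points.map j) := hmem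
  have h4 : Points.ofPt φ (V'.ι ((hj.1.snd E.obj.hom).left t)) =
      Points.ofPt E.obj.hom ((hj.1.snd E.obj.hom).left t) := h1.symm
  rw [h4]
  exact h3

/-- An open subspace of an algebraic space is scheme theoretically dense iff the comparison map
`O_X ⟶ j_* O_U` on the small etale site is a monomorphism. -/
theorem isSchDense_iff_mono_bcRingHom {X U : Sp S} (hX : IsAlgSpace X) (j : U ⟶ X)
    (hj : RepWith @IsOpenImmersion j) : IsSchDense j ↔ Mono (bcRingHom hj.1) := by
  rw [mono_bcRingHom_iff]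
  constructor
  · intro h E
    exact injective_appTop_of_isSchDense j h E
  · intro H
    exact isSchDense_of_injective_appTop hX j hj H

end Groth.Agent.H50
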