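import Groth.Agent.H50.QCImage2
import Groth.Agent.H50.SchDenseMono
import Groth.Agent.H50.SchDenseImage
import Groth.Agent.H50.QCMor

set_option autoImplicit false
set_option backward.isDefEq.respectTransparency false
set_option linter.style.haveILetI false
universe u
open CategoryTheory CategoryTheory.Limits AlgebraicGeometry Opposite Topology

namespace Groth.Agent.H50

open AlgSp

variable {S : Scheme.{u}}

/-- A representable etale map from a scheme is etale in the sense of algebraic spaces. -/
theorem isEtaleMor_of_repWith_etale {X : Sp S} {E : Over S} (a : (yon S).obj E ⟶ X)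
    (ha : RepWith @Etale a) : IsEtaleMor a :=
  fun _ _ hφ => (RepWith @Etale).comp_mem _ _ hφ ha

/-- A morphism of schemes whose scheme theoretic image, in the sense of algebraic spaces, is the
whole target has trivial kernel. -/
theorem ker_eq_bot_of_isSchImage_id {U E : Over S} (g : U ⟶ E)
    (h : IsSchImage ((yon S).map g) (𝟙 ((yon S).obj E))) : g.left.ker = ⊥ := by
  obtain ⟨c, hc⟩ := (ker_le_iff_exists_lift g.left.ker g).1 le_rfl
  obtain ⟨k, hk⟩ := h.2.2 ((yon S).map (subOvι E g.left.ker)) (IsAlgSpace.yon_obj _)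
    ((repWith_yon_map_iff _ _).2 (inferInstance : IsClosedImmersion (subOvι E g.left.ker).left))
    ⟨(yon S).map c, by rw [← Functor.map_comp, hc]⟩
  obtain ⟨k₀, rfl⟩ := (yon S).map_surjective k
  have hk₀ : k₀ ≫ subOvι E g.left.ker = 𝟙 E :=
    (yon S).map_injective (by rw [Functor.map_comp, hk, CategoryTheory.Functor.map_id])
  have := (ker_le_iff_exists_lift g.left.ker (𝟙 E)).2 ⟨k₀, hk₀⟩
  rw [Over.id_left, Scheme.Hom.ker_eq_bot_of_isIso (𝟙 E.left)] at this
  exact le_bot_iff.1 this

/-- A quasi-compact open subspace whose scheme theoretic closure is everything is scheme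
theoretically dense. -/
theorem isSchDense_of_isSchImage_id {X U : Sp S} (hX : IsAlgSpace X) (j : U ⟶ X)
    (hj : RepWith @IsOpenImmersion j) (hq : IsQuasiCompactMor j) (h : IsSchImage j (𝟙 X)) :
    IsSchDense j := by
  apply isSchDense_of_injective_appTop hX j hj
  intro E
  have sq := hj.1.isPullback E.obj.hom
  haveI : IsOpenImmersion (hj.1.snd E.obj.hom).left := hj.2 _ _ _ sq
  haveI : QuasiCompact (hj.1.snd E.obj.hom).left :=
    (repWith_quasiCompact_of_isQuasiCompactMor j hj.1 hq).2 _ _ _ sq
  have h' : IsSchImage ((yon S).map (hj.1.snd E.obj.hom)) (𝟙 _) :=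
    isSchImage_of_isPullback_etale hX (IsAlgSpace.yon_obj _) hq (𝟙 X) h E.obj.hom
      (isEtaleMor_of_repWith_etale _ E.property) (hj.1.fst E.obj.hom) _ E.obj.hom (𝟙 _) sq
      (IsPullback.of_vert_isIso ⟨by rw [Category.comp_id, Category.id_comp]⟩)
  haveI : IsSchemeTheoreticallyDominant (hj.1.snd E.obj.hom).left :=
    ⟨ker_eq_bot_of_isSchImage_id _ h'⟩
  exact (hj.1.snd E.obj.hom).left.app_injective ⊤

/-- For a quasi-compact open subspace, scheme theoretic density is equivalent to the scheme
theoretic closure being everything. -/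
theorem isSchDense_iff_isSchImage_id {X U : Sp S} (hX : IsAlgSpace X) (j : U ⟶ X)
    (hj : RepWith @IsOpenImmersion j) (hq : IsQuasiCompactMor j) :
    IsSchDense j ↔ IsSchImage j (𝟙 X) :=
  ⟨fun h => isSchImage_id_of_isSchDense j h hq, isSchDense_of_isSchImage_id hX j hj hq⟩

end Groth.Agent.H50
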