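import Groth.Agent.H50.ImmClosure
import Groth.Agent.H50.QCDense
import Groth.Agent.H51.SpEtReduced

set_option autoImplicit false
set_option backward.isDefEq.respectTransparency false
set_option linter.style.haveILetI false
universe u
open CategoryTheory CategoryTheory.Limits AlgebraicGeometry Opposite Topology

namespace Groth.Agent.H50

open AlgSp

variable {S : Scheme.{u}}

/-- A quasi-compact (or reduced-source) immersion is a scheme theoretically dense, topologically
dense open immersion into its scheme theoretic image. -/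
theorem immersion_into_schImage {Z X Zbar : Sp S} (hZ : IsAlgSpace Z) (hX : IsAlgSpace X)
    (hZbar : IsAlgSpace Zbar) (h : Z ⟶ X) (hh : RepWith @IsImmersion h)
    (hq : IsQuasiCompactMor h ∨ IsReducedSp Z) (c : Zbar ⟶ X) (hc : IsSchImage h c)
    (h' : Z ⟶ Zbar) (fac : h' ≫ c = h) :
    RepWith @IsOpenImmersion h' ∧ IsSchDense h' ∧ Dense (Set.range (Points.map h')) := by
  obtain ⟨A, p, hp, hps⟩ := hX.atlas
  have sqZ := hh.rep.isPullback p
  have sqB := hc.1.rep.isPullback p
  haveI : IsImmersion (hh.rep.snd p).left := hh.property _ _ _ sqZ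
  haveI : IsClosedImmersion (hc.1.rep.snd p).left := hc.1.property _ _ _ sqB
  obtain ⟨l, hl1, hl2⟩ := sqB.exists_lift (hh.rep.fst p ≫ h') ((yon S).map (hh.rep.snd p)) (by
    rw [Category.assoc, fac, sqZ.w])
  obtain ⟨h'A, rfl⟩ := (yon S).map_surjective l
  have hfacA : h'A ≫ hc.1.rep.snd p = hh.rep.snd p :=
    (yon S).map_injective (by rw [Functor.map_comp, hl2])
  have hfacL : h'A.left ≫ (hc.1.rep.snd p).left = (hh.rep.snd p).left :=
    congrArg (fun m => m.left) hfacA
  have sqtop : IsPullback (hh.rep.fst p) ((yon S).map h'A) h' (hc.1.rep.fst p) := by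
    refine IsPullback.of_bot ?_ hl1.symm sqB
    rw [hl2, fac]
    exact sqZ
  have haB : RepWith @Etale (hc.1.rep.fst p) := MorphismProperty.of_isPullback sqB.flip hp
  have haBs : RepWith @Surjective (hc.1.rep.fst p) := MorphismProperty.of_isPullback sqB.flip hps
  have haZ : RepWith @Etale (hh.rep.fst p) := MorphismProperty.of_isPullback sqZ.flip hp
  -- the scheme level statement
  obtain ⟨hoi, hsd, hdr⟩ : ∃ _ : IsOpenImmersion h'A.left,
      CInt.IsSchematicallyDense h'A.left.opensRange ∧ DenseRange h'A.left := by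
    rcases hq with hq | hred
    · haveI : QuasiCompact (hh.rep.snd p).left :=
        (repWith_quasiCompact_of_isQuasiCompactMor h hh.rep hq).2 _ _ _ sqZ
      refine immersion_into_image_of_quasiCompact (hh.rep.snd p).left (hc.1.rep.snd p).left
        h'A.left hfacL (le_antisymm ?_ ?_)
      · rw [← hfacL]
        exact Scheme.Hom.le_ker_comp _ _
      · let AA : QCAtlas h p := QCAtlas.ofIsPullback sqZ (𝟙 _) (hh.rep.snd p)
          (Category.id_comp _) inferInstance (repWith_id _ _) (repWith_id _ _)
        refine (qcPred_chart_iff h p hp AA (hc.1.rep.snd p)).1 ?_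
        rw [← sqB.w]
        exact qcPred_of_isSchImage hX hq c hc _
    · haveI : AlgebraicGeometry.IsReduced (hh.rep.pullback p).left :=
        Groth.Agent.H51.isReduced_of_isReducedSp hred (EtOver.mk (hh.rep.fst p) haZ)
      have hri := isRedInduced_of_isSchImage_of_reduced hX hZbar h hred c hc
      haveI : AlgebraicGeometry.IsReduced (hc.1.rep.pullback p).left :=
        Groth.Agent.H51.isReduced_of_isReducedSp hri.2.2 (EtOver.mk (hc.1.rep.fst p) haB)
      refine immersion_into_closure_of_isReduced (hh.rep.snd p).left (hc.1.rep.snd p).left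
        h'A.left hfacL ?_
      rw [← preimage_range_map_of_isPullback c p _ _ sqB, hri.2.1,
        (Groth.Agent.H51.isOpenMap_ofPt_of_etale p hp).preimage_closure_eq_closure_preimage
          (Points.continuous_ofPt p),
        preimage_range_map_of_isPullback h p _ _ sqZ]
  have hopen : RepWith @IsOpenImmersion h' :=
    repWith_isOpenImmersion_of_etale_cover hZ hZbar h' (hc.1.rep.fst p) haB haBs (hh.rep.fst p)
      ((yon S).map h'A) sqtop ((repWith_yon_map_iff _ _).2 hoi)
  refine ⟨hopen, ?_, ?_⟩
  · obtain ⟨fst, sqW⟩ := exists_isPullback_opensRange h' (hc.1.rep.fst p) (hh.rep.fst p) h'A sqtop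
    exact ⟨hopen, _, hc.1.rep.fst p, h'A.left.opensRange, fst, haB, haBs, sqW, hsd⟩
  · rw [dense_iff_inter_open]
    rintro O hO ⟨ζ, hζ⟩
    obtain ⟨β, rfl⟩ := Groth.Agent.H51.surjective_ofPt_of_surjective (hc.1.rep.fst p) haBs ζ
    have hO' : IsOpen (Points.ofPt (hc.1.rep.fst p) ⁻¹' O) :=
      hO.preimage (Points.continuous_ofPt _)
    obtain ⟨_, hβO, ⟨z, rfl⟩⟩ := hdr.inter_open_nonempty _ hO' ⟨β, hζ⟩
    refine ⟨Points.ofPt (hc.1.rep.fst p) (h'A.left z), hβO, Points.ofPt (hh.rep.fst p) z, ?_⟩
    rw [Points.map_ofPt, sqtop.w, Groth.Agent.H53.ofPt_yon_map_comp]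

end Groth.Agent.H50
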