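import Groth.Agent.H50.AffineLocal4
import Groth.Agent.H50.LocPClass
import Groth.Agent.H50.Points
import Groth.Agent.H51.SpOpen
import Groth.Agent.H51.SpAffine
import Groth.Agent.H52.EtaleMono
import Groth.Agent.H53.EtaleIff
import Groth.Agent.H53.Points
import Groth.Agent.H49.AlgSpLocal
import Groth.Agent.H49.AlgSpCover
import Groth.Agent.H1.Descent

set_option autoImplicit false
set_option backward.isDefEq.respectTransparency false
set_option linter.style.haveILetI false
universe u
open CategoryTheory CategoryTheory.Limits AlgebraicGeometry Opposite Topology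

namespace Groth.Agent.H50

open AlgSp

variable {S : Scheme.{u}}

/-- Closed immersions descend along a surjective etale base change from a scheme. -/
theorem repWith_isClosedImmersion_of_etale_cover {X Y : Sp S} (f : X ⟶ Y) {V : Over S}
    (p : (yon S).obj V ⟶ Y) (hp : RepWith @Etale p) (hps : RepWith @Surjective p)
    {P₀ : Sp S} (fst : P₀ ⟶ X) (snd : P₀ ⟶ (yon S).obj V) (sq : IsPullback fst snd f p)
    (h : RepWith @IsClosedImmersion snd) : RepWith @IsClosedImmersion f := by
  have haff : ∀ {A B : Scheme.{u}} (g : A ⟶ B), IsClosedImmersion g → IsAffineHom g :=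
    fun g hg => inferInstance
  have hsnd := (Groth.Agent.H51.affine_test_iff_repWith @IsClosedImmersion haff snd).2 h
  refine (Groth.Agent.H51.affine_test_iff_repWith @IsClosedImmersion haff f).1 ?_
  intro Z hZ g
  obtain ⟨VZ, a, b, sqW⟩ := hp.1 g
  obtain ⟨b', rfl⟩ := (yon S).map_surjective b
  have := Groth.Agent.H1.isClosedImmersion_descendsAlong_fpqc.{u}
  exact exists_affine_pullback_with_property @IsClosedImmersion f hZ g a
    (hp.2 g _ a sqW) (hps.2 g _ a sqW) p b' sqW.w fst snd sq hsnd

/-- The pullback of `f` along an atlas, when the projection is representable, in terms of a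
scheme. -/
theorem exists_scheme_pullback_of_repWith {Pr : MorphismProperty Scheme.{u}} {X Y : Sp S}
    (f : X ⟶ Y) {V : Over S} (p : (yon S).obj V ⟶ Y) {P₀ : Sp S} (fst : P₀ ⟶ X)
    (snd : P₀ ⟶ (yon S).obj V) (sq : IsPullback fst snd f p) (h : RepWith Pr snd) :
    ∃ (U₀ : Over S) (i₀ : U₀ ⟶ V) (a : (yon S).obj U₀ ⟶ X),
      IsPullback a ((yon S).map i₀) f p ∧ Pr i₀.left := by
  have sq0 := h.rep.isPullback (𝟙 ((yon S).obj V))
  refine ⟨_, h.rep.snd (𝟙 _), h.rep.fst (𝟙 _) ≫ fst, ?_, h.property _ _ _ sq0⟩
  have := sq0.paste_horiz sq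
  rwa [Category.id_comp] at this

/-- Open immersions descend along a surjective etale base change from a scheme. -/
theorem repWith_isOpenImmersion_of_etale_cover {X Y : Sp S} (hX : IsAlgSpace X)
    (hY : IsAlgSpace Y) (f : X ⟶ Y) {V : Over S}
    (p : (yon S).obj V ⟶ Y) (hp : RepWith @Etale p) (hps : RepWith @Surjective p)
    {P₀ : Sp S} (fst : P₀ ⟶ X) (snd : P₀ ⟶ (yon S).obj V) (sq : IsPullback fst snd f p)
    (h : RepWith @IsOpenImmersion snd) : RepWith @IsOpenImmersion f := by
  obtain ⟨U₀, i₀, a, sqA, hi₀⟩ := exists_scheme_pullback_of_repWith f p fst snd sq h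
  haveI : IsOpenImmersion i₀.left := hi₀
  have ha : RepWith @Etale a := MorphismProperty.of_isPullback sqA.flip hp
  have has : RepWith @Surjective a := MorphismProperty.of_isPullback sqA.flip hps
  have hloc : LocP @Etale f :=
    goodClass_etale.locP_of_one_chart f a p i₀ ha has hp sqA.w inferInstance
  have het : IsEtaleMor f := Groth.Agent.H53.isEtaleMor_of_locP_etale hY f hloc
  haveI : Mono snd :=
    Groth.Agent.H49.mono_of_repWith_mono Groth.Agent.H51.isOpenImmersion_le_mono _ h
  haveI : Sheaf.IsLocallySurjective p :=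
    Groth.Agent.H49.isLocallySurjective_of_repWith_etale_surjective p hp hps
  haveI : Mono f := Groth.Agent.H49.mono_of_isPullback_of_isLocallySurjective f p sq
  exact Groth.Agent.H52.repWith_isOpenImmersion_of_isEtaleMor_of_mono hX f het

/-- Immersions descend along a surjective etale base change from a scheme. -/
theorem repWith_isImmersion_of_etale_cover {X Y : Sp S} (f : X ⟶ Y)
    {V : Over S} (p : (yon S).obj V ⟶ Y) (hp : RepWith @Etale p) (hps : RepWith @Surjective p)
    {P₀ : Sp S} (fst : P₀ ⟶ X) (snd : P₀ ⟶ (yon S).obj V) (sq : IsPullback fst snd f p)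
    (h : RepWith @IsImmersion snd) : RepWith @IsImmersion f := by
  obtain ⟨U₀, i₀, a, sqA, hi₀⟩ := exists_scheme_pullback_of_repWith f p fst snd sq h
  haveI : IsImmersion i₀.left := hi₀
  -- the coborder of the image
  set C : Set (Points Y) := Set.range (Points.map f) with hC
  have hq_cont : Continuous (Points.ofPt p) := Points.continuous_ofPt p
  have hq_open : IsOpenMap (Points.ofPt p) := Groth.Agent.H51.isOpenMap_ofPt_of_etale p hp
  have hq_surj : Function.Surjective (Points.ofPt p) :=
    Groth.Agent.H51.surjective_ofPt_of_surjective p hps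
  have hpre : Points.ofPt p ⁻¹' C = Set.range i₀.left := by
    ext v
    constructor
    · rintro ⟨ξ, hξ⟩
      rw [Points.ofPt_eq_map_ofScheme] at hξ
      obtain ⟨π, -, hπ2⟩ := points_exists_of_isPullback sqA ξ (Points.ofScheme V v) hξ
      obtain ⟨u, rfl⟩ := (Points.schemeEquiv U₀).surjective π
      have e : Points.ofScheme V (i₀.left u) = Points.ofScheme V v :=
        (Points.map_yon_map_apply i₀ u).symm.trans hπ2
      exact ⟨u, (Points.schemeEquiv V).injective e⟩
    · rintro ⟨u, rfl⟩
      refine ⟨Points.ofPt a u, ?_⟩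
      rw [Points.map_ofPt, sqA.w, Groth.Agent.H53.ofPt_yon_map_comp]
  have hpreO : Points.ofPt p ⁻¹' coborder C = coborder (Set.range i₀.left) := by
    rw [← hpre, coborder_preimage hq_open hq_cont]
  have hO : IsOpen (coborder C) := by
    have h1 : IsOpen (Points.ofPt p ⁻¹' coborder C) := by
      rw [hpreO]
      exact i₀.left.isLocallyClosed_range.isOpen_coborder
    have := hq_open _ h1
    rwa [Set.image_preimage_eq _ hq_surj] at this
  -- the open subspace
  have hj := Groth.Agent.H51.repWith_isOpenImmersion_openSubι (coborder C) hO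
  haveI hmj : Mono (Groth.Agent.H51.openSubι Y (coborder C)) :=
    Groth.Agent.H49.mono_of_repWith_mono Groth.Agent.H51.isOpenImmersion_le_mono _ hj
  obtain ⟨f', hf'⟩ := (Groth.Agent.H51.exists_factor_iff_of_isOpenImmersion'
    (Groth.Agent.H51.openSubι Y (coborder C)) hj f).2 (by
      rw [Groth.Agent.H51.range_map_openSubι]
      exact subset_coborder)
  -- the chart of the open subspace
  obtain ⟨Vo, po, hVo, sqo⟩ := Groth.Agent.H51.exists_isPullback_openSubι (coborder C) hO p
  have hpo : RepWith @Etale po := MorphismProperty.of_isPullback sqo.flip hp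
  have hpso : RepWith @Surjective po := MorphismProperty.of_isPullback sqo.flip hps
  have hVo' : (Vo : Set V.left) = coborder (Set.range i₀.left) := hVo.trans hpreO
  -- the lifted closed immersion
  have hrange : Set.range i₀.left ⊆ Set.range Vo.ι := by
    rw [Scheme.Opens.range_ι, hVo']
    exact subset_coborder
  let i₁ : U₀.left ⟶ ↑Vo := IsOpenImmersion.lift Vo.ι i₀.left hrange
  have hi₁ : i₁ ≫ Vo.ι = i₀.left := IsOpenImmersion.lift_fac _ _ _
  have hi₁c : IsClosedImmersion i₁ := by
    haveI : IsPreimmersion (i₁ ≫ Vo.ι) := by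
      rw [hi₁]
      infer_instance
    haveI : IsPreimmersion i₁ := .of_comp i₁ Vo.ι
    refine .of_isPreimmersion _ ?_
    have hcl : IsClosed (Vo.ι ⁻¹' Set.range i₀.left) := by
      have h1 := isClosed_preimage_val_coborder (s := Set.range i₀.left)
      have h2 : Topology.IsInducing (Vo.ι : ↥(Vo : Scheme.{u}) → V.left) :=
        Vo.ι.isEmbedding.isInducing
      -- closedness inside the coborder
      have h3 : IsClosed (closure (Set.range i₀.left)) := isClosed_closure
      have h4 : Vo.ι ⁻¹' Set.range i₀.left = Vo.ι ⁻¹' closure (Set.range i₀.left) := by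
        ext x
        constructor
        · intro hx
          exact subset_closure hx
        · intro hx
          have hx' : Vo.ι x ∈ coborder (Set.range i₀.left) := by
            rw [← hVo']
            exact x.2
          have := coborder_inter_closure (s := Set.range i₀.left)
          exact this ▸ ⟨hx', hx⟩
      rw [h4]
      exact h3.preimage Vo.ι.continuous
    convert hcl
    apply Set.image_injective.mpr Vo.ι.isEmbedding.injective
    rw [← Set.range_comp, ← TopCat.coe_comp, ← Scheme.Hom.comp_base, hi₁]
    exact (Set.image_preimage_eq_of_subset hrange).symm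
  let i₂ : U₀ ⟶ Groth.Agent.H51.overOpen V Vo := Over.homMk i₁ (by
    change i₁ ≫ Vo.ι ≫ V.hom = U₀.hom
    rw [← Category.assoc, hi₁, Over.w i₀])
  have hi₂ : i₂ ≫ Groth.Agent.H51.overOpenι V Vo = i₀ := by
    ext1
    exact hi₁
  -- the base change of `f'`
  have hcomm : (yon S).map i₂ ≫ po = a ≫ f' := by
    rw [← cancel_mono (Groth.Agent.H51.openSubι Y (coborder C)), Category.assoc, sqo.w,
      ← Category.assoc, ← Functor.map_comp, hi₂, Category.assoc, hf', sqA.w]
  have sqL : IsPullback ((yon S).map i₂) a po f' := by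
    refine IsPullback.of_right ?_ hcomm sqo.flip
    rw [← Functor.map_comp, hi₂, hf']
    exact sqA.flip
  have hcl : RepWith @IsClosedImmersion f' :=
    repWith_isClosedImmersion_of_etale_cover f' po hpo hpso a ((yon S).map i₂) sqL.flip
      ((repWith_yon_map_iff @IsClosedImmersion i₂).2 hi₁c)
  have h1 : RepWith @IsImmersion f' :=
    Groth.Agent.H51.repWith_mono (fun _ _ g hg => by
      haveI : IsClosedImmersion g := hg
      infer_instance) hcl
  have h2 : RepWith @IsImmersion (Groth.Agent.H51.openSubι Y (coborder C)) :=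
    Groth.Agent.H51.repWith_mono (fun _ _ g hg => by
      haveI : IsOpenImmersion g := hg
      infer_instance) hj
  rw [← hf']
  exact (RepWith @IsImmersion).comp_mem _ _ h1 h2

end Groth.Agent.H50
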