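import Groth.Agent.H50.ImmEtLocal
import Groth.Agent.H50.LimOpen
import Groth.Agent.H49.AlgSpQC

set_option autoImplicit false
set_option backward.isDefEq.respectTransparency false
set_option linter.style.haveILetI false
universe u
open CategoryTheory CategoryTheory.Limits AlgebraicGeometry Opposite Topology

namespace Groth.Agent.H50

open AlgSp

variable {S : Scheme.{u}}

/-- An open subspace on a quasi-compact open set of points is quasi-compact. -/
theorem isQuasiCompactSp_openSubSp {X : Sp S} (hX : IsAlgSpace X) (V : Set (Points X))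
    (hVo : IsOpen V) (hVc : IsCompact V) :
    IsQuasiCompactSp (Groth.Agent.H51.openSubSp X V) := by
  have hji : RepWith @IsOpenImmersion (Groth.Agent.H51.openSubι X V) :=
    Groth.Agent.H51.repWith_isOpenImmersion_openSubι V hVo
  have hUialg : IsAlgSpace (Groth.Agent.H51.openSubSp X V) :=
    Groth.Agent.H51.isAlgSpace_openSubSp hX V hVo
  have hrange : Set.range (Points.map (Groth.Agent.H51.openSubι X V)) = V :=
    Groth.Agent.H51.range_map_openSubι V
  haveI hjim : Mono (Groth.Agent.H51.openSubι X V) :=
    Groth.Agent.H49.mono_of_repWith_mono Groth.Agent.H51.isOpenImmersion_le_mono _ hji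
  rw [Groth.Agent.H51.isQuasiCompactSp_iff hUialg]
  have hemb : IsOpenEmbedding (Points.map (Groth.Agent.H51.openSubι X V)) :=
    .of_continuous_injective_isOpenMap (Points.continuous_map _)
      (Groth.Agent.H51.injective_map_of_mono _)
      (isOpenMap_points_map_of_isOpenImmersion _ hji)
  constructor
  rw [hemb.isEmbedding.isCompact_iff, Set.image_univ, hrange]
  exact hVc

/-- An immersion from a quasi-compact algebraic space factors as a closed immersion into a
quasi-compact open subspace. -/
theorem exists_closedImmersion_factor_of_isImmersion {X Y : Sp S} (hX : IsAlgSpace X)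
    (hY : IsAlgSpace Y) (hYqc : IsQuasiCompactSp Y) (y : Y ⟶ X) (hy : RepWith @IsImmersion y) :
    ∃ (V : Set (Points X)) (_ : IsOpen V) (_ : IsCompact V)
      (y' : Y ⟶ Groth.Agent.H51.openSubSp X V),
      y' ≫ Groth.Agent.H51.openSubι X V = y ∧ RepWith @IsClosedImmersion y' := by
  obtain ⟨V₀, p, hp, hps⟩ := hX.atlas
  have sqA := hy.rep.isPullback p
  set U₀ := hy.rep.pullback p
  set i₀ : U₀ ⟶ V₀ := hy.rep.snd p
  set a : (yon S).obj U₀ ⟶ Y := hy.rep.fst p
  haveI : IsImmersion i₀.left := hy.property_snd p
  set C : Set (Points X) := Set.range (Points.map y) with hC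
  have hq_cont : Continuous (Points.ofPt p) := Points.continuous_ofPt p
  have hq_open : IsOpenMap (Points.ofPt p) := Groth.Agent.H51.isOpenMap_ofPt_of_etale p hp
  have hq_surj : Function.Surjective (Points.ofPt p) :=
    Groth.Agent.H51.surjective_ofPt_of_surjective p hps
  have hpre : Points.ofPt p ⁻¹' C = Set.range i₀.left := by
    ext v
    constructor
    · rintro ⟨ξ, hξ⟩
      rw [Points.ofPt_eq_map_ofScheme] at hξ
      obtain ⟨π, -, hπ2⟩ := points_exists_of_isPullback sqA ξ (Points.ofScheme V₀ v) hξ
      obtain ⟨u, rfl⟩ := (Points.schemeEquiv U₀).surjective π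
      have e : Points.ofScheme V₀ (i₀.left u) = Points.ofScheme V₀ v :=
        (Points.map_yon_map_apply i₀ u).symm.trans hπ2
      exact ⟨u, (Points.schemeEquiv V₀).injective e⟩
    · rintro ⟨u, rfl⟩
      refine ⟨Points.ofPt a u, ?_⟩
      rw [Points.map_ofPt, sqA.w, Groth.Agent.H53.ofPt_yon_map_comp]
  have hpreO : Points.ofPt p ⁻¹' coborder C = coborder (Set.range i₀.left) := by
    rw [← hpre, coborder_preimage hq_open hq_cont]
  have hO : IsOpen (coborder C) := by
    have h1 : IsOpen (Points.ofPt p ⁻¹' coborder C) := by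
      rw [hpreO]
      exact i₀.left.isLocallyClosed_range.isOpen_coborder
    have := hq_open _ h1
    rwa [Set.image_preimage_eq _ hq_surj] at this
  -- a quasi-compact open neighbourhood of `C` inside the coborder
  haveI : CompactSpace (Points Y) := (Groth.Agent.H51.isQuasiCompactSp_iff hY).1 hYqc
  have hCc : IsCompact C := isCompact_range (Points.continuous_map y)
  let W₀ : V₀.left.Opens := ⟨Points.ofPt p ⁻¹' coborder C, hO.preimage hq_cont⟩
  have hcov : C ⊆ Points.ofPt p '' (W₀ : Set V₀.left) := by
    intro x hx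
    obtain ⟨v, rfl⟩ := hq_surj x
    exact ⟨v, subset_coborder hx, rfl⟩
  obtain ⟨W, hWW₀, hWc, hCW⟩ :=
    Groth.Agent.H49.exists_compact_open_of_isOpenMap p hq_open C hCc W₀ hcov
  set V : Set (Points X) := Points.ofPt p '' (W : Set V₀.left) with hV
  have hVo : IsOpen V := hq_open _ W.isOpen
  have hVc : IsCompact V := hWc.image hq_cont
  have hVcob : V ⊆ coborder C := by
    rintro _ ⟨v, hv, rfl⟩
    exact hWW₀ hv
  -- the open subspace
  have hj := Groth.Agent.H51.repWith_isOpenImmersion_openSubι V hVo
  haveI hmj : Mono (Groth.Agent.H51.openSubι X V) :=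
    Groth.Agent.H49.mono_of_repWith_mono Groth.Agent.H51.isOpenImmersion_le_mono _ hj
  obtain ⟨f', hf'⟩ := (Groth.Agent.H51.exists_factor_iff_of_isOpenImmersion'
    (Groth.Agent.H51.openSubι X V) hj y).2 (by
      rw [Groth.Agent.H51.range_map_openSubι]
      exact hCW)
  refine ⟨V, hVo, hVc, f', hf', ?_⟩
  -- the chart of the open subspace
  obtain ⟨Vo, po, hVo', sqo⟩ := Groth.Agent.H51.exists_isPullback_openSubι V hVo p
  have hpo : RepWith @Etale po := MorphismProperty.of_isPullback sqo.flip hp
  have hpso : RepWith @Surjective po := MorphismProperty.of_isPullback sqo.flip hps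
  have hVo1 : (Vo : Set V₀.left) ⊆ coborder (Set.range i₀.left) := by
    rw [hVo', ← hpreO]
    exact Set.preimage_mono hVcob
  have hrange : Set.range i₀.left ⊆ Set.range Vo.ι := by
    rw [Scheme.Opens.range_ι, hVo', ← hpre]
    exact Set.preimage_mono hCW
  let i₁ : U₀.left ⟶ ↑Vo := IsOpenImmersion.lift Vo.ι i₀.left hrange
  have hi₁ : i₁ ≫ Vo.ι = i₀.left := IsOpenImmersion.lift_fac _ _ _
  have hi₁c : IsClosedImmersion i₁ := by
    haveI : IsPreimmersion (i₁ ≫ Vo.ι) := by
      rw [hi₁]
      infer_instance
    haveI : IsPreimmersion i₁ := .of_comp i₁ Vo.ι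
    refine .of_isPreimmersion _ ?_
    have hcl : IsClosed (Vo.ι ⁻¹' Set.range i₀.left) := by
      have h3 : IsClosed (closure (Set.range i₀.left)) := isClosed_closure
      have h4 : Vo.ι ⁻¹' Set.range i₀.left = Vo.ι ⁻¹' closure (Set.range i₀.left) := by
        ext x
        constructor
        · intro hx
          exact subset_closure hx
        · intro hx
          have hx' : Vo.ι x ∈ coborder (Set.range i₀.left) := hVo1 x.2
          have := coborder_inter_closure (s := Set.range i₀.left)
          exact this ▸ ⟨hx', hx⟩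
      rw [h4]
      exact h3.preimage Vo.ι.continuous
    convert hcl
    apply Set.image_injective.mpr Vo.ι.isEmbedding.injective
    rw [← Set.range_comp, ← TopCat.coe_comp, ← Scheme.Hom.comp_base, hi₁]
    exact (Set.image_preimage_eq_of_subset hrange).symm
  let i₂ : U₀ ⟶ Groth.Agent.H51.overOpen V₀ Vo := Over.homMk i₁ (by
    change i₁ ≫ Vo.ι ≫ V₀.hom = U₀.hom
    rw [← Category.assoc, hi₁, Over.w i₀])
  have hi₂ : i₂ ≫ Groth.Agent.H51.overOpenι V₀ Vo = i₀ := by
    ext1
    exact hi₁
  have hcomm : (yon S).map i₂ ≫ po = a ≫ f' := by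
    rw [← cancel_mono (Groth.Agent.H51.openSubι X V), Category.assoc, sqo.w,
      ← Category.assoc, ← Functor.map_comp, hi₂, Category.assoc, hf', sqA.w]
  have sqL : IsPullback ((yon S).map i₂) a po f' := by
    refine IsPullback.of_right ?_ hcomm sqo.flip
    rw [← Functor.map_comp, hi₂, hf']
    exact sqA.flip
  exact repWith_isClosedImmersion_of_etale_cover f' po hpo hpso a ((yon S).map i₂) sqL.flip
    ((repWith_yon_map_iff @IsClosedImmersion i₂).2 hi₁c)

end Groth.Agent.H50
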