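import Mathlib

set_option autoImplicit false
set_option backward.isDefEq.respectTransparency false
universe u
open CategoryTheory CategoryTheory.Limits AlgebraicGeometry Opposite Topology

namespace Groth.Agent.H50

/-- In a Noetherian space the set of open points is finite. -/
theorem finite_setOf_isOpen_singleton (T : Type*) [TopologicalSpace T]
    [TopologicalSpace.NoetherianSpace T] : {t : T | IsOpen ({t} : Set T)}.Finite := by
  refine (TopologicalSpace.NoetherianSpace.isCompact _).finite ?_
  rw [isDiscrete_iff_discreteTopology, discreteTopology_iff_isOpen_singleton]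
  rintro ⟨t, ht⟩
  have : ({⟨t, ht⟩} : Set {t : T | IsOpen ({t} : Set T)}) = Subtype.val ⁻¹' {t} := by
    ext ⟨z, hz⟩; simp
  rw [this]
  exact (ht : IsOpen {t}).preimage continuous_subtype_val

/-- For a quasi-compact morphism locally of finite type, each fibre has finitely many isolated
points. -/
theorem finite_isolated_in_fibre {U V : Scheme.{u}} (h : U ⟶ V) [LocallyOfFiniteType h]
    [QuasiCompact h] (v : V) :
    {u : U | h u = v ∧ ∃ O : Set U, IsOpen O ∧ O ∩ h ⁻¹' {v} = {u}}.Finite := by
  have hlft : LocallyOfFiniteType (h.fiberToSpecResidueField v) :=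
    MorphismProperty.pullback_snd _ _ inferInstance
  have hqc : CompactSpace ↥(h.fiber v) := inferInstance
  have hln : IsLocallyNoetherian (h.fiber v) :=
    LocallyOfFiniteType.isLocallyNoetherian (h.fiberToSpecResidueField v)
  have hN : IsNoetherian (h.fiber v) := { }
  have hNS : TopologicalSpace.NoetherianSpace ↥(h.fiber v) := inferInstance
  refine ((finite_setOf_isOpen_singleton ↥(h.fiber v)).image (h.fiberι v)).subset ?_
  rintro u ⟨hu, O, hO, hOF⟩
  have hu' : u ∈ h ⁻¹' {v} := hu
  refine ⟨(h.fiberHomeo v).symm ⟨u, hu'⟩, ?_, h.fiberι_fiberHomeo_symm v ⟨u, hu'⟩⟩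
  have : ({(h.fiberHomeo v).symm ⟨u, hu'⟩} : Set ↥(h.fiber v)) = (h.fiberι v) ⁻¹' O := by
    ext t
    simp only [Set.mem_singleton_iff, Set.mem_preimage]
    constructor
    · rintro rfl
      rw [h.fiberι_fiberHomeo_symm v ⟨u, hu'⟩]
      have : u ∈ O ∩ h ⁻¹' {v} := by rw [hOF]; rfl
      exact this.1
    · intro ht
      have hmem : h.fiberι v t ∈ O ∩ h ⁻¹' {v} := ⟨ht, (h.fiberHomeo v t).2⟩
      rw [hOF, Set.mem_singleton_iff] at hmem
      apply (h.fiberHomeo v).injective
      apply Subtype.ext
      rw [Homeomorph.apply_symm_apply]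
      exact hmem
  change IsOpen _
  rw [this]
  exact hO.preimage (h.fiberι v).continuous

end Groth.Agent.H50
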