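import Mathlib

set_option autoImplicit false
set_option backward.isDefEq.respectTransparency false
set_option linter.style.haveILetI false
universe u
open CategoryTheory CategoryTheory.Limits

namespace Groth.Agent.H50

section KerSys

variable {C : Type*} [Category C] [HasPullbacks C]

/-- A variant of `pullback_map_diagonal_isPullback` with a free composite. -/
theorem isPullback_map_diagonal' {Y X X' : C} (f : Y ⟶ X) (g : X ⟶ X') (f' : Y ⟶ X')
    (h : f ≫ g = f') :
    IsPullback (pullback.fst f f ≫ f)
      (pullback.map f f f' f' (𝟙 _) (𝟙 _) g (by rw [h, Category.id_comp])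
        (by rw [h, Category.id_comp]))
      (pullback.diagonal g)
      (pullback.map f' f' g g f f (𝟙 _) (by rw [h, Category.comp_id])
        (by rw [h, Category.comp_id])) := by
  subst h
  exact pullback_map_diagonal_isPullback f f g

variable {I : Type*} [Category I] (D : I ⥤ C) (c : Cone D) {Y : C} (y : Y ⟶ c.pt)

/-- The system of kernel pairs of the composites `Y ⟶ c.pt ⟶ D i`. -/
noncomputable def kerSys : I ⥤ C where
  obj i := pullback (y ≫ c.π.app i) (y ≫ c.π.app i)
  map {i j} φ := pullback.map (y ≫ c.π.app i) (y ≫ c.π.app i) (y ≫ c.π.app j) (y ≫ c.π.app j)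
    (𝟙 Y) (𝟙 Y) (D.map φ) (by rw [Category.assoc, c.w, Category.id_comp])
    (by rw [Category.assoc, c.w, Category.id_comp])
  map_id i := by
    apply pullback.hom_ext <;> simp
  map_comp φ ψ := by
    apply pullback.hom_ext <;> simp

theorem kerSys_map_fst {i j : I} (φ : i ⟶ j) :
    (kerSys D c y).map φ ≫ pullback.fst (y ≫ c.π.app j) (y ≫ c.π.app j) =
      pullback.fst (y ≫ c.π.app i) (y ≫ c.π.app i) := by
  simp [kerSys]

theorem kerSys_map_snd {i j : I} (φ : i ⟶ j) :
    (kerSys D c y).map φ ≫ pullback.snd (y ≫ c.π.app j) (y ≫ c.π.app j) =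
      pullback.snd (y ≫ c.π.app i) (y ≫ c.π.app i) := by
  simp [kerSys]

/-- The transition maps of the system of kernel pairs are base changes of the diagonals of the
transition maps. -/
theorem kerSys_map_isPullback {i j : I} (φ : i ⟶ j) :
    IsPullback (pullback.fst (y ≫ c.π.app i) (y ≫ c.π.app i) ≫ y ≫ c.π.app i)
      ((kerSys D c y).map φ) (pullback.diagonal (D.map φ))
      (pullback.map (y ≫ c.π.app j) (y ≫ c.π.app j) (D.map φ) (D.map φ) (y ≫ c.π.app i)
        (y ≫ c.π.app i) (𝟙 _) (by rw [Category.comp_id, Category.assoc, c.w])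
        (by rw [Category.comp_id, Category.assoc, c.w])) :=
  isPullback_map_diagonal' (y ≫ c.π.app i) (D.map φ) (y ≫ c.π.app j)
    (by rw [Category.assoc, c.w])

/-- The cone of diagonals over the system of kernel pairs. -/
noncomputable def kerSysCone : Cone (kerSys D c y) where
  pt := Y
  π :=
    { app := fun i => pullback.diagonal (y ≫ c.π.app i)
      naturality := by
        intro i j φ
        apply pullback.hom_ext
        · simp [kerSys_map_fst]
        · simp [kerSys_map_snd] }

@[simp]
theorem kerSysCone_π_app (i : I) :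
    (kerSysCone D c y).π.app i = pullback.diagonal (y ≫ c.π.app i) := rfl

variable [IsCofiltered I]

omit [HasPullbacks C] in
private theorem eq_of_forall_hom {T : C} {F : I ⥤ C} (s : Cone F) (a : ∀ i, s.pt ⟶ T)
    (h : ∀ {i j : I} (_ : i ⟶ j), a i = a j) (i j : I) : a i = a j := by
  have _ := s
  rw [← h (IsCofiltered.minToLeft i j), ← h (IsCofiltered.minToRight i j)]

/-- If `y` is a monomorphism into a cofiltered limit, then the source of `y` is the limit of the
kernel pairs of the composites to the stages. -/
noncomputable def kerSysConeIsLimit (hc : IsLimit c) [Mono y] : IsLimit (kerSysCone D c y) := by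
  haveI : Nonempty I := IsCofiltered.nonempty
  have ha : ∀ (s : Cone (kerSys D c y)) (i j : I),
      s.π.app i ≫ pullback.fst (y ≫ c.π.app i) (y ≫ c.π.app i) =
        s.π.app j ≫ pullback.fst (y ≫ c.π.app j) (y ≫ c.π.app j) := by
    intro s
    refine eq_of_forall_hom s (fun i => s.π.app i ≫ pullback.fst _ _) ?_
    intro i j φ
    change s.π.app i ≫ _ = s.π.app j ≫ _
    rw [← s.w φ, Category.assoc, kerSys_map_fst]
  have hb : ∀ (s : Cone (kerSys D c y)) (i j : I),
      s.π.app i ≫ pullback.snd (y ≫ c.π.app i) (y ≫ c.π.app i) =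
        s.π.app j ≫ pullback.snd (y ≫ c.π.app j) (y ≫ c.π.app j) := by
    intro s
    refine eq_of_forall_hom s (fun i => s.π.app i ≫ pullback.snd _ _) ?_
    intro i j φ
    change s.π.app i ≫ _ = s.π.app j ≫ _
    rw [← s.w φ, Category.assoc, kerSys_map_snd]
  have hab : ∀ (s : Cone (kerSys D c y)) (i : I),
      s.π.app i ≫ pullback.fst (y ≫ c.π.app i) (y ≫ c.π.app i) =
        s.π.app i ≫ pullback.snd (y ≫ c.π.app i) (y ≫ c.π.app i) := by
    intro s i
    rw [← cancel_mono y]
    apply hc.hom_ext
    intro j
    rw [ha s i j, hb s i j, Category.assoc, Category.assoc, Category.assoc, Category.assoc,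
      pullback.condition]
  exact
    { lift := fun s => s.π.app (Classical.arbitrary I) ≫ pullback.fst _ _
      fac := by
        intro s i
        apply pullback.hom_ext
        · rw [kerSysCone_π_app, Category.assoc, pullback.diagonal_fst, Category.comp_id]
          exact ha s _ _
        · rw [kerSysCone_π_app, Category.assoc, pullback.diagonal_snd, Category.comp_id,
            ← hab s i]
          exact ha s _ _
      uniq := by
        intro s m hm
        rw [← hm (Classical.arbitrary I), kerSysCone_π_app, Category.assoc, pullback.diagonal_fst,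
          Category.comp_id] }

end KerSys

end Groth.Agent.H50
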