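import Groth.Prelude.Def_AlgSpRep

set_option autoImplicit false
universe u
open CategoryTheory CategoryTheory.Limits AlgebraicGeometry Opposite

namespace Groth.Agent.H50

open AlgSp

variable {S : Scheme.{u}}

/-- Evaluate a pullback square of presheaves at an object. -/
theorem isPullback_app {F G H F' : PSp S} {fst : F' ⟶ F} {snd : F' ⟶ H} {a : F ⟶ G} {ξ : H ⟶ G}
    (sq : IsPullback fst snd a ξ) (T : (Over S)ᵒᵖ) :
    IsPullback (fst.app T) (snd.app T) (a.app T) (ξ.app T) :=
  sq.map ((evaluation _ _).obj T)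

/-- A presheaf with a map to a sheaf that is representable by algebraic spaces is a sheaf. -/
theorem isSheaf_of_repBySp {F G : PSp S} (a : F ⟶ G) (ha : RepBySp a)
    (hG : Presheaf.IsSheaf (J S) G) : Presheaf.IsSheaf (J S) F := by
  rw [isSheaf_iff_isSheaf_of_type] at hG ⊢
  intro T R hR x hx
  -- the compatible family of images in `G`
  let y : Presieve.FamilyOfElements G R.arrows := fun T' f hf => a.app _ (x f hf)
  have hy : y.Compatible := by
    intro Y₁ Y₂ Z g₁ g₂ f₁ f₂ h₁ h₂ comm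
    simp only [y]
    rw [← NatTrans.naturality_apply, ← NatTrans.naturality_apply, hx g₁ g₂ h₁ h₂ comm]
  obtain ⟨y₀, hy₀, hy₀u⟩ := hG R hR y hy
  let ξ : (pyon S).obj T ⟶ G := uliftYonedaEquiv.symm y₀
  have sq := IsPullback.of_hasPullback a ξ
  obtain ⟨hF', -⟩ := ha ξ _ _ sq
  rw [isSheaf_iff_isSheaf_of_type] at hF'
  have hξ : ∀ {T' : Over S} (f : T' ⟶ T), ξ.app (op T') ⟨f⟩ = G.map f.op y₀ := fun f => rfl
  have hex : ∀ {T' : Over S} (f : T' ⟶ T) (hf : R.arrows f),
      ∃ z : (pullback a ξ).obj (op T'), (pullback.fst a ξ).app _ z = x f hf ∧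
        (pullback.snd a ξ).app _ z = ⟨f⟩ := fun {T'} f hf =>
    Types.exists_of_isPullback (isPullback_app sq (op T')) (x f hf) ⟨f⟩
      (by rw [hξ]; exact (hy₀ f hf).symm)
  let x' : Presieve.FamilyOfElements (pullback a ξ) R.arrows := fun T' f hf => (hex f hf).choose
  have hx'1 : ∀ {T' : Over S} (f : T' ⟶ T) (hf : R.arrows f),
      (pullback.fst a ξ).app _ (x' f hf) = x f hf := fun f hf => (hex f hf).choose_spec.1
  have hx'2 : ∀ {T' : Over S} (f : T' ⟶ T) (hf : R.arrows f),
      (pullback.snd a ξ).app _ (x' f hf) = ⟨f⟩ := fun f hf => (hex f hf).choose_spec.2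
  have hx' : x'.Compatible := by
    intro Y₁ Y₂ Z g₁ g₂ f₁ f₂ h₁ h₂ comm
    apply Types.ext_of_isPullback (isPullback_app sq (op Z))
    · rw [NatTrans.naturality_apply, NatTrans.naturality_apply, hx'1, hx'1]
      exact hx g₁ g₂ h₁ h₂ comm
    · rw [NatTrans.naturality_apply, NatTrans.naturality_apply, hx'2, hx'2]
      apply ULift.ext
      exact comm
  obtain ⟨x'₀, hx'₀, hx'₀u⟩ := hF' R hR x' hx'
  refine ⟨(pullback.fst a ξ).app _ x'₀, ?_, ?_⟩
  · intro T' f hf
    rw [← NatTrans.naturality_apply, hx'₀ f hf, hx'1]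
  · intro x₁ hx₁
    have h1 : a.app _ x₁ = y₀ := by
      apply hy₀u
      intro T' f hf
      rw [← NatTrans.naturality_apply, hx₁ f hf]
    obtain ⟨z, hz1, hz2⟩ := Types.exists_of_isPullback (isPullback_app sq (op T)) x₁ ⟨𝟙 T⟩
      (by rw [hξ, h1]; simp)
    have hz : z = x'₀ := by
      apply hx'₀u
      intro T' f hf
      apply Types.ext_of_isPullback (isPullback_app sq (op T'))
      · rw [NatTrans.naturality_apply, hz1, hx'1]
        exact hx₁ f hf
      · rw [NatTrans.naturality_apply, hz2, hx'2]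
        apply ULift.ext
        simp
    rw [← hz, hz1]

end Groth.Agent.H50
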