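import Groth.Agent.H50.RelLim
import Groth.Agent.H50.Sheaf

set_option autoImplicit false
set_option backward.isDefEq.respectTransparency false
universe u
open CategoryTheory CategoryTheory.Limits AlgebraicGeometry Opposite

namespace Groth.Agent.H50

open AlgSp

variable {S : Scheme.{u}}

section

variable {I : Type u} [SmallCategory I] [IsCofiltered I] {D : I ⥤ Over S} {c : Cone D}

theorem map_map_cone (F : PSp S) {i j : I} (f : j ⟶ i) (x : F.obj (op (D.obj i))) :
    F.map (c.π.app j).op (F.map (D.map f).op x) = F.map (c.π.app i).op x :=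
  map_map_eq F _ _ _ (c.w f) x

theorem map_map_diag (F : PSp S) {i j k : I} (f : j ⟶ i) (g : k ⟶ j) (x : F.obj (op (D.obj i))) :
    F.map (D.map g).op (F.map (D.map f).op x) = F.map (D.map (g ≫ f)).op x :=
  map_map_eq F _ _ _ (D.map_comp g f).symm x

theorem nat_cone {F G : PSp S} (a : F ⟶ G) (i : I) (x : F.obj (op (D.obj i))) :
    a.app (op c.pt) (F.map (c.π.app i).op x) = G.map (c.π.app i).op (a.app (op (D.obj i)) x) :=
  NatTrans.naturality_apply a (c.π.app i).op x

theorem nat_diag {F G : PSp S} (a : F ⟶ G) {i j : I} (f : j ⟶ i) (x : F.obj (op (D.obj i))) :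
    a.app (op (D.obj j)) (F.map (D.map f).op x) =
      G.map (D.map f).op (a.app (op (D.obj i)) x) :=
  NatTrans.naturality_apply a (D.map f).op x

theorem RelColimElt.comp {F G H : PSp S} {a : F ⟶ G} {b : G ⟶ H} (ha : RelColimElt D c a)
    (hb : RelColimElt D c b) : RelColimElt D c (a ≫ b) := by
  constructor
  · intro i z x hxz
    obtain ⟨j, f, yj, h1, h2⟩ := hb.surj i z (a.app _ x) hxz
    obtain ⟨k, g, xk, h3, h4⟩ := ha.surj j yj x h2.symm
    refine ⟨k, g ≫ f, xk, ?_, h4⟩
    change b.app _ (a.app _ xk) = _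
    rw [h3, nat_diag, h1, map_map_diag]
  · intro i x x' hxx' hxx''
    obtain ⟨j, f, hf⟩ := hb.inj i (a.app _ x) (a.app _ x') hxx' (by
      rw [← nat_cone, ← nat_cone, hxx''])
    rw [← nat_diag, ← nat_diag] at hf
    obtain ⟨k, g, hg⟩ := ha.inj j _ _ hf (by rw [map_map_cone, map_map_cone, hxx''])
    refine ⟨k, g ≫ f, ?_⟩
    rw [← map_map_diag, ← map_map_diag, hg]

theorem RelColimElt.of_comp {F G H : PSp S} {a : F ⟶ G} {b : G ⟶ H}
    (hab : RelColimElt D c (a ≫ b)) (hb : RelColimElt D c b) : RelColimElt D c a := by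
  constructor
  · intro i y x hxy
    obtain ⟨j, f, xj, h1, h2⟩ := hab.surj i (b.app _ y) x (by
      change b.app _ (a.app _ x) = _
      rw [hxy, nat_cone])
    change b.app _ (a.app _ xj) = _ at h1
    obtain ⟨k, g, hg⟩ := hb.inj j (a.app _ xj) (G.map (D.map f).op y) (by
      rw [h1, nat_diag]) (by
      rw [map_map_cone, ← nat_cone, h2, hxy])
    refine ⟨k, g ≫ f, F.map (D.map g).op xj, ?_, ?_⟩
    · rw [nat_diag, hg, map_map_diag]
    · rw [map_map_cone, h2]
  · intro i x x' hxx' hxx''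
    exact hab.inj i x x' (by change b.app _ (a.app _ x) = b.app _ (a.app _ x'); rw [hxx']) hxx''

theorem RelColimElt.of_isPullback {F G H P : PSp S} {a : F ⟶ G} {b : H ⟶ G} {fst : P ⟶ F}
    {snd : P ⟶ H} (hP : IsPullback fst snd a b) (ha : RelColimElt D c a) :
    RelColimElt D c snd := by
  have hw : ∀ (X : (Over S)ᵒᵖ) (p : P.obj X), a.app X (fst.app X p) = b.app X (snd.app X p) :=
    fun X p => ConcreteCategory.congr_hom (isPullback_app hP X).w p
  constructor
  · intro i h p hph
    obtain ⟨j, f, xj, h1, h2⟩ := ha.surj i (b.app _ h) (fst.app _ p) (by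
      rw [hw, hph, nat_cone])
    obtain ⟨pj, hp1, hp2⟩ := Types.exists_of_isPullback (isPullback_app hP (op (D.obj j))) xj
      (H.map (D.map f).op h) (by rw [h1, nat_diag])
    refine ⟨j, f, pj, hp2, ?_⟩
    apply Types.ext_of_isPullback (isPullback_app hP (op c.pt))
    · rw [nat_cone, hp1, h2]
    · rw [nat_cone, hp2, map_map_cone, hph]
  · intro i p p' hpp' hpp''
    obtain ⟨j, f, hf⟩ := ha.inj i (fst.app _ p) (fst.app _ p') (by rw [hw, hw, hpp']) (by
      rw [← nat_cone, ← nat_cone, hpp''])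
    refine ⟨j, f, ?_⟩
    apply Types.ext_of_isPullback (isPullback_app hP (op (D.obj j)))
    · rw [nat_diag, nat_diag, hf]
    · rw [nat_diag, nat_diag, hpp']

end

theorem isRelLimitPreserving_comp {F G H : PSp S} (a : F ⟶ G) (b : G ⟶ H)
    (ha : IsRelLimitPreserving a) (hb : IsRelLimitPreserving b) :
    IsRelLimitPreserving (a ≫ b) := by
  rw [isRelLimitPreserving_iff_relColimElt] at ha hb ⊢
  intro I _ _ D c hc hD hT
  exact (ha D c hc hD hT).comp (hb D c hc hD hT)

theorem isRelLimitPreserving_of_comp {F G H : PSp S} (a : F ⟶ G) (b : G ⟶ H)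
    (hab : IsRelLimitPreserving (a ≫ b)) (hb : IsRelLimitPreserving b) :
    IsRelLimitPreserving a := by
  rw [isRelLimitPreserving_iff_relColimElt] at hab hb ⊢
  intro I _ _ D c hc hD hT
  exact (hab D c hc hD hT).of_comp (hb D c hc hD hT)

theorem isRelLimitPreserving_of_isPullback {F G H P : PSp S} {a : F ⟶ G} {b : H ⟶ G}
    {fst : P ⟶ F} {snd : P ⟶ H} (hP : IsPullback fst snd a b) (ha : IsRelLimitPreserving a) :
    IsRelLimitPreserving snd := by
  rw [isRelLimitPreserving_iff_relColimElt] at ha ⊢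
  intro I _ _ D c hc hD hT
  exact (ha D c hc hD hT).of_isPullback hP

end Groth.Agent.H50
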