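import Groth.Agent.H50.LPSteps
import Groth.Agent.H50.RelLim2

set_option autoImplicit false
set_option backward.isDefEq.respectTransparency false
set_option linter.style.haveILetI false
set_option linter.unusedSectionVars false
universe u
open CategoryTheory CategoryTheory.Limits AlgebraicGeometry Opposite Topology

namespace Groth.Agent.H50

open AlgSp

variable {S : Scheme.{u}}

section

variable {K : Type u} [SmallCategory K] [IsCofiltered K] (D : K ⥤ Over S) (c : Cone D)
  {U : Over S} (τ : D ⟶ (Functor.const K).obj U)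

/-- A system over `S` with a structure map to `U`, as a system over `U.left`. -/
def sysU : K ⥤ Over U.left where
  obj k := Over.mk (τ.app k).left
  map {k k'} φ := Over.homMk (D.map φ).left (by
    change (D.map φ).left ≫ (τ.app k').left = (τ.app k).left
    rw [← Over.comp_left, str_naturality D τ φ])
  map_id k := by
    apply Over.OverMorphism.ext
    simp
  map_comp φ ψ := by
    apply Over.OverMorphism.ext
    simp

/-- The cone over `U.left`. -/
def sysUCone (k₀ : K) : Cone (sysU D τ) where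
  pt := Over.mk (c.π.app k₀ ≫ τ.app k₀).left
  π :=
    { app := fun k => Over.homMk (c.π.app k).left (by
        change (c.π.app k).left ≫ (τ.app k).left = (c.π.app k₀ ≫ τ.app k₀).left
        rw [← Over.comp_left, cone_str_eq D c τ k k₀])
      naturality := fun k k' φ => by
        apply Over.OverMorphism.ext
        change 𝟙 _ ≫ (c.π.app k').left = (c.π.app k).left ≫ (D.map φ).left
        rw [Category.id_comp, ← Over.comp_left, c.w] }

/-- comparison (identity on underlying schemes) -/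
def sysUθ (k : K) : D.obj k ⟶ (Over.map U.hom).obj ((sysU D τ).obj k) :=
  Over.homMk (𝟙 _) (by
    change 𝟙 _ ≫ (τ.app k).left ≫ U.hom = (D.obj k).hom
    rw [Category.id_comp]
    exact Over.w (τ.app k))

def sysUθ' (k : K) : (Over.map U.hom).obj ((sysU D τ).obj k) ⟶ D.obj k :=
  Over.homMk (𝟙 _) (by
    change 𝟙 _ ≫ (D.obj k).hom = (τ.app k).left ≫ U.hom
    rw [Category.id_comp]
    exact (Over.w (τ.app k)).symm)

def sysUθpt (k₀ : K) : c.pt ⟶ (Over.map U.hom).obj (sysUCone D c τ k₀).pt :=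
  Over.homMk (𝟙 _) (by
    change 𝟙 _ ≫ (c.π.app k₀ ≫ τ.app k₀).left ≫ U.hom = c.pt.hom
    rw [Category.id_comp]
    exact Over.w (c.π.app k₀ ≫ τ.app k₀))

def sysUθpt' (k₀ : K) : (Over.map U.hom).obj (sysUCone D c τ k₀).pt ⟶ c.pt :=
  Over.homMk (𝟙 _) (by
    change 𝟙 _ ≫ c.pt.hom = (c.π.app k₀ ≫ τ.app k₀).left ≫ U.hom
    rw [Category.id_comp]
    exact (Over.w (c.π.app k₀ ≫ τ.app k₀)).symm)

theorem sysUθ_θ' (k : K) : sysUθ D τ k ≫ sysUθ' D τ k = 𝟙 _ := by
  apply Over.OverMorphism.ext
  simp [sysUθ, sysUθ']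

theorem sysUθ'_θ (k : K) : sysUθ' D τ k ≫ sysUθ D τ k = 𝟙 _ := by
  apply Over.OverMorphism.ext
  simp [sysUθ, sysUθ']

theorem sysUθpt_θpt' (k₀ : K) : sysUθpt D c τ k₀ ≫ sysUθpt' D c τ k₀ = 𝟙 _ := by
  apply Over.OverMorphism.ext
  simp [sysUθpt, sysUθpt']

theorem sysUθpt'_θpt (k₀ : K) : sysUθpt' D c τ k₀ ≫ sysUθpt D c τ k₀ = 𝟙 _ := by
  apply Over.OverMorphism.ext
  simp [sysUθpt, sysUθpt']

theorem sysU_cone_comm (k₀ k : K) :
    c.π.app k ≫ sysUθ D τ k =
      sysUθpt D c τ k₀ ≫ (Over.map U.hom).map ((sysUCone D c τ k₀).π.app k) := by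
  apply Over.OverMorphism.ext
  simp [sysUθ, sysUθpt, sysUCone]

theorem sysU_map_comm {k k' : K} (φ : k ⟶ k') :
    D.map φ ≫ sysUθ D τ k' = sysUθ D τ k ≫ (Over.map U.hom).map ((sysU D τ).map φ) := by
  apply Over.OverMorphism.ext
  simp [sysUθ, sysU]

include τ in
/-- If the restriction of `F` to schemes over `U` is limit preserving, then `F` turns affine systems
over `S` with a structure map to `U` into colimits. -/
theorem colimElt_of_restrict (F : PSp S)
    (hloc : IsLimitPreserving (S := U.left) ((Over.map U.hom).op ⋙ F))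
    (hc : IsLimit ((Over.forget S).mapCone c)) (hD : ∀ i, IsAffine (D.obj i).left)
    (hT : IsAffine c.pt.left) : ColimElt D c F := by
  obtain ⟨k₀⟩ := IsCofiltered.nonempty (C := K)
  have hcU : IsLimit ((Over.forget U.left).mapCone (sysUCone D c τ k₀)) := hc
  have hU := (nonempty_isColimit_iff (sysU D τ) (sysUCone D c τ k₀) _).1
    (hloc (sysU D τ) (sysUCone D c τ k₀) hcU hD hT)
  constructor
  · intro x
    obtain ⟨k, xk, hxk⟩ := hU.surj (F.map (sysUθpt' D c τ k₀).op x)
    change F.map ((Over.map U.hom).map ((sysUCone D c τ k₀).π.app k)).op xk = _ at hxk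
    refine ⟨k, F.map (sysUθ D τ k).op xk, ?_⟩
    have s1 := map_map_eq F (c.π.app k) (sysUθ D τ k) _ (sysU_cone_comm D c τ k₀ k) xk
    have s2 := map_map_eq F (sysUθpt D c τ k₀)
      ((Over.map U.hom).map ((sysUCone D c τ k₀).π.app k)) _ rfl xk
    have s3 := map_map_eq F (sysUθpt D c τ k₀) (sysUθpt' D c τ k₀) _ (sysUθpt_θpt' D c τ k₀) x
    exact s1.trans (s2.symm.trans ((congrArg _ hxk).trans (s3.trans (by simp))))
  · intro i x x' hxx'
    have hw : (Over.map U.hom).map ((sysUCone D c τ k₀).π.app i) ≫ sysUθ' D τ i =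
        sysUθpt' D c τ k₀ ≫ c.π.app i := by
      apply Over.OverMorphism.ext
      simp [sysUθ', sysUθpt', sysUCone]
    have key : ∀ x₀ : F.obj (op (D.obj i)),
        F.map ((Over.map U.hom).map ((sysUCone D c τ k₀).π.app i)).op
          (F.map (sysUθ' D τ i).op x₀) =
        F.map (sysUθpt' D c τ k₀).op (F.map (c.π.app i).op x₀) := fun x₀ =>
      (map_map_eq F _ _ _ hw x₀).trans (map_map_eq F _ _ _ rfl x₀).symm
    obtain ⟨j, f, hf⟩ := hU.inj i (F.map (sysUθ' D τ i).op x) (F.map (sysUθ' D τ i).op x')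
      ((key x).trans ((congrArg _ hxx').trans (key x').symm))
    change F.map ((Over.map U.hom).map ((sysU D τ).map f)).op _ =
      F.map ((Over.map U.hom).map ((sysU D τ).map f)).op _ at hf
    refine ⟨j, f, ?_⟩
    have hw2 : sysUθ D τ j ≫ (Over.map U.hom).map ((sysU D τ).map f) ≫ sysUθ' D τ i =
        D.map f := by
      apply Over.OverMorphism.ext
      simp [sysUθ, sysUθ', sysU]
    have key2 : ∀ x₀ : F.obj (op (D.obj i)), F.map (D.map f).op x₀ =
        F.map (sysUθ D τ j).op (F.map ((Over.map U.hom).map ((sysU D τ).map f)).op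
          (F.map (sysUθ' D τ i).op x₀)) := fun x₀ =>
      ((congrArg _ (map_map_eq F _ _ _ rfl x₀)).trans (map_map_eq F _ _ _ hw2 x₀)).symm
    exact (key2 x).trans ((congrArg _ hf).trans (key2 x').symm)

end

end Groth.Agent.H50
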