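import Groth.Agent.H49.AlgSpCoprod
import Groth.Prelude.Def_AlgSpRep

set_option autoImplicit false
set_option backward.isDefEq.respectTransparency false
set_option linter.style.haveILetI false
set_option linter.unusedSectionVars false
universe u
open CategoryTheory CategoryTheory.Limits AlgebraicGeometry Opposite Topology

namespace Groth.Agent.H50

open AlgSp

/-- A jointly surjective family of open morphisms to a quasi-compact scheme can be refined by
finitely many affine opens of the members. -/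
theorem exists_finite_affine_refinement {T : Scheme.{u}} [CompactSpace T] {ι : Type*}
    (Y : ι → Scheme.{u}) (f : ∀ i, Y i ⟶ T) (hopen : ∀ i, IsOpenMap (f i).base)
    (hsurj : ∀ t : T, ∃ i, t ∈ Set.range (f i).base) :
    ∃ (s : Finset T) (i : T → ι) (U : ∀ t : T, (Y (i t)).Opens), (∀ t, IsAffineOpen (U t)) ∧
      ∀ t' : T, ∃ t ∈ s, t' ∈ (f (i t)).base '' (U t : Set (Y (i t))) := by
  choose i y hy using hsurj
  have hU : ∀ t : T, ∃ U : (Y (i t)).Opens, IsAffineOpen U ∧ y t ∈ U := by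
    intro t
    obtain ⟨_, ⟨U, hU, rfl⟩, hyU, -⟩ :=
      (Y (i t)).isBasis_affineOpens.exists_subset_of_mem_open (Set.mem_univ (y t)) isOpen_univ
    exact ⟨U, hU, hyU⟩
  choose U hUaff hyU using hU
  let O : T → Set T := fun t => (f (i t)).base '' (U t : Set (Y (i t)))
  have hO : ∀ t, IsOpen (O t) := fun t => hopen (i t) _ (U t).isOpen
  have hcov : (Set.univ : Set T) ⊆ ⋃ t, O t := by
    intro t _
    exact Set.mem_iUnion.2 ⟨t, y t, hyU t, hy t⟩
  obtain ⟨s, hs⟩ := isCompact_univ.elim_finite_subcover O hO hcov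
  refine ⟨s, i, U, hUaff, fun t' => ?_⟩
  have := hs (Set.mem_univ t')
  simp only [Set.mem_iUnion] at this
  obtain ⟨t, ht, ht'⟩ := this
  exact ⟨t, ht, ht'⟩

variable {S : Scheme.{u}}

/-- A covering sieve of a quasi-compact scheme over `S` contains a finite fppf covering family of
affine schemes. -/
theorem exists_finite_affine_cover_of_mem {T : Over S} [CompactSpace T.left] (R : Sieve T)
    (hR : R ∈ J S T) :
    ∃ (σ : Type u) (_ : Finite σ) (A : σ → Over S) (a : ∀ β, A β ⟶ T),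
      (∀ β, IsAffine (A β).left) ∧
      (∀ β, Flat (a β).left ∧ LocallyOfFinitePresentation (a β).left) ∧
      (∀ t : ↥T.left, ∃ β, t ∈ Set.range (a β).left) ∧ ∀ β, R (a β) := by
  obtain ⟨R', hR', hle⟩ := Groth.Agent.H49.exists_fppf_cover_of_mem R hR
  obtain ⟨ι, Y, f, rfl⟩ := R'.exists_eq_ofArrows
  rw [Scheme.fppfPrecoverage, Scheme.ofArrows_mem_precoverage_iff] at hR'
  obtain ⟨hsurj, hprop⟩ := hR'
  have hfl : ∀ i, Flat (f i) := fun i => (hprop i).1
  have hfp : ∀ i, LocallyOfFinitePresentation (f i) := fun i => (hprop i).2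
  obtain ⟨s, i, U, hUaff, hcov⟩ := exists_finite_affine_refinement Y f
    (fun i => (f i).isOpenMap) hsurj
  refine ⟨↥s, inferInstance, fun β => Over.mk ((U β.1).ι ≫ f (i β.1) ≫ T.hom),
    fun β => Over.homMk ((U β.1).ι ≫ f (i β.1)) (by simp), fun β => hUaff β.1, fun β => ?_, ?_,
    fun β => ?_⟩
  · change Flat ((U β.1).ι ≫ f (i β.1)) ∧ LocallyOfFinitePresentation ((U β.1).ι ≫ f (i β.1))
    exact ⟨inferInstance, inferInstance⟩
  · intro t'
    obtain ⟨t, ht, z, hz, hzt⟩ := hcov t'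
    refine ⟨⟨t, ht⟩, ⟨z, hz⟩, ?_⟩
    change ((U t).ι ≫ f (i t)).base (⟨z, hz⟩ : ↥(U t)) = t'
    rw [Scheme.Hom.comp_base, TopCat.comp_app]
    exact hzt
  · have h1 : R (Over.homMk (f (i β.1)) : Over.mk (f (i β.1) ≫ T.hom) ⟶ T) :=
      hle (f (i β.1)) ⟨i β.1⟩
    have h2 := R.downward_closed h1
      (Over.homMk (U β.1).ι (by simp) :
        Over.mk ((U β.1).ι ≫ f (i β.1) ≫ T.hom) ⟶ Over.mk (f (i β.1) ≫ T.hom))
    convert h2 using 1
    ext
    rfl

end Groth.Agent.H50
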