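import Groth.Agent.H50.LPLocal

set_option autoImplicit false
set_option backward.isDefEq.respectTransparency false
set_option linter.style.haveILetI false
set_option linter.unusedSectionVars false
universe u
open CategoryTheory CategoryTheory.Limits AlgebraicGeometry Opposite Topology

namespace Groth.Agent.H50

open AlgSp

variable {S : Scheme.{u}}

section

variable {K : Type u} [SmallCategory K] [IsCofiltered K] (D : K ⥤ Over S) (c : Cone D)

/-- The injectivity hypothesis on all affine base changes of the system. -/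
def NestInj {G₁ G₂ : Sp S} (α : G₁ ⟶ G₂) : Prop :=
  ∀ (m₀ : K) {O : Over S} (o : O ⟶ D.obj m₀), IsAffine O.left →
    YonInj (nest D m₀ o) (nestCone D c m₀ o) α

/-- Two sections over affine schemes over a stage that agree with `ξ` at the limit agree on the
overlap at a later stage (abstract injectivity hypothesis). -/
theorem overlap_agree' (hD : ∀ i, IsAffine (D.obj i).left) {G₁ G₂ : Sp S} (α : G₁ ⟶ G₂)
    (hinj : NestInj D c α) (ξ : (yon S).obj c.pt ⟶ G₁)
    (m₀ : K) {A₁ A₂ : Over S} (a₁ : A₁ ⟶ D.obj m₀) (a₂ : A₂ ⟶ D.obj m₀)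
    (hA₁ : IsAffine A₁.left) (hA₂ : IsAffine A₂.left)
    (ζ₁ : (yon S).obj A₁ ⟶ G₁) (ζ₂ : (yon S).obj A₂ ⟶ G₁) (y₀ : (yon S).obj (D.obj m₀) ⟶ G₂)
    (hζ₁ : ζ₁ ≫ α = (yon S).map a₁ ≫ y₀) (hζ₂ : ζ₂ ≫ α = (yon S).map a₂ ≫ y₀)
    (hξ₁ : AgreesAtLimit D c ξ m₀ a₁ ζ₁) (hξ₂ : AgreesAtLimit D c ξ m₀ a₂ ζ₂) :
    ∃ m : Over m₀, OverlapAgree D m₀ a₁ a₂ ζ₁ ζ₂ m := by
  let o : pullback a₁ a₂ ⟶ D.obj m₀ := pullback.fst a₁ a₂ ≫ a₁
  have sq12 := (IsPullback.of_hasPullback a₁ a₂).map (Over.forget S)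
  have hOaff : IsAffine (pullback a₁ a₂).left := by
    have := hD m₀
    have h2 : IsAffineHom a₂.left := inferInstance
    have : IsAffineHom (pullback.fst a₁ a₂).left :=
      MorphismProperty.of_isPullback (P := @IsAffineHom) sq12.flip h2
    exact isAffine_of_isAffineHom (pullback.fst a₁ a₂).left
  let j₀ : Over m₀ := Over.mk (𝟙 m₀)
  let x : (yon S).obj ((nest D m₀ o).obj j₀) ⟶ G₁ :=
    (yon S).map (nestFst D m₀ o j₀ ≫ pullback.fst a₁ a₂) ≫ ζ₁
  let x' : (yon S).obj ((nest D m₀ o).obj j₀) ⟶ G₁ :=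
    (yon S).map (nestFst D m₀ o j₀ ≫ pullback.snd a₁ a₂) ≫ ζ₂
  have h1 : x ≫ α = x' ≫ α := by
    have eL : x ≫ α = (yon S).map (nestFst D m₀ o j₀ ≫ pullback.fst a₁ a₂ ≫ a₁) ≫ y₀ := by
      change ((yon S).map _ ≫ ζ₁) ≫ α = _
      rw [Category.assoc, hζ₁, ← Category.assoc, ← Functor.map_comp, Category.assoc]
    have eR : x' ≫ α = (yon S).map (nestFst D m₀ o j₀ ≫ pullback.snd a₁ a₂ ≫ a₂) ≫ y₀ := by
      change ((yon S).map _ ≫ ζ₂) ≫ α = _
      rw [Category.assoc, hζ₂, ← Category.assoc, ← Functor.map_comp, Category.assoc]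
    rw [eL, eR, show pullback.fst a₁ a₂ ≫ a₁ = pullback.snd a₁ a₂ ≫ a₂ from pullback.condition]
  have h2 : (yon S).map ((nestCone D c m₀ o).π.app j₀) ≫ x =
      (yon S).map ((nestCone D c m₀ o).π.app j₀) ≫ x' := by
    have e1 : (yon S).map ((nestCone D c m₀ o).π.app j₀) ≫ x =
        (yon S).map (nestPtFst D c m₀ o ≫ pullback.fst a₁ a₂) ≫ ζ₁ := by
      simp only [x]
      rw [← Category.assoc, ← Functor.map_comp, nestCone_π_fst_assoc]
    have e2 : (yon S).map ((nestCone D c m₀ o).π.app j₀) ≫ x' =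
        (yon S).map (nestPtFst D c m₀ o ≫ pullback.snd a₁ a₂) ≫ ζ₂ := by
      simp only [x']
      rw [← Category.assoc, ← Functor.map_comp, nestCone_π_fst_assoc]
    rw [e1, e2]
    rw [hξ₁ _ (nestPtFst D c m₀ o ≫ pullback.fst a₁ a₂) (nestPtSnd D c m₀ o) (by
        rw [Category.assoc]; exact nestPt_condition D c m₀ o),
      hξ₂ _ (nestPtFst D c m₀ o ≫ pullback.snd a₁ a₂) (nestPtSnd D c m₀ o) (by
        rw [Category.assoc, ← pullback.condition]; exact nestPt_condition D c m₀ o)]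
  obtain ⟨m, φ, hm⟩ := hinj m₀ o hOaff j₀ x x' h1 h2
  have e3 : (yon S).map ((nest D m₀ o).map φ) ≫ x =
      (yon S).map (nestFst D m₀ o m ≫ pullback.fst a₁ a₂) ≫ ζ₁ := by
    simp only [x]
    rw [← Category.assoc, ← Functor.map_comp, nest_map_fst_assoc]
  have e4 : (yon S).map ((nest D m₀ o).map φ) ≫ x' =
      (yon S).map (nestFst D m₀ o m ≫ pullback.snd a₁ a₂) ≫ ζ₂ := by
    simp only [x']
    rw [← Category.assoc, ← Functor.map_comp, nest_map_fst_assoc]
  rw [e3, e4] at hm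
  refine ⟨m, ?_⟩
  intro W' g₁ g₂ hg
  have cond₁ : (g₁ ≫ nestFst D m₀ a₁ m) ≫ a₁ = (g₂ ≫ nestFst D m₀ a₂ m) ≫ a₂ := by
    rw [Category.assoc, Category.assoc, nest_condition, nest_condition, ← Category.assoc,
      ← Category.assoc, hg]
  let r₀ : W' ⟶ pullback a₁ a₂ :=
    pullback.lift (g₁ ≫ nestFst D m₀ a₁ m) (g₂ ≫ nestFst D m₀ a₂ m) cond₁
  let r : W' ⟶ (nest D m₀ o).obj m :=
    pullback.lift r₀ (g₁ ≫ nestSnd D m₀ a₁ m) (by
      simp only [r₀, o]
      rw [pullback.lift_fst_assoc, Category.assoc, Category.assoc, nest_condition]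
      rfl)
  have hr0 : r ≫ nestFst D m₀ o m = r₀ := pullback.lift_fst _ _ _
  have hr1 : r ≫ nestFst D m₀ o m ≫ pullback.fst a₁ a₂ = g₁ ≫ nestFst D m₀ a₁ m := by
    rw [← Category.assoc, hr0]
    exact pullback.lift_fst _ _ _
  have hr2 : r ≫ nestFst D m₀ o m ≫ pullback.snd a₁ a₂ = g₂ ≫ nestFst D m₀ a₂ m := by
    rw [← Category.assoc, hr0]
    exact pullback.lift_snd _ _ _
  have e5 : (yon S).map r ≫ (yon S).map (nestFst D m₀ o m ≫ pullback.fst a₁ a₂) ≫ ζ₁ =
      (yon S).map (g₁ ≫ nestFst D m₀ a₁ m) ≫ ζ₁ := by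
    rw [← Category.assoc, ← Functor.map_comp, hr1]
  have e6 : (yon S).map r ≫ (yon S).map (nestFst D m₀ o m ≫ pullback.snd a₁ a₂) ≫ ζ₂ =
      (yon S).map (g₂ ≫ nestFst D m₀ a₂ m) ≫ ζ₂ := by
    rw [← Category.assoc, ← Functor.map_comp, hr2]
  rw [← e5, ← e6, hm]

/-- Eventual liftability can be checked on a finite affine fppf covering of a stage, given
injectivity on affine base changes. -/
theorem evLift_of_cover (hD : ∀ i, IsAffine (D.obj i).left) {G₁ G₂ : Sp S} (α : G₁ ⟶ G₂)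
    (hinj : NestInj D c α) (i : K) (y : (yon S).obj (D.obj i) ⟶ G₂)
    (x : (yon S).obj c.pt ⟶ G₁)
    {σ : Type*} [Finite σ] (B : σ → Over S) (b : ∀ β, B β ⟶ D.obj i)
    (hB : ∀ β, IsAffine (B β).left)
    (hP : ∀ β, Flat (b β).left ∧ LocallyOfFinitePresentation (b β).left)
    (hsurj : ∀ t : ↥(D.obj i).left, ∃ β, t ∈ Set.range (b β).left)
    (h : ∀ β, EvLift (nest D i (b β)) (nestCone D c i (b β)) α (Over.mk (𝟙 i))
      ((yon S).map (nestFst D i (b β) (Over.mk (𝟙 i)) ≫ b β) ≫ y)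
      ((yon S).map (nestPtSnd D c i (b β)) ≫ x)) :
    EvLift D c α i y x := by
  choose l₁ φ₁ ζ₀ h₁a h₁b using h
  obtain ⟨l, hl⟩ := exists_common_lower l₁
  let lam : ∀ β, l ⟶ l₁ β := fun β => (hl β).some
  let m₀ : K := l.left
  let A : σ → Over S := fun β => (nest D i (b β)).obj l
  let a' : ∀ β, A β ⟶ D.obj m₀ := fun β => nestSnd D i (b β) l
  let ζ₁ : ∀ β, (yon S).obj (A β) ⟶ G₁ :=
    fun β => (yon S).map ((nest D i (b β)).map (lam β)) ≫ ζ₀ β
  let y₀ : (yon S).obj (D.obj m₀) ⟶ G₂ := (yon S).map (D.map l.hom) ≫ y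
  have hAaff : ∀ β, IsAffine (A β).left := fun β => nest_isAffine D i (b β) (hB β) hD l
  have hζ₁α : ∀ β, ζ₁ β ≫ α = (yon S).map (a' β) ≫ y₀ := by
    intro β
    have e : (yon S).map ((nest D i (b β)).map (lam β)) ≫
        (yon S).map ((nest D i (b β)).map (φ₁ β)) ≫
          (yon S).map (nestFst D i (b β) (Over.mk (𝟙 i)) ≫ b β) ≫ y =
        (yon S).map (nestFst D i (b β) l ≫ b β) ≫ y := by
      rw [← Category.assoc, ← Functor.map_comp, ← Category.assoc, ← Functor.map_comp,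
        Category.assoc, nest_map_fst_assoc, nest_map_fst_assoc]
    change ((yon S).map ((nest D i (b β)).map (lam β)) ≫ ζ₀ β) ≫ α =
      (yon S).map (nestSnd D i (b β) l) ≫ (yon S).map (D.map l.hom) ≫ y
    rw [Category.assoc, h₁a, e, ← Category.assoc, ← Functor.map_comp,
      ← nest_condition D i (b β) l]
  have hagree : ∀ β, AgreesAtLimit D c x m₀ (a' β) (ζ₁ β) := by
    intro β W' r s hrs
    let ρ : W' ⟶ (nestCone D c i (b β)).pt := (isPullback_nestCone_π D c i (b β) l).lift r s hrs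
    have h1 : ρ ≫ (nestCone D c i (b β)).π.app l = r :=
      (isPullback_nestCone_π D c i (b β) l).lift_fst r s hrs
    have h2 : ρ ≫ nestPtSnd D c i (b β) = s :=
      (isPullback_nestCone_π D c i (b β) l).lift_snd r s hrs
    have e0 : (yon S).map ((nestCone D c i (b β)).π.app l) ≫ ζ₁ β =
        (yon S).map (nestPtSnd D c i (b β)) ≫ x := by
      change (yon S).map ((nestCone D c i (b β)).π.app l) ≫
        (yon S).map ((nest D i (b β)).map (lam β)) ≫ ζ₀ β = _
      rw [← Category.assoc, ← Functor.map_comp, (nestCone D c i (b β)).w, h₁b]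
    rw [← h1, ← h2, Functor.map_comp, Functor.map_comp, Category.assoc, Category.assoc, e0]
  have step7 : ∀ p : σ × σ, ∃ m : Over m₀,
      OverlapAgree D m₀ (a' p.1) (a' p.2) (ζ₁ p.1) (ζ₁ p.2) m :=
    fun p => overlap_agree' D c hD α hinj x m₀ (a' p.1) (a' p.2) (hAaff p.1) (hAaff p.2) (ζ₁ p.1)
      (ζ₁ p.2) y₀ (hζ₁α p.1) (hζ₁α p.2) (hagree p.1) (hagree p.2)
  choose m₁ hm₁ using step7
  obtain ⟨m, hm⟩ := exists_common_lower m₁
  have hOA : ∀ j j', OverlapAgree D m₀ (a' j) (a' j') (ζ₁ j) (ζ₁ j') m :=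
    fun j j' => (hm₁ (j, j')).mono D (hm (j, j')).some
  let V'' : σ → Over S := fun j => (nest D m₀ (a' j)).obj m
  let v'' : ∀ j, V'' j ⟶ D.obj m.left := fun j => nestSnd D m₀ (a' j) m
  let ζ'' : ∀ j, (yon S).obj (V'' j) ⟶ G₁ :=
    fun j => (yon S).map (nestFst D m₀ (a' j) m) ≫ ζ₁ j
  have ha'P : ∀ β, Flat (a' β).left ∧ LocallyOfFinitePresentation (a' β).left :=
    fun β => nestSnd_flat_lfp D i (b β) (hP β) l
  have ha'surj : ∀ t : ↥(D.obj m₀).left, ∃ β, t ∈ Set.range (a' β).left :=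
    nestSnd_jointly_surjective D i B b hsurj l
  have hP'' : ∀ j, Flat (v'' j).left ∧ LocallyOfFinitePresentation (v'' j).left :=
    fun j => nestSnd_flat_lfp D m₀ (a' j) (ha'P j) m
  have hsurj'' : ∀ t : ↥(D.obj m.left).left, ∃ j, t ∈ Set.range (v'' j).left :=
    nestSnd_jointly_surjective D m₀ A a' ha'surj m
  obtain ⟨ζ, hζ⟩ := exists_desc_of_cover V'' v'' hP'' hsurj'' ζ'' (by
    intro W' j j' g₁ g₂ hg
    have := hOA j j' W' g₁ g₂ hg
    simp only [ζ'']
    rw [← Category.assoc, ← Functor.map_comp, ← Category.assoc (_ : _ ⟶ (yon S).obj (V'' j')),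
      ← Functor.map_comp]
    exact this)
  refine ⟨m.left, m.hom ≫ l.hom, ζ, ?_, ?_⟩
  · apply hom_ext_of_cover V'' v'' hP'' hsurj''
    intro j
    rw [← Category.assoc, hζ]
    have e1 : ζ'' j ≫ α = (yon S).map (nestSnd D m₀ (a' j) m ≫ D.map m.hom) ≫ y₀ := by
      change ((yon S).map (nestFst D m₀ (a' j) m) ≫ ζ₁ j) ≫ α = _
      rw [Category.assoc, hζ₁α, ← Category.assoc, ← Functor.map_comp,
        nest_condition D m₀ (a' j) m]
    rw [e1]
    change _ = (yon S).map (nestSnd D m₀ (a' j) m) ≫ (yon S).map (D.map (m.hom ≫ l.hom)) ≫ y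
    simp only [y₀, Functor.map_comp, Category.assoc]
  · apply hom_ext_of_cover (fun β => (nestCone D c i (b β)).pt) (fun β => nestPtSnd D c i (b β))
      (fun β => nestPtSnd_flat_lfp D c i (b β) (hP β))
      (nestPtSnd_jointly_surjective D c i B b hsurj)
    intro j
    let lift : (nestCone D c i (b j)).pt ⟶ V'' j :=
      pullback.lift ((nestCone D c i (b j)).π.app l) (nestPtSnd D c i (b j) ≫ c.π.app m.left) (by
        rw [Category.assoc]
        change _ = _ ≫ _ ≫ D.map m.hom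
        rw [c.w m.hom]
        exact nestCone_π_snd D c i (b j) l)
    have h1 : nestPtSnd D c i (b j) ≫ c.π.app m.left = lift ≫ v'' j :=
      (pullback.lift_snd _ _ _).symm
    have h2 : lift ≫ nestFst D m₀ (a' j) m = (nestCone D c i (b j)).π.app l :=
      pullback.lift_fst _ _ _
    rw [← Category.assoc, ← Functor.map_comp, h1, Functor.map_comp, Category.assoc, hζ]
    simp only [ζ'']
    rw [← Category.assoc, ← Functor.map_comp, h2]
    exact hagree j _ ((nestCone D c i (b j)).π.app l) (nestPtSnd D c i (b j))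
      (nestCone_π_snd D c i (b j) l)

end

end Groth.Agent.H50
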