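import Groth.Agent.H50.LPBase
import Groth.Agent.H50.LPLocal2
import Groth.Agent.H50.LPFinAff

set_option autoImplicit false
set_option backward.isDefEq.respectTransparency false
set_option linter.style.haveILetI false
set_option linter.unusedSectionVars false
universe u
open CategoryTheory CategoryTheory.Limits AlgebraicGeometry Opposite Topology

namespace Groth.Agent.H50

open AlgSp

variable {S : Scheme.{u}}

section

variable {ι : Type u} (U : ι → Over S) (hfl : ∀ j, Flat (U j).hom)
  (hfp : ∀ j, LocallyOfFinitePresentation (U j).hom)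
  (hsurj : ∀ s : ↥S, ∃ (j : ι) (x : ↥(U j).left), (U j).hom.base x = s)

include hfl hfp hsurj in
/-- Every quasi-compact scheme over `S` has a finite affine fppf covering whose members factor
through members of a given fppf covering of `S`. -/
theorem exists_cover_over_family (T : Over S) [CompactSpace ↥T.left] :
    ∃ (σ : Type u) (_ : Finite σ) (B : σ → Over S) (b : ∀ β, B β ⟶ T),
      (∀ β, IsAffine (B β).left) ∧
      (∀ β, Flat (b β).left ∧ LocallyOfFinitePresentation (b β).left) ∧
      (∀ t : ↥T.left, ∃ β, t ∈ Set.range (b β).left) ∧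
      ∀ β, ∃ j : ι, Nonempty (B β ⟶ U j) := by
  let T₁ : Over S := Over.mk (𝟙 S)
  let u : ∀ j, U j ⟶ T₁ := fun j => Over.homMk (U j).hom (by simp [T₁])
  have hRS : Sieve.ofArrows U u ∈ J S T₁ :=
    ofArrows_mem_J U u (fun j => ⟨hfl j, hfp j⟩) (fun t => by
      obtain ⟨j, x, hx⟩ := hsurj t
      exact ⟨j, x, hx⟩)
  let t₀ : T ⟶ T₁ := Over.homMk T.hom (by simp [T₁])
  obtain ⟨σ, hσ, B, b, h1, h2, h3, h4⟩ :=
    exists_finite_affine_cover_of_mem _ ((J S).pullback_stable t₀ hRS)
  refine ⟨σ, hσ, B, b, h1, h2, h3, fun β => ?_⟩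
  obtain ⟨Z, k, _, ⟨j⟩, -⟩ := h4 β
  exact ⟨j, ⟨k⟩⟩

end

section

variable {K : Type u} [SmallCategory K] [IsCofiltered K] (D : K ⥤ Over S) (c : Cone D)

/-- The structure map of a nested system to a scheme receiving a map from the base-changing
object. -/
noncomputable def nestStr (i : K) {B V : Over S} (b : B ⟶ D.obj i) (k : B ⟶ V) :
    nest D i b ⟶ (Functor.const (Over i)).obj V where
  app l := nestFst D i b l ≫ k
  naturality l l' φ := by
    change (nest D i b).map φ ≫ nestFst D i b l' ≫ k = (nestFst D i b l ≫ k) ≫ 𝟙 _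
    rw [Category.comp_id, nest_map_fst_assoc]

end

section Main

variable (F : PSp S) (hF : Presheaf.IsSheaf (J S) F) {ι : Type u} (U : ι → Over S)
  (hfl : ∀ j, Flat (U j).hom) (hfp : ∀ j, LocallyOfFinitePresentation (U j).hom)
  (hsurj : ∀ s : ↥S, ∃ (j : ι) (x : ↥(U j).left), (U j).hom.base x = s)
  (hloc : ∀ j, IsLimitPreserving (S := (U j).left) ((Over.map (U j).hom).op ⋙ F))
  {K : Type u} [SmallCategory K] [IsCofiltered K] (D : K ⥤ Over S) (c : Cone D)

include hloc in
theorem colimElt_nest_of_locally (hc : IsLimit ((Over.forget S).mapCone c))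
    (hD : ∀ i, IsAffine (D.obj i).left) (hT : IsAffine c.pt.left) (i : K) {B : Over S}
    (b : B ⟶ D.obj i) (hB : IsAffine B.left) {j : ι} (k : B ⟶ U j) :
    ColimElt (nest D i b) (nestCone D c i b) F :=
  colimElt_of_restrict (nest D i b) (nestCone D c i b) (nestStr D i b k) F (hloc j)
    (nestConeIsLimit D c i b hc) (nest_isAffine D i b hB hD) (nestPt_isAffine D c i b hB hD hT)

include hfl hfp hsurj hloc in
theorem yonInj_of_locally (hc : IsLimit ((Over.forget S).mapCone c))
    (hD : ∀ i, IsAffine (D.obj i).left) (hT : IsAffine c.pt.left) :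
    YonInj D c (terminal.from (⟨F, hF⟩ : Sp S)) := by
  intro i z z' _ hlim
  haveI : CompactSpace ↥(D.obj i).left := by have := hD i; infer_instance
  obtain ⟨σ, _, B, b, hB, hbP, hbsurj, hk⟩ := exists_cover_over_family U hfl hfp hsurj (D.obj i)
  apply evEq_of_cover D i z z' B b hbP hbsurj
  intro β
  obtain ⟨j, ⟨k⟩⟩ := hk β
  have hcol := colimElt_nest_of_locally F U hloc D c hc hD hT i (b β) (hB β) k
  let j₀ : Over i := Over.mk (𝟙 _)
  obtain ⟨w, hw⟩ : ∃ w : (yon S).obj ((nest D i (b β)).obj j₀) ⟶ (⟨F, hF⟩ : Sp S),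
    w = (yon S).map (nestFst D i (b β) j₀ ≫ b β) ≫ z := ⟨_, rfl⟩
  obtain ⟨w', hw'⟩ : ∃ w' : (yon S).obj ((nest D i (b β)).obj j₀) ⟶ (⟨F, hF⟩ : Sp S),
    w' = (yon S).map (nestFst D i (b β) j₀ ≫ b β) ≫ z' := ⟨_, rfl⟩
  have e3 : (nestCone D c i (b β)).π.app j₀ ≫ nestFst D i (b β) j₀ ≫ b β =
      nestPtSnd D c i (b β) ≫ c.π.app i := by
    rw [← Category.assoc, nestCone_π_fst, nestPt_condition]
  have hlim' : (yon S).map ((nestCone D c i (b β)).π.app j₀) ≫ w =
      (yon S).map ((nestCone D c i (b β)).π.app j₀) ≫ w' := by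
    rw [hw, hw']
    rw [← Category.assoc, ← Functor.map_comp, e3, ← Category.assoc ((yon S).map _),
      ← Functor.map_comp, e3, Functor.map_comp, Category.assoc, Category.assoc, hlim]
  obtain ⟨m, φ, hm⟩ := hcol.inj j₀ ((J S).uliftYonedaEquiv w) ((J S).uliftYonedaEquiv w') (by
    have := congr((J S).uliftYonedaEquiv $hlim')
    rwa [yonedaEquiv_map_comp, yonedaEquiv_map_comp] at this)
  refine ⟨m, φ, ?_⟩
  rw [← hw, ← hw']
  apply (J S).uliftYonedaEquiv.injective
  rw [yonedaEquiv_map_comp, yonedaEquiv_map_comp]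
  exact hm

include hfl hfp hsurj hloc in
theorem evLift_of_locally (hc : IsLimit ((Over.forget S).mapCone c))
    (hD : ∀ i, IsAffine (D.obj i).left) (hT : IsAffine c.pt.left) (i : K)
    (y : (yon S).obj (D.obj i) ⟶ ⊤_ (Sp S)) (x : (yon S).obj c.pt ⟶ (⟨F, hF⟩ : Sp S)) :
    EvLift D c (terminal.from (⟨F, hF⟩ : Sp S)) i y x := by
  haveI : CompactSpace ↥(D.obj i).left := by have := hD i; infer_instance
  obtain ⟨σ, _, B, b, hB, hbP, hbsurj, hk⟩ := exists_cover_over_family U hfl hfp hsurj (D.obj i)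
  have hinj : NestInj D c (terminal.from (⟨F, hF⟩ : Sp S)) := fun m₀ _ o hO =>
    yonInj_of_locally F hF U hfl hfp hsurj hloc (nest D m₀ o) (nestCone D c m₀ o)
      (nestConeIsLimit D c m₀ o hc) (nest_isAffine D m₀ o hO hD)
      (nestPt_isAffine D c m₀ o hO hD hT)
  apply evLift_of_cover D c hD _ hinj i y x B b hB hbP hbsurj
  intro β
  obtain ⟨j, ⟨k⟩⟩ := hk β
  have hcol := colimElt_nest_of_locally F U hloc D c hc hD hT i (b β) (hB β) k
  obtain ⟨m, xm, hxm⟩ := hcol.surj
    ((J S).uliftYonedaEquiv ((yon S).map (nestPtSnd D c i (b β)) ≫ x))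
  refine ⟨m, Over.homMk m.hom (by simp), (J S).uliftYonedaEquiv.symm xm,
    terminal.hom_ext _ _, ?_⟩
  apply (J S).uliftYonedaEquiv.injective
  rw [yonedaEquiv_map_comp, Equiv.apply_symm_apply]
  exact hxm

include hfl hfp hsurj hloc in
/-- A sheaf which is limit preserving fppf locally on the base is limit preserving. -/
theorem isLimitPreserving_of_locally (hF : Presheaf.IsSheaf (J S) F) : IsLimitPreserving F := by
  intro I _ _ D c hc hD hT
  rw [nonempty_isColimit_iff]
  constructor
  · intro x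
    obtain ⟨i⟩ := IsCofiltered.nonempty (C := I)
    obtain ⟨j, φ, xj, -, hxj⟩ := evLift_of_locally F hF U hfl hfp hsurj hloc D c hc hD hT i
      (terminal.from _) ((J S).uliftYonedaEquiv.symm x)
    refine ⟨j, (J S).uliftYonedaEquiv xj, ?_⟩
    have := congr((J S).uliftYonedaEquiv $hxj)
    rw [yonedaEquiv_map_comp, Equiv.apply_symm_apply] at this
    exact this
  · intro i x x' hlim
    obtain ⟨j, φ, hj⟩ := yonInj_of_locally F hF U hfl hfp hsurj hloc D c hc hD hT i
      ((J S).uliftYonedaEquiv.symm x) ((J S).uliftYonedaEquiv.symm x') (terminal.hom_ext _ _) (by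
        apply (J S).uliftYonedaEquiv.injective
        rw [yonedaEquiv_map_comp, yonedaEquiv_map_comp, Equiv.apply_symm_apply,
          Equiv.apply_symm_apply]
        exact hlim)
    refine ⟨j, φ, ?_⟩
    have := congr((J S).uliftYonedaEquiv $hj)
    rw [yonedaEquiv_map_comp, yonedaEquiv_map_comp, Equiv.apply_symm_apply,
      Equiv.apply_symm_apply] at this
    exact this

end Main

end Groth.Agent.H50
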