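import Groth.Agent.H50.LPNest
import Groth.Agent.S20011
import Groth.Prelude.Def_AlgSp3

set_option autoImplicit false
set_option backward.isDefEq.respectTransparency false
set_option linter.style.haveILetI false
set_option linter.unusedSectionVars false
universe u
open CategoryTheory CategoryTheory.Limits AlgebraicGeometry Opposite Topology

namespace Groth.Agent.H50

open AlgSp

variable {S : Scheme.{u}}

section

variable {K : Type u} [SmallCategory K] [IsCofiltered K] (D : K ⥤ Over S) (c : Cone D)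

/-- Given a section `ξ` over the limit of an affine system and an etale atlas `w` of the target,
there is a finite etale covering of a stage over whose limit `ξ` lifts to the atlas. -/
theorem exists_cover_lift (hc : IsLimit ((Over.forget S).mapCone c))
    (hD : ∀ i, IsAffine (D.obj i).left) (hT : IsAffine c.pt.left)
    {Z : Sp S} (ξ : (yon S).obj c.pt ⟶ Z) {W : Over S} (w : (yon S).obj W ⟶ Z)
    (hw : RepWith @Etale w) (hws : RepWith @Surjective w) :
    ∃ (k : K) (n : ℕ) (Vo : Fin n → Over S) (vo : ∀ j, Vo j ⟶ D.obj k),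
      (∀ j, Etale (vo j).left ∧ QuasiCompact (vo j).left ∧ QuasiSeparated (vo j).left) ∧
      (∀ x : (D.obj k).left, ∃ j, x ∈ Set.range (vo j).left) ∧
      ∀ j, ∃ σ : (nestCone D c k (vo j)).pt ⟶ W,
        (yon S).map σ ≫ w = (yon S).map (nestPtSnd D c k (vo j)) ≫ ξ := by
  have sqE := hw.rep.isPullback ξ
  let E₀ : Over S := hw.rep.pullback ξ
  let e : E₀ ⟶ c.pt := hw.rep.snd ξ
  have he : Etale e.left := hw.property_snd ξ
  have hes : Surjective e.left := hws.property_snd ξ
  obtain ⟨gE, hgE⟩ := (yon S).map_surjective (hw.rep.fst ξ)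
  have hgEw : (yon S).map gE ≫ w = (yon S).map e ≫ ξ := by rw [hgE]; exact sqE.w
  let U : ↥(E₀.left.affineOpens) → Scheme.{u} := fun a => (a.1 : Scheme.{u})
  let u : ∀ a, U a ⟶ c.pt.left := fun a => a.1.ι ≫ e.left
  haveI : ∀ a, IsAffine (U a) := fun a => a.2
  haveI : ∀ a, Etale (u a) := fun a => by
    change Etale (a.1.ι ≫ e.left)
    infer_instance
  haveI : ∀ a, IsAffineHom (u a) := fun a => inferInstance
  haveI : ∀ a, QuasiCompact (u a) := fun a => inferInstance
  haveI : ∀ a, QuasiSeparated (u a) := fun a => inferInstance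
  have hcov : ∀ x : c.pt.left, ∃ (a : ↥(E₀.left.affineOpens)) (y : U a), (u a).base y = x := by
    intro x
    obtain ⟨z, hz⟩ := hes.surj x
    obtain ⟨_, ⟨a, ha, rfl⟩, hza, -⟩ :=
      E₀.left.isBasis_affineOpens.exists_subset_of_mem_open (Set.mem_univ z) isOpen_univ
    refine ⟨⟨a, ha⟩, ⟨z, hza⟩, ?_⟩
    change (Scheme.Opens.ι a ≫ e.left).base (⟨z, hza⟩ : ↥(a : E₀.left.Opens)) = x
    rw [Scheme.Hom.comp_base, TopCat.comp_app]
    exact hz
  haveI : ∀ i, IsAffine ((D ⋙ Over.forget S).obj i) := hD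
  haveI : ∀ (i j : K) (φ : i ⟶ j), IsAffineHom ((D ⋙ Over.forget S).map φ) :=
    fun i j φ => inferInstance
  haveI : Nonempty K := IsCofiltered.nonempty
  obtain ⟨k, n, V, v, a, ee, hv, hvs, hpb⟩ := Groth.Agent.S20011.result (D ⋙ Over.forget S)
    ((Over.forget S).mapCone c) hc (Classical.arbitrary K) U u hcov
  let Vo : Fin n → Over S := fun j => Over.mk (v j ≫ (D.obj k).hom)
  let vo : ∀ j, Vo j ⟶ D.obj k := fun j => Over.homMk (v j) rfl
  refine ⟨k, n, Vo, vo, hv, ?_, ?_⟩
  · intro x
    obtain ⟨j, y, hy⟩ := hvs x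
    exact ⟨j, y, hy⟩
  · intro j
    have sqP := (IsPullback.of_hasPullback (vo j) (c.π.app k)).map (Over.forget S)
    let ρ : (nestCone D c k (vo j)).pt.left ⟶ U (a j) :=
      (hpb j).lift (nestPtFst D c k (vo j)).left (nestPtSnd D c k (vo j)).left sqP.w
    have hρ : ρ ≫ u (a j) = (nestPtSnd D c k (vo j)).left := (hpb j).lift_snd _ _ _
    have hρ' : (ρ ≫ (a j).1.ι) ≫ e.left = (nestPtSnd D c k (vo j)).left := by
      rw [Category.assoc]; exact hρ
    let ιj : (nestCone D c k (vo j)).pt ⟶ E₀ := Over.homMk (ρ ≫ (a j).1.ι) (by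
      rw [← Over.w e, ← Category.assoc, hρ']
      exact Over.w (nestPtSnd D c k (vo j)))
    have hιj : ιj ≫ e = nestPtSnd D c k (vo j) := by
      ext
      exact hρ'
    refine ⟨ιj ≫ gE, ?_⟩
    rw [Functor.map_comp, Category.assoc, hgEw, ← Category.assoc, ← Functor.map_comp, hιj]

end

end Groth.Agent.H50
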