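import Groth.Agent.H50.LPLocal
import Groth.Agent.H50.LPFinAff
import Groth.Agent.S18756

set_option autoImplicit false
set_option backward.isDefEq.respectTransparency false
set_option linter.style.haveILetI false
set_option linter.unusedSectionVars false
universe u
open CategoryTheory CategoryTheory.Limits AlgebraicGeometry Opposite Topology

namespace Groth.Agent.H50

open AlgSp

variable {S : Scheme.{u}}

section

variable {K : Type u} [SmallCategory K] [IsCofiltered K] (D : K ⥤ Over S) (c : Cone D)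

/-- A finite affine fppf covering of the limit of an affine system descends to a finite affine
fppf covering of a stage, whose base change to the limit refines the given covering. -/
theorem exists_cover_desc_affine (hc : IsLimit ((Over.forget S).mapCone c))
    (hD : ∀ i, IsAffine (D.obj i).left) (hT : IsAffine c.pt.left) (i₀ : K)
    {σ : Type u} (E : σ → Over S) (e : ∀ ε, E ε ⟶ c.pt) (hE : ∀ ε, IsAffine (E ε).left)
    (hP : ∀ ε, Flat (e ε).left ∧ LocallyOfFinitePresentation (e ε).left)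
    (hsurj : ∀ t : ↥c.pt.left, ∃ ε, t ∈ Set.range (e ε).left) :
    ∃ (l : Over i₀) (τ : Type u) (_ : Finite τ) (V : τ → Over S) (v : ∀ w, V w ⟶ D.obj l.left),
      (∀ w, IsAffine (V w).left) ∧
      (∀ w, Flat (v w).left ∧ LocallyOfFinitePresentation (v w).left) ∧
      (∀ t : ↥(D.obj l.left).left, ∃ w, t ∈ Set.range (v w).left) ∧
      ∀ w, ∃ (ε : σ) (κ : (nestCone D c l.left (v w)).pt ⟶ E ε),
        κ ≫ e ε = nestPtSnd D c l.left (v w) := by
  let D₀ : Over i₀ ⥤ Scheme.{u} := resSys D i₀ ⋙ Over.forget S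
  let c₀ : Cone D₀ := (Over.forget S).mapCone (resCone D c i₀)
  have hc₀ : IsLimit c₀ := resConeIsLimit D c i₀ hc
  haveI : ∀ l, IsAffine (D₀.obj l) := fun l => hD l.left
  haveI : ∀ (l l' : Over i₀) (φ : l ⟶ l'), IsAffineHom (D₀.map φ) := fun l l' φ => inferInstance
  let U : σ → Scheme.{u} := fun ε => (E ε).left
  let u : ∀ ε, U ε ⟶ c₀.pt := fun ε => (e ε).left
  haveI : ∀ ε, IsAffine (U ε) := hE
  haveI : IsAffine c₀.pt := hT
  haveI : ∀ ε, Flat (u ε) := fun ε => (hP ε).1
  haveI : ∀ ε, LocallyOfFinitePresentation (u ε) := fun ε => (hP ε).2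
  haveI : ∀ ε, IsAffineHom (u ε) := fun ε => inferInstance
  haveI : ∀ ε, QuasiCompact (u ε) := fun ε => inferInstance
  haveI : ∀ ε, QuasiSeparated (u ε) := fun ε => inferInstance
  have hcov : ∀ x : c₀.pt, ∃ (ε : σ) (y : U ε), (u ε).base y = x := by
    intro x
    obtain ⟨ε, y, hy⟩ := hsurj x
    exact ⟨ε, y, hy⟩
  obtain ⟨l, n, V', v', a, ee, hv', hv's, hpb⟩ := Groth.Agent.S18756.result D₀ c₀ hc₀
    (Over.mk (𝟙 i₀)) U u hcov
  haveI : ∀ j, Flat (v' j) := fun j => (hv' j).1
  haveI : ∀ j, LocallyOfFinitePresentation (v' j) := fun j => (hv' j).2.1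
  haveI : CompactSpace ↥(D.obj l.left).left := by have := hD l.left; infer_instance
  obtain ⟨s, idx, U', hU'aff, hU'cov⟩ := exists_finite_affine_refinement
    (T := (D.obj l.left).left) V' v' (fun j => (v' j).isOpenMap) (fun t => by
      obtain ⟨j, y, hy⟩ := hv's t
      exact ⟨j, y, hy⟩)
  let V : ↥s → Over S := fun w => Over.mk ((U' w.1).ι ≫ v' (idx w.1) ≫ (D.obj l.left).hom)
  let v : ∀ w, V w ⟶ D.obj l.left := fun w => Over.homMk ((U' w.1).ι ≫ v' (idx w.1)) (by simp [V])
  refine ⟨l, ↥s, inferInstance, V, v, fun w => hU'aff w.1, fun w => ?_, ?_, fun w => ?_⟩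
  · change Flat ((U' w.1).ι ≫ v' (idx w.1)) ∧
      LocallyOfFinitePresentation ((U' w.1).ι ≫ v' (idx w.1))
    exact ⟨inferInstance, inferInstance⟩
  · intro t'
    obtain ⟨t, ht, z, hz, hzt⟩ := hU'cov t'
    refine ⟨⟨t, ht⟩, ⟨z, hz⟩, ?_⟩
    change ((U' t).ι ≫ v' (idx t)).base (⟨z, hz⟩ : ↥(U' t)) = t'
    rw [Scheme.Hom.comp_base, TopCat.comp_app]
    exact hzt
  · have sqP := nestPtSnd_sq D c l.left (v w)
    let κ₀ : (nestCone D c l.left (v w)).pt.left ⟶ U (a (idx w.1)) :=
      (hpb (idx w.1)).lift ((nestPtFst D c l.left (v w)).left ≫ (U' w.1).ι)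
        (nestPtSnd D c l.left (v w)).left (by
          rw [Category.assoc]
          exact sqP.w)
    have hκ₀ : κ₀ ≫ (e (a (idx w.1))).left = (nestPtSnd D c l.left (v w)).left :=
      (hpb (idx w.1)).lift_snd _ _ _
    refine ⟨a (idx w.1), Over.homMk κ₀ (by
      rw [← Over.w (e (a (idx w.1))), ← Category.assoc, hκ₀]
      exact Over.w (nestPtSnd D c l.left (v w))), ?_⟩
    ext
    exact hκ₀

end

end Groth.Agent.H50
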