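import Groth.Agent.H50.SchImage
import Groth.Agent.H50.Fppf

set_option autoImplicit false
set_option backward.isDefEq.respectTransparency false
set_option linter.style.haveILetI false
universe u
open CategoryTheory CategoryTheory.Limits AlgebraicGeometry Opposite Topology

namespace Groth.Agent.H50

open AlgSp

variable {S : Scheme.{u}}

/-- A jointly surjective family of flat morphisms locally of finite presentation over `S`
generates a covering sieve of the big fppf site of `S`. -/
theorem ofArrows_mem_J {T : Over S} {σ : Type*} (U : σ → Over S) (g : ∀ i, U i ⟶ T)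
    (hP : ∀ i, Flat (g i).left ∧ LocallyOfFinitePresentation (g i).left)
    (hsurj : ∀ t : ↥T.left, ∃ i, t ∈ Set.range (g i).left) :
    Sieve.ofArrows U g ∈ J S T := by
  rw [J_eq, GrothendieckTopology.mem_over_iff, Sieve.overEquiv_ofArrows]
  have : Presieve.ofArrows (fun i => (U i).left) (fun i => (g i).left) ∈
      Scheme.fppfPrecoverage T.left :=
    (Scheme.ofArrows_mem_precoverage_iff (P := @Flat ⊓ @LocallyOfFinitePresentation)).2
      ⟨hsurj, fun i => hP i⟩
  exact Precoverage.generate_mem_toGrothendieck this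

/-- The inclusion of an open subscheme, over `S`. -/
noncomputable abbrev opensOv (T : Over S) (O : T.left.Opens) : Over S := Over.mk (O.ι ≫ T.hom)

/-- The inclusion of an open subscheme, over `S`. -/
noncomputable abbrev opensOvι (T : Over S) (O : T.left.Opens) : opensOv T O ⟶ T :=
  Over.homMk O.ι rfl

/-- A Zariski open cover generates a covering sieve. -/
theorem ofArrows_opens_mem_J {T : Over S} {σ : Type*} (O : σ → T.left.Opens)
    (hO : ⨆ i, O i = ⊤) :
    Sieve.ofArrows (fun i => opensOv T (O i)) (fun i => opensOvι T (O i)) ∈ J S T := by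
  apply ofArrows_mem_J
  · intro i
    exact ⟨(inferInstance : Flat (O i).ι), (inferInstance : LocallyOfFinitePresentation (O i).ι)⟩
  · intro t
    have : t ∈ (⨆ i, O i : T.left.Opens) := by rw [hO]; trivial
    obtain ⟨i, hi⟩ := TopologicalSpace.Opens.mem_iSup.1 this
    exact ⟨i, ⟨⟨t, hi⟩, rfl⟩⟩

/-- Lifting through a monomorphism of sheaves is Zariski local on the source. -/
theorem exists_lift_of_mono_of_openCover {F G : Sp S} (m : F ⟶ G) [Mono m] {T : Over S}
    (x : (yon S).obj T ⟶ G) {σ : Type*} (O : σ → T.left.Opens) (hO : ⨆ i, O i = ⊤)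
    (h : ∀ i, ∃ l : (yon S).obj (opensOv T (O i)) ⟶ F, l ≫ m = (yon S).map (opensOvι T (O i)) ≫ x) :
    ∃ l : (yon S).obj T ⟶ F, l ≫ m = x := by
  refine exists_lift_of_mono_of_locally m x _ (ofArrows_opens_mem_J O hO) ?_
  rintro T' g ⟨Z, k, _, ⟨i⟩, rfl⟩
  obtain ⟨l, hl⟩ := h i
  exact ⟨(yon S).map k ≫ l, by rw [Category.assoc, hl, Functor.map_comp, Category.assoc]⟩

/-- A predicate local for the fppf topology is Zariski local. -/
theorem ElemPred.of_openCover {F : Sp S} (E : ElemPred F) {T : Over S}
    (x : (yon S).obj T ⟶ F) {σ : Type*} (O : σ → T.left.Opens) (hO : ⨆ i, O i = ⊤)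
    (h : ∀ i, E.Q ((yon S).map (opensOvι T (O i)) ≫ x)) : E.Q x := by
  refine E.loc x _ (ofArrows_opens_mem_J O hO) ?_
  rintro T' g ⟨Z, k, _, ⟨i⟩, rfl⟩
  rw [Functor.map_comp, Category.assoc]
  exact E.map _ _ (h i)

end Groth.Agent.H50
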