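import Groth.Agent.H53.Glue
import Groth.Agent.H50.QCKer2

set_option autoImplicit false
set_option backward.isDefEq.respectTransparency false
set_option linter.style.haveILetI false
universe u
open CategoryTheory CategoryTheory.Limits AlgebraicGeometry Opposite Topology

namespace Groth.Agent.H50

open AlgSp

variable {S : Scheme.{u}}

section

variable {B : Over S} {σ : Type*} (V : σ → Over S) (v : ∀ α, V α ⟶ B)

theorem cover_hcov (hP : ∀ α, Flat (v α).left ∧ LocallyOfFinitePresentation (v α).left)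
    (hsurj : ∀ b : ↥B.left, ∃ α, b ∈ Set.range (v α).left)
    (V' : Over S) (t : (yon S).obj V' ⟶ (yon S).obj B) :
    ∃ R : Sieve V', R ∈ J S V' ∧ ∀ ⦃W : Over S⦄ (w : W ⟶ V'), R w →
      ∃ (α : σ) (g : W ⟶ V α), (yon S).map g ≫ (yon S).map (v α) = (yon S).map w ≫ t := by
  obtain ⟨t₀, rfl⟩ := (yon S).map_surjective t
  refine ⟨(Sieve.ofArrows V v).pullback t₀,
    (J S).pullback_stable t₀ (ofArrows_mem_J V v hP hsurj), ?_⟩
  rintro W w ⟨Z, k, _, ⟨α⟩, hk⟩
  exact ⟨α, k, by rw [← Functor.map_comp, ← Functor.map_comp, hk]⟩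

/-- Gluing sections of a sheaf along an fppf covering family of schemes. -/
theorem exists_desc_of_cover (hP : ∀ α, Flat (v α).left ∧ LocallyOfFinitePresentation (v α).left)
    (hsurj : ∀ b : ↥B.left, ∃ α, b ∈ Set.range (v α).left)
    {F : Sp S} (m : ∀ α, (yon S).obj (V α) ⟶ F)
    (hm : ∀ (W : Over S) (α β : σ) (g₁ : W ⟶ V α) (g₂ : W ⟶ V β), g₁ ≫ v α = g₂ ≫ v β →
      (yon S).map g₁ ≫ m α = (yon S).map g₂ ≫ m β) :
    ∃ L : (yon S).obj B ⟶ F, ∀ α, (yon S).map (v α) ≫ L = m α := by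
  refine Groth.Agent.H53.desc_of_family V (fun α => (yon S).map (v α))
    (cover_hcov V v hP hsurj) m ?_
  intro W α β g₁ g₂ h
  apply hm W α β g₁ g₂
  apply (yon S).map_injective
  rw [Functor.map_comp, Functor.map_comp]
  exact h

theorem hom_ext_of_cover (hP : ∀ α, Flat (v α).left ∧ LocallyOfFinitePresentation (v α).left)
    (hsurj : ∀ b : ↥B.left, ∃ α, b ∈ Set.range (v α).left)
    {F : Sp S} (L L' : (yon S).obj B ⟶ F)
    (h : ∀ α, (yon S).map (v α) ≫ L = (yon S).map (v α) ≫ L') : L = L' :=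
  Groth.Agent.H53.hom_ext_of_family V (fun α => (yon S).map (v α))
    (cover_hcov V v hP hsurj) L L' h

end

end Groth.Agent.H50
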