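import Groth.Agent.H50.LfpDiag
import Groth.Agent.H50.Perm
import Groth.Agent.H50.LocPClass

set_option autoImplicit false
set_option backward.isDefEq.respectTransparency false
set_option linter.style.haveILetI false
universe u
open CategoryTheory CategoryTheory.Limits AlgebraicGeometry Opposite Topology

namespace Groth.Agent.H50

open AlgSp

variable {S : Scheme.{u}}

theorem locP_lft_of_lfp {X Y : Sp S} (f : X ⟶ Y) (hf : LocP @LocallyOfFinitePresentation f) :
    LocP @LocallyOfFiniteType f := by
  intro U V a b h ha hb comm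
  have : LocallyOfFinitePresentation h.left := hf a b h ha hb comm
  infer_instance

section

variable {K : Type u} [SmallCategory K] [IsCofiltered K] (D : K ⥤ Over S) (c : Cone D)

/-- Injectivity part of "limit preserving" for a morphism of algebraic spaces locally of finite
type, for cofiltered systems of qcqs schemes with affine transition maps. -/
theorem lp_inj {X Y : Sp S} (hX : IsAlgSpace X) (hY : IsAlgSpace Y) (f : X ⟶ Y)
    (hf : LocP @LocallyOfFiniteType f)
    (hc : IsLimit ((Over.forget S).mapCone c))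
    (hcomp : ∀ i, CompactSpace (D.obj i).left) (hqs : ∀ i, QuasiSeparatedSpace (D.obj i).left)
    (haff : ∀ {i j : K} (φ : i ⟶ j), IsAffineHom (D.map φ).left)
    (j : K) (x x' : (yon S).obj (D.obj j) ⟶ X) (h1 : x ≫ f = x' ≫ f)
    (h2 : (yon S).map (c.π.app j) ≫ x = (yon S).map (c.π.app j) ≫ x') :
    ∃ (j' : K) (φ : j' ⟶ j), (yon S).map (D.map φ) ≫ x = (yon S).map (D.map φ) ≫ x' := by
  have hXX : IsAlgSpace (pullback f f) :=
    Groth.Agent.H49.isAlgSpace_of_isPullback (IsPullback.of_hasPullback f f) hY.diag hX hX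
  have hΔrep : Representable (pullback.diagonal f) := representable_diagonal_of_diag f hX.diag
  have hΔ : RepWith @LocallyOfFinitePresentation (pullback.diagonal f) :=
    goodClass_lfp.repWith_of_locP hXX _ hΔrep (locP_lfp_diagonal hX hY f hf)
  let p : (yon S).obj (D.obj j) ⟶ pullback f f := pullback.lift x x' h1
  have sq := hΔrep.isPullback p
  have hsnd : LocallyOfFinitePresentation (hΔrep.snd p).left := hΔ.property_snd p
  obtain ⟨ℓ, hℓ1, hℓ2⟩ := sq.exists_lift ((yon S).map (c.π.app j) ≫ x) ((yon S).map (c.π.app j)) (by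
    apply pullback.hom_ext
    · simp [p]
    · simp [p, h2])
  obtain ⟨ℓ₀, rfl⟩ := (yon S).map_surjective ℓ
  have hℓ₀ : ℓ₀ ≫ hΔrep.snd p = c.π.app j :=
    (yon S).map_injective (by rw [Functor.map_comp]; exact hℓ2)
  let D' : Over j ⥤ Scheme.{u} := Over.forget j ⋙ D ⋙ Over.forget S
  let t' : D' ⟶ (Functor.const _).obj (D.obj j).left :=
    { app := fun k => (D.map k.hom).left
      naturality := fun k l φ => by
        change (D.map φ.left).left ≫ (D.map l.hom).left = (D.map k.hom).left ≫ 𝟙 _
        rw [Category.comp_id, ← Over.comp_left, ← D.map_comp, Over.w] }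
  let c' : Cone D' := ((Over.forget S).mapCone c).whisker (Over.forget j)
  have hc' : IsLimit c' :=
    (Functor.Initial.isLimitWhiskerEquiv (Over.forget j) ((Over.forget S).mapCone c)).symm hc
  haveI : ∀ {k l : Over j} (φ : k ⟶ l), IsAffineHom (D'.map φ) := fun φ => haff φ.left
  haveI : ∀ k, CompactSpace (D'.obj k) := fun k => hcomp k.left
  haveI : ∀ k, QuasiSeparatedSpace (D'.obj k) := fun k => hqs k.left
  obtain ⟨k, g, hg1, hg2⟩ := Scheme.exists_π_app_comp_eq_of_locallyOfFinitePresentation D' t'
    (hΔrep.snd p).left c' hc' ℓ₀.left (by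
      ext k
      change (c.π.app k.left).left ≫ (D.map k.hom).left = ℓ₀.left ≫ (hΔrep.snd p).left
      rw [← Over.comp_left, ← Over.comp_left, hℓ₀, Cone.w])
  refine ⟨k.left, k.hom, ?_⟩
  have hgS : g ≫ (hΔrep.pullback p).hom = (D.obj k.left).hom := by
    have := Over.w (hΔrep.snd p)
    rw [← this, ← Category.assoc, hg2]
    exact Over.w (D.map k.hom)
  let g' : D.obj k.left ⟶ hΔrep.pullback p := Over.homMk g hgS
  have hg' : g' ≫ hΔrep.snd p = D.map k.hom := by
    ext
    exact hg2
  have key : (yon S).map (D.map k.hom) ≫ p =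
      ((yon S).map g' ≫ hΔrep.fst p) ≫ pullback.diagonal f := by
    rw [← hg', Functor.map_comp, Category.assoc, Category.assoc, sq.w]
  have e1 := congr($key ≫ pullback.fst f f)
  have e2 := congr($key ≫ pullback.snd f f)
  simp only [Category.assoc, p, pullback.lift_fst, pullback.lift_snd, pullback.diagonal_fst,
    pullback.diagonal_snd, Category.comp_id] at e1 e2
  rw [e1, e2]

end

end Groth.Agent.H50
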