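import Groth.Agent.H51.SpFinite
import Groth.Agent.H51.SpOpen
import Groth.Agent.H49.AlgSpRep
import Mathlib.CategoryTheory.Filtered.Final
import Mathlib.CategoryTheory.Limits.Constructions.Over.Connected
import Mathlib.AlgebraicGeometry.Limits

set_option autoImplicit false
set_option backward.isDefEq.respectTransparency false
set_option linter.style.haveILetI false
universe u
open CategoryTheory CategoryTheory.Limits AlgebraicGeometry Opposite Topology

namespace Groth.Agent.H50

open AlgSp

/-- A small diagram of affine schemes has a limit in schemes. -/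
theorem hasLimit_of_forall_isAffine {J : Type u} [SmallCategory J] (W : J ⥤ Scheme.{u})
    [∀ j, IsAffine (W.obj j)] : HasLimit W := by
  let α : W ⟶ (W ⋙ Scheme.Γ.rightOp) ⋙ Scheme.Spec := W.whiskerLeft ΓSpec.adjunction.unit
  have (i : _) : IsIso (α.app i) := IsAffine.affine
  have : IsIso α := NatIso.isIso_of_isIso_app α
  exact hasLimit_of_iso (asIso α).symm

variable {S : Scheme.{u}}

/-- A small connected diagram of affine schemes over `S` has a limit. -/
theorem hasLimit_over_of_forall_isAffine {J : Type u} [SmallCategory J] [IsConnected J]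
    (W : J ⥤ Over S) (hW : ∀ j, IsAffine (W.obj j).left) : HasLimit W := by
  haveI : ∀ j, IsAffine ((W ⋙ Over.forget S).obj j) := hW
  haveI := hasLimit_of_forall_isAffine (W ⋙ Over.forget S)
  exact hasLimit_of_created W (Over.forget S)

theorem isAffine_limit_over {J : Type u} [SmallCategory J] [IsConnected J]
    (W : J ⥤ Over S) (hW : ∀ j, IsAffine (W.obj j).left) (c : Cone W) (hc : IsLimit c) :
    IsAffine c.pt.left := by
  haveI : ∀ j, IsAffine ((W ⋙ Over.forget S).obj j) := hW
  exact Scheme.isAffine_of_isLimit _ (isLimitOfPreserves (Over.forget S) hc)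

section System

variable {I : Type u} [SmallCategory I] (D : I ⥤ Sp S)
  (hDa : ∀ (i j : I) (φ : i ⟶ j), IsAffineMor (D.map φ)) (i₀ : I) {Z : Over S}
  (hZ : IsAffine Z.left) (g : (yon S).obj Z ⟶ D.obj i₀)

include hDa hZ in
theorem affSys_exists (j : Over i₀) : ∃ (W : Over S) (i : W ⟶ Z) (fst : (yon S).obj W ⟶ D.obj j.left),
    IsPullback fst ((yon S).map i) (D.map j.hom) g ∧ IsAffine W.left :=
  hDa j.left i₀ j.hom hZ g

/-- The chosen affine scheme representing `Z ×_{D i₀} D j`. -/
noncomputable def affSysObj (j : Over i₀) : Over S := (affSys_exists D hDa i₀ hZ g j).choose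

/-- Its structure morphism to `Z`. -/
noncomputable def affSysι (j : Over i₀) : affSysObj D hDa i₀ hZ g j ⟶ Z :=
  (affSys_exists D hDa i₀ hZ g j).choose_spec.choose

/-- Its projection to `D j`. -/
noncomputable def affSysFst (j : Over i₀) :
    (yon S).obj (affSysObj D hDa i₀ hZ g j) ⟶ D.obj j.left :=
  (affSys_exists D hDa i₀ hZ g j).choose_spec.choose_spec.choose

theorem affSys_isPullback (j : Over i₀) :
    IsPullback (affSysFst D hDa i₀ hZ g j) ((yon S).map (affSysι D hDa i₀ hZ g j)) (D.map j.hom) g :=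
  (affSys_exists D hDa i₀ hZ g j).choose_spec.choose_spec.choose_spec.1

theorem affSys_isAffine (j : Over i₀) : IsAffine (affSysObj D hDa i₀ hZ g j).left :=
  (affSys_exists D hDa i₀ hZ g j).choose_spec.choose_spec.choose_spec.2

theorem affSys_comm {j k : Over i₀} (φ : j ⟶ k) :
    (affSysFst D hDa i₀ hZ g j ≫ D.map φ.left) ≫ D.map k.hom =
      (yon S).map (affSysι D hDa i₀ hZ g j) ≫ g := by
  rw [Category.assoc, ← D.map_comp, Over.w φ, (affSys_isPullback D hDa i₀ hZ g j).w]

/-- The transition morphisms. -/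
noncomputable def affSysMap {j k : Over i₀} (φ : j ⟶ k) :
    affSysObj D hDa i₀ hZ g j ⟶ affSysObj D hDa i₀ hZ g k :=
  (yon S).preimage ((affSys_isPullback D hDa i₀ hZ g k).lift
    (affSysFst D hDa i₀ hZ g j ≫ D.map φ.left) ((yon S).map (affSysι D hDa i₀ hZ g j))
    (affSys_comm D hDa i₀ hZ g φ))

theorem affSysMap_fst {j k : Over i₀} (φ : j ⟶ k) :
    (yon S).map (affSysMap D hDa i₀ hZ g φ) ≫ affSysFst D hDa i₀ hZ g k =
      affSysFst D hDa i₀ hZ g j ≫ D.map φ.left := by
  unfold affSysMap
  rw [Functor.map_preimage, IsPullback.lift_fst]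

theorem affSysMap_ι {j k : Over i₀} (φ : j ⟶ k) :
    affSysMap D hDa i₀ hZ g φ ≫ affSysι D hDa i₀ hZ g k = affSysι D hDa i₀ hZ g j := by
  apply (yon S).map_injective
  unfold affSysMap
  rw [Functor.map_comp, Functor.map_preimage, IsPullback.lift_snd]

theorem affSys_hom_ext {T : Over S} {k : Over i₀} (a b : T ⟶ affSysObj D hDa i₀ hZ g k)
    (h1 : (yon S).map a ≫ affSysFst D hDa i₀ hZ g k = (yon S).map b ≫ affSysFst D hDa i₀ hZ g k)
    (h2 : a ≫ affSysι D hDa i₀ hZ g k = b ≫ affSysι D hDa i₀ hZ g k) : a = b := by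
  apply (yon S).map_injective
  apply (affSys_isPullback D hDa i₀ hZ g k).hom_ext h1
  rw [← Functor.map_comp, ← Functor.map_comp, h2]

/-- The system of affine schemes `Z ×_{D i₀} D j`. -/
noncomputable def affSys : Over i₀ ⥤ Over S where
  obj := affSysObj D hDa i₀ hZ g
  map φ := affSysMap D hDa i₀ hZ g φ
  map_id j := by
    apply affSys_hom_ext D hDa i₀ hZ g
    · rw [affSysMap_fst, CategoryTheory.Functor.map_id, Category.id_comp]
      change _ ≫ D.map (𝟙 j.left) = _
      rw [CategoryTheory.Functor.map_id, Category.comp_id]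
    · rw [affSysMap_ι, Category.id_comp]
  map_comp φ ψ := by
    apply affSys_hom_ext D hDa i₀ hZ g
    · rw [affSysMap_fst, Functor.map_comp, Category.assoc, affSysMap_fst, ← Category.assoc,
        affSysMap_fst, Category.assoc, ← D.map_comp]
      rfl
    · rw [affSysMap_ι, Category.assoc, affSysMap_ι, affSysMap_ι]

section Limit

variable [IsCofiltered I] (c : Cone D) (hc : IsLimit c)

theorem affSys_hasLimit : HasLimit (affSys D hDa i₀ hZ g) := by
  haveI : IsConnected (Over i₀) := IsCofiltered.isConnected _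
  exact hasLimit_over_of_forall_isAffine _ (affSys_isAffine D hDa i₀ hZ g)

theorem affSys_isAffine_limit (L : Cone (affSys D hDa i₀ hZ g)) (hL : IsLimit L) :
    IsAffine L.pt.left := by
  haveI : IsConnected (Over i₀) := IsCofiltered.isConnected _
  exact isAffine_limit_over _ (affSys_isAffine D hDa i₀ hZ g) L hL

omit [IsCofiltered I] in
/-- All the structure morphisms from the limit to `Z` agree. -/
theorem affSys_π_ι (L : Cone (affSys D hDa i₀ hZ g)) (j : Over i₀) :
    L.π.app j ≫ affSysι D hDa i₀ hZ g j =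
      L.π.app (Over.mk (𝟙 i₀)) ≫ affSysι D hDa i₀ hZ g (Over.mk (𝟙 i₀)) := by
  let φ : j ⟶ Over.mk (𝟙 i₀) := Over.homMk j.hom (by simp)
  have h1 : L.π.app j ≫ (affSys D hDa i₀ hZ g).map φ = L.π.app (Over.mk (𝟙 i₀)) := L.w φ
  rw [← h1, Category.assoc]
  congr 1
  exact (affSysMap_ι D hDa i₀ hZ g φ).symm

/-- The cone over the restricted diagram with vertex the limit of the affine system. -/
noncomputable def affSysCone (L : Cone (affSys D hDa i₀ hZ g)) : Cone (Over.forget i₀ ⋙ D) where
  pt := (yon S).obj L.pt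
  π :=
    { app := fun j => (yon S).map (L.π.app j) ≫ affSysFst D hDa i₀ hZ g j
      naturality := by
        intro j k φ
        change 𝟙 _ ≫ _ = (_ ≫ _) ≫ D.map φ.left
        rw [Category.id_comp, Category.assoc, ← affSysMap_fst, ← Category.assoc, ← Functor.map_comp]
        congr 2
        exact (L.w φ).symm }

/-- The restriction of the limit cone to the indices over `i₀` is a limit cone. -/
noncomputable def isLimitWhiskerOver (hc : IsLimit c) : IsLimit (c.whisker (Over.forget i₀)) :=
  (Functor.Initial.isLimitWhiskerEquiv (Over.forget i₀) c).symm hc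

/-- The projection from the limit of the affine system to the limit. -/
noncomputable def affSysLimFst (L : Cone (affSys D hDa i₀ hZ g)) : (yon S).obj L.pt ⟶ c.pt :=
  (isLimitWhiskerOver D i₀ c hc).lift (affSysCone D hDa i₀ hZ g L)

theorem affSysLimFst_π (L : Cone (affSys D hDa i₀ hZ g)) (j : Over i₀) :
    affSysLimFst D hDa i₀ hZ g c hc L ≫ c.π.app j.left =
      (yon S).map (L.π.app j) ≫ affSysFst D hDa i₀ hZ g j :=
  (isLimitWhiskerOver D i₀ c hc).fac (affSysCone D hDa i₀ hZ g L) j

/-- The limit of the affine system represents the fibre product of `Z` with the limit. -/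
theorem affSys_isPullback_limit (L : Cone (affSys D hDa i₀ hZ g)) (hL : IsLimit L) :
    IsPullback (affSysLimFst D hDa i₀ hZ g c hc L)
      ((yon S).map (L.π.app (Over.mk (𝟙 i₀)) ≫ affSysι D hDa i₀ hZ g (Over.mk (𝟙 i₀))))
      (c.π.app i₀) g := by
  have hw : affSysLimFst D hDa i₀ hZ g c hc L ≫ c.π.app i₀ =
      (yon S).map (L.π.app (Over.mk (𝟙 i₀)) ≫ affSysι D hDa i₀ hZ g (Over.mk (𝟙 i₀))) ≫ g := by
    have h1 := affSysLimFst_π D hDa i₀ hZ g c hc L (Over.mk (𝟙 i₀))
    have h2 := (affSys_isPullback D hDa i₀ hZ g (Over.mk (𝟙 i₀))).w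
    change _ ≫ D.map (𝟙 i₀) = _ at h2
    rw [CategoryTheory.Functor.map_id, Category.comp_id] at h2
    change _ ≫ c.π.app i₀ = _ at h1
    rw [h1, Functor.map_comp, Category.assoc, h2]
  apply Groth.Agent.H51.isPullback_of_forall_yon hw
  intro T a b hab
  obtain ⟨b, rfl⟩ := (yon S).map_surjective b
  -- the compatible family of lifts
  have hcomm : ∀ j : Over i₀, (a ≫ c.π.app j.left) ≫ D.map j.hom = (yon S).map b ≫ g := by
    intro j
    rw [Category.assoc, c.w, hab]
  let m : ∀ j : Over i₀, T ⟶ affSysObj D hDa i₀ hZ g j := fun j =>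
    (yon S).preimage ((affSys_isPullback D hDa i₀ hZ g j).lift (a ≫ c.π.app j.left)
      ((yon S).map b) (hcomm j))
  have hm1 : ∀ j, (yon S).map (m j) ≫ affSysFst D hDa i₀ hZ g j = a ≫ c.π.app j.left := by
    intro j
    rw [Functor.map_preimage, IsPullback.lift_fst]
  have hm2 : ∀ j, m j ≫ affSysι D hDa i₀ hZ g j = b := by
    intro j
    apply (yon S).map_injective
    rw [Functor.map_comp, Functor.map_preimage, IsPullback.lift_snd]
  let cT : Cone (affSys D hDa i₀ hZ g) :=
    { pt := T
      π :=
        { app := m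
          naturality := by
            intro j k φ
            change 𝟙 _ ≫ m k = m j ≫ affSysMap D hDa i₀ hZ g φ
            rw [Category.id_comp]
            apply affSys_hom_ext D hDa i₀ hZ g
            · rw [hm1, Functor.map_comp, Category.assoc, affSysMap_fst, ← Category.assoc, hm1,
                Category.assoc, c.w]
            · rw [hm2, Category.assoc, affSysMap_ι, hm2] } }
  refine ⟨(yon S).map (hL.lift cT), ⟨?_, ?_⟩, ?_⟩
  · apply (isLimitWhiskerOver D i₀ c hc).hom_ext
    intro j
    change (_ ≫ _) ≫ c.π.app j.left = a ≫ c.π.app j.left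
    rw [Category.assoc, affSysLimFst_π, ← Category.assoc, ← Functor.map_comp, hL.fac]
    exact hm1 j
  · rw [← Functor.map_comp, ← Category.assoc, hL.fac]
    congr 1
    exact hm2 _
  · rintro p ⟨hp1, hp2⟩
    obtain ⟨p, rfl⟩ := (yon S).map_surjective p
    congr 1
    apply hL.uniq cT
    intro j
    apply affSys_hom_ext D hDa i₀ hZ g
    · change _ = (yon S).map (m j) ≫ _
      rw [hm1, Functor.map_comp, Category.assoc, ← affSysLimFst_π D hDa i₀ hZ g c hc L j,
        ← Category.assoc, hp1]
    · change _ = m j ≫ _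
      rw [hm2, Category.assoc, affSys_π_ι]
      apply (yon S).map_injective
      rw [← hp2, Functor.map_comp]

end Limit

section Main

variable [IsCofiltered I] (c : Cone D) (hc : IsLimit c)

include hDa hc in
/-- The projections from a cofiltered limit with affine transition maps are affine. -/
theorem isAffineMor_π_of_isLimit (i₀ : I) : IsAffineMor (c.π.app i₀) := by
  intro Z hZ g
  haveI := affSys_hasLimit D hDa i₀ hZ g
  refine ⟨_, _, _, affSys_isPullback_limit D hDa i₀ hZ g c hc (limit.cone _) (limit.isLimit _),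
    affSys_isAffine_limit D hDa i₀ hZ g _ (limit.isLimit _)⟩

include hDa hc in
/-- A cofiltered limit of algebraic spaces with affine transition maps is an algebraic space. -/
theorem isAlgSpace_of_isLimit (hD : ∀ i, IsAlgSpace (D.obj i)) : IsAlgSpace c.pt := by
  obtain ⟨i₀⟩ := IsCofiltered.nonempty (C := I)
  exact Groth.Agent.H49.isAlgSpace_of_representable_to (c.π.app i₀)
    (Groth.Agent.H51.representable_of_isAffineMor (isAffineMor_π_of_isLimit D hDa c hc i₀)) (hD i₀)

end Main

end System

end Groth.Agent.H50
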