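import Groth.Agent.H24.LimitPreservingLFP3
import Groth.Agent.H50.LocPClass
import Groth.Agent.H50.LimAff
import Groth.Agent.H49.AlgSpRep

set_option autoImplicit false
set_option backward.isDefEq.respectTransparency false
set_option linter.style.haveILetI false
universe u
open CategoryTheory CategoryTheory.Limits AlgebraicGeometry Opposite Topology

namespace Groth.Agent.H50

open AlgSp

/-- Scheme-level criterion (helper24): surjectivity of the colimit comparison for directed limits of
affine schemes implies locally of finite presentation. -/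
theorem lfp_of_forall_exists_factor {X T : Scheme.{u}} (f : X ⟶ T)
    (h : ∀ (J : Type u) [Preorder J] [IsDirected J (· ≤ ·)] [Nonempty J] (D : Jᵒᵖ ⥤ Scheme.{u})
      (t : D ⟶ (Functor.const Jᵒᵖ).obj T) (c : Limits.Cone D) (_ : Limits.IsLimit c),
      (∀ j, IsAffine (D.obj j)) → ∀ (j₀ : Jᵒᵖ) (g : c.pt ⟶ X), g ≫ f = c.π.app j₀ ≫ t.app j₀ →
        ∃ (j : Jᵒᵖ) (gj : D.obj j ⟶ X), gj ≫ f = t.app j ∧ c.π.app j ≫ gj = g) :
    LocallyOfFinitePresentation f := by
  rw [HasRingHomProperty.iff_appLE (P := @LocallyOfFinitePresentation)]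
  intro U V e
  apply Groth.Agent.H24.finitePresentation_of_forall_exists_factor (f.appLE U.1 V.1 e)
  intro J _ _ _ F c hc x
  exact Groth.Agent.H24.exists_factor_of_surj f U.2 V.2 e h F c hc x

variable {S : Scheme.{u}}

section Sys

variable {K : Type u} [SmallCategory K] {V : Over S} (D : K ⥤ Scheme.{u})
  (t : D ⟶ (Functor.const K).obj V.left)

/-- A system of schemes over `V` as a system over `S`. -/
def sysOver : K ⥤ Over S where
  obj j := Over.mk (t.app j ≫ V.hom)
  map {i j} φ := Over.homMk (D.map φ) (by
    have := t.naturality φ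
    simp only [Functor.const_obj_obj, Functor.const_obj_map, Category.comp_id] at this
    change D.map φ ≫ t.app j ≫ V.hom = t.app i ≫ V.hom
    rw [← Category.assoc, this])
  map_id j := by ext; exact D.map_id j
  map_comp f g := by ext; exact D.map_comp f g

/-- The structure maps to `V`. -/
def sysOverStr (j : K) : (sysOver D t).obj j ⟶ V := Over.homMk (t.app j) rfl

theorem sysOver_map_str {i j : K} (φ : i ⟶ j) :
    (sysOver D t).map φ ≫ sysOverStr D t j = sysOverStr D t i := by
  ext
  have := t.naturality φ
  simp only [Functor.const_obj_obj, Functor.const_obj_map, Category.comp_id] at this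
  exact this

variable [IsCofiltered K] (c : Cone D)

theorem sysOver_π_str (i j : K) : c.π.app i ≫ t.app i = c.π.app j ≫ t.app j := by
  have key : ∀ {i j : K} (φ : i ⟶ j), c.π.app i ≫ t.app i = c.π.app j ≫ t.app j := by
    intro i j φ
    have := t.naturality φ
    simp only [Functor.const_obj_obj, Functor.const_obj_map, Category.comp_id] at this
    rw [← this, ← Category.assoc, c.w]
  rw [← key (IsCofiltered.minToLeft i j), key (IsCofiltered.minToRight i j)]

/-- The cone over `S`. -/
def sysOverCone (j₀ : K) : Cone (sysOver D t) where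
  pt := Over.mk (c.π.app j₀ ≫ t.app j₀ ≫ V.hom)
  π :=
    { app := fun j => Over.homMk (c.π.app j) (by
        change c.π.app j ≫ t.app j ≫ V.hom = c.π.app j₀ ≫ t.app j₀ ≫ V.hom
        rw [← Category.assoc, sysOver_π_str D t c j j₀, Category.assoc])
      naturality := fun i j φ => by
        ext
        change 𝟙 _ ≫ c.π.app j = c.π.app i ≫ D.map φ
        rw [Category.id_comp, c.w] }

end Sys

end Groth.Agent.H50

namespace Groth.Agent.H50

open AlgSp

variable {S : Scheme.{u}}

/-- A morphism of algebraic spaces is locally of finite presentation as soon as the colimit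
comparison map for directed limits of affine schemes is surjective. -/
theorem locP_lfp_of_surjective_colimit_comparison {X Y : Sp S} (hX : IsAlgSpace X)
    (hY : IsAlgSpace Y) (f : X ⟶ Y)
    (h : ∀ ⦃I : Type u⦄ [SmallCategory I] [IsCofiltered I] (D : I ⥤ Over S) (c : Cone D),
      IsLimit ((Over.forget S).mapCone c) → (∀ i, IsAffine (D.obj i).left) → IsAffine c.pt.left →
      ∀ (x : (yon S).obj c.pt ⟶ X) (i : I) (y : (yon S).obj (D.obj i) ⟶ Y),
        x ≫ f = (yon S).map (c.π.app i) ≫ y →
        ∃ (i' : I) (φ : i' ⟶ i) (x' : (yon S).obj (D.obj i') ⟶ X),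
          (yon S).map (c.π.app i') ≫ x' = x ∧ x' ≫ f = (yon S).map (D.map φ) ≫ y) :
    LocP @LocallyOfFinitePresentation f := by
  obtain ⟨V, b, hb, hbs⟩ := hY.atlas
  have sqV : IsPullback (pullback.fst f b) (pullback.snd f b) f b := IsPullback.of_hasPullback f b
  have hXV : IsAlgSpace (pullback f b) :=
    Groth.Agent.H49.isAlgSpace_of_isPullback sqV hY.diag hX (IsAlgSpace.yon_obj V)
  obtain ⟨U, a', ha', ha's⟩ := hXV.atlas
  obtain ⟨hh, hhe⟩ := (yon S).map_surjective (a' ≫ pullback.snd f b)
  have hpr : RepWith @Etale (pullback.fst f b) := MorphismProperty.of_isPullback sqV.flip hb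
  have hprs : RepWith @Surjective (pullback.fst f b) :=
    MorphismProperty.of_isPullback sqV.flip hbs
  refine goodClass_lfp.locP_of_one_chart f (a' ≫ pullback.fst f b) b hh
    ((RepWith @Etale).comp_mem _ _ ha' hpr) ((RepWith @Surjective).comp_mem _ _ ha's hprs) hb ?_ ?_
  · rw [Category.assoc, sqV.w, ← Category.assoc, hhe]
  · apply lfp_of_forall_exists_factor
    intro J _ _ _ D t c hc haff j₀ g hg
    let D' := sysOver (V := V) D t
    let c' := sysOverCone D t c j₀
    have hc' : IsLimit ((Over.forget S).mapCone c') := hc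
    have haff' : ∀ j, IsAffine (D'.obj j).left := haff
    have hptaff : IsAffine c'.pt.left := Scheme.isAffine_of_isLimit c hc
    let τ := sysOverStr (V := V) D t
    have hgU : g ≫ U.hom = c'.pt.hom := by
      have := Over.w hh
      rw [← this, ← Category.assoc, hg, Category.assoc]
      rfl
    let g' : c'.pt ⟶ U := Over.homMk g hgU
    have hg'h : g' ≫ hh = c'.π.app j₀ ≫ τ j₀ := by
      ext
      exact hg
    let x : (yon S).obj c'.pt ⟶ X := (yon S).map g' ≫ a' ≫ pullback.fst f b
    let y : (yon S).obj (D'.obj j₀) ⟶ Y := (yon S).map (τ j₀) ≫ b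
    have hxy : x ≫ f = (yon S).map (c'.π.app j₀) ≫ y := by
      simp only [x, y, Category.assoc]
      rw [sqV.w, ← Category.assoc a', ← hhe, ← Category.assoc, ← Functor.map_comp, hg'h,
        Functor.map_comp, Category.assoc]
    obtain ⟨i', φ, x', hx'1, hx'2⟩ := h D' c' hc' haff' hptaff x j₀ y hxy
    have hx'2' : x' ≫ f = (yon S).map (τ i') ≫ b := by
      rw [hx'2]
      simp only [y]
      rw [← Category.assoc, ← Functor.map_comp, sysOver_map_str]
    let x'V : (yon S).obj (D'.obj i') ⟶ pullback f b :=
      pullback.lift x' ((yon S).map (τ i')) hx'2'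
    have hx'V1 : x'V ≫ pullback.fst f b = x' := pullback.lift_fst _ _ _
    have hx'V2 : x'V ≫ pullback.snd f b = (yon S).map (τ i') := pullback.lift_snd _ _ _
    have hπτ : c'.π.app i' ≫ τ i' = c'.π.app j₀ ≫ τ j₀ := by
      ext
      exact sysOver_π_str D t c i' j₀
    have hπx'V : (yon S).map (c'.π.app i') ≫ x'V = (yon S).map g' ≫ a' := by
      apply pullback.hom_ext
      · rw [Category.assoc, hx'V1, hx'1, Category.assoc]
      · rw [Category.assoc, hx'V2, Category.assoc, ← hhe, ← Functor.map_comp, ← Functor.map_comp,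
          hg'h, hπτ]
    -- the pullback of the atlas
    let P := ha'.rep.pullback x'V
    let sndP : P ⟶ D'.obj i' := ha'.rep.snd x'V
    let fstP : P ⟶ U := ha'.rep.fst' x'V
    have sqP : IsPullback ((yon S).map fstP) ((yon S).map sndP) a' x'V :=
      ha'.rep.isPullback' x'V
    haveI hsndE : Etale sndP.left := ha'.property_snd x'V
    obtain ⟨σ₀, hσ₀⟩ := (yon S).map_surjective
      (sqP.lift ((yon S).map g') ((yon S).map (c'.π.app i')) hπx'V.symm)
    have hσ1 : σ₀ ≫ fstP = g' := (yon S).map_injective (by
      rw [Functor.map_comp, hσ₀, sqP.lift_fst])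
    have hσ2 : σ₀ ≫ sndP = c'.π.app i' := (yon S).map_injective (by
      rw [Functor.map_comp, hσ₀, sqP.lift_snd])
    have hfh : fstP ≫ hh = sndP ≫ τ i' := (yon S).map_injective (by
      rw [Functor.map_comp, Functor.map_comp, hhe, ← Category.assoc, sqP.w, Category.assoc,
        hx'V2])
    -- factor through a stage
    let D'' : Over i' ⥤ Scheme.{u} := Over.forget i' ⋙ D
    let t'' : D'' ⟶ (Functor.const (Over i')).obj (D.obj i') :=
      { app := fun k => D.map k.hom
        naturality := fun k l ψ => by
          change D.map ψ.left ≫ D.map l.hom = D.map k.hom ≫ 𝟙 _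
          rw [Category.comp_id, ← D.map_comp, Over.w] }
    have hc'' : IsLimit (c.whisker (Over.forget i')) :=
      (Functor.Initial.isLimitWhiskerEquiv (Over.forget i') c).symm hc
    haveI : ∀ k, IsAffine (D''.obj k) := fun k => haff k.left
    haveI : ∀ {k l : Over i'} (ψ : k ⟶ l), IsAffineHom (D''.map ψ) :=
      fun ψ => isAffineHom_of_isAffine _
    haveI : LocallyOfFinitePresentation sndP.left := inferInstance
    obtain ⟨k, gk, hgk1, hgk2⟩ := Scheme.exists_π_app_comp_eq_of_locallyOfFinitePresentation
      D'' t'' sndP.left (c.whisker (Over.forget i')) hc'' σ₀.left (by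
        ext k
        change c.π.app k.left ≫ D.map k.hom = σ₀.left ≫ sndP.left
        rw [c.w, ← Over.comp_left, hσ2]
        rfl)
    refine ⟨k.left, gk ≫ fstP.left, ?_, ?_⟩
    · rw [Category.assoc, ← Over.comp_left, hfh, Over.comp_left, ← Category.assoc, hgk2]
      change D.map k.hom ≫ t.app i' = t.app k.left
      have := t.naturality k.hom
      simp only [Functor.const_obj_obj, Functor.const_obj_map, Category.comp_id] at this
      exact this
    · rw [← Category.assoc]
      change ((c.whisker (Over.forget i')).π.app k ≫ gk) ≫ fstP.left = g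
      rw [hgk1, ← Over.comp_left, hσ1]
      rfl

end Groth.Agent.H50
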