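import Groth.Agent.H50.LPSurj
import Groth.Agent.H50.LfpSurj
import Groth.Agent.H50.RelLim2
import Groth.Agent.H50.Quot

set_option autoImplicit false
set_option backward.isDefEq.respectTransparency false
set_option linter.style.haveILetI false
set_option linter.unusedSectionVars false
universe u
open CategoryTheory CategoryTheory.Limits AlgebraicGeometry Opposite Topology

namespace Groth.Agent.H50

open AlgSp

variable {S : Scheme.{u}}

section

variable {I : Type u} [SmallCategory I] [IsCofiltered I] (D : I ⥤ Over S) (c : Cone D)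

/-- The surjectivity half of `RelColimElt`, in terms of generalized elements. -/
def YonSurj {X Y : Sp S} (f : X ⟶ Y) : Prop :=
  ∀ (i : I) (y : (yon S).obj (D.obj i) ⟶ Y) (x : (yon S).obj c.pt ⟶ X),
    x ≫ f = (yon S).map (c.π.app i) ≫ y →
    ∃ (j : I) (φ : j ⟶ i) (xj : (yon S).obj (D.obj j) ⟶ X),
      xj ≫ f = (yon S).map (D.map φ) ≫ y ∧ (yon S).map (c.π.app j) ≫ xj = x

/-- The injectivity half of `RelColimElt`, in terms of generalized elements. -/
def YonInj {X Y : Sp S} (f : X ⟶ Y) : Prop :=
  ∀ (i : I) (x x' : (yon S).obj (D.obj i) ⟶ X), x ≫ f = x' ≫ f →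
    (yon S).map (c.π.app i) ≫ x = (yon S).map (c.π.app i) ≫ x' →
    ∃ (j : I) (φ : j ⟶ i), (yon S).map (D.map φ) ≫ x = (yon S).map (D.map φ) ≫ x'

theorem yonSurj_of_relColimElt {X Y : Sp S} (f : X ⟶ Y) (h : RelColimElt D c f.hom) :
    YonSurj D c f := by
  intro i y x hxy
  obtain ⟨j, φ, xj, h1, h2⟩ := h.surj i ((J S).uliftYonedaEquiv y) ((J S).uliftYonedaEquiv x) (by
    rw [← GrothendieckTopology.uliftYonedaEquiv_comp, hxy, yonedaEquiv_map_comp]
    rfl)
  refine ⟨j, φ, (J S).uliftYonedaEquiv.symm xj, ?_, ?_⟩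
  · apply (J S).uliftYonedaEquiv.injective
    rw [GrothendieckTopology.uliftYonedaEquiv_comp, Equiv.apply_symm_apply, yonedaEquiv_map_comp]
    exact h1
  · apply (J S).uliftYonedaEquiv.injective
    rw [yonedaEquiv_map_comp, Equiv.apply_symm_apply]
    exact h2

theorem relColimElt_of_yon {X Y : Sp S} (f : X ⟶ Y) (hs : YonSurj D c f) (hi : YonInj D c f) :
    RelColimElt D c f.hom := by
  constructor
  · intro i y x hxy
    obtain ⟨j, φ, xj, h1, h2⟩ := hs i ((J S).uliftYonedaEquiv.symm y)
      ((J S).uliftYonedaEquiv.symm x) (by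
        apply (J S).uliftYonedaEquiv.injective
        rw [GrothendieckTopology.uliftYonedaEquiv_comp, Equiv.apply_symm_apply,
          yonedaEquiv_map_comp, Equiv.apply_symm_apply]
        exact hxy)
    refine ⟨j, φ, (J S).uliftYonedaEquiv xj, ?_, ?_⟩
    · rw [← GrothendieckTopology.uliftYonedaEquiv_comp, h1, yonedaEquiv_map_comp,
        Equiv.apply_symm_apply]
    · rw [← yonedaEquiv_map_comp, h2]
      exact Equiv.apply_symm_apply _ _
  · intro i x x' hxx' hc'
    obtain ⟨j, φ, h1⟩ := hi i ((J S).uliftYonedaEquiv.symm x) ((J S).uliftYonedaEquiv.symm x') (by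
        apply (J S).uliftYonedaEquiv.injective
        rw [GrothendieckTopology.uliftYonedaEquiv_comp, Equiv.apply_symm_apply,
          GrothendieckTopology.uliftYonedaEquiv_comp, Equiv.apply_symm_apply]
        exact hxx') (by
        apply (J S).uliftYonedaEquiv.injective
        rw [yonedaEquiv_map_comp, Equiv.apply_symm_apply, yonedaEquiv_map_comp,
          Equiv.apply_symm_apply]
        exact hc')
    refine ⟨j, φ, ?_⟩
    have := congr((J S).uliftYonedaEquiv $h1)
    rw [yonedaEquiv_map_comp, Equiv.apply_symm_apply, yonedaEquiv_map_comp,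
      Equiv.apply_symm_apply] at this
    exact this

/-- A morphism of algebraic spaces locally of finite presentation is limit preserving (elementwise
form). -/
theorem relColimElt_of_locP_lfp {X Y : Sp S} (hX : IsAlgSpace X) (hY : IsAlgSpace Y) (f : X ⟶ Y)
    (hf : LocP @LocallyOfFinitePresentation f)
    (hc : IsLimit ((Over.forget S).mapCone c)) (hD : ∀ i, IsAffine (D.obj i).left)
    (hT : IsAffine c.pt.left) : RelColimElt D c f.hom := by
  have hcomp : ∀ i, CompactSpace (D.obj i).left := fun i => by have := hD i; infer_instance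
  have hqs : ∀ i, QuasiSeparatedSpace (D.obj i).left := fun i => by have := hD i; infer_instance
  have haff : ∀ {i j : I} (φ : i ⟶ j), IsAffineHom (D.map φ).left := fun {i j} φ => by
    have := hD i; have := hD j; infer_instance
  apply relColimElt_of_yon
  · intro i y x hxy
    have sqZ := IsPullback.of_hasPullback f y
    have hZ : IsAlgSpace (pullback f y) :=
      Groth.Agent.H49.isAlgSpace_of_isPullback sqZ hY.diag hX (IsAlgSpace.yon_obj _)
    have hq : LocP @LocallyOfFinitePresentation (pullback.snd f y) :=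
      goodClass_lfp.locP_of_isPullback hX hY (IsAlgSpace.yon_obj _) f y _ _ sqZ hf
    let ξ : (yon S).obj c.pt ⟶ pullback f y := pullback.lift x ((yon S).map (c.π.app i)) hxy
    obtain ⟨j, ζ, h1, h2⟩ := lp_surj (resSys D i) (resCone D c i) (resStr D i)
      (resConeIsLimit D c i hc) (fun l => hD l.left) hT hZ (pullback.snd f y) hq (Over.mk (𝟙 i)) ξ
      (by
        simp only [ξ]
        rw [pullback.lift_snd]
        congr 1
        change _ = c.π.app i ≫ D.map (𝟙 i)
        rw [D.map_id, Category.comp_id])
    refine ⟨j.left, j.hom, ζ ≫ pullback.fst f y, ?_, ?_⟩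
    · rw [Category.assoc, pullback.condition, ← Category.assoc, h1]
      rfl
    · rw [← Category.assoc]
      have : (yon S).map (c.π.app j.left) ≫ ζ = ξ := h2
      rw [this]
      exact pullback.lift_fst _ _ _
  · intro i x x' h1 h2
    exact lp_inj D c hX hY f (locP_lft_of_lfp f hf) hc hcomp hqs haff i x x' h1 h2

end

/-- A morphism of algebraic spaces is locally of finite presentation iff it is limit preserving. -/
theorem locP_lfp_iff_isRelLimitPreserving {X Y : Sp S} (hX : IsAlgSpace X) (hY : IsAlgSpace Y)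
    (f : X ⟶ Y) : LocP @LocallyOfFinitePresentation f ↔ IsRelLimitPreserving f.hom := by
  rw [isRelLimitPreserving_iff_relColimElt]
  constructor
  · intro hf I _ _ D c hc hD hT
    exact relColimElt_of_locP_lfp D c hX hY f hf hc hD hT
  · intro h
    apply locP_lfp_of_surjective_colimit_comparison hX hY f
    intro I _ _ D c hc hD hT x i y hxy
    obtain ⟨j, φ, xj, h1, h2⟩ := yonSurj_of_relColimElt D c f (h D c hc hD hT) i y x hxy
    exact ⟨j, φ, xj, h2, h1⟩

end Groth.Agent.H50
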