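import Groth.Agent.H50.LPSteps
import Groth.Agent.H50.LPGlue
import Groth.Agent.H50.LPMain

set_option autoImplicit false
set_option backward.isDefEq.respectTransparency false
set_option linter.style.haveILetI false
set_option linter.unusedSectionVars false
universe u
open CategoryTheory CategoryTheory.Limits AlgebraicGeometry Opposite Topology

namespace Groth.Agent.H50

open AlgSp

variable {S : Scheme.{u}}

section Cover

variable {K : Type u} [SmallCategory K] (D : K ⥤ Over S) (c : Cone D) (k : K)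

theorem nestSnd_sq {A : Over S} (a : A ⟶ D.obj k) (l : Over k) :
    IsPullback (nestFst D k a l).left (nestSnd D k a l).left a.left (D.map l.hom).left :=
  (IsPullback.of_hasPullback a (D.map l.hom)).map (Over.forget S)

theorem nestPtSnd_sq {A : Over S} (a : A ⟶ D.obj k) :
    IsPullback (nestPtFst D c k a).left (nestPtSnd D c k a).left a.left (c.π.app k).left :=
  (IsPullback.of_hasPullback a (c.π.app k)).map (Over.forget S)

theorem nestSnd_flat_lfp {A : Over S} (a : A ⟶ D.obj k)
    (ha : Flat a.left ∧ LocallyOfFinitePresentation a.left) (l : Over k) :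
    Flat (nestSnd D k a l).left ∧ LocallyOfFinitePresentation (nestSnd D k a l).left :=
  ⟨MorphismProperty.of_isPullback (P := @Flat) (nestSnd_sq D k a l) ha.1,
    MorphismProperty.of_isPullback (P := @LocallyOfFinitePresentation) (nestSnd_sq D k a l) ha.2⟩

theorem nestPtSnd_flat_lfp {A : Over S} (a : A ⟶ D.obj k)
    (ha : Flat a.left ∧ LocallyOfFinitePresentation a.left) :
    Flat (nestPtSnd D c k a).left ∧ LocallyOfFinitePresentation (nestPtSnd D c k a).left :=
  ⟨MorphismProperty.of_isPullback (P := @Flat) (nestPtSnd_sq D c k a) ha.1,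
    MorphismProperty.of_isPullback (P := @LocallyOfFinitePresentation) (nestPtSnd_sq D c k a) ha.2⟩

theorem nestSnd_jointly_surjective {σ : Type*} (A : σ → Over S) (a : ∀ β, A β ⟶ D.obj k)
    (hsurj : ∀ t : ↥(D.obj k).left, ∃ β, t ∈ Set.range (a β).left) (l : Over k)
    (t : ↥(D.obj l.left).left) : ∃ β, t ∈ Set.range (nestSnd D k (a β) l).left := by
  obtain ⟨β, z, hz⟩ := hsurj ((D.map l.hom).left t)
  obtain ⟨p, -, hp⟩ := Scheme.exists_preimage_of_isPullback (nestSnd_sq D k (a β) l) z t hz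
  exact ⟨β, p, hp⟩

theorem nestPtSnd_jointly_surjective {σ : Type*} (A : σ → Over S) (a : ∀ β, A β ⟶ D.obj k)
    (hsurj : ∀ t : ↥(D.obj k).left, ∃ β, t ∈ Set.range (a β).left)
    (t : ↥c.pt.left) : ∃ β, t ∈ Set.range (nestPtSnd D c k (a β)).left := by
  obtain ⟨β, z, hz⟩ := hsurj ((c.π.app k).left t)
  obtain ⟨p, -, hp⟩ := Scheme.exists_preimage_of_isPullback (nestPtSnd_sq D c k (a β)) z t hz
  exact ⟨β, p, hp⟩

theorem nest_isAffine {A : Over S} (a : A ⟶ D.obj k) (hA : IsAffine A.left)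
    (hD : ∀ i, IsAffine (D.obj i).left) (l : Over k) : IsAffine ((nest D k a).obj l).left := by
  have := hD k
  have := hD l.left
  have : IsAffineHom a.left := inferInstance
  have : IsAffineHom (nestSnd D k a l).left :=
    MorphismProperty.of_isPullback (P := @IsAffineHom) (nestSnd_sq D k a l) this
  exact isAffine_of_isAffineHom (nestSnd D k a l).left

theorem nestPt_isAffine {A : Over S} (a : A ⟶ D.obj k) (hA : IsAffine A.left)
    (hD : ∀ i, IsAffine (D.obj i).left) (hT : IsAffine c.pt.left) :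
    IsAffine (nestCone D c k a).pt.left := by
  have := hD k
  have : IsAffineHom a.left := inferInstance
  have : IsAffineHom (nestPtSnd D c k a).left :=
    MorphismProperty.of_isPullback (P := @IsAffineHom) (nestPtSnd_sq D c k a) this
  exact isAffine_of_isAffineHom (nestPtSnd D c k a).left

end Cover

section Ev

variable {K : Type u} [SmallCategory K] [IsCofiltered K] (D : K ⥤ Over S) (c : Cone D)

/-- Two sections over a stage become equal over a later stage. -/
def EvEq {G : Sp S} (i : K) (z z' : (yon S).obj (D.obj i) ⟶ G) : Prop :=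
  ∃ (j : K) (φ : j ⟶ i), (yon S).map (D.map φ) ≫ z = (yon S).map (D.map φ) ≫ z'

/-- A section over the limit lifts to a later stage, compatibly with `y`. -/
def EvLift {G₁ G₂ : Sp S} (α : G₁ ⟶ G₂) (i : K) (y : (yon S).obj (D.obj i) ⟶ G₂)
    (x : (yon S).obj c.pt ⟶ G₁) : Prop :=
  ∃ (j : K) (φ : j ⟶ i) (xj : (yon S).obj (D.obj j) ⟶ G₁),
    xj ≫ α = (yon S).map (D.map φ) ≫ y ∧ (yon S).map (c.π.app j) ≫ xj = x

theorem EvEq.of_later {G : Sp S} {i i' : K} (ψ : i' ⟶ i) (z z' : (yon S).obj (D.obj i) ⟶ G)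
    (h : EvEq D i' ((yon S).map (D.map ψ) ≫ z) ((yon S).map (D.map ψ) ≫ z')) : EvEq D i z z' := by
  obtain ⟨j, φ, hj⟩ := h
  refine ⟨j, φ ≫ ψ, ?_⟩
  rw [D.map_comp, Functor.map_comp, Category.assoc, Category.assoc]
  exact hj

theorem EvLift.of_later {G₁ G₂ : Sp S} (α : G₁ ⟶ G₂) {i i' : K} (ψ : i' ⟶ i)
    (y : (yon S).obj (D.obj i) ⟶ G₂) (x : (yon S).obj c.pt ⟶ G₁)
    (h : EvLift D c α i' ((yon S).map (D.map ψ) ≫ y) x) : EvLift D c α i y x := by
  obtain ⟨j, φ, xj, h1, h2⟩ := h
  refine ⟨j, φ ≫ ψ, xj, ?_, h2⟩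
  rw [h1, D.map_comp, Functor.map_comp, Category.assoc]

/-- Eventual equality can be checked on a finite fppf covering of a stage. -/
theorem evEq_of_cover {G : Sp S} (i : K) (z z' : (yon S).obj (D.obj i) ⟶ G)
    {σ : Type*} [Finite σ] (B : σ → Over S) (b : ∀ β, B β ⟶ D.obj i)
    (hP : ∀ β, Flat (b β).left ∧ LocallyOfFinitePresentation (b β).left)
    (hsurj : ∀ t : ↥(D.obj i).left, ∃ β, t ∈ Set.range (b β).left)
    (h : ∀ β, EvEq (nest D i (b β)) (Over.mk (𝟙 i))
      ((yon S).map (nestFst D i (b β) (Over.mk (𝟙 i)) ≫ b β) ≫ z)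
      ((yon S).map (nestFst D i (b β) (Over.mk (𝟙 i)) ≫ b β) ≫ z')) :
    EvEq D i z z' := by
  choose l₁ φ₁ h₁ using h
  obtain ⟨l, hl⟩ := exists_common_lower l₁
  have key : ∀ β, (yon S).map (nestFst D i (b β) l ≫ b β) ≫ z =
      (yon S).map (nestFst D i (b β) l ≫ b β) ≫ z' := by
    intro β
    let lam : l ⟶ l₁ β := (hl β).some
    have e : ∀ w : (yon S).obj (D.obj i) ⟶ G,
        (yon S).map ((nest D i (b β)).map (lam ≫ φ₁ β)) ≫
          (yon S).map (nestFst D i (b β) (Over.mk (𝟙 i)) ≫ b β) ≫ w =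
        (yon S).map (nestFst D i (b β) l ≫ b β) ≫ w := by
      intro w
      rw [← Category.assoc, ← Functor.map_comp, nest_map_fst_assoc]
    rw [← e z, ← e z', Functor.map_comp, Functor.map_comp, Category.assoc, Category.assoc, h₁ β]
  refine ⟨l.left, l.hom, ?_⟩
  apply hom_ext_of_cover (fun β => (nest D i (b β)).obj l) (fun β => nestSnd D i (b β) l)
    (fun β => nestSnd_flat_lfp D i (b β) (hP β) l) (nestSnd_jointly_surjective D i B b hsurj l)
  intro β
  rw [← Category.assoc, ← Functor.map_comp, ← Category.assoc, ← Functor.map_comp,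
    ← nest_condition D i (b β) l]
  exact key β

end Ev

end Groth.Agent.H50
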