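import Groth.Agent.H50.PbOver
import Groth.Prelude.Def_AlgSpRep

set_option autoImplicit false
set_option backward.isDefEq.respectTransparency false
set_option linter.style.haveILetI false
universe u
open CategoryTheory CategoryTheory.Limits AlgebraicGeometry Opposite Topology

namespace Groth.Agent.H50

open AlgSp

section Generic

variable {C : Type*} [Category C] [HasPullbacks C] {I : Type*} [Category I] (D : I ⥤ C) {Y : C}
  (t : D ⟶ (Functor.const I).obj Y) {A : C} (a : A ⟶ Y)
  (c : Cone D) (g : c.pt ⟶ Y) (hg : ∀ i, c.π.app i ≫ t.app i = g)

/-- The projections of the base-changed cone are base changes of the original ones. -/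
theorem isPullback_pbOverCone_π (i : I) :
    IsPullback ((pbOverCone D t a c g hg).π.app i) (pullback.snd a g) (pullback.snd a (t.app i))
      (c.π.app i) := by
  refine IsPullback.of_right ?_ (pbOverCone_π_snd D t a c g hg i)
    (IsPullback.of_hasPullback a (t.app i))
  rw [pbOverCone_π_fst, hg]
  exact IsPullback.of_hasPullback a g

end Generic

variable {S : Scheme.{u}}

section Res

variable {K : Type u} [SmallCategory K] (D : K ⥤ Over S) (c : Cone D) (k : K)

/-- The system restricted to the indices over `k`. -/
def resSys : Over k ⥤ Over S := Over.forget k ⋙ D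

/-- Its structure map to `D.obj k`. -/
def resStr : resSys D k ⟶ (Functor.const (Over k)).obj (D.obj k) where
  app l := D.map l.hom
  naturality l l' φ := by
    change D.map φ.left ≫ D.map l'.hom = D.map l.hom ≫ 𝟙 _
    rw [Category.comp_id, ← D.map_comp, Over.w]

/-- The restricted cone. -/
def resCone : Cone (resSys D k) := c.whisker (Over.forget k)

theorem resCone_w (l : Over k) : (resCone D c k).π.app l ≫ (resStr D k).app l = c.π.app k :=
  c.w l.hom

noncomputable def resConeIsLimit [IsCofiltered K] (hc : IsLimit ((Over.forget S).mapCone c)) :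
    IsLimit ((Over.forget S).mapCone (resCone D c k)) :=
  (Functor.Initial.isLimitWhiskerEquiv (Over.forget k) ((Over.forget S).mapCone c)).symm hc

variable {A : Over S} (a : A ⟶ D.obj k)

/-- The base change of the restricted system along `a : A ⟶ D.obj k`. -/
noncomputable def nest : Over k ⥤ Over S := pbOver (resSys D k) (resStr D k) a

/-- The base-changed cone, with point `A ×_{D_k} c.pt`. -/
noncomputable def nestCone : Cone (nest D k a) :=
  pbOverCone (resSys D k) (resStr D k) a (resCone D c k) (c.π.app k) (resCone_w D c k)

/-- projection to `A` -/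
noncomputable abbrev nestFst (l : Over k) : (nest D k a).obj l ⟶ A := pullback.fst a (D.map l.hom)

/-- projection to `D_l` -/
noncomputable abbrev nestSnd (l : Over k) : (nest D k a).obj l ⟶ D.obj l.left :=
  pullback.snd a (D.map l.hom)

/-- projection of the limit to `A` -/
noncomputable abbrev nestPtFst : (nestCone D c k a).pt ⟶ A := pullback.fst a (c.π.app k)

/-- projection of the limit to `c.pt` -/
noncomputable abbrev nestPtSnd : (nestCone D c k a).pt ⟶ c.pt := pullback.snd a (c.π.app k)

theorem nest_condition (l : Over k) : nestFst D k a l ≫ a = nestSnd D k a l ≫ D.map l.hom :=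
  pullback.condition

theorem nestPt_condition : nestPtFst D c k a ≫ a = nestPtSnd D c k a ≫ c.π.app k :=
  pullback.condition

@[reassoc]
theorem nest_map_fst {l l' : Over k} (φ : l ⟶ l') :
    (nest D k a).map φ ≫ nestFst D k a l' = nestFst D k a l :=
  pbOver_map_fst (resSys D k) (resStr D k) a φ

@[reassoc]
theorem nest_map_snd {l l' : Over k} (φ : l ⟶ l') :
    (nest D k a).map φ ≫ nestSnd D k a l' = nestSnd D k a l ≫ D.map φ.left :=
  pbOver_map_snd (resSys D k) (resStr D k) a φ

@[reassoc]
theorem nestCone_π_fst (l : Over k) :
    (nestCone D c k a).π.app l ≫ nestFst D k a l = nestPtFst D c k a :=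
  pbOverCone_π_fst (resSys D k) (resStr D k) a (resCone D c k) (c.π.app k) (resCone_w D c k) l

@[reassoc]
theorem nestCone_π_snd (l : Over k) :
    (nestCone D c k a).π.app l ≫ nestSnd D k a l = nestPtSnd D c k a ≫ c.π.app l.left :=
  pbOverCone_π_snd (resSys D k) (resStr D k) a (resCone D c k) (c.π.app k) (resCone_w D c k) l

theorem isPullback_nest_map {l l' : Over k} (φ : l ⟶ l') :
    IsPullback ((nest D k a).map φ) (nestSnd D k a l) (nestSnd D k a l') (D.map φ.left) :=
  isPullback_pbOver_map (resSys D k) (resStr D k) a φ

theorem isPullback_nestCone_π (l : Over k) :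
    IsPullback ((nestCone D c k a).π.app l) (nestPtSnd D c k a) (nestSnd D k a l)
      (c.π.app l.left) :=
  isPullback_pbOverCone_π (resSys D k) (resStr D k) a (resCone D c k) (c.π.app k)
    (resCone_w D c k) l

attribute [local instance] CategoryTheory.isConnected_of_hasTerminal in
/-- The base-changed cone is a limit cone of schemes. -/
noncomputable def nestConeIsLimit [IsCofiltered K] (hc : IsLimit ((Over.forget S).mapCone c)) :
    IsLimit ((Over.forget S).mapCone (nestCone D c k a)) := by
  refine isLimitOfIsPullbackOfIsConnected
    (F := nest D k a ⋙ Over.forget S) (G := resSys D k ⋙ Over.forget S)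
    { app := fun l => (nestSnd D k a l).left
      naturality := fun l l' φ => by
        change ((nest D k a).map φ).left ≫ (nestSnd D k a l').left =
          (nestSnd D k a l).left ≫ (D.map φ.left).left
        rw [← Over.comp_left, ← Over.comp_left, nest_map_snd] }
    ((Over.forget S).mapCone (nestCone D c k a)) ((Over.forget S).mapCone (resCone D c k))
    { hom := (nestPtSnd D c k a).left
      w := fun l => by
        change (nestPtSnd D c k a).left ≫ (c.π.app l.left).left =
          ((nestCone D c k a).π.app l).left ≫ (nestSnd D k a l).left
        rw [← Over.comp_left, ← Over.comp_left, nestCone_π_snd] }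
    (fun l => (isPullback_nestCone_π D c k a l).map (Over.forget S))
    (resConeIsLimit D c k hc)

theorem nest_affineHom (haff : ∀ {i j : K} (φ : i ⟶ j), IsAffineHom (D.map φ).left)
    {l l' : Over k} (φ : l ⟶ l') : IsAffineHom ((nest D k a).map φ).left :=
  MorphismProperty.of_isPullback (P := @IsAffineHom)
    ((isPullback_nest_map D k a φ).map (Over.forget S)).flip (haff φ.left)

theorem nest_compactSpace (ha : QuasiCompact a.left) (hcomp : ∀ i, CompactSpace (D.obj i).left)
    (l : Over k) : CompactSpace ((nest D k a).obj l).left := by
  have sq := (IsPullback.of_hasPullback a (D.map l.hom)).map (Over.forget S)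
  have : QuasiCompact (nestSnd D k a l).left :=
    MorphismProperty.of_isPullback (P := @QuasiCompact) sq ha
  have := hcomp l.left
  exact QuasiCompact.compactSpace_of_compactSpace (nestSnd D k a l).left

theorem nest_quasiSeparatedSpace (ha : QuasiSeparated a.left)
    (hqs : ∀ i, QuasiSeparatedSpace (D.obj i).left)
    (l : Over k) : QuasiSeparatedSpace ((nest D k a).obj l).left := by
  have sq := (IsPullback.of_hasPullback a (D.map l.hom)).map (Over.forget S)
  have : QuasiSeparated (nestSnd D k a l).left :=
    MorphismProperty.of_isPullback (P := @QuasiSeparated) sq ha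
  have := hqs l.left
  exact quasiSeparatedSpace_of_quasiSeparated (nestSnd D k a l).left

end Res

end Groth.Agent.H50
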