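import Groth.Agent.H50.LPFinAff
import Groth.Agent.H50.Quot
import Mathlib.CategoryTheory.Sites.LocallySurjective
import Mathlib.CategoryTheory.Sites.LocallyInjective

set_option autoImplicit false
set_option backward.isDefEq.respectTransparency false
set_option linter.style.haveILetI false
set_option linter.unusedSectionVars false
universe u
open CategoryTheory CategoryTheory.Limits AlgebraicGeometry Opposite Topology

namespace Groth.Agent.H50

open AlgSp

variable {S : Scheme.{u}}

/-- The fppf sheafification of a presheaf, as an object of `Sp S`. -/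
noncomputable abbrev shf (F : PSp S) : Sp S := (presheafToSheaf (J S) (Type (u + 1))).obj F

/-- The sheafification of a morphism. -/
noncomputable abbrev shfMap {F G : PSp S} (a : F ⟶ G) : shf F ⟶ shf G :=
  (presheafToSheaf (J S) (Type (u + 1))).map a

/-- The generalized element of the sheafification defined by a section of the presheaf. -/
noncomputable def shEl (F : PSp S) {T : Over S} (x : F.obj (op T)) : (yon S).obj T ⟶ shf F :=
  (J S).uliftYonedaEquiv.symm ((toSheafify (J S) F).app (op T) x)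

theorem yonedaEquiv_shEl (F : PSp S) {T : Over S} (x : F.obj (op T)) :
    (J S).uliftYonedaEquiv (shEl F x) = (toSheafify (J S) F).app (op T) x :=
  Equiv.apply_symm_apply _ _

theorem shEl_map (F : PSp S) {T T' : Over S} (g : T' ⟶ T) (x : F.obj (op T)) :
    (yon S).map g ≫ shEl F x = shEl F (F.map g.op x) := by
  apply (J S).uliftYonedaEquiv.injective
  rw [yonedaEquiv_map_comp, yonedaEquiv_shEl, yonedaEquiv_shEl]
  exact (NatTrans.naturality_apply (toSheafify (J S) F) g.op x).symm

theorem shEl_comp {F G : PSp S} (a : F ⟶ G) {T : Over S} (x : F.obj (op T)) :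
    shEl F x ≫ shfMap a = shEl G (a.app _ x) := by
  apply (J S).uliftYonedaEquiv.injective
  rw [GrothendieckTopology.uliftYonedaEquiv_comp, yonedaEquiv_shEl, yonedaEquiv_shEl]
  exact (ConcreteCategory.congr_hom
    (NatTrans.congr_app (toSheafify_naturality (J S) a) (op T)) x).symm

theorem shEl_locally_surjective (F : PSp S) {T : Over S} (z : (yon S).obj T ⟶ shf F) :
    ∃ R : Sieve T, R ∈ J S T ∧ ∀ ⦃T' : Over S⦄ (g : T' ⟶ T), R g →
      ∃ x : F.obj (op T'), (yon S).map g ≫ z = shEl F x := by
  refine ⟨_, Presheaf.imageSieve_mem (J S) (toSheafify (J S) F) (U := op T)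
    ((J S).uliftYonedaEquiv z), ?_⟩
  rintro T' g ⟨x, hx⟩
  refine ⟨x, ?_⟩
  apply (J S).uliftYonedaEquiv.injective
  rw [yonedaEquiv_map_comp, yonedaEquiv_shEl]
  exact hx.symm

theorem shEl_locally_injective (F : PSp S) {T : Over S} (x x' : F.obj (op T))
    (h : shEl F x = shEl F x') :
    ∃ R : Sieve T, R ∈ J S T ∧ ∀ ⦃T' : Over S⦄ (g : T' ⟶ T), R g →
      F.map g.op x = F.map g.op x' := by
  have h' : (toSheafify (J S) F).app (op T) x = (toSheafify (J S) F).app (op T) x' := by
    rw [← yonedaEquiv_shEl, ← yonedaEquiv_shEl, h]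
  exact ⟨Presheaf.equalizerSieve (F := F) (X := op T) x x',
    Presheaf.equalizerSieve_mem (J S) (toSheafify (J S) F) (X := op T) x x' h',
    fun T' g hg => hg⟩

/-- Sections of the presheaf with the same image in the sheafification agree on a finite affine
fppf covering. -/
theorem exists_cover_eq_of_shEl_eq (F : PSp S) {T : Over S} [CompactSpace T.left]
    (x x' : F.obj (op T)) (h : shEl F x = shEl F x') :
    ∃ (σ : Type u) (_ : Finite σ) (E : σ → Over S) (e : ∀ ε, E ε ⟶ T),
      (∀ ε, IsAffine (E ε).left) ∧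
      (∀ ε, Flat (e ε).left ∧ LocallyOfFinitePresentation (e ε).left) ∧
      (∀ t : ↥T.left, ∃ ε, t ∈ Set.range (e ε).left) ∧
      ∀ ε, F.map (e ε).op x = F.map (e ε).op x' := by
  obtain ⟨R, hR, hR'⟩ := shEl_locally_injective F x x' h
  obtain ⟨σ, hσ, E, e, h1, h2, h3, h4⟩ := exists_finite_affine_cover_of_mem R hR
  exact ⟨σ, hσ, E, e, h1, h2, h3, fun ε => hR' _ (h4 ε)⟩

/-- A section of the sheafification comes from the presheaf on a finite affine fppf covering. -/
theorem exists_cover_shEl (F : PSp S) {T : Over S} [CompactSpace T.left]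
    (z : (yon S).obj T ⟶ shf F) :
    ∃ (σ : Type u) (_ : Finite σ) (B : σ → Over S) (b : ∀ β, B β ⟶ T),
      (∀ β, IsAffine (B β).left) ∧
      (∀ β, Flat (b β).left ∧ LocallyOfFinitePresentation (b β).left) ∧
      (∀ t : ↥T.left, ∃ β, t ∈ Set.range (b β).left) ∧
      ∀ β, ∃ x : F.obj (op (B β)), (yon S).map (b β) ≫ z = shEl F x := by
  obtain ⟨R, hR, hR'⟩ := shEl_locally_surjective F z
  obtain ⟨σ, hσ, E, e, h1, h2, h3, h4⟩ := exists_finite_affine_cover_of_mem R hR
  exact ⟨σ, hσ, E, e, h1, h2, h3, fun ε => hR' _ (h4 ε)⟩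

/-- Relative version: a section of `shf F` over a section of `G` comes, on a finite affine fppf
covering, from sections of `F` lying over the given section of `G`. -/
theorem exists_cover_shEl_rel {F G : PSp S} (a : F ⟶ G) {T : Over S} [CompactSpace T.left]
    (z : (yon S).obj T ⟶ shf F) (y : G.obj (op T)) (hzy : z ≫ shfMap a = shEl G y) :
    ∃ (σ : Type u) (_ : Finite σ) (E : σ → Over S) (e : ∀ ε, E ε ⟶ T),
      (∀ ε, IsAffine (E ε).left) ∧
      (∀ ε, Flat (e ε).left ∧ LocallyOfFinitePresentation (e ε).left) ∧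
      (∀ t : ↥T.left, ∃ ε, t ∈ Set.range (e ε).left) ∧
      ∀ ε, ∃ x : F.obj (op (E ε)), (yon S).map (e ε) ≫ z = shEl F x ∧
        a.app _ x = G.map (e ε).op y := by
  obtain ⟨R₁, hR₁, hR₁'⟩ := shEl_locally_surjective F z
  let R : Sieve T :=
    { arrows := fun T' g => ∃ x : F.obj (op T'), (yon S).map g ≫ z = shEl F x ∧
        a.app _ x = G.map g.op y
      downward_closed := by
        rintro T' T'' g ⟨x, hx1, hx2⟩ h
        refine ⟨F.map h.op x, ?_, ?_⟩
        · rw [Functor.map_comp, Category.assoc, hx1, shEl_map]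
        · rw [NatTrans.naturality_apply, hx2, op_comp, Functor.map_comp_apply] }
  have hR : R ∈ J S T := by
    refine (J S).transitive hR₁ R (fun T' g hg => ?_)
    obtain ⟨x, hx⟩ := hR₁' g hg
    have h1 : shEl G (a.app _ x) = shEl G (G.map g.op y) := by
      rw [← shEl_comp, ← hx, Category.assoc, hzy, shEl_map]
    obtain ⟨R₃, hR₃, hR₃'⟩ := shEl_locally_injective G _ _ h1
    refine (J S).superset_covering ?_ hR₃
    intro T'' h hh
    refine ⟨F.map h.op x, ?_, ?_⟩
    · rw [Functor.map_comp, Category.assoc, hx, shEl_map]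
    · rw [NatTrans.naturality_apply, hR₃' h hh, op_comp, Functor.map_comp_apply]
  obtain ⟨σ, hσ, E, e, h1, h2, h3, h4⟩ := exists_finite_affine_cover_of_mem R hR
  exact ⟨σ, hσ, E, e, h1, h2, h3, h4⟩

/-- Two sections of `shf F` with the same image in `shf G` come, on a finite affine fppf covering,
from sections of `F` with the same image in `G`. -/
theorem exists_cover_shEl_pair {F G : PSp S} (a : F ⟶ G) {T : Over S} [CompactSpace T.left]
    (z z' : (yon S).obj T ⟶ shf F) (hzz' : z ≫ shfMap a = z' ≫ shfMap a) :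
    ∃ (σ : Type u) (_ : Finite σ) (B : σ → Over S) (b : ∀ β, B β ⟶ T),
      (∀ β, IsAffine (B β).left) ∧
      (∀ β, Flat (b β).left ∧ LocallyOfFinitePresentation (b β).left) ∧
      (∀ t : ↥T.left, ∃ β, t ∈ Set.range (b β).left) ∧
      ∀ β, ∃ x x' : F.obj (op (B β)), (yon S).map (b β) ≫ z = shEl F x ∧
        (yon S).map (b β) ≫ z' = shEl F x' ∧ a.app _ x = a.app _ x' := by
  obtain ⟨R₁, hR₁, hR₁'⟩ := shEl_locally_surjective F z
  obtain ⟨R₂, hR₂, hR₂'⟩ := shEl_locally_surjective F z'
  let R : Sieve T :=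
    { arrows := fun T' g => ∃ x x' : F.obj (op T'), (yon S).map g ≫ z = shEl F x ∧
        (yon S).map g ≫ z' = shEl F x' ∧ a.app _ x = a.app _ x'
      downward_closed := by
        rintro T' T'' g ⟨x, x', hx1, hx2, hx3⟩ h
        refine ⟨F.map h.op x, F.map h.op x', ?_, ?_, ?_⟩
        · rw [Functor.map_comp, Category.assoc, hx1, shEl_map]
        · rw [Functor.map_comp, Category.assoc, hx2, shEl_map]
        · rw [NatTrans.naturality_apply, NatTrans.naturality_apply, hx3] }
  have hR : R ∈ J S T := by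
    refine (J S).transitive ((J S).intersection_covering hR₁ hR₂) R (fun T' g hg => ?_)
    obtain ⟨x, hx⟩ := hR₁' g hg.1
    obtain ⟨x', hx'⟩ := hR₂' g hg.2
    have h1 : shEl G (a.app _ x) = shEl G (a.app _ x') := by
      rw [← shEl_comp, ← shEl_comp, ← hx, ← hx', Category.assoc, Category.assoc, hzz']
    obtain ⟨R₃, hR₃, hR₃'⟩ := shEl_locally_injective G _ _ h1
    refine (J S).superset_covering ?_ hR₃
    intro T'' h hh
    refine ⟨F.map h.op x, F.map h.op x', ?_, ?_, ?_⟩
    · rw [Functor.map_comp, Category.assoc, hx, shEl_map]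
    · rw [Functor.map_comp, Category.assoc, hx', shEl_map]
    · rw [NatTrans.naturality_apply, NatTrans.naturality_apply]
      exact hR₃' h hh
  obtain ⟨σ, hσ, E, e, h1, h2, h3, h4⟩ := exists_finite_affine_cover_of_mem R hR
  exact ⟨σ, hσ, E, e, h1, h2, h3, h4⟩

end Groth.Agent.H50
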