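import Groth.Agent.H50.LPShfSurj

set_option autoImplicit false
set_option backward.isDefEq.respectTransparency false
set_option linter.style.haveILetI false
set_option linter.unusedSectionVars false
universe u
open CategoryTheory CategoryTheory.Limits AlgebraicGeometry Opposite Topology

namespace Groth.Agent.H50

open AlgSp

variable {S : Scheme.{u}}

/-- The constant presheaf with value a point. -/
noncomputable def Pc (S : Scheme.{u}) : PSp S := (Functor.const _).obj PUnit.{u + 2}

/-- The unique map to the constant presheaf. -/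
noncomputable def toPc (F : PSp S) : F ⟶ Pc S where
  app _ := TypeCat.ofHom (fun _ => PUnit.unit)

instance (X : (Over S)ᵒᵖ) : Subsingleton ((Pc S).obj X) :=
  inferInstanceAs (Subsingleton PUnit)

/-- The sheafification of the point has at most one section over any scheme. -/
theorem shf_Pc_hom_subsingleton {T : Over S} (z z' : (yon S).obj T ⟶ shf (Pc S)) : z = z' := by
  obtain ⟨R₁, hR₁, hR₁'⟩ := shEl_locally_surjective (Pc S) z
  obtain ⟨R₂, hR₂, hR₂'⟩ := shEl_locally_surjective (Pc S) z'
  refine hom_ext_of_covering z z' (R₁ ⊓ R₂) ((J S).intersection_covering hR₁ hR₂) ?_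
  intro T' g hg
  obtain ⟨x, hx⟩ := hR₁' g hg.1
  obtain ⟨x', hx'⟩ := hR₂' g hg.2
  rw [hx, hx', Subsingleton.elim x x']

theorem shf_Pc_subsingleton (X : (Over S)ᵒᵖ) (s s' : (shf (Pc S)).obj.obj X) : s = s' := by
  obtain ⟨T⟩ := X
  have := shf_Pc_hom_subsingleton ((J S).uliftYonedaEquiv.symm s) ((J S).uliftYonedaEquiv.symm s')
  exact (J S).uliftYonedaEquiv.symm.injective this

/-- A limit preserving presheaf is relatively limit preserving over the point. -/
theorem relLP_toPc (F : PSp S) (hF : IsLimitPreserving F) : RelLP (toPc F) := by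
  intro I _ _ D c hc hD hT
  have hcol := (nonempty_isColimit_iff D c F).1 (hF D c hc hD hT)
  constructor
  · intro i y x _
    obtain ⟨j, xj, hxj⟩ := hcol.surj x
    refine ⟨IsCofiltered.min i j, IsCofiltered.minToLeft i j,
      F.map (D.map (IsCofiltered.minToRight i j)).op xj, Subsingleton.elim _ _, ?_⟩
    exact (map_map_eq F _ _ _ (c.w (IsCofiltered.minToRight i j)) xj).trans hxj
  · intro i x x' _ hlim
    exact hcol.inj i x x' hlim

/-- The fppf sheafification of a limit preserving presheaf is limit preserving. -/
theorem isLimitPreserving_shf (F : PSp S) (hF : IsLimitPreserving F) :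
    IsLimitPreserving (shf F).obj := by
  intro I _ _ D c hc hD hT
  have h := relLP_shfMap (toPc F) (relLP_toPc F hF) D c hc hD hT
  rw [nonempty_isColimit_iff]
  constructor
  · intro x
    obtain ⟨i⟩ := IsCofiltered.nonempty (C := I)
    obtain ⟨j, f, xj, -, hxj⟩ := h.surj i
      ((toSheafify (J S) (Pc S)).app (op (D.obj i)) PUnit.unit) x (shf_Pc_subsingleton _ _ _)
    exact ⟨j, xj, hxj⟩
  · intro i x x' hlim
    exact h.inj i x x' (shf_Pc_subsingleton _ _ _) hlim

end Groth.Agent.H50
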