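import Groth.Agent.H50.LPLocal2
import Groth.Agent.H50.LPCoverAff
import Groth.Agent.H50.LPSheafify

set_option autoImplicit false
set_option backward.isDefEq.respectTransparency false
set_option linter.style.haveILetI false
set_option linter.unusedSectionVars false
universe u
open CategoryTheory CategoryTheory.Limits AlgebraicGeometry Opposite Topology

namespace Groth.Agent.H50

open AlgSp

variable {S : Scheme.{u}}

/-- `a` is relatively limit preserving, elementwise form. -/
def RelLP {F G : PSp S} (a : F ⟶ G) : Prop :=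
  ∀ ⦃I : Type u⦄ [SmallCategory I] [IsCofiltered I] (D : I ⥤ Over S) (c : Cone D),
    IsLimit ((Over.forget S).mapCone c) → (∀ i, IsAffine (D.obj i).left) → IsAffine c.pt.left →
      RelColimElt D c a

section

variable {F G : PSp S} (a : F ⟶ G) (ha : RelLP a)
  {K : Type u} [SmallCategory K] [IsCofiltered K] (D : K ⥤ Over S) (c : Cone D)

include ha in
/-- Core of injectivity: two sections of `F` over a stage, with the same image in `G`, whose
images in the sheafification agree at the limit, have equal images in the sheafification over a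
later stage. -/
theorem shf_evEq_core (hc : IsLimit ((Over.forget S).mapCone c))
    (hD : ∀ i, IsAffine (D.obj i).left) (hT : IsAffine c.pt.left) (i : K)
    (x x' : F.obj (op (D.obj i))) (hax : a.app _ x = a.app _ x')
    (hlim : (yon S).map (c.π.app i) ≫ shEl F x = (yon S).map (c.π.app i) ≫ shEl F x') :
    EvEq D i (shEl F x) (shEl F x') := by
  rw [shEl_map, shEl_map] at hlim
  haveI : CompactSpace ↥c.pt.left := by have := hT; infer_instance
  obtain ⟨σ, _, E, e, hE, hP, hsurj, heq⟩ := exists_cover_eq_of_shEl_eq F (T := c.pt) _ _ hlim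
  obtain ⟨l, τ, _, V, v, hV, hvP, hvsurj, hκ⟩ :=
    exists_cover_desc_affine D c hc hD hT i E e hE hP hsurj
  apply EvEq.of_later D l.hom
  apply evEq_of_cover D l.left _ _ V v hvP hvsurj
  intro w
  obtain ⟨ε, κ, hκe⟩ := hκ w
  let j₀ : Over l.left := Over.mk (𝟙 _)
  let g₀ : (nest D l.left (v w)).obj j₀ ⟶ D.obj i :=
    (nestFst D l.left (v w) j₀ ≫ v w) ≫ D.map l.hom
  have e1 : ∀ x₀ : F.obj (op (D.obj i)),
      (yon S).map (nestFst D l.left (v w) j₀ ≫ v w) ≫ (yon S).map (D.map l.hom) ≫ shEl F x₀ =
        shEl F (F.map g₀.op x₀) := by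
    intro x₀
    rw [← Category.assoc, ← Functor.map_comp, shEl_map]
  rw [e1 x, e1 x']
  have hcomm : (nestCone D c l.left (v w)).π.app j₀ ≫ g₀ = κ ≫ e ε ≫ c.π.app i := by
    simp only [g₀]
    rw [← Category.assoc, ← Category.assoc, nestCone_π_fst, nestPt_condition, Category.assoc,
      c.w l.hom, ← hκe, Category.assoc]
  obtain ⟨m, φ, hm⟩ := (ha (nest D l.left (v w)) (nestCone D c l.left (v w))
    (nestConeIsLimit D c l.left (v w) hc) (nest_isAffine D l.left (v w) (hV w) hD)
    (nestPt_isAffine D c l.left (v w) (hV w) hD hT)).inj j₀ (F.map g₀.op x) (F.map g₀.op x') (by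
      rw [NatTrans.naturality_apply, NatTrans.naturality_apply, hax]) (by
      rw [map_map_eq F _ _ _ hcomm, map_map_eq F _ _ _ hcomm]
      have h3 : ∀ x₀ : F.obj (op (D.obj i)), F.map (κ ≫ e ε ≫ c.π.app i).op x₀ =
          F.map κ.op (F.map (e ε).op (F.map (c.π.app i).op x₀)) := by
        intro x₀
        exact (map_map_eq F κ (e ε ≫ c.π.app i) _ rfl x₀).symm.trans
          (congrArg _ (map_map_eq F (e ε) (c.π.app i) _ rfl x₀).symm)
      exact (h3 x).trans ((congrArg _ (heq ε)).trans (h3 x').symm))
  exact ⟨m, φ, by rw [shEl_map, shEl_map, hm]⟩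

include ha in
/-- Injectivity part of "the sheafification of a relatively limit preserving map is relatively
limit preserving". -/
theorem shf_yonInj (hc : IsLimit ((Over.forget S).mapCone c))
    (hD : ∀ i, IsAffine (D.obj i).left) (hT : IsAffine c.pt.left) :
    YonInj D c (shfMap a) := by
  intro i z z' hzz' hlim
  haveI : CompactSpace ↥(D.obj i).left := by have := hD i; infer_instance
  obtain ⟨σ, _, B, b, hB, hbP, hbsurj, hx⟩ := exists_cover_shEl_pair a z z' hzz'
  apply evEq_of_cover D i z z' B b hbP hbsurj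
  intro β
  obtain ⟨x, x', hzx, hzx', hax⟩ := hx β
  let j₀ : Over i := Over.mk (𝟙 _)
  have e1 : (yon S).map (nestFst D i (b β) j₀ ≫ b β) ≫ z =
      shEl F (F.map (nestFst D i (b β) j₀).op x) := by
    rw [Functor.map_comp, Category.assoc, hzx, shEl_map]
  have e2 : (yon S).map (nestFst D i (b β) j₀ ≫ b β) ≫ z' =
      shEl F (F.map (nestFst D i (b β) j₀).op x') := by
    rw [Functor.map_comp, Category.assoc, hzx', shEl_map]
  rw [e1, e2]
  apply shf_evEq_core a ha (nest D i (b β)) (nestCone D c i (b β))
    (nestConeIsLimit D c i (b β) hc) (nest_isAffine D i (b β) (hB β) hD)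
    (nestPt_isAffine D c i (b β) (hB β) hD hT) j₀
  · rw [NatTrans.naturality_apply, NatTrans.naturality_apply, hax]
  · have e3 : ∀ w : (yon S).obj (D.obj i) ⟶ shf F,
        (yon S).map ((nestCone D c i (b β)).π.app j₀) ≫
          (yon S).map (nestFst D i (b β) j₀ ≫ b β) ≫ w =
          (yon S).map (nestPtSnd D c i (b β)) ≫ (yon S).map (c.π.app i) ≫ w := by
      intro w
      rw [← Category.assoc, ← Functor.map_comp, ← Category.assoc, nestCone_π_fst,
        nestPt_condition, Functor.map_comp, Category.assoc]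
    rw [← e1, ← e2, e3, e3, hlim]

end

end Groth.Agent.H50
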