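import Groth.Agent.H50.LPShfInj

set_option autoImplicit false
set_option backward.isDefEq.respectTransparency false
set_option linter.style.haveILetI false
set_option linter.unusedSectionVars false
universe u
open CategoryTheory CategoryTheory.Limits AlgebraicGeometry Opposite Topology

namespace Groth.Agent.H50

open AlgSp

variable {S : Scheme.{u}}

section

variable {F G : PSp S} (a : F ⟶ G) (ha : RelLP a)
  {K : Type u} [SmallCategory K] [IsCofiltered K] (D : K ⥤ Over S) (c : Cone D)

include ha in
theorem shf_nestInj (hc : IsLimit ((Over.forget S).mapCone c))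
    (hD : ∀ i, IsAffine (D.obj i).left) (hT : IsAffine c.pt.left) :
    NestInj D c (shfMap a) :=
  fun m₀ _ o hO => shf_yonInj a ha (nest D m₀ o) (nestCone D c m₀ o)
    (nestConeIsLimit D c m₀ o hc) (nest_isAffine D m₀ o hO hD) (nestPt_isAffine D c m₀ o hO hD hT)

include ha in
/-- Core of surjectivity: a section of the sheafification over the limit lying over a section of
`G` over a stage lifts to a later stage. -/
theorem shf_evLift_core (hc : IsLimit ((Over.forget S).mapCone c))
    (hD : ∀ i, IsAffine (D.obj i).left) (hT : IsAffine c.pt.left) (i : K)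
    (yy : G.obj (op (D.obj i))) (x' : (yon S).obj c.pt ⟶ shf F)
    (hxy : x' ≫ shfMap a = (yon S).map (c.π.app i) ≫ shEl G yy) :
    EvLift D c (shfMap a) i (shEl G yy) x' := by
  rw [shEl_map] at hxy
  haveI : CompactSpace ↥c.pt.left := by have := hT; infer_instance
  obtain ⟨σ, _, E, e, hE, hP, hsurj, hx⟩ := exists_cover_shEl_rel a (T := c.pt) x' _ hxy
  obtain ⟨l, τ, _, V, v, hV, hvP, hvsurj, hκ⟩ :=
    exists_cover_desc_affine D c hc hD hT i E e hE hP hsurj
  apply EvLift.of_later D c _ l.hom
  apply evLift_of_cover D c hD (shfMap a) (shf_nestInj a ha D c hc hD hT) l.left _ x' V v hV hvP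
    hvsurj
  intro w
  obtain ⟨ε, κ, hκe⟩ := hκ w
  obtain ⟨xε, hxε1, hxε2⟩ := hx ε
  let j₀ : Over l.left := Over.mk (𝟙 _)
  let g₀ : (nest D l.left (v w)).obj j₀ ⟶ D.obj i :=
    (nestFst D l.left (v w) j₀ ≫ v w) ≫ D.map l.hom
  have e1 : (yon S).map (nestFst D l.left (v w) j₀ ≫ v w) ≫ (yon S).map (D.map l.hom) ≫
      shEl G yy = shEl G (G.map g₀.op yy) := by
    rw [← Category.assoc, ← Functor.map_comp, shEl_map]
  have e2 : (yon S).map (nestPtSnd D c l.left (v w)) ≫ x' = shEl F (F.map κ.op xε) := by
    rw [← hκe, Functor.map_comp, Category.assoc, hxε1, shEl_map]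
  rw [e1, e2]
  have hcomm : (nestCone D c l.left (v w)).π.app j₀ ≫ g₀ = κ ≫ e ε ≫ c.π.app i := by
    simp only [g₀]
    rw [← Category.assoc, ← Category.assoc, nestCone_π_fst, nestPt_condition, Category.assoc,
      c.w l.hom, ← hκe, Category.assoc]
  obtain ⟨m, φ, xm, h1, h2⟩ := (ha (nest D l.left (v w)) (nestCone D c l.left (v w))
    (nestConeIsLimit D c l.left (v w) hc) (nest_isAffine D l.left (v w) (hV w) hD)
    (nestPt_isAffine D c l.left (v w) (hV w) hD hT)).surj j₀ (G.map g₀.op yy) (F.map κ.op xε) (by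
      rw [NatTrans.naturality_apply, hxε2, map_map_eq G _ _ _ hcomm]
      exact (congrArg _ (map_map_eq G (e ε) (c.π.app i) _ rfl yy)).trans
        (map_map_eq G κ (e ε ≫ c.π.app i) _ rfl yy))
  exact ⟨m, φ, shEl F xm, by rw [shEl_comp, h1, shEl_map], by rw [shEl_map, h2]⟩

include ha in
/-- Surjectivity part of "the sheafification of a relatively limit preserving map is relatively
limit preserving". -/
theorem shf_yonSurj (hc : IsLimit ((Over.forget S).mapCone c))
    (hD : ∀ i, IsAffine (D.obj i).left) (hT : IsAffine c.pt.left) :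
    YonSurj D c (shfMap a) := by
  intro i y x hxy
  change EvLift D c (shfMap a) i y x
  haveI : CompactSpace ↥(D.obj i).left := by have := hD i; infer_instance
  obtain ⟨σ, _, B, b, hB, hbP, hbsurj, hy⟩ := exists_cover_shEl G (T := D.obj i) y
  apply evLift_of_cover D c hD (shfMap a) (shf_nestInj a ha D c hc hD hT) i y x B b hB hbP hbsurj
  intro β
  obtain ⟨yβ, hyβ⟩ := hy β
  let j₀ : Over i := Over.mk (𝟙 _)
  have e1 : (yon S).map (nestFst D i (b β) j₀ ≫ b β) ≫ y =
      shEl G (G.map (nestFst D i (b β) j₀).op yβ) := by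
    rw [Functor.map_comp, Category.assoc, hyβ, shEl_map]
  rw [e1]
  apply shf_evLift_core a ha (nest D i (b β)) (nestCone D c i (b β))
    (nestConeIsLimit D c i (b β) hc) (nest_isAffine D i (b β) (hB β) hD)
    (nestPt_isAffine D c i (b β) (hB β) hD hT) j₀
  have e3 : (nestCone D c i (b β)).π.app j₀ ≫ nestFst D i (b β) j₀ ≫ b β =
      nestPtSnd D c i (b β) ≫ c.π.app i := by
    rw [← Category.assoc, nestCone_π_fst, nestPt_condition]
  rw [← e1, Category.assoc, hxy, ← Category.assoc ((yon S).map ((nestCone D c i (b β)).π.app j₀)),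
    ← Functor.map_comp, e3, Functor.map_comp, Category.assoc]

/-- The sheafification of a relatively limit preserving map is relatively limit preserving
(elementwise form). -/
theorem relLP_shfMap (ha : RelLP a) : RelLP (shfMap a).hom := by
  intro I _ _ D c hc hD hT
  exact relColimElt_of_yon D c (shfMap a) (shf_yonSurj a ha D c hc hD hT)
    (shf_yonInj a ha D c hc hD hT)

end

end Groth.Agent.H50
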