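import Groth.Agent.H50.LimAffineE
import Groth.Agent.H50.LPMain

set_option autoImplicit false
set_option backward.isDefEq.respectTransparency false
set_option linter.style.haveILetI false
set_option linter.unusedSectionVars false
universe u
open CategoryTheory CategoryTheory.Limits AlgebraicGeometry Opposite

namespace Groth.Agent.H50

open AlgSp

variable {S : Scheme.{u}}

section

variable {I : Type u} [SmallCategory I] [IsCofiltered I] (D : I ⥤ Sp S)
  (hDa : ∀ (i j : I) (φ : i ⟶ j), IsAffineMor (D.map φ)) (c : Cone D) (hc : IsLimit c)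

include hDa hc in
/-- Two morphisms from a quasi-compact sheaf over a stage to an algebraic space `X`, equalized by
a morphism `f : X ⟶ Y` locally of finite type, which agree after base change to the limit agree
after base change to a later stage. -/
theorem exists_eq_of_lft_sp' (i₀ : I) {Y₀ : Sp S} (hYqc : IsQuasiCompactSp Y₀)
    (b₀ : Y₀ ⟶ D.obj i₀) {X Y : Sp S} (hX : IsAlgSpace X) (hY : IsAlgSpace Y) (f : X ⟶ Y)
    (hf : LocP @LocallyOfFiniteType f)
    (a b : Y₀ ⟶ X) (hfab : a ≫ f = b ≫ f)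
    (Yl : Sp S) (pY : Yl ⟶ Y₀) (qY : Yl ⟶ c.pt) (hYl : IsPullback pY qY b₀ (c.π.app i₀))
    (hab : pY ≫ a = pY ≫ b) :
    ∃ (i : I) (φ : i ⟶ i₀), ∀ (Yi : Sp S) (pYi : Yi ⟶ Y₀) (qYi : Yi ⟶ D.obj i)
      (_ : IsPullback pYi qYi b₀ (D.map φ)), pYi ≫ a = pYi ≫ b := by
  obtain ⟨Z, r, hZ, hr, hrs⟩ :=
    (Groth.Agent.H51.isQuasiCompactSp_iff_exists_affine_atlas).1 hYqc
  haveI : IsConnected (Over i₀) := IsCofiltered.isConnected _
  haveI := affSys_hasLimit D hDa i₀ hZ (r ≫ b₀)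
  let W := affSys D hDa i₀ hZ (r ≫ b₀)
  let L := limit.cone W
  have hL : IsLimit L := limit.isLimit W
  have hW : ∀ j, IsAffine (W.obj j).left := affSys_isAffine D hDa i₀ hZ (r ≫ b₀)
  haveI : ∀ j, IsAffine ((W ⋙ Over.forget S).obj j) := hW
  have hL' : IsLimit ((Over.forget S).mapCone L) := isLimitOfPreserves (Over.forget S) hL
  let i₀' : Over i₀ := Over.mk (𝟙 i₀)
  let ι := affSysι D hDa i₀ hZ (r ≫ b₀)
  let xa : (yon S).obj (W.obj i₀') ⟶ X := (yon S).map (ι i₀') ≫ r ≫ a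
  let xb : (yon S).obj (W.obj i₀') ⟶ X := (yon S).map (ι i₀') ≫ r ≫ b
  have sqL := affSys_isPullback_limit D hDa i₀ hZ (r ≫ b₀) c hc L hL
  have hlim : (yon S).map (L.π.app i₀') ≫ xa = (yon S).map (L.π.app i₀') ≫ xb := by
    let m : (yon S).obj L.pt ⟶ Yl := hYl.lift ((yon S).map (L.π.app i₀' ≫ ι i₀') ≫ r)
      (affSysLimFst D hDa i₀ hZ (r ≫ b₀) c hc L) (by
        rw [Category.assoc]
        exact sqL.w.symm)
    have hm : m ≫ pY = (yon S).map (L.π.app i₀' ≫ ι i₀') ≫ r := hYl.lift_fst _ _ _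
    have h1 : (yon S).map (L.π.app i₀') ≫ xa = m ≫ pY ≫ a := by
      rw [← Category.assoc m, hm, Functor.map_comp, Category.assoc, Category.assoc]
    have h2 : (yon S).map (L.π.app i₀') ≫ xb = m ≫ pY ≫ b := by
      rw [← Category.assoc m, hm, Functor.map_comp, Category.assoc, Category.assoc]
    rw [h1, h2, hab]
  obtain ⟨k, ψ, hk⟩ := lp_inj W L hX hY f hf hL'
    (fun j => by have := hW j; infer_instance) (fun j => by have := hW j; infer_instance)
    (fun {j j'} φ => by have := hW j; have := hW j'; infer_instance) i₀' xa xb (by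
      simp only [xa, xb, Category.assoc, hfab]) hlim
  have hk' : (yon S).map (ι k) ≫ r ≫ a = (yon S).map (ι k) ≫ r ≫ b := by
    have h1 : W.map ψ ≫ ι i₀' = ι k := affSysMap_ι D hDa i₀ hZ (r ≫ b₀) ψ
    rw [← h1, Functor.map_comp, Category.assoc, Category.assoc]
    exact hk
  refine ⟨k.left, k.hom, ?_⟩
  intro Yi pYi qYi hYi
  have sqk := affSys_isPullback D hDa i₀ hZ (r ≫ b₀) k
  let n : (yon S).obj (W.obj k) ⟶ Yi := hYi.lift ((yon S).map (ι k) ≫ r)
    (affSysFst D hDa i₀ hZ (r ≫ b₀) k) (by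
      rw [Category.assoc]
      exact sqk.w.symm)
  have hn1 : n ≫ pYi = (yon S).map (ι k) ≫ r := hYi.lift_fst _ _ _
  have hn2 : n ≫ qYi = affSysFst D hDa i₀ hZ (r ≫ b₀) k := hYi.lift_snd _ _ _
  have sqn : IsPullback ((yon S).map (ι k)) n r pYi := by
    refine IsPullback.of_bot ?_ hn1.symm hYi
    rw [hn2]
    exact sqk.flip
  have hn_e : RepWith @Etale n := MorphismProperty.of_isPullback sqn hr
  have hn_s : RepWith @Surjective n := MorphismProperty.of_isPullback sqn hrs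
  haveI : Epi n := Groth.Agent.H52.epi_of_repWith_etale_surjective n hn_e hn_s
  rw [← cancel_epi n, ← Category.assoc, ← Category.assoc, hn1, Category.assoc, Category.assoc]
  exact hk'

variable (i₀ : I) {Z : Over S} (hZ : IsAffine Z.left) (g : (yon S).obj Z ⟶ D.obj i₀)
  [QuasiSeparatedSpace ↥S]

include hc in
/-- A morphism from a member of the affine atlas system to an algebraic space `X` (over `Y`, via
`f` locally of finite type) which descends to the limit descends to a later stage. -/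
theorem exists_desc_of_atlas_sys' (hD : ∀ i, IsAlgSpace (D.obj i))
    (hqs : ∀ i, IsQuasiSeparatedSp (D.obj i)) (hg : RepWith @Etale g)
    (hgs : RepWith @Surjective g) (L : Cone (affSys D hDa i₀ hZ g)) (hL : IsLimit L)
    {X Y : Sp S} (hX : IsAlgSpace X) (hY : IsAlgSpace Y) (f : X ⟶ Y)
    (hf : LocP @LocallyOfFiniteType f) (j : Over i₀)
    (ψ : (yon S).obj ((affSys D hDa i₀ hZ g).obj j) ⟶ X) (y : D.obj j.left ⟶ Y)
    (hψy : ψ ≫ f = affSysFst D hDa i₀ hZ g j ≫ y) (a : c.pt ⟶ X)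
    (ha : affSysLimFst D hDa i₀ hZ g c hc L ≫ a = (yon S).map (L.π.app j) ≫ ψ) :
    ∃ (j' : Over i₀) (θ : j' ⟶ j) (π' : D.obj j'.left ⟶ X),
      affSysFst D hDa i₀ hZ g j' ≫ π' = (yon S).map ((affSys D hDa i₀ hZ g).map θ) ≫ ψ := by
  let W := affSys D hDa i₀ hZ g
  let u_c := affSysLimFst D hDa i₀ hZ g c hc L
  let q := affSysFst D hDa i₀ hZ g j
  have hUaff : IsAffine (W.obj j).left := affSys_isAffine D hDa i₀ hZ g j
  -- the kernel pair
  let K := pullback q q
  let k₁ : K ⟶ (yon S).obj (W.obj j) := pullback.fst q q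
  let k₂ : K ⟶ (yon S).obj (W.obj j) := pullback.snd q q
  have sqK : IsPullback k₁ k₂ q q := IsPullback.of_hasPullback q q
  have hUqc : IsQuasiCompactSp ((yon S).obj (W.obj j)) :=
    Groth.Agent.H49.isQuasiCompactSp_yon (W.obj j)
  have hUqs : IsQuasiSeparatedSp ((yon S).obj (W.obj j)) :=
    isQuasiSeparatedSp_yon_of_isAffine _ hUaff
  have hKqc : IsQuasiCompactSp K :=
    (Groth.Agent.H49.isQuasiCompactSp_and_isQuasiSeparatedSp_of_isPullback
      (IsAlgSpace.yon_obj _) (hD _) (IsAlgSpace.yon_obj _) sqK ⟨hUqc, hUqs⟩ (hqs _)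
      ⟨hUqc, hUqs⟩).1
  let b₀ : K ⟶ D.obj j.left := k₁ ≫ q
  let A : K ⟶ X := k₁ ≫ ψ
  let B : K ⟶ X := k₂ ≫ ψ
  have hfAB : A ≫ f = B ≫ f := by
    simp only [A, B, Category.assoc]
    rw [hψy, ← Category.assoc, ← Category.assoc, sqK.w]
  -- base change to the limit
  let Yl := pullback b₀ (c.π.app j.left)
  let pY : Yl ⟶ K := pullback.fst _ _
  let qY : Yl ⟶ c.pt := pullback.snd _ _
  have hY' : IsPullback pY qY b₀ (c.π.app j.left) := IsPullback.of_hasPullback _ _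
  have sqLj := affSys_isPullback_limit_stage D hDa c hc i₀ hZ g L hL j
  let y₁ : Yl ⟶ (yon S).obj L.pt := sqLj.lift qY (pY ≫ k₁) (by
    rw [Category.assoc]
    exact hY'.w.symm)
  let y₂ : Yl ⟶ (yon S).obj L.pt := sqLj.lift qY (pY ≫ k₂) (by
    rw [Category.assoc, ← sqK.w]
    exact hY'.w.symm)
  have hy₁1 : y₁ ≫ u_c = qY := sqLj.lift_fst _ _ _
  have hy₁2 : y₁ ≫ (yon S).map (L.π.app j) = pY ≫ k₁ := sqLj.lift_snd _ _ _
  have hy₂1 : y₂ ≫ u_c = qY := sqLj.lift_fst _ _ _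
  have hy₂2 : y₂ ≫ (yon S).map (L.π.app j) = pY ≫ k₂ := sqLj.lift_snd _ _ _
  have hab : pY ≫ A = pY ≫ B := by
    have h1 : pY ≫ A = qY ≫ a :=
      calc pY ≫ A = (pY ≫ k₁) ≫ ψ := (Category.assoc _ _ _).symm
        _ = (y₁ ≫ (yon S).map (L.π.app j)) ≫ ψ := by rw [hy₁2]
        _ = y₁ ≫ u_c ≫ a := by rw [Category.assoc, ← ha]
        _ = qY ≫ a := by rw [← Category.assoc, hy₁1]
    have h2 : pY ≫ B = qY ≫ a :=
      calc pY ≫ B = (pY ≫ k₂) ≫ ψ := (Category.assoc _ _ _).symm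
        _ = (y₂ ≫ (yon S).map (L.π.app j)) ≫ ψ := by rw [hy₂2]
        _ = y₂ ≫ u_c ≫ a := by rw [Category.assoc, ← ha]
        _ = qY ≫ a := by rw [← Category.assoc, hy₂1]
    rw [h1, h2]
  obtain ⟨i, φ, hi⟩ := exists_eq_of_lft_sp' D hDa c hc j.left hKqc b₀ hX hY f hf A B hfAB Yl pY qY
    hY' hab
  -- the later stage
  let j' : Over i₀ := Over.mk (φ ≫ j.hom)
  let θ : j' ⟶ j := Over.homMk φ rfl
  let q' := affSysFst D hDa i₀ hZ g j'
  have sqθ : IsPullback q' ((yon S).map (W.map θ)) (D.map φ) q :=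
    affSys_isPullback_map D hDa i₀ hZ g θ
  have hq'e : RepWith @Etale q' :=
    MorphismProperty.of_isPullback (affSys_isPullback D hDa i₀ hZ g j').flip hg
  have hq's : RepWith @Surjective q' :=
    MorphismProperty.of_isPullback (affSys_isPullback D hDa i₀ hZ g j').flip hgs
  haveI : Epi q' := Groth.Agent.H52.epi_of_repWith_etale_surjective q' hq'e hq's
  let k₁' := pullback.fst q' q'
  let k₂' := pullback.snd q' q'
  have sqK' : IsPullback k₁' k₂' q' q' := IsPullback.of_hasPullback q' q'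
  let κ : pullback q' q' ⟶ K := pullback.lift (k₁' ≫ (yon S).map (W.map θ))
    (k₂' ≫ (yon S).map (W.map θ)) (by
      rw [Category.assoc, Category.assoc, ← sqθ.w, ← Category.assoc, ← Category.assoc, sqK'.w])
  have hκ1 : κ ≫ k₁ = k₁' ≫ (yon S).map (W.map θ) := pullback.lift_fst _ _ _
  have hκ2 : κ ≫ k₂ = k₂' ≫ (yon S).map (W.map θ) := pullback.lift_snd _ _ _
  let Yi := pullback b₀ (D.map φ)
  have hYi : IsPullback (pullback.fst b₀ (D.map φ)) (pullback.snd b₀ (D.map φ)) b₀ (D.map φ) :=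
    IsPullback.of_hasPullback _ _
  let t : pullback q' q' ⟶ Yi := pullback.lift κ (k₁' ≫ q') (by
    rw [← Category.assoc, hκ1, Category.assoc, Category.assoc, sqθ.w])
  have ht : t ≫ pullback.fst b₀ (D.map φ) = κ := pullback.lift_fst _ _ _
  have heq : k₁' ≫ (yon S).map (W.map θ) ≫ ψ = k₂' ≫ (yon S).map (W.map θ) ≫ ψ := by
    have h1 : k₁' ≫ (yon S).map (W.map θ) ≫ ψ = t ≫ pullback.fst b₀ (D.map φ) ≫ A := by
      rw [← Category.assoc t, ht, ← Category.assoc κ, hκ1, Category.assoc]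
    have h2 : k₂' ≫ (yon S).map (W.map θ) ≫ ψ = t ≫ pullback.fst b₀ (D.map φ) ≫ B := by
      rw [← Category.assoc t, ht, ← Category.assoc κ, hκ2, Category.assoc]
    rw [h1, h2, hi _ _ _ hYi]
  obtain ⟨π', hπ'⟩ := Groth.Agent.H52.exists_desc_of_epi_of_isKernelPair q' sqK'
    ((yon S).map (W.map θ) ≫ ψ) heq
  exact ⟨j', θ, π', hπ'⟩

end

end Groth.Agent.H50
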