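import Groth.Agent.H50.LocPBase
import Groth.Agent.H50.Mor
import Groth.Agent.H49.AlgSpRep

set_option autoImplicit false
set_option backward.isDefEq.respectTransparency false
universe u
open CategoryTheory CategoryTheory.Limits AlgebraicGeometry Opposite

namespace Groth.Agent.H50

open AlgSp

variable {S : Scheme.{u}}

/-- Cancellation: if `h ≫ k` is locally of finite presentation and `k` is locally of finite type,
then `h` is locally of finite presentation. -/
theorem lfp_of_comp_of_lft {A B C : Scheme.{u}} (h : A ⟶ B) (k : B ⟶ C)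
    (hhk : LocallyOfFinitePresentation (h ≫ k)) (hk : LocallyOfFiniteType k) :
    LocallyOfFinitePresentation h := by
  rw [HasRingHomProperty.iff_exists_appLE (P := @LocallyOfFinitePresentation)
    (RingHom.finitePresentation_stableUnderComposition.stableUnderCompositionWithLocalizationAway
      RingHom.finitePresentation_holdsForLocalizationAway).left]
  intro x
  obtain ⟨W, hW, hxW, -⟩ := TopologicalSpace.Opens.isBasis_iff_nbhd.mp C.isBasis_affineOpens
    (TopologicalSpace.Opens.mem_top (k (h x)))
  obtain ⟨V, hV, hxV, eV⟩ := TopologicalSpace.Opens.isBasis_iff_nbhd.mp B.isBasis_affineOpens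
    (show h x ∈ k ⁻¹ᵁ W from hxW)
  obtain ⟨U, hU, hxU, eU⟩ := TopologicalSpace.Opens.isBasis_iff_nbhd.mp A.isBasis_affineOpens
    (show x ∈ h ⁻¹ᵁ V from hxV)
  refine ⟨⟨V, hV⟩, ⟨U, hU⟩, hxU, eU, ?_⟩
  have h1 : (k.appLE W V eV).hom.FiniteType :=
    HasRingHomProperty.appLE (P := @LocallyOfFiniteType) _ hk ⟨W, hW⟩ ⟨V, hV⟩ eV
  have h2 := HasRingHomProperty.appLE (P := @LocallyOfFinitePresentation) _ hhk ⟨W, hW⟩ ⟨U, hU⟩
    (eU.trans ((TopologicalSpace.Opens.map h.base).map (homOfLE eV)).le)
  rw [← Scheme.Hom.appLE_comp_appLE h k W V U eV eU] at h2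
  exact RingHom.FinitePresentation.of_comp_finiteType _ h2 h1

/-- The diagonal of a morphism locally of finite type is locally of finite presentation. -/
theorem locP_lfp_diagonal {X Y : Sp S} (hX : IsAlgSpace X) (hY : IsAlgSpace Y) (f : X ⟶ Y)
    (hf : LocP @LocallyOfFiniteType f) :
    LocP @LocallyOfFinitePresentation (pullback.diagonal f) := by
  have hXX : IsAlgSpace (pullback f f) :=
    Groth.Agent.H49.isAlgSpace_of_isPullback (IsPullback.of_hasPullback f f) hY.diag hX hX
  have h1 : LocP @LocallyOfFiniteType (pullback.snd f f) :=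
    goodClass_lft.locP_of_isPullback hX hY hX f f _ _ (IsPullback.of_hasPullback f f) hf
  have h2 : LocP @LocallyOfFinitePresentation (pullback.diagonal f ≫ pullback.snd f f) := by
    rw [pullback.diagonal_snd]
    exact goodClass_lfp.locP_of_repWith_etale _ ((RepWith @Etale).id_mem X)
  refine locP_of_comp_cancel @LocallyOfFinitePresentation @LocallyOfFiniteType
    (fun h k hhk hk => lfp_of_comp_of_lft h k hhk hk)
    (fun h v u h' sq hv hvs hP => goodClass_lfp.desc h v u h' sq hv hvs hP)
    hX (pullback.diagonal f) (pullback.snd f f) h2 h1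

end Groth.Agent.H50
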