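import Groth.Agent.H24.LimitLocusIff

set_option autoImplicit false
set_option backward.isDefEq.respectTransparency false
set_option linter.style.haveILetI false
universe u
open CategoryTheory CategoryTheory.Limits AlgebraicGeometry

namespace Groth.Agent.H50

/-- Descent of a source-local property with an all-affine core along a cofiltered limit of
schemes with affine transition maps, for a morphism to a stage, in terms of arbitrary pullback
squares. -/
theorem exists_stage_of_core_id (P : MorphismProperty Scheme.{u})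
    [P.IsStableUnderBaseChange] [IsZariskiLocalAtSource P] [P.IsStableUnderComposition]
    (hOI : ∀ {A B : Scheme.{u}} (j : A ⟶ B) [IsOpenImmersion j], P j)
    (hcore : Groth.Agent.H24.CoreDescent P)
    {J : Type u} [Category.{u} J] [IsCofiltered J] (D' : J ⥤ Scheme.{u})
    [∀ {i j} (f : i ⟶ j), IsAffineHom (D'.map f)] (c' : Cone D') (hc' : IsLimit c') (j₀ : J)
    {X₀ : Scheme.{u}} (f₀ : X₀ ⟶ D'.obj j₀) [LocallyOfFinitePresentation f₀] [CompactSpace X₀]
    {X : Scheme.{u}} (f : X ⟶ c'.pt) (qX : X ⟶ X₀) (hX : IsPullback qX f f₀ (c'.π.app j₀))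
    (hf : P f) :
    ∃ (j : J) (φ : j ⟶ j₀), ∀ {Xj : Scheme.{u}} (pX : Xj ⟶ X₀) (fj : Xj ⟶ D'.obj j),
      IsPullback pX fj f₀ (D'.map φ) → P fj := by
  have hY : IsPullback (c'.π.app j₀) (𝟙 c'.pt) (𝟙 (D'.obj j₀)) (c'.π.app j₀) :=
    @IsPullback.of_vert_isIso _ _ _ _ _ _ _ _ _ _ (IsIso.id _) (IsIso.id _) ⟨by simp⟩
  obtain ⟨j, φ, Xj, Yj, fj, gj, pY, pX, h1, h2, h3⟩ :=
    (Groth.Agent.H24.iff_exists_stage_of_core D' c' j₀ f₀ (𝟙 _) P hOI hcore hc' f (𝟙 _)
      (c'.π.app j₀) qX hY hX).mp hf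
  haveI : IsIso gj := h1.isIso_snd_of_isIso
  have hw : pY = gj ≫ D'.map φ := by
    have := h1.w
    rwa [Category.comp_id] at this
  have h2' : IsPullback pX (fj ≫ gj) f₀ (D'.map φ) :=
    IsPullback.of_iso h2 (Iso.refl _) (Iso.refl _) (asIso gj) (Iso.refl _) (by simp) (by simp)
      (by simp) (by simp [hw])
  refine ⟨j, φ, fun {Xj'} pX' fj' sq => ?_⟩
  have e := sq.isoIsPullback _ _ h2'
  have he : fj' = (sq.isoIsPullback _ _ h2').hom ≫ fj ≫ gj :=
    (IsPullback.isoIsPullback_hom_snd _ _ sq h2').symm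
  rw [he]
  exact P.comp_mem _ _ (hOI _) (P.comp_mem _ _ h3 (hOI _))

end Groth.Agent.H50
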