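import Groth.Agent.H50.LimTop
import Groth.Agent.H50.LimDescSch
import Groth.Agent.H50.LocPClass
import Groth.Agent.H49.AlgSpQC
import Groth.Agent.H51.SpCover

set_option autoImplicit false
set_option backward.isDefEq.respectTransparency false
set_option linter.style.haveILetI false
universe u
open CategoryTheory CategoryTheory.Limits AlgebraicGeometry Opposite Topology

namespace Groth.Agent.H50

open AlgSp

variable {S : Scheme.{u}}

/-- Lifting a chart of the base to a base change. -/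
theorem exists_chart_of_isPullback_base {Y₀ B₀ B' Y' : Sp S} {b₀ : Y₀ ⟶ B₀} {β : B' ⟶ B₀}
    {pY' : Y' ⟶ Y₀} {qY' : Y' ⟶ B'} (hY' : IsPullback pY' qY' b₀ β) {V T : Over S}
    (v' : (yon S).obj V ⟶ Y₀) (r : T ⟶ V) (t : (yon S).obj T ⟶ B')
    (sqT : IsPullback t ((yon S).map r) β (v' ≫ b₀)) :
    ∃ ℓ : (yon S).obj T ⟶ Y', ℓ ≫ qY' = t ∧ IsPullback ℓ ((yon S).map r) pY' v' := by
  have comm : ((yon S).map r ≫ v') ≫ b₀ = t ≫ β := by
    rw [Category.assoc]; exact sqT.w.symm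
  refine ⟨hY'.lift ((yon S).map r ≫ v') t comm, hY'.lift_snd _ _ _, ?_⟩
  refine IsPullback.of_right ?_ (hY'.lift_fst _ _ _) hY'.flip
  rw [hY'.lift_snd]
  exact sqT

/-- Lifting a chart of a morphism to a base change. -/
theorem exists_chart_of_isPullback_mor {X₀ Y₀ X' Y' : Sp S} {f₀ : X₀ ⟶ Y₀} {pY' : Y' ⟶ Y₀}
    {f' : X' ⟶ Y'} {pX' : X' ⟶ X₀} (hX' : IsPullback pX' f' f₀ pY') {U V T : Over S}
    (a₀ : (yon S).obj U ⟶ X₀) (v' : (yon S).obj V ⟶ Y₀) (h₀ : U ⟶ V)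
    (hcomm : a₀ ≫ f₀ = (yon S).map h₀ ≫ v') (r : T ⟶ V) (ℓ : (yon S).obj T ⟶ Y')
    (sqℓ : IsPullback ℓ ((yon S).map r) pY' v') :
    ∃ ℓX : (yon S).obj (pullback h₀ r) ⟶ X',
      ℓX ≫ f' = (yon S).map (pullback.snd h₀ r) ≫ ℓ ∧
      IsPullback ℓX ((yon S).map (pullback.fst h₀ r)) pX' a₀ := by
  have sqXT := (IsPullback.of_hasPullback h₀ r).map (yon S)
  have comm : ((yon S).map (pullback.fst h₀ r) ≫ a₀) ≫ f₀ =
      ((yon S).map (pullback.snd h₀ r) ≫ ℓ) ≫ pY' := by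
    rw [Category.assoc, hcomm, ← Category.assoc, sqXT.w, Category.assoc, Category.assoc, sqℓ.w]
  refine ⟨hX'.lift _ _ comm, hX'.lift_snd _ _ _, ?_⟩
  refine IsPullback.of_right ?_ (hX'.lift_fst _ _ _) hX'.flip
  rw [hX'.lift_snd, hcomm]
  exact sqXT.flip.paste_horiz sqℓ

variable {I : Type u} [SmallCategory I] [IsCofiltered I] (D : I ⥤ Sp S)
  (hDa : ∀ (i j : I) (φ : i ⟶ j), IsAffineMor (D.map φ))

omit [IsCofiltered I] in
/-- The squares between the members of the affine system. -/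
theorem affSys_isPullback_map (i₀ : I) {Z : Over S} (hZ : IsAffine Z.left)
    (g : (yon S).obj Z ⟶ D.obj i₀) {j k : Over i₀} (φ : j ⟶ k) :
    IsPullback (affSysFst D hDa i₀ hZ g j) ((yon S).map ((affSys D hDa i₀ hZ g).map φ))
      (D.map φ.left) (affSysFst D hDa i₀ hZ g k) := by
  refine IsPullback.of_bot ?_ (affSysMap_fst D hDa i₀ hZ g φ).symm
    (affSys_isPullback D hDa i₀ hZ g k)
  rw [← Functor.map_comp, ← D.map_comp, Over.w φ]
  change IsPullback _ ((yon S).map (affSysMap D hDa i₀ hZ g φ ≫ _)) _ _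
  rw [affSysMap_ι]
  exact affSys_isPullback D hDa i₀ hZ g j

section Main

variable [QuasiSeparatedSpace ↥S] {P : MorphismProperty Scheme.{u}} (hG : GoodClass P)
  [IsZariskiLocalAtSource P]
  (hOI : ∀ {A B : Scheme.{u}} (j : A ⟶ B) [IsOpenImmersion j], P j)
  (hcore : Groth.Agent.H24.CoreDescent P)
  (c : Cone D) (hc : IsLimit c)

include hG hOI hcore hDa hc in
/-- Descent of a property which is etale local on the source and target along a cofiltered limit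
of algebraic spaces with affine transition maps. -/
theorem descend_locP_of_isLimit (i₀ : I) {X₀ Y₀ : Sp S} (_hX₀ : IsAlgSpace X₀)
    (hY₀ : IsAlgSpace Y₀) (f₀ : X₀ ⟶ Y₀) (b₀ : Y₀ ⟶ D.obj i₀)
    (hXqc : IsQuasiCompactSp X₀) (hYqc : IsQuasiCompactSp Y₀) (hYqs : IsQuasiSeparatedSp Y₀)
    (X Y : Sp S) (f : X ⟶ Y) (pY : Y ⟶ Y₀) (qY : Y ⟶ c.pt)
    (hY : IsPullback pY qY b₀ (c.π.app i₀)) (pX : X ⟶ X₀) (hX : IsPullback pX f f₀ pY)
    (hf : LocP P f) (hf₀ : LocP @LocallyOfFinitePresentation f₀) :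
    ∃ (i : I) (φ : i ⟶ i₀), ∀ (Xi Yi : Sp S) (fi : Xi ⟶ Yi) (pYi : Yi ⟶ Y₀)
      (qYi : Yi ⟶ D.obj i) (_ : IsPullback pYi qYi b₀ (D.map φ)) (pXi : Xi ⟶ X₀)
      (_ : IsPullback pXi fi f₀ pYi), LocP P fi := by
  have := hG.comp
  have := hG.bc
  -- affine atlases
  obtain ⟨V₀, v, hV₀, hv, hvs⟩ :=
    (Groth.Agent.H51.isQuasiCompactSp_iff_exists_affine_atlas).1 hYqc
  obtain ⟨U₁, u₁, hU₁, hu₁, hu₁s⟩ :=
    (Groth.Agent.H51.isQuasiCompactSp_iff_exists_affine_atlas).1 hXqc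
  -- the affine system over the chart of `Y₀`
  haveI : IsConnected (Over i₀) := IsCofiltered.isConnected _
  haveI := affSys_hasLimit D hDa i₀ hV₀ (v ≫ b₀)
  let W := affSys D hDa i₀ hV₀ (v ≫ b₀)
  let L := limit.cone W
  have hL : IsLimit L := limit.isLimit W
  let i₀' : Over i₀ := Over.mk (𝟙 i₀)
  -- the chart `W i₀'` of `Y₀`
  have sq₀ := affSys_isPullback D hDa i₀ hV₀ (v ≫ b₀) i₀'
  haveI : IsIso (D.map i₀'.hom) := by
    change IsIso (D.map (𝟙 i₀))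
    rw [D.map_id]
    infer_instance
  haveI hιiso : IsIso ((yon S).map (affSysι D hDa i₀ hV₀ (v ≫ b₀) i₀')) :=
    sq₀.isIso_snd_of_isIso
  let v' : (yon S).obj (W.obj i₀') ⟶ Y₀ := (yon S).map (affSysι D hDa i₀ hV₀ (v ≫ b₀) i₀') ≫ v
  have hv' : RepWith @Etale v' := MorphismProperty.RespectsIso.precomp _ _ _ hv
  have hv's : RepWith @Surjective v' := MorphismProperty.RespectsIso.precomp _ _ _ hvs
  have hv'b : v' ≫ b₀ = affSysFst D hDa i₀ hV₀ (v ≫ b₀) i₀' := by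
    have := sq₀.w
    change _ ≫ D.map (𝟙 i₀) = _ at this
    rw [D.map_id, Category.comp_id] at this
    rw [this, Category.assoc]
  -- the chart of `X₀`
  obtain ⟨U₀, w₁, h₀, sqU⟩ := Groth.Agent.H53.exists_pullback_yon (u₁ ≫ f₀) v' hv'.rep
  have hw₁ : Etale w₁.left := Groth.Agent.H53.prop_of_isPullback_yon sqU hv'
  have hw₁s : Surjective w₁.left := Groth.Agent.H53.prop_of_isPullback_yon sqU hv's
  let a₀ : (yon S).obj U₀ ⟶ X₀ := (yon S).map w₁ ≫ u₁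
  have ha₀ : RepWith @Etale a₀ :=
    (RepWith @Etale).comp_mem _ _ ((repWith_yon_map_iff _ _).2 hw₁) hu₁
  have ha₀s : RepWith @Surjective a₀ :=
    (RepWith @Surjective).comp_mem _ _ ((repWith_yon_map_iff _ _).2 hw₁s) hu₁s
  have hcomm : a₀ ≫ f₀ = (yon S).map h₀ ≫ v' := by
    rw [Category.assoc]; exact sqU.w
  haveI hh₀ : LocallyOfFinitePresentation h₀.left := hf₀ a₀ v' h₀ ha₀ hv' hcomm
  haveI hU₀c : CompactSpace ↥U₀.left := by
    haveI : IsAffine U₁.left := hU₁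
    haveI : IsAffine (W.obj i₀').left := affSys_isAffine D hDa i₀ hV₀ (v ≫ b₀) i₀'
    have hqcm : IsQuasiCompactMor (u₁ ≫ f₀) :=
      Groth.Agent.H49.isQuasiCompactMor_of_isQuasiCompactSp_of_isQuasiSeparatedSp
        (IsAlgSpace.yon_obj U₁) hY₀ _ (Groth.Agent.H49.isQuasiCompactSp_yon U₁) hYqs
    exact Groth.Agent.H49.compactSpace_of_isQuasiCompactSp_yon U₀
      (hqcm (IsAlgSpace.yon_obj _) (Groth.Agent.H49.isQuasiCompactSp_yon (W.obj i₀')) v' _ _ sqU)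
  -- the limit level
  have sqL := affSys_isPullback_limit D hDa i₀ hV₀ (v ≫ b₀) c hc L hL
  have sqJ₀ : IsPullback (affSysLimFst D hDa i₀ hV₀ (v ≫ b₀) c hc L)
      ((yon S).map (L.π.app i₀')) (c.π.app i₀) (v' ≫ b₀) := by
    rw [hv'b]
    refine IsPullback.of_bot ?_ (affSysLimFst_π D hDa i₀ hV₀ (v ≫ b₀) c hc L i₀') sq₀
    rw [← Functor.map_comp]
    have : c.π.app i₀ ≫ D.map i₀'.hom = c.π.app i₀ := c.w i₀'.hom
    rw [this]
    exact sqL
  obtain ⟨ℓY, -, sqℓY⟩ := exists_chart_of_isPullback_base hY v' (L.π.app i₀')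
    (affSysLimFst D hDa i₀ hV₀ (v ≫ b₀) c hc L) sqJ₀
  obtain ⟨ℓX, hℓX, sqℓX⟩ := exists_chart_of_isPullback_mor hX a₀ v' h₀ hcomm (L.π.app i₀') ℓY sqℓY
  have hℓYe : RepWith @Etale ℓY := MorphismProperty.of_isPullback sqℓY.flip hv'
  have hℓXe : RepWith @Etale ℓX := MorphismProperty.of_isPullback sqℓX.flip ha₀
  have hPL : P (pullback.snd h₀ (L.π.app i₀')).left := hf ℓX ℓY _ hℓXe hℓYe hℓX
  -- the scheme level descent
  have hL' := isLimitOfPreserves (Over.forget S) hL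
  haveI : ∀ j, IsAffine ((W ⋙ Over.forget S).obj j) := affSys_isAffine D hDa i₀ hV₀ (v ≫ b₀)
  haveI : ∀ {j k : Over i₀} (f : j ⟶ k), IsAffineHom ((W ⋙ Over.forget S).map f) :=
    fun f => isAffineHom_of_isAffine _
  haveI : LocallyOfFinitePresentation (X := U₀.left) (Y := (W ⋙ Over.forget S).obj i₀')
      h₀.left := hh₀
  obtain ⟨j, φ', hj⟩ := exists_stage_of_core_id P hOI hcore (W ⋙ Over.forget S)
    ((Over.forget S).mapCone L) hL' i₀' (X₀ := U₀.left) h₀.left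
    (pullback.snd h₀ (L.π.app i₀')).left (pullback.fst h₀ (L.π.app i₀')).left
    ((IsPullback.of_hasPullback h₀ (L.π.app i₀')).map (Over.forget S)) hPL
  have hPj : P (pullback.snd h₀ (W.map φ')).left :=
    hj (pullback.fst h₀ (W.map φ')).left (pullback.snd h₀ (W.map φ')).left
      ((IsPullback.of_hasPullback h₀ (W.map φ')).map (Over.forget S))
  -- the stage
  refine ⟨j.left, φ'.left, ?_⟩
  intro Xi Yi fi pYi qYi hYi pXi hXi
  have sqJ : IsPullback (affSysFst D hDa i₀ hV₀ (v ≫ b₀) j) ((yon S).map (W.map φ'))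
      (D.map φ'.left) (v' ≫ b₀) := by
    rw [hv'b]
    exact affSys_isPullback_map D hDa i₀ hV₀ (v ≫ b₀) φ'
  obtain ⟨ℓYi, -, sqℓYi⟩ := exists_chart_of_isPullback_base hYi v' (W.map φ')
    (affSysFst D hDa i₀ hV₀ (v ≫ b₀) j) sqJ
  obtain ⟨ℓXi, hℓXi, sqℓXi⟩ :=
    exists_chart_of_isPullback_mor hXi a₀ v' h₀ hcomm (W.map φ') ℓYi sqℓYi
  have hℓYie : RepWith @Etale ℓYi := MorphismProperty.of_isPullback sqℓYi.flip hv'
  have hℓXie : RepWith @Etale ℓXi := MorphismProperty.of_isPullback sqℓXi.flip ha₀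
  have hℓXis : RepWith @Surjective ℓXi := MorphismProperty.of_isPullback sqℓXi.flip ha₀s
  exact hG.locP_of_one_chart fi ℓXi ℓYi _ hℓXie hℓXis hℓYie hℓXi hPj

end Main

end Groth.Agent.H50
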