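import Groth.Agent.H50.LimAffineU
import Groth.Agent.H50.LimDescLocP
import Groth.Agent.H49.AlgSpQC

set_option autoImplicit false
set_option backward.isDefEq.respectTransparency false
set_option linter.style.haveILetI false
universe u
open CategoryTheory CategoryTheory.Limits AlgebraicGeometry Opposite

namespace Groth.Agent.H50

open AlgSp

variable {S : Scheme.{u}}

/-- An affine scheme over `S` is quasi-separated over `S`. -/
theorem isQuasiSeparatedSp_yon_of_isAffine (U : Over S) (hU : IsAffine U.left) :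
    IsQuasiSeparatedSp ((yon S).obj U) := by
  unfold IsQuasiSeparatedSp
  rw [repWith_diag_yon_iff]
  have : QuasiSeparated U.hom := inferInstance
  exact QuasiSeparated.quasiCompact_diagonal

section

variable {I : Type u} [SmallCategory I] [IsCofiltered I] (D : I ⥤ Sp S)
  (hDa : ∀ (i j : I) (φ : i ⟶ j), IsAffineMor (D.map φ)) (c : Cone D) (hc : IsLimit c)
  (i₀ : I) {Z : Over S} (hZ : IsAffine Z.left) (g : (yon S).obj Z ⟶ D.obj i₀)

omit [IsCofiltered I] in
include hc in
/-- The limit of the affine system represents the fibre product of each member with the limit. -/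
theorem affSys_isPullback_limit_stage [IsCofiltered I] (L : Cone (affSys D hDa i₀ hZ g))
    (hL : IsLimit L) (j : Over i₀) :
    IsPullback (affSysLimFst D hDa i₀ hZ g c hc L) ((yon S).map (L.π.app j))
      (c.π.app j.left) (affSysFst D hDa i₀ hZ g j) := by
  refine IsPullback.of_bot ?_ (affSysLimFst_π D hDa i₀ hZ g c hc L j)
    (affSys_isPullback D hDa i₀ hZ g j)
  rw [← Functor.map_comp, affSys_π_ι, c.w]
  exact affSys_isPullback_limit D hDa i₀ hZ g c hc L hL

variable [QuasiSeparatedSpace ↥S]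

include hc in
/-- A morphism from a member of the affine atlas system to a scheme locally of finite type over
`S` which descends to the limit descends to a later stage. -/
theorem exists_desc_of_atlas_sys (hD : ∀ i, IsAlgSpace (D.obj i))
    (hqs : ∀ i, IsQuasiSeparatedSp (D.obj i)) (hg : RepWith @Etale g)
    (hgs : RepWith @Surjective g) (L : Cone (affSys D hDa i₀ hZ g)) (hL : IsLimit L)
    {V : Over S} (hV : LocallyOfFiniteType V.hom) (j : Over i₀)
    (ψ : (affSys D hDa i₀ hZ g).obj j ⟶ V) (a : c.pt ⟶ (yon S).obj V)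
    (ha : affSysLimFst D hDa i₀ hZ g c hc L ≫ a = (yon S).map (L.π.app j ≫ ψ)) :
    ∃ (j' : Over i₀) (θ : j' ⟶ j) (π' : D.obj j'.left ⟶ (yon S).obj V),
      affSysFst D hDa i₀ hZ g j' ≫ π' = (yon S).map ((affSys D hDa i₀ hZ g).map θ ≫ ψ) := by
  let W := affSys D hDa i₀ hZ g
  let u_c := affSysLimFst D hDa i₀ hZ g c hc L
  let q := affSysFst D hDa i₀ hZ g j
  have hUaff : IsAffine (W.obj j).left := affSys_isAffine D hDa i₀ hZ g j
  -- the kernel pair
  let K := pullback q q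
  let k₁ : K ⟶ (yon S).obj (W.obj j) := pullback.fst q q
  let k₂ : K ⟶ (yon S).obj (W.obj j) := pullback.snd q q
  have sqK : IsPullback k₁ k₂ q q := IsPullback.of_hasPullback q q
  have hUqc : IsQuasiCompactSp ((yon S).obj (W.obj j)) :=
    Groth.Agent.H49.isQuasiCompactSp_yon (W.obj j)
  have hUqs : IsQuasiSeparatedSp ((yon S).obj (W.obj j)) :=
    isQuasiSeparatedSp_yon_of_isAffine _ hUaff
  have hKqc : IsQuasiCompactSp K :=
    (Groth.Agent.H49.isQuasiCompactSp_and_isQuasiSeparatedSp_of_isPullback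
      (IsAlgSpace.yon_obj _) (hD _) (IsAlgSpace.yon_obj _) sqK ⟨hUqc, hUqs⟩ (hqs _)
      ⟨hUqc, hUqs⟩).1
  let b₀ : K ⟶ D.obj j.left := k₁ ≫ q
  let A : K ⟶ (yon S).obj V := k₁ ≫ (yon S).map ψ
  let B : K ⟶ (yon S).obj V := k₂ ≫ (yon S).map ψ
  -- base change to the limit
  let Y := pullback b₀ (c.π.app j.left)
  let pY : Y ⟶ K := pullback.fst _ _
  let qY : Y ⟶ c.pt := pullback.snd _ _
  have hY : IsPullback pY qY b₀ (c.π.app j.left) := IsPullback.of_hasPullback _ _
  have sqLj := affSys_isPullback_limit_stage D hDa c hc i₀ hZ g L hL j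
  let y₁ : Y ⟶ (yon S).obj L.pt := sqLj.lift qY (pY ≫ k₁) (by
    rw [Category.assoc]
    exact hY.w.symm)
  let y₂ : Y ⟶ (yon S).obj L.pt := sqLj.lift qY (pY ≫ k₂) (by
    rw [Category.assoc, ← sqK.w]
    exact hY.w.symm)
  have hy₁1 : y₁ ≫ u_c = qY := sqLj.lift_fst _ _ _
  have hy₁2 : y₁ ≫ (yon S).map (L.π.app j) = pY ≫ k₁ := sqLj.lift_snd _ _ _
  have hy₂1 : y₂ ≫ u_c = qY := sqLj.lift_fst _ _ _
  have hy₂2 : y₂ ≫ (yon S).map (L.π.app j) = pY ≫ k₂ := sqLj.lift_snd _ _ _
  have hab : pY ≫ A = pY ≫ B := by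
    have h1 : pY ≫ A = qY ≫ a :=
      calc pY ≫ A = (pY ≫ k₁) ≫ (yon S).map ψ := (Category.assoc _ _ _).symm
        _ = (y₁ ≫ (yon S).map (L.π.app j)) ≫ (yon S).map ψ := by rw [hy₁2]
        _ = y₁ ≫ (yon S).map (L.π.app j ≫ ψ) := by rw [Category.assoc, ← Functor.map_comp]
        _ = y₁ ≫ u_c ≫ a := by rw [← ha]
        _ = qY ≫ a := by rw [← Category.assoc, hy₁1]
    have h2 : pY ≫ B = qY ≫ a :=
      calc pY ≫ B = (pY ≫ k₂) ≫ (yon S).map ψ := (Category.assoc _ _ _).symm
        _ = (y₂ ≫ (yon S).map (L.π.app j)) ≫ (yon S).map ψ := by rw [hy₂2]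
        _ = y₂ ≫ (yon S).map (L.π.app j ≫ ψ) := by rw [Category.assoc, ← Functor.map_comp]
        _ = y₂ ≫ u_c ≫ a := by rw [← ha]
        _ = qY ≫ a := by rw [← Category.assoc, hy₂1]
    rw [h1, h2]
  obtain ⟨i, φ, hi⟩ := exists_eq_of_lft_sp D hDa c hc j.left hKqc b₀ hV A B Y pY qY hY hab
  -- the later stage
  let j' : Over i₀ := Over.mk (φ ≫ j.hom)
  let θ : j' ⟶ j := Over.homMk φ rfl
  let q' := affSysFst D hDa i₀ hZ g j'
  have sqθ : IsPullback q' ((yon S).map (W.map θ)) (D.map φ) q :=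
    affSys_isPullback_map D hDa i₀ hZ g θ
  have hq'e : RepWith @Etale q' :=
    MorphismProperty.of_isPullback (affSys_isPullback D hDa i₀ hZ g j').flip hg
  have hq's : RepWith @Surjective q' :=
    MorphismProperty.of_isPullback (affSys_isPullback D hDa i₀ hZ g j').flip hgs
  haveI : Epi q' := Groth.Agent.H52.epi_of_repWith_etale_surjective q' hq'e hq's
  let k₁' := pullback.fst q' q'
  let k₂' := pullback.snd q' q'
  have sqK' : IsPullback k₁' k₂' q' q' := IsPullback.of_hasPullback q' q'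
  let κ : pullback q' q' ⟶ K := pullback.lift (k₁' ≫ (yon S).map (W.map θ))
    (k₂' ≫ (yon S).map (W.map θ)) (by
      rw [Category.assoc, Category.assoc, ← sqθ.w, ← Category.assoc, ← Category.assoc, sqK'.w])
  have hκ1 : κ ≫ k₁ = k₁' ≫ (yon S).map (W.map θ) := pullback.lift_fst _ _ _
  have hκ2 : κ ≫ k₂ = k₂' ≫ (yon S).map (W.map θ) := pullback.lift_snd _ _ _
  let Yi := pullback b₀ (D.map φ)
  have hYi : IsPullback (pullback.fst b₀ (D.map φ)) (pullback.snd b₀ (D.map φ)) b₀ (D.map φ) :=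
    IsPullback.of_hasPullback _ _
  let t : pullback q' q' ⟶ Yi := pullback.lift κ (k₁' ≫ q') (by
    rw [← Category.assoc, hκ1, Category.assoc, Category.assoc, sqθ.w])
  have ht : t ≫ pullback.fst b₀ (D.map φ) = κ := pullback.lift_fst _ _ _
  have heq : k₁' ≫ (yon S).map (W.map θ ≫ ψ) = k₂' ≫ (yon S).map (W.map θ ≫ ψ) := by
    have h1 : k₁' ≫ (yon S).map (W.map θ ≫ ψ) = t ≫ pullback.fst b₀ (D.map φ) ≫ A := by
      rw [← Category.assoc, ht, ← Category.assoc, hκ1, Category.assoc, ← Functor.map_comp]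
    have h2 : k₂' ≫ (yon S).map (W.map θ ≫ ψ) = t ≫ pullback.fst b₀ (D.map φ) ≫ B := by
      rw [← Category.assoc, ht, ← Category.assoc, hκ2, Category.assoc, ← Functor.map_comp]
    rw [h1, h2, hi _ _ _ hYi]
  obtain ⟨π', hπ'⟩ := Groth.Agent.H52.exists_desc_of_epi_of_isKernelPair q' sqK'
    ((yon S).map (W.map θ ≫ ψ)) heq
  exact ⟨j', θ, π', hπ'⟩

end

end Groth.Agent.H50
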