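import Groth.Agent.H50.LimDescLocP
import Groth.Agent.H24.LimitLocusEtale
import Groth.Agent.H24.LimitLocusFlat
import Groth.Agent.H24.LimitLocusSmooth
import Groth.Agent.H49.AlgSpRep

set_option autoImplicit false
set_option backward.isDefEq.respectTransparency false
set_option linter.style.haveILetI false
universe u
open CategoryTheory CategoryTheory.Limits AlgebraicGeometry Opposite Topology

namespace Groth.Agent.H50

open AlgSp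

variable {S : Scheme.{u}}

/-- A morphism of algebraic spaces which is etale on charts is etale. -/
theorem isEtaleMor_of_locP_etale {X Y : Sp S} (hX : IsAlgSpace X) (hY : IsAlgSpace Y) (f : X ⟶ Y)
    (hf : LocP @Etale f) : IsEtaleMor f := by
  intro U φ hφ
  exact goodClass_etale.repWith_of_locP hY (φ ≫ f) (hY.representable_from_yon _)
    (goodClass_etale.locP_comp hX φ f (goodClass_etale.locP_of_repWith_etale φ hφ) hf)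

variable [QuasiSeparatedSpace ↥S] {I : Type u} [SmallCategory I] [IsCofiltered I] (D : I ⥤ Sp S)
  (hDa : ∀ (i j : I) (φ : i ⟶ j), IsAffineMor (D.map φ)) (c : Cone D) (hc : IsLimit c)

include hDa hc in
theorem descend_flat_of_isLimit (i₀ : I) {X₀ Y₀ : Sp S} (hX₀ : IsAlgSpace X₀)
    (hY₀ : IsAlgSpace Y₀) (f₀ : X₀ ⟶ Y₀) (b₀ : Y₀ ⟶ D.obj i₀)
    (hXqc : IsQuasiCompactSp X₀) (hYqc : IsQuasiCompactSp Y₀) (hYqs : IsQuasiSeparatedSp Y₀)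
    (X Y : Sp S) (f : X ⟶ Y) (pY : Y ⟶ Y₀) (qY : Y ⟶ c.pt)
    (hY : IsPullback pY qY b₀ (c.π.app i₀)) (pX : X ⟶ X₀) (hX : IsPullback pX f f₀ pY)
    (hf : LocP @Flat f) (hf₀ : LocP @LocallyOfFinitePresentation f₀) :
    ∃ (i : I) (φ : i ⟶ i₀), ∀ (Xi Yi : Sp S) (fi : Xi ⟶ Yi) (pYi : Yi ⟶ Y₀)
      (qYi : Yi ⟶ D.obj i) (_ : IsPullback pYi qYi b₀ (D.map φ)) (pXi : Xi ⟶ X₀)
      (_ : IsPullback pXi fi f₀ pYi), LocP @Flat fi :=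
  descend_locP_of_isLimit D hDa goodClass_flat (fun _ _ => inferInstance)
    Groth.Agent.H24.coreDescent_flat c hc i₀ hX₀ hY₀ f₀ b₀ hXqc hYqc hYqs X Y f pY qY hY pX hX
    hf hf₀

include hDa hc in
theorem descend_smooth_of_isLimit (i₀ : I) {X₀ Y₀ : Sp S} (hX₀ : IsAlgSpace X₀)
    (hY₀ : IsAlgSpace Y₀) (f₀ : X₀ ⟶ Y₀) (b₀ : Y₀ ⟶ D.obj i₀)
    (hXqc : IsQuasiCompactSp X₀) (hYqc : IsQuasiCompactSp Y₀) (hYqs : IsQuasiSeparatedSp Y₀)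
    (X Y : Sp S) (f : X ⟶ Y) (pY : Y ⟶ Y₀) (qY : Y ⟶ c.pt)
    (hY : IsPullback pY qY b₀ (c.π.app i₀)) (pX : X ⟶ X₀) (hX : IsPullback pX f f₀ pY)
    (hf : LocP @Smooth f) (hf₀ : LocP @LocallyOfFinitePresentation f₀) :
    ∃ (i : I) (φ : i ⟶ i₀), ∀ (Xi Yi : Sp S) (fi : Xi ⟶ Yi) (pYi : Yi ⟶ Y₀)
      (qYi : Yi ⟶ D.obj i) (_ : IsPullback pYi qYi b₀ (D.map φ)) (pXi : Xi ⟶ X₀)
      (_ : IsPullback pXi fi f₀ pYi), LocP @Smooth fi :=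
  descend_locP_of_isLimit D hDa goodClass_smooth (fun _ _ => inferInstance)
    Groth.Agent.H24.coreDescent_smooth c hc i₀ hX₀ hY₀ f₀ b₀ hXqc hYqc hYqs X Y f pY qY hY pX hX
    hf hf₀

include hDa hc in
theorem descend_etale_of_isLimit (hD : ∀ i, IsAlgSpace (D.obj i)) (i₀ : I) {X₀ Y₀ : Sp S}
    (hX₀ : IsAlgSpace X₀)
    (hY₀ : IsAlgSpace Y₀) (f₀ : X₀ ⟶ Y₀) (b₀ : Y₀ ⟶ D.obj i₀)
    (hXqc : IsQuasiCompactSp X₀) (hYqc : IsQuasiCompactSp Y₀) (hYqs : IsQuasiSeparatedSp Y₀)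
    (X Y : Sp S) (f : X ⟶ Y) (pY : Y ⟶ Y₀) (qY : Y ⟶ c.pt)
    (hY : IsPullback pY qY b₀ (c.π.app i₀)) (pX : X ⟶ X₀) (hX : IsPullback pX f f₀ pY)
    (hf : IsEtaleMor f) (hf₀ : LocP @LocallyOfFinitePresentation f₀) :
    ∃ (i : I) (φ : i ⟶ i₀), ∀ (Xi Yi : Sp S) (fi : Xi ⟶ Yi) (pYi : Yi ⟶ Y₀)
      (qYi : Yi ⟶ D.obj i) (_ : IsPullback pYi qYi b₀ (D.map φ)) (pXi : Xi ⟶ X₀)
      (_ : IsPullback pXi fi f₀ pYi), IsEtaleMor fi := by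
  obtain ⟨i, φ, h⟩ := descend_locP_of_isLimit D hDa goodClass_etale (fun _ _ => inferInstance)
    Groth.Agent.H24.coreDescent_etale c hc i₀ hX₀ hY₀ f₀ b₀ hXqc hYqc hYqs X Y f pY qY hY pX hX
    (Groth.Agent.H53.locP_etale_of_isEtaleMor f hf) hf₀
  refine ⟨i, φ, fun Xi Yi fi pYi qYi hYi pXi hXi => ?_⟩
  have hYia : IsAlgSpace Yi :=
    Groth.Agent.H49.isAlgSpace_of_isPullback hYi (hD i₀).diag hY₀ (hD i)
  have hXia : IsAlgSpace Xi := Groth.Agent.H49.isAlgSpace_of_isPullback hXi hY₀.diag hX₀ hYia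
  exact isEtaleMor_of_locP_etale hXia hYia fi (h Xi Yi fi pYi qYi hYi pXi hXi)

end Groth.Agent.H50
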