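import Groth.Agent.H50.LimDescUInj
import Groth.Agent.H50.LimDescLocP2
import Groth.Agent.H50.LocPBase
import Groth.Agent.H51.SpEtMono
import Groth.Agent.H51.SpOpen

set_option autoImplicit false
set_option backward.isDefEq.respectTransparency false
set_option linter.style.haveILetI false
universe u
open CategoryTheory CategoryTheory.Limits AlgebraicGeometry Opposite Topology

namespace Groth.Agent.H50

open AlgSp

variable {S : Scheme.{u}}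

/-- Etale morphisms of algebraic spaces are stable under base change. -/
theorem isEtaleMor_of_isPullback {X Y Y' X' : Sp S} (hX : IsAlgSpace X) (hY : IsAlgSpace Y)
    (hY' : IsAlgSpace Y') {f : X ⟶ Y} {g : Y' ⟶ Y} {fst : X' ⟶ X} {f' : X' ⟶ Y'}
    (sq : IsPullback fst f' f g) (hf : IsEtaleMor f) : IsEtaleMor f' := by
  have hX' : IsAlgSpace X' := Groth.Agent.H49.isAlgSpace_of_isPullback sq hY.diag hX hY'
  exact isEtaleMor_of_locP_etale hX' hY' f'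
    (goodClass_etale.locP_of_isPullback hX hY hY' f g fst f' sq
      (Groth.Agent.H53.locP_etale_of_isEtaleMor f hf))

/-- Surjectivity on points is stable under base change. -/
theorem isSurjectiveMor_of_isPullback {X Y Y' X' : Sp S} {f : X ⟶ Y} {g : Y' ⟶ Y}
    {fst : X' ⟶ X} {f' : X' ⟶ Y'} (sq : IsPullback fst f' f g) (hf : IsSurjectiveMor f) :
    IsSurjectiveMor f' := by
  intro y'
  obtain ⟨x, hx⟩ := hf (Points.map g y')
  obtain ⟨z, -, hz⟩ := points_exists_of_isPullback sq x y' hx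
  exact ⟨z, hz⟩

/-- Universal injectivity is stable under base change. -/
theorem isUnivInjectiveMor_of_isPullback {X Y Y' X' : Sp S} {f : X ⟶ Y} {g : Y' ⟶ Y}
    {fst : X' ⟶ X} {f' : X' ⟶ Y'} (sq : IsPullback fst f' f g) (hf : IsUnivInjectiveMor f) :
    IsUnivInjectiveMor f' := by
  intro Z Z' hZ g₀ a b sq₀
  exact hf hZ (g₀ ≫ g) (a ≫ fst) b (sq₀.paste_horiz sq)

variable {I : Type u} [SmallCategory I] (D : I ⥤ Sp S)

/-- A property of the base changes to a stage which is stable under base change holds for the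
base changes to all smaller stages. -/
theorem forall_stage_of_stage (Q : MorphismProperty (Sp S))
    (hQ : ∀ {A B A' B' : Sp S} {f : A ⟶ B} {g : B' ⟶ B} {fst : A' ⟶ A} {f' : A' ⟶ B'},
      IsAlgSpace A → IsAlgSpace B → IsAlgSpace B' → IsPullback fst f' f g → Q f → Q f')
    (hD : ∀ i, IsAlgSpace (D.obj i))
    {i₀ : I} {X₀ Y₀ : Sp S} (hX₀ : IsAlgSpace X₀) (hY₀ : IsAlgSpace Y₀) (f₀ : X₀ ⟶ Y₀)
    (b₀ : Y₀ ⟶ D.obj i₀) {i : I} (φ : i ⟶ i₀)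
    (h : ∀ (Xi Yi : Sp S) (fi : Xi ⟶ Yi) (pYi : Yi ⟶ Y₀) (qYi : Yi ⟶ D.obj i)
      (_ : IsPullback pYi qYi b₀ (D.map φ)) (pXi : Xi ⟶ X₀) (_ : IsPullback pXi fi f₀ pYi), Q fi)
    {i' : I} (ψ : i' ⟶ i) (φ' : i' ⟶ i₀) (hφ' : ψ ≫ φ = φ') :
    ∀ (Xi Yi : Sp S) (fi : Xi ⟶ Yi) (pYi : Yi ⟶ Y₀) (qYi : Yi ⟶ D.obj i')
      (_ : IsPullback pYi qYi b₀ (D.map φ')) (pXi : Xi ⟶ X₀) (_ : IsPullback pXi fi f₀ pYi),
      Q fi := by
  subst hφ'
  intro Xi' Yi' fi' pYi' qYi' hYi' pXi' hXi'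
  have sqY := IsPullback.of_hasPullback b₀ (D.map φ)
  have sqX := IsPullback.of_hasPullback f₀ (pullback.fst b₀ (D.map φ))
  have hQi : Q (pullback.snd f₀ (pullback.fst b₀ (D.map φ))) := h _ _ _ _ _ sqY _ sqX
  let γ : Yi' ⟶ pullback b₀ (D.map φ) := pullback.lift pYi' (qYi' ≫ D.map ψ) (by
    rw [Category.assoc, ← D.map_comp]; exact hYi'.w)
  have hγ : γ ≫ pullback.fst b₀ (D.map φ) = pYi' := pullback.lift_fst _ _ _
  let δ : Xi' ⟶ pullback f₀ (pullback.fst b₀ (D.map φ)) := pullback.lift pXi' (fi' ≫ γ) (by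
    rw [Category.assoc, hγ]; exact hXi'.w)
  have hδ1 : δ ≫ pullback.fst f₀ (pullback.fst b₀ (D.map φ)) = pXi' := pullback.lift_fst _ _ _
  have hδ2 : δ ≫ pullback.snd f₀ (pullback.fst b₀ (D.map φ)) = fi' ≫ γ := pullback.lift_snd _ _ _
  have sq : IsPullback δ fi' (pullback.snd f₀ (pullback.fst b₀ (D.map φ))) γ := by
    refine IsPullback.of_right ?_ hδ2 sqX
    rw [hδ1, hγ]
    exact hXi'
  have hYa : IsAlgSpace (pullback b₀ (D.map φ)) :=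
    Groth.Agent.H49.isAlgSpace_of_isPullback sqY (hD i₀).diag hY₀ (hD i)
  have hXa : IsAlgSpace (pullback f₀ (pullback.fst b₀ (D.map φ))) :=
    Groth.Agent.H49.isAlgSpace_of_isPullback sqX hY₀.diag hX₀ hYa
  have hYi'a : IsAlgSpace Yi' :=
    Groth.Agent.H49.isAlgSpace_of_isPullback hYi' (hD i₀).diag hY₀ (hD i')
  exact hQ hXa hYa hYi'a sq hQi

variable [IsCofiltered I]

omit [IsCofiltered I] in
theorem exists_common_stage [IsCofiltered I] {i₀ i₁ i₂ : I} (φ₁ : i₁ ⟶ i₀) (φ₂ : i₂ ⟶ i₀) :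
    ∃ (i : I) (ψ₁ : i ⟶ i₁) (ψ₂ : i ⟶ i₂), ψ₁ ≫ φ₁ = ψ₂ ≫ φ₂ := by
  refine ⟨IsCofiltered.eq (IsCofiltered.minToLeft i₁ i₂ ≫ φ₁) (IsCofiltered.minToRight i₁ i₂ ≫ φ₂),
    IsCofiltered.eqHom _ _ ≫ IsCofiltered.minToLeft i₁ i₂,
    IsCofiltered.eqHom _ _ ≫ IsCofiltered.minToRight i₁ i₂, ?_⟩
  rw [Category.assoc, Category.assoc]
  exact IsCofiltered.eq_condition _ _

variable (hDa : ∀ (i j : I) (φ : i ⟶ j), IsAffineMor (D.map φ)) [QuasiSeparatedSpace ↥S]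
  (c : Cone D) (hc : IsLimit c)

include hDa hc in
/-- Descent of isomorphisms along a cofiltered limit of algebraic spaces with affine transition
maps. -/
theorem descend_isIso_of_isLimit (hD : ∀ i, IsAlgSpace (D.obj i)) (i₀ : I)
    {X₀ Y₀ : Sp S} (hX₀ : IsAlgSpace X₀) (hY₀ : IsAlgSpace Y₀) (f₀ : X₀ ⟶ Y₀)
    (b₀ : Y₀ ⟶ D.obj i₀)
    (hXqc : IsQuasiCompactSp X₀) (hXqs : IsQuasiSeparatedSp X₀) (hYqc : IsQuasiCompactSp Y₀)
    (hYqs : IsQuasiSeparatedSp Y₀)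
    (X Y : Sp S) (f : X ⟶ Y) (pY : Y ⟶ Y₀) (qY : Y ⟶ c.pt)
    (hY : IsPullback pY qY b₀ (c.π.app i₀)) (pX : X ⟶ X₀) (hX : IsPullback pX f f₀ pY)
    [IsIso f] (hf₀ : LocP @LocallyOfFinitePresentation f₀) :
    ∃ (i : I) (φ : i ⟶ i₀), ∀ (Xi Yi : Sp S) (fi : Xi ⟶ Yi) (pYi : Yi ⟶ Y₀)
      (qYi : Yi ⟶ D.obj i) (_ : IsPullback pYi qYi b₀ (D.map φ)) (pXi : Xi ⟶ X₀)
      (_ : IsPullback pXi fi f₀ pYi), IsIso fi := by
  have hfE : IsEtaleMor f := fun U φ hφ => MorphismProperty.RespectsIso.postcomp _ f φ hφ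
  have hfS : IsSurjectiveMor f := by
    intro y
    refine ⟨Points.map (inv f) y, ?_⟩
    rw [← Points.map_comp, IsIso.inv_hom_id, Points.map_id]
  have hfU : IsUnivInjectiveMor f := by
    intro Z Z' _ g a b sq
    haveI : IsIso b := sq.isIso_snd_of_isIso
    intro x y hxy
    have := congrArg (Points.map (inv b)) hxy
    rwa [← Points.map_comp, ← Points.map_comp, IsIso.hom_inv_id, Points.map_id, Points.map_id]
      at this
  have hf₀' : LocP @LocallyOfFiniteType f₀ := fun U V a b h ha hb hcomm => by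
    have : LocallyOfFinitePresentation h.left := hf₀ a b h ha hb hcomm
    infer_instance
  obtain ⟨i₁, φ₁, h₁⟩ := descend_etale_of_isLimit D hDa c hc hD i₀ hX₀ hY₀ f₀ b₀ hXqc hYqc hYqs
    X Y f pY qY hY pX hX hfE hf₀
  obtain ⟨i₂, φ₂, h₂⟩ := descend_surjective_of_isLimit D hDa c hc i₀ hY₀ f₀ b₀ hXqc hYqc hYqs
    X Y f pY qY hY pX hX hfS hf₀
  obtain ⟨i₃, φ₃, h₃⟩ := descend_univInjective_of_isLimit D hDa c hc hD i₀ hX₀ hY₀ f₀ b₀ hXqc
    hXqs hYqs X Y f pY qY hY pX hX hfU hf₀'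
  obtain ⟨i₄, ψ₁, ψ₂, h₁₂⟩ := exists_common_stage φ₁ φ₂
  obtain ⟨i, ψ₄, ψ₃, h₄₃⟩ := exists_common_stage (ψ₁ ≫ φ₁) φ₃
  refine ⟨i, ψ₃ ≫ φ₃, fun Xi Yi fi pYi qYi hYi pXi hXi => ?_⟩
  have hYia : IsAlgSpace Yi :=
    Groth.Agent.H49.isAlgSpace_of_isPullback hYi (hD i₀).diag hY₀ (hD i)
  have hXia : IsAlgSpace Xi := Groth.Agent.H49.isAlgSpace_of_isPullback hXi hY₀.diag hX₀ hYia
  have hS : IsSurjectiveMor fi :=
    forall_stage_of_stage D IsSurjectiveMor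
      (fun _ _ _ sq h => isSurjectiveMor_of_isPullback sq h) hD hX₀ hY₀
      f₀ b₀ φ₂ h₂ (ψ₄ ≫ ψ₂) (ψ₃ ≫ φ₃) (by rw [Category.assoc, ← h₁₂, h₄₃])
      Xi Yi fi pYi qYi hYi pXi hXi
  have hU : IsUnivInjectiveMor fi :=
    forall_stage_of_stage D IsUnivInjectiveMor
      (fun _ _ _ sq h => isUnivInjectiveMor_of_isPullback sq h) hD hX₀ hY₀
      f₀ b₀ φ₃ h₃ ψ₃ (ψ₃ ≫ φ₃) rfl Xi Yi fi pYi qYi hYi pXi hXi
  have hE : IsEtaleMor fi :=
    forall_stage_of_stage D IsEtaleMor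
      (fun hA hB hB' sq h => isEtaleMor_of_isPullback hA hB hB' sq h) hD hX₀ hY₀
      f₀ b₀ φ₁ h₁ (ψ₄ ≫ ψ₁) (ψ₃ ≫ φ₃) (by rw [Category.assoc, h₄₃])
      Xi Yi fi pYi qYi hYi pXi hXi
  have hOI : RepWith @IsOpenImmersion fi :=
    Groth.Agent.H51.s10261 (X := ⟨Xi, hXia⟩) (Y := ⟨Yi, hYia⟩) (ObjectProperty.homMk fi) hE hU
  exact Groth.Agent.H51.isIso_of_isOpenImmersion_of_surjective fi hOI hS

end Groth.Agent.H50
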