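import Groth.Agent.H50.LimAffineA
import Groth.Agent.H50.LimAffineE
import Groth.Agent.H50.DescentAbs
import Groth.Agent.H50.LimDescIso
import Groth.Agent.H50.LimOpen
import Groth.Agent.H50.LfpDiag
import Groth.Agent.H50.AffineMor

set_option autoImplicit false
set_option backward.isDefEq.respectTransparency false
set_option linter.style.haveILetI false
universe u
open CategoryTheory CategoryTheory.Limits AlgebraicGeometry Opposite

namespace Groth.Agent.H50

open AlgSp

variable {S : Scheme.{u}}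

/-- A representable morphism with affine base changes is affine. -/
theorem isAffineMor_of_repWith_isAffineHom {X Y : Sp S} (f : X ⟶ Y)
    (h : RepWith @IsAffineHom f) : IsAffineMor f := by
  intro Z hZ g
  obtain ⟨W, i, fst, sq, hW, -⟩ :=
    (Groth.Agent.H51.affine_test_iff_repWith @IsAffineHom (fun g hg => hg) f).2 h hZ g
  exact ⟨W, i, fst, sq, hW⟩

section

variable {I : Type u} [SmallCategory I] [IsCofiltered I] (D : I ⥤ Sp S)
  (hDa : ∀ (i j : I) (φ : i ⟶ j), IsAffineMor (D.map φ)) (c : Cone D) (hc : IsLimit c)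
  [QuasiSeparatedSpace ↥S]

include hDa hc in
/-- If the limit of a cofiltered system of quasi-compact and quasi-separated algebraic spaces with
affine transition maps is an affine scheme, then so is some member of the system. -/
theorem exists_affine_of_limit_affine (hD : ∀ i, IsAlgSpace (D.obj i))
    (hqc : ∀ i, IsQuasiCompactSp (D.obj i)) (hqs : ∀ i, IsQuasiSeparatedSp (D.obj i))
    (T : Over S) (hT : IsAffine T.left) (e : (yon S).obj T ≅ c.pt) :
    ∃ (i : I) (T' : Over S), IsAffine T'.left ∧ Nonempty ((yon S).obj T' ≅ D.obj i) := by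
  obtain ⟨i₀⟩ := IsCofiltered.nonempty (C := I)
  obtain ⟨U₀, g, hU₀, hg, hgs⟩ :=
    (Groth.Agent.H51.isQuasiCompactSp_iff_exists_affine_atlas).1 (hqc i₀)
  haveI : IsConnected (Over i₀) := IsCofiltered.isConnected _
  haveI := affSys_hasLimit D hDa i₀ hU₀ g
  let W := affSys D hDa i₀ hU₀ g
  let L := limit.cone W
  have hL : IsLimit L := limit.isLimit W
  have hWaff : ∀ j, IsAffine (W.obj j).left := affSys_isAffine D hDa i₀ hU₀ g
  have hLaff : IsAffine L.pt.left := affSys_isAffine_limit D hDa i₀ hU₀ g L hL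
  let u_c : (yon S).obj L.pt ⟶ c.pt := affSysLimFst D hDa i₀ hU₀ g c hc L
  have sqL := affSys_isPullback_limit D hDa i₀ hU₀ g c hc L hL
  have hu_e : RepWith @Etale u_c := MorphismProperty.of_isPullback sqL.flip hg
  have hu_s : RepWith @Surjective u_c := MorphismProperty.of_isPullback sqL.flip hgs
  haveI : Epi u_c := Groth.Agent.H52.epi_of_repWith_etale_surjective u_c hu_e hu_s
  obtain ⟨u, hu⟩ : ∃ u : L.pt ⟶ T, (yon S).map u = u_c ≫ e.inv :=
    ⟨(yon S).preimage _, (yon S).map_preimage _⟩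
  have hue : Etale u.left := by
    rw [← repWith_yon_map_iff @Etale u, hu]
    exact MorphismProperty.RespectsIso.postcomp _ _ _ hu_e
  have hus : Surjective u.left := by
    rw [← repWith_yon_map_iff @Surjective u, hu]
    exact MorphismProperty.RespectsIso.postcomp _ _ _ hu_s
  obtain ⟨A₀, B₀, _, _, _, tV, lV, hA₀, hB₀, hEt, hSu, sqV⟩ := exists_abs_model hT hLaff u hue hus
  let cV : absV S B₀ ⟶ absV S A₀ := absMap (algebraMap A₀ B₀)
  have hVA : LocallyOfFinitePresentation (absV S A₀).hom := lfp_absV_hom A₀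
  have hVB : LocallyOfFinitePresentation (absV S B₀).hom := lfp_absV_hom B₀
  have hVA' : LocallyOfFiniteType (absV S A₀).hom := inferInstance
  -- factor through a stage
  obtain ⟨j₁, φ₁, hφ₁⟩ := exists_factor_of_lfp W hWaff L hL hVB lV
  obtain ⟨j₂, θ, π₂, hπ₂⟩ := exists_desc_of_atlas_sys D hDa c hc i₀ hU₀ g hD hqs hg hgs L hL hVA'
    j₁ (φ₁ ≫ cV) (e.inv ≫ (yon S).map tV) (by
      change u_c ≫ e.inv ≫ (yon S).map tV = _
      rw [← Category.assoc, ← hu, ← Functor.map_comp, sqV.w, ← Category.assoc, hφ₁])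
  let φ₂ : W.obj j₂ ⟶ absV S B₀ := W.map θ ≫ φ₁
  have hφ₂ : L.π.app j₂ ≫ φ₂ = lV := by
    rw [← Category.assoc, L.w, hφ₁]
  let q₂ := affSysFst D hDa i₀ hU₀ g j₂
  have hπ₂' : q₂ ≫ π₂ = (yon S).map φ₂ ≫ (yon S).map cV := by
    rw [← Functor.map_comp, Category.assoc]
    exact hπ₂
  have hstar : c.π.app j₂.left ≫ π₂ = e.inv ≫ (yon S).map tV := by
    rw [← cancel_epi u_c, ← Category.assoc, affSysLimFst_π D hDa i₀ hU₀ g c hc L j₂,
      Category.assoc, hπ₂', ← Category.assoc, ← Functor.map_comp, hφ₂, ← Functor.map_comp,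
      ← sqV.w, Functor.map_comp, hu, Category.assoc]
  -- properties of `cV`
  have hcVet : Etale cV.left := MorphismProperty.of_isPullback (isPullback_absMap _).flip hEt
  have hcVsu : Surjective cV.left := MorphismProperty.of_isPullback (isPullback_absMap _).flip hSu
  have hcVaf : IsAffineHom cV.left := by
    have : IsAffineHom (Spec.map (CommRingCat.ofHom (algebraMap A₀ B₀))) := inferInstance
    exact MorphismProperty.of_isPullback (isPullback_absMap _).flip this
  have hcV_e : RepWith @Etale ((yon S).map cV) := (repWith_yon_map_iff @Etale cV).2 hcVet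
  have hcV_a : IsAffineMor ((yon S).map cV) :=
    isAffineMor_of_repWith_isAffineHom _ ((repWith_yon_map_iff @IsAffineHom cV).2 hcVaf)
  -- the fibre product `P = X_{j₂} ×_{V_A} V_B`
  let P := pullback π₂ ((yon S).map cV)
  let b₀ : P ⟶ D.obj j₂.left := pullback.fst _ _
  let sP : P ⟶ (yon S).obj (absV S B₀) := pullback.snd _ _
  have sqP : IsPullback b₀ sP π₂ ((yon S).map cV) := IsPullback.of_hasPullback _ _
  let f₀ : (yon S).obj (W.obj j₂) ⟶ P := pullback.lift q₂ ((yon S).map φ₂) hπ₂'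
  have hf₀b : f₀ ≫ b₀ = q₂ := pullback.lift_fst _ _ _
  have hf₀s : f₀ ≫ sP = (yon S).map φ₂ := pullback.lift_snd _ _ _
  have hPa : IsAlgSpace P :=
    Groth.Agent.H49.isAlgSpace_of_isPullback sqP (IsAlgSpace.yon_obj _).diag (hD _)
      (IsAlgSpace.yon_obj _)
  have hb₀a : IsAffineMor b₀ := isAffineMor_of_isPullback sqP.flip hcV_a
  have hb₀e : RepWith @Etale b₀ := MorphismProperty.of_isPullback sqP.flip hcV_e
  have hPqc : IsQuasiCompactSp P :=
    isQuasiCompactMor_of_isAffineMor b₀ hb₀a (hD _) (hqc _) (𝟙 _) (𝟙 _) b₀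
      (IsPullback.of_horiz_isIso ⟨by simp⟩)
  have hVBqs : IsQuasiSeparatedSp ((yon S).obj (absV S B₀)) := by
    unfold IsQuasiSeparatedSp
    rw [repWith_diag_yon_iff]
    have := isAffineHom_absV_hom (S := S) B₀
    have : QuasiSeparated (absV S B₀).hom := inferInstance
    exact QuasiSeparated.quasiCompact_diagonal
  have hPqs : IsQuasiSeparatedSp P :=
    Groth.Agent.H49.diag_of_isPullback (RepWith @QuasiCompact) sqP (hqs _) hVBqs
  have hUqc : IsQuasiCompactSp ((yon S).obj (W.obj j₂)) :=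
    haveI := hWaff j₂
    Groth.Agent.H49.isQuasiCompactSp_yon (W.obj j₂)
  have hUqs : IsQuasiSeparatedSp ((yon S).obj (W.obj j₂)) :=
    isQuasiSeparatedSp_yon_of_isAffine _ (hWaff j₂)
  have hq₂e : RepWith @Etale q₂ :=
    MorphismProperty.of_isPullback (affSys_isPullback D hDa i₀ hU₀ g j₂).flip hg
  have hf₀ : LocP @LocallyOfFinitePresentation f₀ := by
    have h1 : LocP @LocallyOfFiniteType b₀ := goodClass_lft.locP_of_repWith_etale _ hb₀e
    have h2 : LocP @LocallyOfFinitePresentation (f₀ ≫ b₀) := by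
      rw [hf₀b]
      exact goodClass_lfp.locP_of_repWith_etale _ hq₂e
    exact locP_of_comp_cancel @LocallyOfFinitePresentation @LocallyOfFiniteType
      (fun h k hhk hk => lfp_of_comp_of_lft h k hhk hk)
      (fun h v u h' sq hv hvs hP => goodClass_lfp.desc h v u h' sq hv hvs hP)
      (hD _) f₀ b₀ h2 h1
  -- the base change to the limit
  let pY : (yon S).obj L.pt ⟶ P := pullback.lift (u_c ≫ c.π.app j₂.left) ((yon S).map lV) (by
    rw [Category.assoc, hstar, ← Category.assoc, ← hu, ← Functor.map_comp, ← Functor.map_comp,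
      sqV.w])
  have hpY1 : pY ≫ b₀ = u_c ≫ c.π.app j₂.left := pullback.lift_fst _ _ _
  have hpY2 : pY ≫ sP = (yon S).map lV := pullback.lift_snd _ _ _
  have sqVy : IsPullback ((yon S).map lV) u_c ((yon S).map cV) (c.π.app j₂.left ≫ π₂) := by
    rw [hstar]
    have h1 : IsPullback ((yon S).map lV) ((yon S).map u) ((yon S).map cV) ((yon S).map tV) :=
      (sqV.map (yon S)).flip
    rw [hu] at h1
    refine IsPullback.of_iso h1 (Iso.refl _) (Iso.refl _) e (Iso.refl _) ?_ ?_ ?_ ?_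
    · simp
    · simp
    · simp
    · simp
  have hY : IsPullback pY u_c b₀ (c.π.app j₂.left) := by
    refine IsPullback.of_right ?_ hpY1 sqP.flip
    rw [hpY2]
    exact sqVy
  have sqLj := affSys_isPullback_limit_stage D hDa c hc i₀ hU₀ g L hL j₂
  have hX : IsPullback ((yon S).map (L.π.app j₂)) (𝟙 _) f₀ pY := by
    have hcomm : (yon S).map (L.π.app j₂) ≫ f₀ = 𝟙 _ ≫ pY := by
      rw [Category.id_comp]
      apply pullback.hom_ext
      · rw [Category.assoc, hf₀b, hpY1]
        exact sqLj.w.symm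
      · rw [Category.assoc, hf₀s, hpY2, ← Functor.map_comp, hφ₂]
    refine IsPullback.of_bot ?_ hcomm hY
    rw [Category.id_comp, hf₀b]
    exact sqLj.flip
  obtain ⟨i, φ, hiso⟩ := descend_isIso_of_isLimit D hDa c hc hD j₂.left (IsAlgSpace.yon_obj _)
    hPa f₀ b₀ hUqc hUqs hPqc hPqs _ _ (𝟙 _) pY u_c hY ((yon S).map (L.π.app j₂)) hX hf₀
  -- the later stage
  let j₃ : Over i₀ := Over.mk (φ ≫ j₂.hom)
  let θ₃ : j₃ ⟶ j₂ := Over.homMk φ rfl
  let q₃ := affSysFst D hDa i₀ hU₀ g j₃
  have sqθ₃ : IsPullback q₃ ((yon S).map (W.map θ₃)) (D.map φ) q₂ :=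
    affSys_isPullback_map D hDa i₀ hU₀ g θ₃
  let π₃ : D.obj i ⟶ (yon S).obj (absV S A₀) := D.map φ ≫ π₂
  let φ₃ : W.obj j₃ ⟶ absV S B₀ := W.map θ₃ ≫ φ₂
  let Yi := pullback b₀ (D.map φ)
  let pYi : Yi ⟶ P := pullback.fst _ _
  let qYi : Yi ⟶ D.obj i := pullback.snd _ _
  have hYi : IsPullback pYi qYi b₀ (D.map φ) := IsPullback.of_hasPullback _ _
  let ν : (yon S).obj (W.obj j₃) ⟶ Yi := pullback.lift ((yon S).map (W.map θ₃) ≫ f₀) q₃ (by
    rw [Category.assoc, hf₀b]
    exact sqθ₃.w.symm)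
  have hν1 : ν ≫ pYi = (yon S).map (W.map θ₃) ≫ f₀ := pullback.lift_fst _ _ _
  have hν2 : ν ≫ qYi = q₃ := pullback.lift_snd _ _ _
  have sqν : IsPullback ((yon S).map (W.map θ₃)) ν f₀ pYi := by
    refine IsPullback.of_bot ?_ hν1.symm hYi
    rw [hν2, hf₀b]
    exact sqθ₃.flip
  haveI hνiso : IsIso ν := hiso _ _ ν pYi qYi hYi _ sqν
  have sq3 : IsPullback q₃ ((yon S).map φ₃) π₃ ((yon S).map cV) := by
    have h1 : IsPullback (pYi ≫ sP) qYi ((yon S).map cV) (D.map φ ≫ π₂) :=
      hYi.paste_horiz sqP.flip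
    have h2 : IsPullback ((yon S).map φ₃) q₃ ((yon S).map cV) π₃ := by
      refine IsPullback.of_iso h1 (asIso ν).symm (Iso.refl _) (Iso.refl _) (Iso.refl _) ?_ ?_
        ((Category.comp_id _).trans (Category.id_comp _).symm)
        ((Category.comp_id _).trans (Category.id_comp _).symm)
      · rw [Iso.refl_hom, Category.comp_id, Iso.symm_hom, asIso_inv, IsIso.eq_inv_comp,
          ← Category.assoc, hν1, Category.assoc, hf₀s, ← Functor.map_comp]
      · rw [Iso.refl_hom, Category.comp_id, Iso.symm_hom, asIso_inv, IsIso.eq_inv_comp, hν2]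
    exact h2.flip
  obtain ⟨W', e', hW'⟩ := exists_affine_of_descent_abs (hWaff j₃) φ₃ π₃ q₃ sq3
    (inferInstance : Flat (Spec.map (CommRingCat.ofHom (algebraMap A₀ B₀))))
    (inferInstance : LocallyOfFinitePresentation (Spec.map (CommRingCat.ofHom (algebraMap A₀ B₀))))
    hSu
  exact ⟨i, W', hW', ⟨e'⟩⟩

end

end Groth.Agent.H50
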