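import Groth.Agent.H50.LPSpMain
import Groth.Agent.H50.LimAffineMain

set_option autoImplicit false
set_option backward.isDefEq.respectTransparency false
set_option linter.style.haveILetI false
set_option linter.unusedSectionVars false
universe u
open CategoryTheory CategoryTheory.Limits AlgebraicGeometry Opposite

namespace Groth.Agent.H50

open AlgSp

variable {S : Scheme.{u}}

/-- A morphism of algebraic spaces is locally of finite presentation iff it is limit preserving on
cofiltered systems of qcqs algebraic spaces with affine transition maps. -/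
theorem locP_lfp_iff_isPullback_sp [QuasiSeparatedSpace ↥S] {X Y : Sp S} (hX : IsAlgSpace X)
    (hY : IsAlgSpace Y) (f : X ⟶ Y) :
    LocP @LocallyOfFinitePresentation f ↔
      ∀ ⦃I : Type u⦄ [SmallCategory I] [IsCofiltered I] (D : I ⥤ Sp S),
        (∀ i, IsAlgSpace (D.obj i)) → (∀ (i j : I) (φ : i ⟶ j), IsAffineMor (D.map φ)) →
        (∀ i, IsQuasiCompactSp (D.obj i)) → (∀ i, IsQuasiSeparatedSp (D.obj i)) →
        ∀ (c : Cone D) (_ : IsLimit c),
          IsPullback (colimMap (Functor.whiskerLeft D.op (yoneda.map f)))
            (colimit.desc (D.op ⋙ yoneda.obj X) ((yoneda.obj X).mapCocone c.op))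
            (colimit.desc (D.op ⋙ yoneda.obj Y) ((yoneda.obj Y).mapCocone c.op))
            ((yoneda.map f).app (Opposite.op c.pt)) := by
  constructor
  · intro hf I _ _ D hD hDa hqc hqs c hc
    rw [isPullback_iff_relColimEltG]
    exact relColimEltG_of_locP_lfp D hDa c hc hD hqc hqs hX hY f hf
  · intro H
    apply locP_lfp_of_surjective_colimit_comparison hX hY f
    intro I _ _ D' c' hc' hD' hT x i y hxy
    haveI : IsConnected I := IsCofiltered.isConnected _
    have hc'O : IsLimit c' := isLimitOfReflects (Over.forget S) hc'
    have hcY : IsLimit ((yon S).mapCone c') := isLimitOfPreserves (yon S) hc'O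
    have hsq := H (D' ⋙ yon S) (fun i => IsAlgSpace.yon_obj _)
      (fun i j φ => by
        apply isAffineMor_of_repWith_isAffineHom
        change RepWith @IsAffineHom ((yon S).map (D'.map φ))
        rw [repWith_yon_map_iff]
        have := hD' i
        have := hD' j
        infer_instance)
      (fun i => by have := hD' i; exact Groth.Agent.H49.isQuasiCompactSp_yon _)
      (fun i => isQuasiSeparatedSp_yon_of_isAffine _ (hD' i))
      ((yon S).mapCone c') hcY
    rw [isPullback_iff_relColimEltG] at hsq
    obtain ⟨j, φ, xj, h1, h2⟩ := hsq.surj i y x hxy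
    exact ⟨j, φ, xj, h2, h1⟩

end Groth.Agent.H50
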