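import Mathlib

set_option autoImplicit false
set_option backward.isDefEq.respectTransparency false
universe u
open CategoryTheory CategoryTheory.Limits Opposite

namespace Groth.Agent.H50

section

variable {C : Type*} [Category C] {I : Type u} [SmallCategory I] [IsCofiltered I] (D : I ⥤ C) (c : Cone D)

/-- elementwise: `F(c.pt)` is the colimit of the `F(D i)` -/
structure ColimEltG (F : Cᵒᵖ ⥤ Type (u + 1)) : Prop where
  surj : ∀ x : F.obj (op c.pt), ∃ (i : I) (xi : F.obj (op (D.obj i))),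
    F.map (c.π.app i).op xi = x
  inj : ∀ (i : I) (x x' : F.obj (op (D.obj i))),
    F.map (c.π.app i).op x = F.map (c.π.app i).op x' →
    ∃ (j : I) (f : j ⟶ i), F.map (D.map f).op x = F.map (D.map f).op x'

theorem nonempty_isColimit_iffG (F : Cᵒᵖ ⥤ Type (u + 1)) :
    Nonempty (IsColimit (F.mapCocone c.op)) ↔ ColimEltG D c F := by
  constructor
  · rintro ⟨h⟩
    constructor
    · intro x
      obtain ⟨⟨i⟩, xi, hxi⟩ := Types.jointly_surjective_of_isColimit h x
      exact ⟨i, xi, hxi⟩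
    · intro i x x' hxx'
      obtain ⟨⟨j⟩, f, hf⟩ := (Types.FilteredColimit.isColimit_eq_iff' h (i := op i) x x').1 hxx'
      exact ⟨j, f.unop, hf⟩
  · intro h
    refine ⟨Types.FilteredColimit.isColimitOf' _ _ ?_ ?_⟩
    · intro x
      obtain ⟨i, xi, hxi⟩ := h.surj x
      exact ⟨op i, xi, hxi.symm⟩
    · rintro ⟨i⟩ x y hxy
      obtain ⟨j, f, hf⟩ := h.inj i x y hxy
      exact ⟨op j, f.op, hf⟩

/-- elementwise: the square of the statement is cartesian -/
structure RelColimEltG {F G : Cᵒᵖ ⥤ Type (u + 1)} (a : F ⟶ G) : Prop where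
  surj : ∀ (i : I) (y : G.obj (op (D.obj i))) (x : F.obj (op c.pt)),
    a.app _ x = G.map (c.π.app i).op y →
    ∃ (j : I) (f : j ⟶ i) (xj : F.obj (op (D.obj j))),
      a.app _ xj = G.map (D.map f).op y ∧ F.map (c.π.app j).op xj = x
  inj : ∀ (i : I) (x x' : F.obj (op (D.obj i))), a.app _ x = a.app _ x' →
    F.map (c.π.app i).op x = F.map (c.π.app i).op x' →
    ∃ (j : I) (f : j ⟶ i), F.map (D.map f).op x = F.map (D.map f).op x'

theorem ι_colimMap_whiskerG {F G : Cᵒᵖ ⥤ Type (u + 1)} (a : F ⟶ G) (i : I) (x : F.obj (op (D.obj i))) :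
    colimMap (Functor.whiskerLeft D.op a) (colimit.ι (D.op ⋙ F) (op i) x) =
      colimit.ι (D.op ⋙ G) (op i) (a.app _ x) := by
  simp

theorem ι_desc_mapCoconeG (F : Cᵒᵖ ⥤ Type (u + 1)) (i : I) (x : F.obj (op (D.obj i))) :
    colimit.desc (D.op ⋙ F) (F.mapCocone c.op) (colimit.ι (D.op ⋙ F) (op i) x) =
      F.map (c.π.app i).op x := by
  rw [colimit.ι_desc_apply]
  rfl

theorem ι_map_eqG (F : Cᵒᵖ ⥤ Type (u + 1)) {i j : I} (f : j ⟶ i) (x : F.obj (op (D.obj i))) :
    colimit.ι (D.op ⋙ F) (op j) (F.map (D.map f).op x) = colimit.ι (D.op ⋙ F) (op i) x :=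
  ConcreteCategory.congr_hom (colimit.w (D.op ⋙ F) f.op) x

theorem isPullback_iff_relColimEltG {F G : Cᵒᵖ ⥤ Type (u + 1)} (a : F ⟶ G) :
    IsPullback (colimMap (Functor.whiskerLeft D.op a))
      (colimit.desc (D.op ⋙ F) (F.mapCocone c.op))
      (colimit.desc (D.op ⋙ G) (G.mapCocone c.op)) (a.app (op c.pt)) ↔ RelColimEltG D c a := by
  rw [Types.isPullback_iff]
  constructor
  · rintro ⟨-, hinj, hsurj⟩
    constructor
    · intro i y x hxy
      obtain ⟨φ, hφ1, hφ2⟩ := hsurj (colimit.ι (D.op ⋙ G) (op i) y) x (by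
        rw [ι_desc_mapCoconeG]; exact hxy.symm)
      obtain ⟨⟨j⟩, xj, rfl⟩ := Types.jointly_surjective_of_isColimit (colimit.isColimit _) φ
      change colimMap (Functor.whiskerLeft D.op a) (colimit.ι (D.op ⋙ F) (op j) xj) = _ at hφ1
      change colimit.desc (D.op ⋙ F) (F.mapCocone c.op) (colimit.ι (D.op ⋙ F) (op j) xj) = _ at hφ2
      rw [ι_colimMap_whiskerG] at hφ1
      rw [ι_desc_mapCoconeG] at hφ2
      obtain ⟨⟨k⟩, f, g, hfg⟩ := (Types.FilteredColimit.colimit_eq_iff _).1 hφ1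
      refine ⟨k, g.unop, F.map (D.map f.unop).op xj, ?_, ?_⟩
      · rw [NatTrans.naturality_apply]
        exact hfg
      · rw [← Functor.map_comp_apply, ← op_comp, Cone.w]
        exact hφ2
    · intro i x x' hxx' hxx''
      have := hinj (colimit.ι (D.op ⋙ F) (op i) x) (colimit.ι (D.op ⋙ F) (op i) x') ⟨by
        rw [ι_colimMap_whiskerG, ι_colimMap_whiskerG]; exact congrArg _ hxx', by
        rw [ι_desc_mapCoconeG, ι_desc_mapCoconeG]; exact hxx''⟩
      obtain ⟨⟨j⟩, f, hf⟩ :=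
        (Types.FilteredColimit.isColimit_eq_iff' (colimit.isColimit (D.op ⋙ F)) (i := op i) x x').1
          this
      exact ⟨j, f.unop, hf⟩
  · intro h
    refine ⟨?_, ?_, ?_⟩
    · apply colimit.hom_ext
      rintro ⟨i⟩
      ext x
      change colimit.desc (D.op ⋙ G) (G.mapCocone c.op)
        (colimMap (Functor.whiskerLeft D.op a) (colimit.ι (D.op ⋙ F) (op i) x)) =
        a.app _ (colimit.desc (D.op ⋙ F) (F.mapCocone c.op) (colimit.ι (D.op ⋙ F) (op i) x))
      rw [ι_colimMap_whiskerG, ι_desc_mapCoconeG, ι_desc_mapCoconeG]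
      exact (NatTrans.naturality_apply a (c.π.app i).op x).symm
    · rintro φ φ' ⟨h1, h2⟩
      obtain ⟨⟨i⟩, x, x', rfl, rfl⟩ :=
        Types.FilteredColimit.jointly_surjective_of_isColimit₂ (colimit.isColimit _) φ φ'
      change colimMap (Functor.whiskerLeft D.op a) (colimit.ι (D.op ⋙ F) (op i) x) =
        colimMap (Functor.whiskerLeft D.op a) (colimit.ι (D.op ⋙ F) (op i) x') at h1
      change colimit.desc (D.op ⋙ F) (F.mapCocone c.op) (colimit.ι (D.op ⋙ F) (op i) x) =
        colimit.desc (D.op ⋙ F) (F.mapCocone c.op) (colimit.ι (D.op ⋙ F) (op i) x') at h2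
      rw [ι_colimMap_whiskerG, ι_colimMap_whiskerG] at h1
      rw [ι_desc_mapCoconeG, ι_desc_mapCoconeG] at h2
      obtain ⟨⟨j⟩, f, hf⟩ :=
        (Types.FilteredColimit.isColimit_eq_iff' (colimit.isColimit (D.op ⋙ G)) (i := op i) _ _).1 h1
      have hf' : a.app _ (F.map (D.map f.unop).op x) = a.app _ (F.map (D.map f.unop).op x') := by
        rw [NatTrans.naturality_apply, NatTrans.naturality_apply]
        exact hf
      obtain ⟨k, g, hg⟩ := h.inj j _ _ hf' (by
        rw [← Functor.map_comp_apply, ← Functor.map_comp_apply, ← op_comp, Cone.w]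
        exact h2)
      change colimit.ι (D.op ⋙ F) (op i) x = colimit.ι (D.op ⋙ F) (op i) x'
      rw [← ι_map_eqG D F (g ≫ f.unop) x, ← ι_map_eqG D F (g ≫ f.unop) x']
      rw [Functor.map_comp, op_comp, Functor.map_comp_apply, Functor.map_comp_apply, hg]
    · intro γ x hγx
      obtain ⟨⟨i⟩, y, rfl⟩ := Types.jointly_surjective_of_isColimit (colimit.isColimit _) γ
      change colimit.desc (D.op ⋙ G) (G.mapCocone c.op) (colimit.ι (D.op ⋙ G) (op i) y) = _ at hγx
      rw [ι_desc_mapCoconeG] at hγx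
      obtain ⟨j, f, xj, h1, h2⟩ := h.surj i y x hγx.symm
      refine ⟨colimit.ι (D.op ⋙ F) (op j) xj, ?_, ?_⟩
      · rw [ι_colimMap_whiskerG]
        exact (congrArg _ h1).trans (ι_map_eqG D G f y)
      · rw [ι_desc_mapCoconeG, h2]

end

end Groth.Agent.H50
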