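import Groth.Agent.H50.LPSp
import Groth.Agent.H50.RelLimGen

set_option autoImplicit false
set_option backward.isDefEq.respectTransparency false
set_option linter.style.haveILetI false
set_option linter.unusedSectionVars false
universe u
open CategoryTheory CategoryTheory.Limits AlgebraicGeometry Opposite

namespace Groth.Agent.H50

open AlgSp

variable {S : Scheme.{u}}

section

variable {I : Type u} [SmallCategory I] [IsCofiltered I] (D : I ⥤ Sp S)
  (hDa : ∀ (i j : I) (φ : i ⟶ j), IsAffineMor (D.map φ)) (c : Cone D) (hc : IsLimit c)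
  [QuasiSeparatedSpace ↥S]

include hDa hc in
/-- Elementwise form of "limit preserving" for a morphism locally of finite presentation, for
cofiltered systems of quasi-compact quasi-separated algebraic spaces with affine transitions. -/
theorem relColimEltG_of_locP_lfp (hD : ∀ i, IsAlgSpace (D.obj i))
    (hqc : ∀ i, IsQuasiCompactSp (D.obj i)) (hqs : ∀ i, IsQuasiSeparatedSp (D.obj i))
    {X Y : Sp S} (hX : IsAlgSpace X) (hY : IsAlgSpace Y) (f : X ⟶ Y)
    (hf : LocP @LocallyOfFinitePresentation f) : RelColimEltG D c (yoneda.map f) := by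
  have hft : LocP @LocallyOfFiniteType f := locP_lft_of_lfp f hf
  constructor
  · intro i y x hxy
    change c.pt ⟶ X at x
    change D.obj i ⟶ Y at y
    change x ≫ f = c.π.app i ≫ y at hxy
    obtain ⟨Z, g, hZ, hg, hgs⟩ :=
      (Groth.Agent.H51.isQuasiCompactSp_iff_exists_affine_atlas).1 (hqc i)
    haveI : IsConnected (Over i) := IsCofiltered.isConnected _
    haveI := affSys_hasLimit D hDa i hZ g
    let W := affSys D hDa i hZ g
    let L := limit.cone W
    have hL : IsLimit L := limit.isLimit W
    have hW : ∀ j, IsAffine (W.obj j).left := affSys_isAffine D hDa i hZ g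
    haveI : ∀ j, IsAffine ((W ⋙ Over.forget S).obj j) := hW
    have hL' : IsLimit ((Over.forget S).mapCone L) := isLimitOfPreserves (Over.forget S) hL
    have hLaff : IsAffine L.pt.left := affSys_isAffine_limit D hDa i hZ g L hL
    let u_c := affSysLimFst D hDa i hZ g c hc L
    have sqL := affSys_isPullback_limit D hDa i hZ g c hc L hL
    have hu_e : RepWith @Etale u_c := MorphismProperty.of_isPullback sqL.flip hg
    have hu_s : RepWith @Surjective u_c := MorphismProperty.of_isPullback sqL.flip hgs
    haveI : Epi u_c := Groth.Agent.H52.epi_of_repWith_etale_surjective u_c hu_e hu_s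
    let j₀ : Over i := Over.mk (𝟙 i)
    let y₀ : (yon S).obj (W.obj j₀) ⟶ Y := affSysFst D hDa i hZ g j₀ ≫ y
    have hxy' : (u_c ≫ x) ≫ f = (yon S).map (L.π.app j₀) ≫ y₀ := by
      have h1 := affSysLimFst_π D hDa i hZ g c hc L j₀
      change u_c ≫ c.π.app i = _ at h1
      simp only [y₀]
      rw [Category.assoc, hxy, ← Category.assoc, h1, Category.assoc]
    obtain ⟨j, φ, ψ, hψ1, hψ2⟩ := yonSurj_of_relColimElt W L f
      (relColimElt_of_locP_lfp W L hX hY f hf hL' hW hLaff) j₀ y₀ (u_c ≫ x) hxy'
    have hφ : φ.left = j.hom := by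
      have := Over.w φ
      exact (Category.comp_id _).symm.trans this
    have hψy : ψ ≫ f = affSysFst D hDa i hZ g j ≫ D.map j.hom ≫ y := by
      rw [hψ1]
      simp only [y₀]
      rw [← Category.assoc]
      change ((yon S).map (affSysMap D hDa i hZ g φ) ≫ affSysFst D hDa i hZ g j₀) ≫ y = _
      rw [affSysMap_fst, hφ, Category.assoc]
    obtain ⟨j', θ, π', hπ'⟩ := exists_desc_of_atlas_sys' D hDa c hc i hZ g hD hqs hg hgs L hL hX hY
      f hft j ψ (D.map j.hom ≫ y) hψy x hψ2.symm
    have hq'e : RepWith @Etale (affSysFst D hDa i hZ g j') :=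
      MorphismProperty.of_isPullback (affSys_isPullback D hDa i hZ g j').flip hg
    have hq's : RepWith @Surjective (affSysFst D hDa i hZ g j') :=
      MorphismProperty.of_isPullback (affSys_isPullback D hDa i hZ g j').flip hgs
    haveI : Epi (affSysFst D hDa i hZ g j') :=
      Groth.Agent.H52.epi_of_repWith_etale_surjective _ hq'e hq's
    refine ⟨j'.left, j'.hom, π', ?_, ?_⟩
    · change π' ≫ f = D.map j'.hom ≫ y
      rw [← cancel_epi (affSysFst D hDa i hZ g j'), ← Category.assoc, hπ', Category.assoc, hψy,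
        ← Category.assoc]
      change ((yon S).map (affSysMap D hDa i hZ g θ) ≫ affSysFst D hDa i hZ g j) ≫ _ = _
      rw [affSysMap_fst, Category.assoc, ← Category.assoc (D.map θ.left), ← D.map_comp, Over.w θ]
    · change c.π.app j'.left ≫ π' = x
      rw [← cancel_epi u_c, ← Category.assoc, affSysLimFst_π D hDa i hZ g c hc L j',
        Category.assoc, hπ', ← Category.assoc, ← Functor.map_comp, L.w θ]
      exact hψ2
  · intro i x x' h1 h2
    change D.obj i ⟶ X at x
    change D.obj i ⟶ X at x'
    change x ≫ f = x' ≫ f at h1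
    change c.π.app i ≫ x = c.π.app i ≫ x' at h2
    obtain ⟨j, φ, hj⟩ := exists_eq_of_lft_sp' D hDa c hc i (hqc i) (𝟙 _) hX hY f hft x x' h1 c.pt
      (c.π.app i) (𝟙 _) (IsPullback.of_vert_isIso ⟨by simp⟩) h2
    refine ⟨j, φ, ?_⟩
    exact hj (D.obj j) (D.map φ) (𝟙 _) (IsPullback.of_vert_isIso ⟨by simp⟩)

end

end Groth.Agent.H50
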