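import Groth.Agent.H50.LPInj
import Groth.Agent.H50.LPNest

set_option autoImplicit false
set_option backward.isDefEq.respectTransparency false
set_option linter.style.haveILetI false
set_option linter.unusedSectionVars false
universe u
open CategoryTheory CategoryTheory.Limits AlgebraicGeometry Opposite Topology

namespace Groth.Agent.H50

open AlgSp

variable {S : Scheme.{u}}

theorem exists_common_lower {L : Type*} [Category L] [IsCofiltered L] {σ : Type*} [Finite σ]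
    (l : σ → L) : ∃ l₀ : L, ∀ j, Nonempty (l₀ ⟶ l j) := by
  classical
  have := Fintype.ofFinite σ
  obtain ⟨l₀, h⟩ := IsCofiltered.inf_objs_exists (Finset.univ.image l)
  exact ⟨l₀, fun j => h (Finset.mem_image_of_mem _ (Finset.mem_univ j))⟩

section

variable {K : Type u} [SmallCategory K] [IsCofiltered K] (D : K ⥤ Over S) (c : Cone D)
  {T₀ : Over S} (t : D ⟶ (Functor.const K).obj T₀)

theorem str_naturality {i j : K} (φ : i ⟶ j) : D.map φ ≫ t.app j = t.app i :=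
  pbOver_naturality D t φ

theorem cone_str_eq (i j : K) : c.π.app i ≫ t.app i = c.π.app j ≫ t.app j := by
  have key : ∀ {i j : K} (φ : i ⟶ j), c.π.app i ≫ t.app i = c.π.app j ≫ t.app j := by
    intro i j φ
    rw [← str_naturality D t φ, ← Category.assoc, c.w]
  rw [← key (IsCofiltered.minToLeft i j), key (IsCofiltered.minToRight i j)]

/-- Scheme-level: sections of a scheme locally of finite presentation over the limit of a
base-changed system descend to a stage. -/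
theorem nest_exists_lift (hc : IsLimit ((Over.forget S).mapCone c))
    (hcomp : ∀ i, CompactSpace (D.obj i).left) (hqs : ∀ i, QuasiSeparatedSpace (D.obj i).left)
    (haff : ∀ {i j : K} (φ : i ⟶ j), IsAffineHom (D.map φ).left)
    {W : Over S} (h : W ⟶ T₀) (hlfp : LocallyOfFinitePresentation h.left)
    (k : K) {A : Over S} (a : A ⟶ D.obj k) (haqc : QuasiCompact a.left)
    (haqs : QuasiSeparated a.left)
    (σ : (nestCone D c k a).pt ⟶ W)
    (hσ : σ ≫ h = nestPtSnd D c k a ≫ c.π.app k ≫ t.app k) :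
    ∃ (l : Over k) (γ : (nest D k a).obj l ⟶ W),
      (nestCone D c k a).π.app l ≫ γ = σ ∧ γ ≫ h = nestSnd D k a l ≫ t.app l.left := by
  let D' : Over k ⥤ Scheme.{u} := nest D k a ⋙ Over.forget S
  let t' : D' ⟶ (Functor.const _).obj T₀.left :=
    { app := fun l => (nestSnd D k a l ≫ t.app l.left).left
      naturality := fun l l' φ => by
        change ((nest D k a).map φ).left ≫ (nestSnd D k a l' ≫ t.app l'.left).left =
          (nestSnd D k a l ≫ t.app l.left).left ≫ 𝟙 _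
        rw [Category.comp_id, ← Over.comp_left, nest_map_snd_assoc, str_naturality] }
  let c' : Cone D' := (Over.forget S).mapCone (nestCone D c k a)
  have hc' : IsLimit c' := nestConeIsLimit D c k a hc
  haveI : ∀ {l l' : Over k} (φ : l ⟶ l'), IsAffineHom (D'.map φ) :=
    fun φ => nest_affineHom D k a haff φ
  haveI : ∀ l, CompactSpace (D'.obj l) := fun l => nest_compactSpace D k a haqc hcomp l
  haveI : ∀ l, QuasiSeparatedSpace (D'.obj l) :=
    fun l => nest_quasiSeparatedSpace D k a haqs hqs l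
  obtain ⟨l, g, hg1, hg2⟩ := Scheme.exists_π_app_comp_eq_of_locallyOfFinitePresentation D' t'
    h.left c' hc' σ.left (by
      ext l
      change ((nestCone D c k a).π.app l).left ≫ (nestSnd D k a l ≫ t.app l.left).left =
        σ.left ≫ h.left
      rw [← Over.comp_left, ← Over.comp_left, hσ, nestCone_π_snd_assoc,
        cone_str_eq D c t l.left k])
  have hgS : g ≫ W.hom = ((nest D k a).obj l).hom := by
    rw [← Over.w h, ← Category.assoc, hg2]
    exact Over.w (nestSnd D k a l ≫ t.app l.left)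
  refine ⟨l, Over.homMk g hgS, ?_, ?_⟩
  · ext
    exact hg1
  · ext
    exact hg2

/-- A section over `A ⟶ D_{m₀}` agrees at the limit with `ξ`. -/
def AgreesAtLimit {Z : Sp S} (ξ : (yon S).obj c.pt ⟶ Z) (m₀ : K) {A : Over S} (a : A ⟶ D.obj m₀)
    (ζ : (yon S).obj A ⟶ Z) : Prop :=
  ∀ (W' : Over S) (r : W' ⟶ A) (s : W' ⟶ c.pt), r ≫ a = s ≫ c.π.app m₀ →
    (yon S).map r ≫ ζ = (yon S).map s ≫ ξ

/-- Two sections agree on the overlap at stage `m`. -/
def OverlapAgree {Z : Sp S} (m₀ : K) {A₁ A₂ : Over S} (a₁ : A₁ ⟶ D.obj m₀) (a₂ : A₂ ⟶ D.obj m₀)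
    (ζ₁ : (yon S).obj A₁ ⟶ Z) (ζ₂ : (yon S).obj A₂ ⟶ Z) (m : Over m₀) : Prop :=
  ∀ (W' : Over S) (g₁ : W' ⟶ (nest D m₀ a₁).obj m) (g₂ : W' ⟶ (nest D m₀ a₂).obj m),
    g₁ ≫ nestSnd D m₀ a₁ m = g₂ ≫ nestSnd D m₀ a₂ m →
    (yon S).map (g₁ ≫ nestFst D m₀ a₁ m) ≫ ζ₁ = (yon S).map (g₂ ≫ nestFst D m₀ a₂ m) ≫ ζ₂

theorem OverlapAgree.mono {Z : Sp S} {m₀ : K} {A₁ A₂ : Over S} {a₁ : A₁ ⟶ D.obj m₀}
    {a₂ : A₂ ⟶ D.obj m₀} {ζ₁ : (yon S).obj A₁ ⟶ Z} {ζ₂ : (yon S).obj A₂ ⟶ Z} {m m' : Over m₀}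
    (φ : m' ⟶ m) (h : OverlapAgree D m₀ a₁ a₂ ζ₁ ζ₂ m) : OverlapAgree D m₀ a₁ a₂ ζ₁ ζ₂ m' := by
  intro W' g₁ g₂ hg
  have := h W' (g₁ ≫ (nest D m₀ a₁).map φ) (g₂ ≫ (nest D m₀ a₂).map φ) (by
    rw [Category.assoc, Category.assoc, nest_map_snd, nest_map_snd, ← Category.assoc,
      ← Category.assoc, hg])
  rw [Category.assoc, Category.assoc, nest_map_fst, nest_map_fst] at this
  exact this

/-- Two sections over a stage that agree with `ξ` at the limit agree on the overlap at a later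
stage. -/
theorem overlap_agree (hc : IsLimit ((Over.forget S).mapCone c))
    (hcomp : ∀ i, CompactSpace (D.obj i).left) (hqs : ∀ i, QuasiSeparatedSpace (D.obj i).left)
    (haff : ∀ {i j : K} (φ : i ⟶ j), IsAffineHom (D.map φ).left)
    {Z : Sp S} (hZ : IsAlgSpace Z) (q : Z ⟶ (yon S).obj T₀) (hq : LocP @LocallyOfFiniteType q)
    (ξ : (yon S).obj c.pt ⟶ Z)
    (m₀ : K) {A₁ A₂ : Over S} (a₁ : A₁ ⟶ D.obj m₀) (a₂ : A₂ ⟶ D.obj m₀)
    (h₁qc : QuasiCompact a₁.left) (h₁qs : QuasiSeparated a₁.left)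
    (h₂qc : QuasiCompact a₂.left) (h₂qs : QuasiSeparated a₂.left)
    (ζ₁ : (yon S).obj A₁ ⟶ Z) (ζ₂ : (yon S).obj A₂ ⟶ Z)
    (hζ₁ : ζ₁ ≫ q = (yon S).map (a₁ ≫ t.app m₀)) (hζ₂ : ζ₂ ≫ q = (yon S).map (a₂ ≫ t.app m₀))
    (hξ₁ : AgreesAtLimit D c ξ m₀ a₁ ζ₁) (hξ₂ : AgreesAtLimit D c ξ m₀ a₂ ζ₂) :
    ∃ m : Over m₀, OverlapAgree D m₀ a₁ a₂ ζ₁ ζ₂ m := by
  let o : pullback a₁ a₂ ⟶ D.obj m₀ := pullback.fst a₁ a₂ ≫ a₁
  have sq12 := (IsPullback.of_hasPullback a₁ a₂).map (Over.forget S)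
  have hoqc : QuasiCompact o.left := by
    have : QuasiCompact (pullback.fst a₁ a₂).left :=
      MorphismProperty.of_isPullback (P := @QuasiCompact) sq12.flip h₂qc
    change QuasiCompact ((pullback.fst a₁ a₂).left ≫ a₁.left)
    infer_instance
  have hoqs : QuasiSeparated o.left := by
    have : QuasiSeparated (pullback.fst a₁ a₂).left :=
      MorphismProperty.of_isPullback (P := @QuasiSeparated) sq12.flip h₂qs
    change QuasiSeparated ((pullback.fst a₁ a₂).left ≫ a₁.left)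
    infer_instance
  let j₀ : Over m₀ := Over.mk (𝟙 m₀)
  let x : (yon S).obj ((nest D m₀ o).obj j₀) ⟶ Z :=
    (yon S).map (nestFst D m₀ o j₀ ≫ pullback.fst a₁ a₂) ≫ ζ₁
  let x' : (yon S).obj ((nest D m₀ o).obj j₀) ⟶ Z :=
    (yon S).map (nestFst D m₀ o j₀ ≫ pullback.snd a₁ a₂) ≫ ζ₂
  have h1 : x ≫ q = x' ≫ q := by
    simp only [x, x', Category.assoc]
    rw [hζ₁, hζ₂, ← Functor.map_comp, ← Functor.map_comp]
    congr 1
    simp only [Category.assoc]
    rw [pullback.condition_assoc]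
  have h2 : (yon S).map ((nestCone D c m₀ o).π.app j₀) ≫ x =
      (yon S).map ((nestCone D c m₀ o).π.app j₀) ≫ x' := by
    have e1 : (yon S).map ((nestCone D c m₀ o).π.app j₀) ≫ x =
        (yon S).map (nestPtFst D c m₀ o ≫ pullback.fst a₁ a₂) ≫ ζ₁ := by
      simp only [x]
      rw [← Category.assoc, ← Functor.map_comp, nestCone_π_fst_assoc]
    have e2 : (yon S).map ((nestCone D c m₀ o).π.app j₀) ≫ x' =
        (yon S).map (nestPtFst D c m₀ o ≫ pullback.snd a₁ a₂) ≫ ζ₂ := by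
      simp only [x']
      rw [← Category.assoc, ← Functor.map_comp, nestCone_π_fst_assoc]
    rw [e1, e2]
    rw [hξ₁ _ (nestPtFst D c m₀ o ≫ pullback.fst a₁ a₂) (nestPtSnd D c m₀ o) (by
        rw [Category.assoc]; exact nestPt_condition D c m₀ o),
      hξ₂ _ (nestPtFst D c m₀ o ≫ pullback.snd a₁ a₂) (nestPtSnd D c m₀ o) (by
        rw [Category.assoc, ← pullback.condition]; exact nestPt_condition D c m₀ o)]
  obtain ⟨m, φ, hm⟩ := lp_inj (nest D m₀ o) (nestCone D c m₀ o) hZ (IsAlgSpace.yon_obj T₀) q hq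
    (nestConeIsLimit D c m₀ o hc) (nest_compactSpace D m₀ o hoqc hcomp)
    (nest_quasiSeparatedSpace D m₀ o hoqs hqs) (fun φ => nest_affineHom D m₀ o haff φ)
    j₀ x x' h1 h2
  have e3 : (yon S).map ((nest D m₀ o).map φ) ≫ x =
      (yon S).map (nestFst D m₀ o m ≫ pullback.fst a₁ a₂) ≫ ζ₁ := by
    simp only [x]
    rw [← Category.assoc, ← Functor.map_comp, nest_map_fst_assoc]
  have e4 : (yon S).map ((nest D m₀ o).map φ) ≫ x' =
      (yon S).map (nestFst D m₀ o m ≫ pullback.snd a₁ a₂) ≫ ζ₂ := by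
    simp only [x']
    rw [← Category.assoc, ← Functor.map_comp, nest_map_fst_assoc]
  rw [e3, e4] at hm
  refine ⟨m, ?_⟩
  intro W' g₁ g₂ hg
  have cond₁ : (g₁ ≫ nestFst D m₀ a₁ m) ≫ a₁ = (g₂ ≫ nestFst D m₀ a₂ m) ≫ a₂ := by
    rw [Category.assoc, Category.assoc, nest_condition, nest_condition, ← Category.assoc,
      ← Category.assoc, hg]
  let r₀ : W' ⟶ pullback a₁ a₂ :=
    pullback.lift (g₁ ≫ nestFst D m₀ a₁ m) (g₂ ≫ nestFst D m₀ a₂ m) cond₁
  let r : W' ⟶ (nest D m₀ o).obj m :=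
    pullback.lift r₀ (g₁ ≫ nestSnd D m₀ a₁ m) (by
      simp only [r₀, o]
      rw [pullback.lift_fst_assoc, Category.assoc, Category.assoc, nest_condition]
      rfl)
  have hr0 : r ≫ nestFst D m₀ o m = r₀ := pullback.lift_fst _ _ _
  have hr1 : r ≫ nestFst D m₀ o m ≫ pullback.fst a₁ a₂ = g₁ ≫ nestFst D m₀ a₁ m := by
    rw [← Category.assoc, hr0]
    exact pullback.lift_fst _ _ _
  have hr2 : r ≫ nestFst D m₀ o m ≫ pullback.snd a₁ a₂ = g₂ ≫ nestFst D m₀ a₂ m := by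
    rw [← Category.assoc, hr0]
    exact pullback.lift_snd _ _ _
  have e5 : (yon S).map r ≫ (yon S).map (nestFst D m₀ o m ≫ pullback.fst a₁ a₂) ≫ ζ₁ =
      (yon S).map (g₁ ≫ nestFst D m₀ a₁ m) ≫ ζ₁ := by
    rw [← Category.assoc, ← Functor.map_comp, hr1]
  have e6 : (yon S).map r ≫ (yon S).map (nestFst D m₀ o m ≫ pullback.snd a₁ a₂) ≫ ζ₂ =
      (yon S).map (g₂ ≫ nestFst D m₀ a₂ m) ≫ ζ₂ := by
    rw [← Category.assoc, ← Functor.map_comp, hr2]
  rw [← e5, ← e6, hm]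

end

end Groth.Agent.H50
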