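import Groth.Agent.H50.LPSteps
import Groth.Agent.H50.LPCover
import Groth.Agent.H50.LPGlue

set_option autoImplicit false
set_option backward.isDefEq.respectTransparency false
set_option linter.style.haveILetI false
set_option linter.unusedSectionVars false
universe u
open CategoryTheory CategoryTheory.Limits AlgebraicGeometry Opposite Topology

namespace Groth.Agent.H50

open AlgSp

variable {S : Scheme.{u}}

section

variable {K : Type u} [SmallCategory K] [IsCofiltered K] (D : K ⥤ Over S) (c : Cone D)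
  {T₀ : Over S} (t : D ⟶ (Functor.const K).obj T₀)

/-- Surjectivity part of "limit preserving" for an algebraic space locally of finite presentation
over a scheme, for cofiltered systems of affine schemes. -/
theorem lp_surj (hc : IsLimit ((Over.forget S).mapCone c))
    (hD : ∀ i, IsAffine (D.obj i).left) (hT : IsAffine c.pt.left)
    {Z : Sp S} (hZ : IsAlgSpace Z) (q : Z ⟶ (yon S).obj T₀)
    (hq : LocP @LocallyOfFinitePresentation q)
    (k₀ : K) (ξ : (yon S).obj c.pt ⟶ Z) (hξ : ξ ≫ q = (yon S).map (c.π.app k₀ ≫ t.app k₀)) :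
    ∃ (j : K) (ζ : (yon S).obj (D.obj j) ⟶ Z),
      ζ ≫ q = (yon S).map (t.app j) ∧ (yon S).map (c.π.app j) ≫ ζ = ξ := by
  have hcomp : ∀ i, CompactSpace (D.obj i).left := fun i => by have := hD i; infer_instance
  have hqs : ∀ i, QuasiSeparatedSpace (D.obj i).left := fun i => by have := hD i; infer_instance
  have haff : ∀ {i j : K} (φ : i ⟶ j), IsAffineHom (D.map φ).left := fun {i j} φ => by
    have := hD i; have := hD j; infer_instance
  obtain ⟨W, w, hw, hws⟩ := hZ.atlas
  obtain ⟨h, hh⟩ := (yon S).map_surjective (w ≫ q)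
  have hlfp : LocallyOfFinitePresentation h.left :=
    hq w (𝟙 _) h hw (repWith_id _ T₀) (by rw [Category.comp_id, hh])
  obtain ⟨k, n, Vo, vo, hvo, hvos, hσ⟩ := exists_cover_lift D c hc hD hT ξ w hw hws
  choose σ hσw using hσ
  have hσh : ∀ j, σ j ≫ h = nestPtSnd D c k (vo j) ≫ c.π.app k ≫ t.app k := by
    intro j
    apply (yon S).map_injective
    rw [Functor.map_comp, hh, ← Category.assoc, hσw, Category.assoc, hξ, ← Functor.map_comp,
      cone_str_eq D c t k₀ k]
  have step5 : ∀ j, ∃ (l : Over k) (γ : (nest D k (vo j)).obj l ⟶ W),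
      (nestCone D c k (vo j)).π.app l ≫ γ = σ j ∧ γ ≫ h = nestSnd D k (vo j) l ≫ t.app l.left :=
    fun j => nest_exists_lift D c t hc hcomp hqs haff h hlfp k (vo j) (hvo j).2.1 (hvo j).2.2
      (σ j) (hσh j)
  choose l₁ γ₁ hγ₁a hγ₁b using step5
  obtain ⟨l, hl⟩ := exists_common_lower l₁
  let lam : ∀ j, l ⟶ l₁ j := fun j => (hl j).some
  let γ : ∀ j, (nest D k (vo j)).obj l ⟶ W := fun j => (nest D k (vo j)).map (lam j) ≫ γ₁ j
  have hγa : ∀ j, (nestCone D c k (vo j)).π.app l ≫ γ j = σ j := by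
    intro j
    simp only [γ]
    rw [← Category.assoc, (nestCone D c k (vo j)).w, hγ₁a]
  have hγb : ∀ j, γ j ≫ h = nestSnd D k (vo j) l ≫ t.app l.left := by
    intro j
    simp only [γ]
    rw [Category.assoc, hγ₁b, nest_map_snd_assoc, str_naturality]
  let m₀ : K := l.left
  let A : Fin n → Over S := fun j => (nest D k (vo j)).obj l
  let a' : ∀ j, A j ⟶ D.obj m₀ := fun j => nestSnd D k (vo j) l
  let ζ₁ : ∀ j, (yon S).obj (A j) ⟶ Z := fun j => (yon S).map (γ j) ≫ w
  have sqA : ∀ j, IsPullback (nestFst D k (vo j) l).left (a' j).left (vo j).left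
      (D.map l.hom).left :=
    fun j => (IsPullback.of_hasPullback (vo j) (D.map l.hom)).map (Over.forget S)
  have ha'et : ∀ j, Etale (a' j).left := fun j =>
    MorphismProperty.of_isPullback (P := @Etale) (sqA j) (hvo j).1
  have ha'qc : ∀ j, QuasiCompact (a' j).left := fun j =>
    MorphismProperty.of_isPullback (P := @QuasiCompact) (sqA j) (hvo j).2.1
  have ha'qs : ∀ j, QuasiSeparated (a' j).left := fun j =>
    MorphismProperty.of_isPullback (P := @QuasiSeparated) (sqA j) (hvo j).2.2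
  have hζ₁q : ∀ j, ζ₁ j ≫ q = (yon S).map (a' j ≫ t.app m₀) := by
    intro j
    simp only [ζ₁]
    rw [Category.assoc, ← hh, ← Functor.map_comp, hγb]
  have hagree : ∀ j, AgreesAtLimit D c ξ m₀ (a' j) (ζ₁ j) := by
    intro j W' r s hrs
    let ρ : W' ⟶ (nestCone D c k (vo j)).pt := (isPullback_nestCone_π D c k (vo j) l).lift r s hrs
    have h1 : ρ ≫ (nestCone D c k (vo j)).π.app l = r :=
      (isPullback_nestCone_π D c k (vo j) l).lift_fst r s hrs
    have h2 : ρ ≫ nestPtSnd D c k (vo j) = s :=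
      (isPullback_nestCone_π D c k (vo j) l).lift_snd r s hrs
    have e1 : (yon S).map r ≫ ζ₁ j = (yon S).map ρ ≫ (yon S).map (σ j) ≫ w := by
      have e0 : r ≫ γ j = ρ ≫ σ j := by rw [← h1, Category.assoc, hγa]
      change (yon S).map r ≫ (yon S).map (γ j) ≫ w = _
      rw [← Category.assoc, ← Functor.map_comp, e0, Functor.map_comp, Category.assoc]
    rw [e1, hσw, ← h2, Functor.map_comp, Category.assoc]
  have step7 : ∀ p : Fin n × Fin n, ∃ m : Over m₀,
      OverlapAgree D m₀ (a' p.1) (a' p.2) (ζ₁ p.1) (ζ₁ p.2) m :=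
    fun p => overlap_agree D c t hc hcomp hqs haff hZ q (locP_lft_of_lfp q hq) ξ m₀ (a' p.1)
      (a' p.2) (ha'qc p.1) (ha'qs p.1) (ha'qc p.2) (ha'qs p.2) (ζ₁ p.1) (ζ₁ p.2) (hζ₁q p.1)
      (hζ₁q p.2) (hagree p.1) (hagree p.2)
  choose m₁ hm₁ using step7
  obtain ⟨m, hm⟩ := exists_common_lower m₁
  have hOA : ∀ j j', OverlapAgree D m₀ (a' j) (a' j') (ζ₁ j) (ζ₁ j') m :=
    fun j j' => (hm₁ (j, j')).mono D (hm (j, j')).some
  let V'' : Fin n → Over S := fun j => (nest D m₀ (a' j)).obj m
  let v'' : ∀ j, V'' j ⟶ D.obj m.left := fun j => nestSnd D m₀ (a' j) m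
  let ζ'' : ∀ j, (yon S).obj (V'' j) ⟶ Z :=
    fun j => (yon S).map (nestFst D m₀ (a' j) m) ≫ ζ₁ j
  have sqV : ∀ j, IsPullback (nestFst D m₀ (a' j) m).left (v'' j).left (a' j).left
      (D.map m.hom).left :=
    fun j => (IsPullback.of_hasPullback (a' j) (D.map m.hom)).map (Over.forget S)
  have hv''et : ∀ j, Etale (v'' j).left := fun j =>
    MorphismProperty.of_isPullback (P := @Etale) (sqV j) (ha'et j)
  have hP : ∀ j, Flat (v'' j).left ∧ LocallyOfFinitePresentation (v'' j).left := fun j => by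
    have := hv''et j
    exact ⟨inferInstance, inferInstance⟩
  have hsurj : ∀ b : ↥(D.obj m.left).left, ∃ j, b ∈ Set.range (v'' j).left := by
    intro b
    obtain ⟨j, z, hz⟩ := hvos ((D.map l.hom).left ((D.map m.hom).left b))
    obtain ⟨p₁, -, hp₁⟩ := Scheme.exists_preimage_of_isPullback (sqA j) z
      ((D.map m.hom).left b) hz
    obtain ⟨p₂, -, hp₂⟩ := Scheme.exists_preimage_of_isPullback (sqV j) p₁ b hp₁
    exact ⟨j, p₂, hp₂⟩
  obtain ⟨ζ, hζ⟩ := exists_desc_of_cover V'' v'' hP hsurj ζ'' (by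
    intro W' j j' g₁ g₂ hg
    have := hOA j j' W' g₁ g₂ hg
    simp only [ζ'']
    rw [← Category.assoc, ← Functor.map_comp, ← Category.assoc (_ : _ ⟶ (yon S).obj (V'' j')),
      ← Functor.map_comp]
    exact this)
  refine ⟨m.left, ζ, ?_, ?_⟩
  · apply hom_ext_of_cover V'' v'' hP hsurj
    intro j
    rw [← Category.assoc, hζ, ← Functor.map_comp]
    simp only [ζ'', ζ₁, Category.assoc]
    rw [← hh, ← Functor.map_comp, ← Functor.map_comp]
    congr 1
    rw [hγb, ← Category.assoc, nest_condition D m₀ (a' j) m, Category.assoc, str_naturality]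
  · let P : Fin n → Over S := fun j => (nestCone D c k (vo j)).pt
    let p : ∀ j, P j ⟶ c.pt := fun j => nestPtSnd D c k (vo j)
    have sqP : ∀ j, IsPullback (nestPtFst D c k (vo j)).left (p j).left (vo j).left
        (c.π.app k).left :=
      fun j => (IsPullback.of_hasPullback (vo j) (c.π.app k)).map (Over.forget S)
    have hPp : ∀ j, Flat (p j).left ∧ LocallyOfFinitePresentation (p j).left := fun j => by
      have : Etale (p j).left := MorphismProperty.of_isPullback (P := @Etale) (sqP j) (hvo j).1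
      exact ⟨inferInstance, inferInstance⟩
    have hpsurj : ∀ b : ↥c.pt.left, ∃ j, b ∈ Set.range (p j).left := by
      intro b
      obtain ⟨j, z, hz⟩ := hvos ((c.π.app k).left b)
      obtain ⟨p₁, -, hp₁⟩ := Scheme.exists_preimage_of_isPullback (sqP j) z b hz
      exact ⟨j, p₁, hp₁⟩
    apply hom_ext_of_cover P p hPp hpsurj
    intro j
    let lift : P j ⟶ V'' j :=
      pullback.lift ((nestCone D c k (vo j)).π.app l) (p j ≫ c.π.app m.left) (by
        rw [Category.assoc]
        change _ = _ ≫ _ ≫ D.map m.hom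
        rw [c.w m.hom]
        exact nestCone_π_snd D c k (vo j) l)
    have h1 : p j ≫ c.π.app m.left = lift ≫ v'' j := (pullback.lift_snd _ _ _).symm
    have h2 : lift ≫ nestFst D m₀ (a' j) m = (nestCone D c k (vo j)).π.app l :=
      pullback.lift_fst _ _ _
    rw [← Category.assoc, ← Functor.map_comp, h1, Functor.map_comp, Category.assoc, hζ]
    simp only [ζ'']
    rw [← Category.assoc, ← Functor.map_comp, h2]
    exact hagree j _ ((nestCone D c k (vo j)).π.app l) (p j) (nestCone_π_snd D c k (vo j) l)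

end

end Groth.Agent.H50
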