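import Groth.Agent.H50.LimAff
import Groth.Agent.H51.SpCover
import Mathlib.AlgebraicGeometry.AffineTransitionLimit

set_option autoImplicit false
set_option backward.isDefEq.respectTransparency false
set_option linter.style.haveILetI false
universe u
open CategoryTheory CategoryTheory.Limits AlgebraicGeometry Opposite Topology

namespace Groth.Agent.H50

open AlgSp

variable {S : Scheme.{u}} {I : Type u} [SmallCategory I] [IsCofiltered I] (D : I ⥤ Sp S)
  (hDa : ∀ (i j : I) (φ : i ⟶ j), IsAffineMor (D.map φ))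

include hDa in
/-- A cofiltered limit of nonempty quasi-compact algebraic spaces with affine transition maps is
nonempty. -/
theorem nonempty_points_of_isLimit (c : Cone D) (hc : IsLimit c)
    (hqc : ∀ i, IsQuasiCompactSp (D.obj i)) (hne : ∀ i, Nonempty (Points (D.obj i))) :
    Nonempty (Points c.pt) := by
  obtain ⟨i₀⟩ := IsCofiltered.nonempty (C := I)
  obtain ⟨Z, g, hZ, hg, hgs⟩ :=
    (Groth.Agent.H51.isQuasiCompactSp_iff_exists_affine_atlas).1 (hqc i₀)
  haveI : IsConnected (Over i₀) := IsCofiltered.isConnected _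
  haveI := affSys_hasLimit D hDa i₀ hZ g
  let W := affSys D hDa i₀ hZ g
  have hL := limit.isLimit W
  have hL' := isLimitOfPreserves (Over.forget S) hL
  haveI : ∀ j, IsAffine ((W ⋙ Over.forget S).obj j) := affSys_isAffine D hDa i₀ hZ g
  haveI : ∀ {j k : Over i₀} (f : j ⟶ k), IsAffineHom ((W ⋙ Over.forget S).map f) :=
    fun f => isAffineHom_of_isAffine _
  haveI : ∀ j, CompactSpace ((W ⋙ Over.forget S).obj j) := fun j => inferInstance
  haveI : ∀ j, Nonempty ((W ⋙ Over.forget S).obj j) := by
    intro j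
    have hs : RepWith @Surjective (affSysFst D hDa i₀ hZ g j) :=
      MorphismProperty.of_isPullback (affSys_isPullback D hDa i₀ hZ g j).flip hgs
    obtain ⟨x⟩ := hne j.left
    obtain ⟨w, -⟩ := Groth.Agent.H51.surjective_ofPt_of_surjective _ hs x
    exact ⟨w⟩
  obtain ⟨l⟩ := Scheme.nonempty_of_isLimit (W ⋙ Over.forget S) _ hL'
  exact ⟨Points.ofPt (affSysLimFst D hDa i₀ hZ g c hc (limit.cone W)) l⟩

end Groth.Agent.H50
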