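import Groth.Agent.H50.AbsSpec2
import Groth.Agent.H50.EtaleModel

set_option autoImplicit false
set_option backward.isDefEq.respectTransparency false
set_option linter.style.haveILetI false
universe u
open CategoryTheory CategoryTheory.Limits AlgebraicGeometry Opposite
open scoped TensorProduct

namespace Groth.Agent.H50

variable {S : Scheme.{u}}

/-- A surjective etale morphism `u : L ⟶ T` of affine schemes over `S` is the base change of
`Spec B₀ × S ⟶ Spec A₀ × S` for a surjective etale map `A₀ → B₀` of finitely presented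
`ℤ`-algebras. -/
theorem exists_abs_model {T L : Over S} (hT : IsAffine T.left) (hL : IsAffine L.left) (u : L ⟶ T)
    (hét : Etale u.left) (hsurj : Surjective u.left) :
    ∃ (A₀ B₀ : Type u) (_ : CommRing A₀) (_ : CommRing B₀) (_ : Algebra A₀ B₀)
      (tV : T ⟶ absV S A₀) (lV : L ⟶ absV S B₀),
      Algebra.FinitePresentation ℤ A₀ ∧ Algebra.FinitePresentation ℤ B₀ ∧
      Etale (Spec.map (CommRingCat.ofHom (algebraMap A₀ B₀))) ∧
      Surjective (Spec.map (CommRingCat.ofHom (algebraMap A₀ B₀))) ∧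
      IsPullback u lV tV (absMap (algebraMap A₀ B₀)) := by
  let A : Type u := Γ(T.left, ⊤)
  let B : Type u := Γ(L.left, ⊤)
  let _ : Algebra A B := u.left.appTop.hom.toAlgebra
  have hAB : Algebra.Etale A B := by
    have h1 := (HasRingHomProperty.iff_of_isAffine (P := @Etale) (f := u.left)).1 hét
    exact h1
  have hsurj' : Function.Surjective (PrimeSpectrum.comap (algebraMap A B)) := by
    have h1 : Surjective (Spec.map u.left.appTop) :=
      (MorphismProperty.arrow_mk_iso_iff @Surjective (arrowIsoSpecΓOfIsAffine u.left)).1 hsurj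
    exact h1.surj
  obtain ⟨A₀, B₀, _, _, hfg, hét₀, ⟨Θ⟩, hsurj₀⟩ := exists_etale_model_surjective hsurj'
  haveI : Algebra.FiniteType ℤ A₀ := (Subalgebra.fg_iff_finiteType A₀).mp hfg
  haveI hA₀fp : Algebra.FinitePresentation ℤ A₀ := Algebra.FinitePresentation.of_finiteType.1 ‹_›
  haveI hB₀fp : Algebra.FinitePresentation ℤ B₀ := Algebra.FinitePresentation.trans ℤ A₀ B₀
  let a : A₀ →+* A := A₀.val.toRingHom
  let b : B₀ →+* B := (Θ.symm.toAlgHom.toRingHom).comp
    (Algebra.TensorProduct.includeRight : B₀ →ₐ[A₀] A ⊗[A₀] B₀).toRingHom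
  have hEt : Etale (Spec.map (CommRingCat.ofHom (algebraMap A₀ B₀))) := by
    rw [HasRingHomProperty.Spec_iff (P := @Etale)]
    exact RingHom.etale_algebraMap.2 hét₀
  have hSu : Surjective (Spec.map (CommRingCat.ofHom (algebraMap A₀ B₀))) := ⟨hsurj₀⟩
  have hpb : IsPullback (Spec.map u.left.appTop) (Spec.map (CommRingCat.ofHom b))
      (Spec.map (CommRingCat.ofHom a)) (Spec.map (CommRingCat.ofHom (algebraMap A₀ B₀))) := by
    have h1 := isPullback_SpecMap_of_isPushout _ _ _ _
      (CommRingCat.isPushout_tensorProduct A₀ A B₀)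
    let eΘ : Spec (CommRingCat.of (A ⊗[A₀] B₀)) ≅ Spec (CommRingCat.of B) :=
      Scheme.Spec.mapIso (Θ.toRingEquiv.toCommRingCatIso).op
    have heΘ : eΘ.hom = Spec.map (CommRingCat.ofHom Θ.toAlgHom.toRingHom) := rfl
    refine IsPullback.of_iso h1 eΘ (Iso.refl _) (Iso.refl _) (Iso.refl _) ?_ ?_
      ((Category.comp_id _).trans (Category.id_comp _).symm)
      ((Category.comp_id _).trans (Category.id_comp _).symm)
    · rw [Iso.refl_hom, Category.comp_id, heΘ]
      change _ = Spec.map _ ≫ Spec.map (CommRingCat.ofHom (algebraMap A B))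
      rw [← Spec.map_comp, ← CommRingCat.ofHom_comp]
      congr 2
      ext x
      simp
    · rw [Iso.refl_hom, Category.comp_id, heΘ, ← Spec.map_comp, ← CommRingCat.ofHom_comp]
      congr 2
      ext x
      change (1 : A) ⊗ₜ[A₀] x = Θ (Θ.symm ((1 : A) ⊗ₜ[A₀] x))
      rw [AlgEquiv.apply_symm_apply]
  exact ⟨A₀, B₀, inferInstance, inferInstance, inferInstance, _, _, hA₀fp, hB₀fp, hEt, hSu,
    isPullback_abs_of_isPullback_spec hT hL u a b hpb⟩

end Groth.Agent.H50
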