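import Groth.Agent.H50.LimAff
import Mathlib.AlgebraicGeometry.AffineTransitionLimit

set_option autoImplicit false
set_option backward.isDefEq.respectTransparency false
set_option linter.style.haveILetI false
universe u
open CategoryTheory CategoryTheory.Limits AlgebraicGeometry Opposite

namespace Groth.Agent.H50

variable {S : Scheme.{u}}

section

variable {J : Type u} [SmallCategory J] [IsCofiltered J] (W : J ⥤ Over S)
  (hW : ∀ j, IsAffine (W.obj j).left) (L : Cone W) (hL : IsLimit L)

/-- The structure morphisms of a diagram over `S`. -/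
def overStr : (W ⋙ Over.forget S) ⟶ (Functor.const J).obj S where
  app j := (W.obj j).hom
  naturality j k φ := by
    change (W.map φ).left ≫ (W.obj k).hom = (W.obj j).hom ≫ 𝟙 S
    rw [Over.w, Category.comp_id]

include hW hL in
/-- A morphism from a cofiltered limit of affine schemes over `S` to a scheme locally of finite
presentation over `S` factors through a stage. -/
theorem exists_factor_of_lfp {V : Over S} (hV : LocallyOfFinitePresentation V.hom)
    (lV : L.pt ⟶ V) : ∃ (j : J) (φ : W.obj j ⟶ V), L.π.app j ≫ φ = lV := by
  haveI : IsConnected J := IsCofiltered.isConnected _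
  haveI : ∀ j, IsAffine ((W ⋙ Over.forget S).obj j) := hW
  have hL' := isLimitOfPreserves (Over.forget S) hL
  obtain ⟨j, g, hg1, hg2⟩ := Scheme.exists_π_app_comp_eq_of_locallyOfFinitePresentation
    (W ⋙ Over.forget S) (overStr W) V.hom ((Over.forget S).mapCone L) hL' lV.left (by
      ext j
      change (L.π.app j).left ≫ (W.obj j).hom = lV.left ≫ V.hom
      rw [Over.w, Over.w]
      rfl)
  refine ⟨j, Over.homMk g hg2, ?_⟩
  ext
  exact hg1

include hW hL in
/-- Two morphisms from a stage of a cofiltered system of affine schemes over `S` to a scheme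
locally of finite type over `S` which agree on the limit agree on a later stage. -/
theorem exists_eq_of_lft {V : Over S} (hV : LocallyOfFiniteType V.hom) {j : J}
    (a b : W.obj j ⟶ V) (hab : L.π.app j ≫ a = L.π.app j ≫ b) :
    ∃ (k : J) (ψ : k ⟶ j), W.map ψ ≫ a = W.map ψ ≫ b := by
  haveI : IsConnected J := IsCofiltered.isConnected _
  haveI : ∀ j, IsAffine ((W ⋙ Over.forget S).obj j) := hW
  have hL' := isLimitOfPreserves (Over.forget S) hL
  obtain ⟨k, ψ, h⟩ := Scheme.exists_hom_comp_eq_comp_of_locallyOfFiniteType
    (W ⋙ Over.forget S) (overStr W) V.hom ((Over.forget S).mapCone L) hL' (i := j) a.left b.left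
    (Over.w a).symm (Over.w b).symm (congrArg (fun k => k.left) hab)
  refine ⟨k, ψ, ?_⟩
  ext
  exact h

end

end Groth.Agent.H50
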