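import Groth.Agent.H50.LimAffineP

set_option autoImplicit false
set_option backward.isDefEq.respectTransparency false
set_option linter.style.haveILetI false
universe u
open CategoryTheory CategoryTheory.Limits AlgebraicGeometry Opposite

namespace Groth.Agent.H50

open AlgSp

variable {S : Scheme.{u}}

/-- Pasting lemma: the base change of a chart `V₀ ⟶ Y₀` to `Y' = Y₀ ×_{B₀} B'`, and the
identification of `X' ×_{Y'} V'` with `(X₀ ×_{Y₀} V₀) ×_{B₀} B'`. -/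
theorem exists_chart_pasting {X₀ Y₀ B₀ B' Y' X' : Sp S} (f₀ : X₀ ⟶ Y₀) (b₀ : Y₀ ⟶ B₀)
    {V₀ : Over S} (v : (yon S).obj V₀ ⟶ Y₀) (β : B' ⟶ B₀) (pY' : Y' ⟶ Y₀) (qY' : Y' ⟶ B')
    (hY' : IsPullback pY' qY' b₀ β) (pX' : X' ⟶ X₀) (f' : X' ⟶ Y')
    (hX' : IsPullback pX' f' f₀ pY') {V' : Over S} (ι : V' ⟶ V₀) (k : (yon S).obj V' ⟶ B')
    (sqV' : IsPullback k ((yon S).map ι) β (v ≫ b₀)) :
    ∃ y' : (yon S).obj V' ⟶ Y', IsPullback ((yon S).map ι) y' v pY' ∧ y' ≫ qY' = k ∧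
      ∀ {P' : Sp S} (fst' : P' ⟶ X') (snd' : P' ⟶ (yon S).obj V'), IsPullback fst' snd' f' y' →
        ∃ m : P' ⟶ pullback f₀ v,
          IsPullback m (snd' ≫ k) (pullback.snd f₀ v ≫ v ≫ b₀) β := by
  let y' : (yon S).obj V' ⟶ Y' := hY'.lift ((yon S).map ι ≫ v) k (by
    rw [Category.assoc]
    exact sqV'.w.symm)
  have hy'1 : y' ≫ pY' = (yon S).map ι ≫ v := hY'.lift_fst _ _ _
  have hy'2 : y' ≫ qY' = k := hY'.lift_snd _ _ _
  have sqy' : IsPullback ((yon S).map ι) y' v pY' := by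
    refine IsPullback.of_bot ?_ hy'1.symm hY'
    rw [hy'2]
    exact sqV'.flip
  refine ⟨y', sqy', hy'2, ?_⟩
  intro P' fst' snd' sqP'
  have sqW : IsPullback (pullback.fst f₀ v) (pullback.snd f₀ v) f₀ v :=
    IsPullback.of_hasPullback f₀ v
  have houter : IsPullback (fst' ≫ pX') snd' f₀ (y' ≫ pY') := sqP'.paste_horiz hX'
  let m : P' ⟶ pullback f₀ v := pullback.lift (fst' ≫ pX') (snd' ≫ (yon S).map ι) (by
    rw [houter.w, hy'1, Category.assoc])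
  have hm1 : m ≫ pullback.fst f₀ v = fst' ≫ pX' := pullback.lift_fst _ _ _
  have hm2 : m ≫ pullback.snd f₀ v = snd' ≫ (yon S).map ι := pullback.lift_snd _ _ _
  have sqm : IsPullback m snd' (pullback.snd f₀ v) ((yon S).map ι) := by
    refine IsPullback.of_right ?_ hm2 sqW
    rw [hm1, ← hy'1]
    exact houter
  exact ⟨m, sqm.paste_vert sqV'.flip⟩

section

variable {I : Type u} [SmallCategory I] [IsCofiltered I] (D : I ⥤ Sp S)
  (hDa : ∀ (i j : I) (φ : i ⟶ j), IsAffineMor (D.map φ)) (c : Cone D) (hc : IsLimit c)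
  [QuasiSeparatedSpace ↥S]

include hDa hc in
/-- Descent of affineness of a morphism along a cofiltered limit of algebraic spaces with affine
transition maps (no finiteness hypothesis). -/
theorem descend_isAffineMor_of_isLimit (hD : ∀ i, IsAlgSpace (D.obj i)) (i₀ : I)
    {X₀ Y₀ : Sp S} (hX₀ : IsAlgSpace X₀) (hY₀ : IsAlgSpace Y₀) (f₀ : X₀ ⟶ Y₀)
    (b₀ : Y₀ ⟶ D.obj i₀)
    (hXqc : IsQuasiCompactSp X₀) (hXqs : IsQuasiSeparatedSp X₀) (hYqc : IsQuasiCompactSp Y₀)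
    (hYqs : IsQuasiSeparatedSp Y₀)
    (X Y : Sp S) (f : X ⟶ Y) (pY : Y ⟶ Y₀) (qY : Y ⟶ c.pt)
    (hY : IsPullback pY qY b₀ (c.π.app i₀)) (pX : X ⟶ X₀) (hX : IsPullback pX f f₀ pY)
    (hf : IsAffineMor f) :
    ∃ (i : I) (φ : i ⟶ i₀), ∀ (Xi Yi : Sp S) (fi : Xi ⟶ Yi) (pYi : Yi ⟶ Y₀)
      (qYi : Yi ⟶ D.obj i) (_ : IsPullback pYi qYi b₀ (D.map φ)) (pXi : Xi ⟶ X₀)
      (_ : IsPullback pXi fi f₀ pYi), IsAffineMor fi := by
  obtain ⟨V₀, v, hV₀, hv, hvs⟩ :=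
    (Groth.Agent.H51.isQuasiCompactSp_iff_exists_affine_atlas).1 hYqc
  let W₀ := pullback f₀ v
  have sqW : IsPullback (pullback.fst f₀ v) (pullback.snd f₀ v) f₀ v :=
    IsPullback.of_hasPullback f₀ v
  have hW₀ : IsAlgSpace W₀ :=
    Groth.Agent.H49.isAlgSpace_of_isPullback sqW hY₀.diag hX₀ (IsAlgSpace.yon_obj V₀)
  have hVqc : IsQuasiCompactSp ((yon S).obj V₀) :=
    haveI := hV₀
    Groth.Agent.H49.isQuasiCompactSp_yon V₀
  have hVqs : IsQuasiSeparatedSp ((yon S).obj V₀) := isQuasiSeparatedSp_yon_of_isAffine V₀ hV₀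
  have hWq := Groth.Agent.H49.isQuasiCompactSp_and_isQuasiSeparatedSp_of_isPullback hX₀ hY₀
    (IsAlgSpace.yon_obj V₀) sqW ⟨hXqc, hXqs⟩ hYqs ⟨hVqc, hVqs⟩
  let g₀ : W₀ ⟶ D.obj i₀ := pullback.snd f₀ v ≫ v ≫ b₀
  -- the limit
  obtain ⟨V', ι, k, sqV', hV'⟩ := isAffineMor_π_of_isLimit D hDa c hc i₀ hV₀ (v ≫ b₀)
  obtain ⟨y', sqy', hy', hpaste⟩ := exists_chart_pasting f₀ b₀ v (c.π.app i₀) pY qY hY pX f hX ι k
    sqV'
  obtain ⟨T, i', fst', sqT, hT⟩ := hf hV' y'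
  obtain ⟨m, sqm⟩ := hpaste fst' ((yon S).map i') sqT
  obtain ⟨j, T', hT', ⟨e'⟩⟩ := exists_affine_pbDiagram D hDa c hc hD i₀ hW₀ hWq.1 hWq.2 g₀ hT
    ((yon S).map i' ≫ k) m sqm.flip
  refine ⟨j.left, j.hom, ?_⟩
  intro Xi Yi fi pYi qYi hYi pXi hXi
  obtain ⟨Vi, ιi, ki, sqVi, hVi⟩ := hDa _ _ j.hom hV₀ (v ≫ b₀)
  obtain ⟨yi, sqyi, hyi, hpastei⟩ := exists_chart_pasting f₀ b₀ v (D.map j.hom) pYi qYi hYi pXi fi
    hXi ιi ki sqVi
  have hyie : RepWith @Etale yi := MorphismProperty.of_isPullback sqyi hv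
  have hyis : RepWith @Surjective yi := MorphismProperty.of_isPullback sqyi hvs
  obtain ⟨mi, sqmi⟩ := hpastei (pullback.fst fi yi) (pullback.snd fi yi)
    (IsPullback.of_hasPullback fi yi)
  let e'' : (yon S).obj T' ≅ pullback fi yi := e' ≪≫ sqmi.flip.isoPullback.symm
  exact isAffineMor_of_one_atlas fi yi hyie hyis _ _ (IsPullback.of_hasPullback fi yi)
    (isAffineMor_of_iso_yon e'' _ hT' hVi)

end

end Groth.Agent.H50
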