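import Groth.Agent.H50.LimEvIso
import Groth.Agent.H50.KerSys
import Groth.Agent.H49.AlgSpQC
import Groth.Agent.H49.AlgSpDiag
import Groth.Agent.H51.SpAffine

set_option autoImplicit false
set_option backward.isDefEq.respectTransparency false
set_option linter.style.haveILetI false
universe u
open CategoryTheory CategoryTheory.Limits AlgebraicGeometry Opposite Topology

namespace Groth.Agent.H50

open AlgSp

variable {S : Scheme.{u}}

/-- Affine morphisms of sheaves are separated. -/
theorem isSeparatedMor_of_isAffineMor {X Y : Sp S} (f : X ⟶ Y) (hf : IsAffineMor f) :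
    IsSeparatedMor f := by
  have h1 : RepWith @IsAffineHom f :=
    (Groth.Agent.H51.affine_test_iff_repWith @IsAffineHom (fun g hg => hg) f).1
      (fun Z hZ g => by
        obtain ⟨W, i, fst, sq, hW⟩ := hf hZ g
        haveI := hZ
        haveI := hW
        exact ⟨W, i, fst, sq, hW, isAffineHom_of_isAffine _⟩)
  have h2 : RepWith (MorphismProperty.diagonal
      (@IsClosedImmersion : MorphismProperty Scheme.{u})) f := by
    refine Groth.Agent.H49.repWith_of_le ?_ h1
    intro A B k hk
    have : IsAffineHom k := hk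
    have : IsSeparated k := inferInstance
    exact this.1
  exact (Groth.Agent.H49.repWith_diagonal_iff @IsClosedImmersion f h1.1).2 h2

variable [QuasiSeparatedSpace ↥S] {I : Type u} [SmallCategory I] [IsCofiltered I] (D : I ⥤ Sp S)
  (c : Cone D) (hc : IsLimit c)

include hc in
/-- A monomorphism from a quasi-compact algebraic space into a cofiltered limit with affine
transition maps, locally of finite type over a stage, stays a monomorphism at all sufficiently
small stages. -/
theorem eventually_mono_comp_π (hD : ∀ i, IsAlgSpace (D.obj i))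
    (hDa : ∀ (i j : I) (φ : i ⟶ j), IsAffineMor (D.map φ))
    (hqs : ∀ i, IsQuasiSeparatedSp (D.obj i)) {Y : Sp S} (hY : IsAlgSpace Y)
    (hYqc : IsQuasiCompactSp Y) (y : Y ⟶ c.pt) [Mono y] (i₁ : I)
    (hlft : LocP @LocallyOfFiniteType (y ≫ c.π.app i₁)) :
    ∃ i₀ : I, ∀ (i : I) (_ : i ⟶ i₀), Mono (y ≫ c.π.app i) := by
  let E := kerSys D c y
  let cE := kerSysCone D c y
  have hcE : IsLimit cE := kerSysConeIsLimit D c y hc
  have hE : ∀ i, IsAlgSpace (E.obj i) := fun i =>
    Groth.Agent.H49.isAlgSpace_of_isPullback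
      (IsPullback.of_hasPullback (y ≫ c.π.app i) (y ≫ c.π.app i)) (hD i).diag hY hY
  have hEc : ∀ (i j : I) (φ : i ⟶ j), RepWith @IsClosedImmersion (E.map φ) := fun i j φ =>
    MorphismProperty.of_isPullback (kerSys_map_isPullback D c y φ)
      (isSeparatedMor_of_isAffineMor _ (hDa i j φ))
  have hEqc : IsQuasiCompactSp (E.obj i₁) := by
    have hg : IsQuasiCompactMor (y ≫ c.π.app i₁) :=
      Groth.Agent.H49.isQuasiCompactMor_of_isQuasiCompactSp_of_isQuasiSeparatedSp hY (hD i₁) _
        hYqc (hqs i₁)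
    exact hg hY hYqc (y ≫ c.π.app i₁) _ _
      (IsPullback.of_hasPullback (y ≫ c.π.app i₁) (y ≫ c.π.app i₁))
  have hlfp : LocP @LocallyOfFinitePresentation (cE.π.app i₁) :=
    locP_lfp_diagonal hY (hD i₁) (y ≫ c.π.app i₁) hlft
  obtain ⟨i₀, hi₀⟩ := eventually_isIso_π_of_lfp E cE hcE hE hEc i₁ hEqc hlfp
  refine ⟨i₀, fun i φ => ?_⟩
  have : IsIso (pullback.diagonal (y ≫ c.π.app i)) := hi₀ i φ
  exact (pullback.isIso_diagonal_iff _).1 this

end Groth.Agent.H50
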