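import Mathlib

/-!
# Base change of a cofiltered limit along a morphism to one of the stages (generic category)

Generic-category version of `Groth.Agent.H24.pullbackDiagram` (helper24), for use with sheaves.
-/

set_option autoImplicit false
universe u
open CategoryTheory CategoryTheory.Limits

namespace Groth.Agent.H50

variable {C : Type*} [Category C] [HasPullbacks C] {I : Type*} [Category I] (D : I ⥤ C) (c : Cone D)
  (i₀ : I) {T : C} (g : T ⟶ D.obj i₀)

set_option backward.isDefEq.respectTransparency false in
/-- The diagram `j ↦ D_j ×_{D_{i₀}} T` indexed by `Over i₀`. -/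
noncomputable def pbDiagram : Over i₀ ⥤ C where
  obj φ := pullback (D.map φ.hom) g
  map {φ ψ} f := pullback.map (D.map φ.hom) g (D.map ψ.hom) g (D.map f.left) (𝟙 T) (𝟙 _)
    (by rw [Category.comp_id, ← D.map_comp, Over.w f]) (by simp)
  map_id φ := by
    apply pullback.hom_ext <;> simp [pullback.map]
  map_comp f f' := by
    apply pullback.hom_ext <;> simp [pullback.map]

set_option backward.isDefEq.respectTransparency false in
/-- The projection to the original diagram. -/
noncomputable def pbDiagramι : pbDiagram D i₀ g ⟶ Over.forget i₀ ⋙ D where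
  app φ := pullback.fst (D.map φ.hom) g
  naturality φ ψ f := by simp [pbDiagram, pullback.map]

set_option backward.isDefEq.respectTransparency false in
/-- The cone with point `c.pt ×_{D_{i₀}} T`. -/
noncomputable def pbCone : Cone (pbDiagram D i₀ g) where
  pt := pullback (c.π.app i₀) g
  π :=
    { app := fun φ => pullback.map (c.π.app i₀) g (D.map φ.hom) g (c.π.app φ.left) (𝟙 T) (𝟙 _)
        (by simp) (by simp)
      naturality := fun φ ψ f => by
        apply pullback.hom_ext <;> simp [pbDiagram, pullback.map] }

set_option backward.isDefEq.respectTransparency false in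
@[reassoc]
theorem pbDiagram_map_snd {φ ψ : Over i₀} (f : φ ⟶ ψ) :
    (pbDiagram D i₀ g).map f ≫ pullback.snd (D.map ψ.hom) g =
      pullback.snd (D.map φ.hom) g := by
  simp [pbDiagram, pullback.map]

set_option backward.isDefEq.respectTransparency false in
@[reassoc]
theorem pbDiagram_map_fst {φ ψ : Over i₀} (f : φ ⟶ ψ) :
    (pbDiagram D i₀ g).map f ≫ pullback.fst (D.map ψ.hom) g =
      pullback.fst (D.map φ.hom) g ≫ D.map f.left := by
  simp [pbDiagram, pullback.map]

set_option backward.isDefEq.respectTransparency false in
@[reassoc]
theorem pbCone_π_snd (φ : Over i₀) :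
    (pbCone D c i₀ g).π.app φ ≫ pullback.snd (D.map φ.hom) g =
      pullback.snd (c.π.app i₀) g := by
  simp [pbCone, pullback.map]

set_option backward.isDefEq.respectTransparency false in
@[reassoc]
theorem pbCone_π_fst (φ : Over i₀) :
    (pbCone D c i₀ g).π.app φ ≫ pullback.fst (D.map φ.hom) g =
      pullback.fst (c.π.app i₀) g ≫ c.π.app φ.left := by
  simp [pbCone, pullback.map]

set_option backward.isDefEq.respectTransparency false in
/-- The projection of the base-changed cone is a base change of the original projection. -/
theorem isPullback_pbCone_π (φ : Over i₀) :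
    IsPullback ((pbCone D c i₀ g).π.app φ) (pullback.fst (c.π.app i₀) g)
      (pullback.fst (D.map φ.hom) g) (c.π.app φ.left) := by
  refine IsPullback.of_right ?_ (pbCone_π_fst D c i₀ g φ)
    (IsPullback.of_hasPullback (D.map φ.hom) g).flip
  have h2 : c.π.app φ.left ≫ D.map φ.hom = c.π.app i₀ := by simp
  rw [pbCone_π_snd, h2]
  exact (IsPullback.of_hasPullback (c.π.app i₀) g).flip

set_option backward.isDefEq.respectTransparency false in
/-- The transition maps of the base-changed diagram are base changes of the original ones. -/
theorem isPullback_pbDiagram_map {φ ψ : Over i₀} (f : φ ⟶ ψ) :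
    IsPullback ((pbDiagram D i₀ g).map f) (pullback.fst (D.map φ.hom) g)
      (pullback.fst (D.map ψ.hom) g) (D.map f.left) := by
  refine IsPullback.of_right ?_ (pbDiagram_map_fst D i₀ g f)
    (IsPullback.of_hasPullback (D.map ψ.hom) g).flip
  have h2 : D.map f.left ≫ D.map ψ.hom = D.map φ.hom := by
    rw [← D.map_comp, Over.w f]
  rw [pbDiagram_map_snd, h2]
  exact (IsPullback.of_hasPullback (D.map φ.hom) g).flip

attribute [local instance] CategoryTheory.isConnected_of_hasTerminal

set_option backward.isDefEq.respectTransparency false in
/-- `c.pt ×_{D_{i₀}} T` is the limit of the `D_j ×_{D_{i₀}} T`. -/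
noncomputable def pbConeIsLimit [IsCofiltered I] (hc : IsLimit c) :
    IsLimit (pbCone D c i₀ g) :=
  isLimitOfIsPullbackOfIsConnected (pbDiagramι D i₀ g) _ (c.whisker (Over.forget i₀))
    { hom := pullback.fst (c.π.app i₀) g
      w := fun φ => by simp [pbCone, pbDiagramι, pullback.map] }
    (fun φ => by
      refine IsPullback.of_right ?_ ?_ (IsPullback.of_hasPullback (D.map φ.hom) g).flip
      · have h1 : (pbCone D c i₀ g).π.app φ ≫ pullback.snd (D.map φ.hom) g =
            pullback.snd (c.π.app i₀) g := by simp [pbCone, pullback.map]
        have h2 : (c.whisker (Over.forget i₀)).π.app φ ≫ D.map φ.hom = c.π.app i₀ := by simp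
        rw [h1, h2]
        exact (IsPullback.of_hasPullback (c.π.app i₀) g).flip
      · simp [pbCone, pbDiagramι, pullback.map])
    ((Functor.Initial.isLimitWhiskerEquiv (Over.forget i₀) c).symm hc)

end Groth.Agent.H50
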