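import Groth.Agent.H50.LimAffineMain
import Groth.Agent.H50.LimEvMono
import Groth.Agent.H50.PbDiag
import Groth.Agent.H50.AffineLocal3

set_option autoImplicit false
set_option backward.isDefEq.respectTransparency false
set_option linter.style.haveILetI false
universe u
open CategoryTheory CategoryTheory.Limits AlgebraicGeometry Opposite

namespace Groth.Agent.H50

open AlgSp

variable {S : Scheme.{u}}

/-- The source of an affine morphism to a quasi-separated sheaf is quasi-separated. -/
theorem isQuasiSeparatedSp_of_isAffineMor {X Y : Sp S} (f : X ⟶ Y) (hf : IsAffineMor f)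
    (hY : IsQuasiSeparatedSp Y) : IsQuasiSeparatedSp X := by
  have hsep : RepWith @IsClosedImmersion (pullback.diagonal f) :=
    isSeparatedMor_of_isAffineMor f hf
  have hqs : RepWith @QuasiCompact (pullback.diagonal f) :=
    Groth.Agent.H49.repWith_of_le (fun A B k (hk : IsClosedImmersion k) =>
      (inferInstance : QuasiCompact k)) hsep
  unfold IsQuasiSeparatedSp at hY ⊢
  rw [Groth.Agent.H49.diag_iff_diagonal_terminal (RepWith @QuasiCompact)] at hY ⊢
  rw [← terminal.comp_from f]
  exact MorphismProperty.comp_mem _ _ _ hqs hY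

/-- The source of an affine morphism to a quasi-compact algebraic space is quasi-compact. -/
theorem isQuasiCompactSp_of_isAffineMor {X Y : Sp S} (f : X ⟶ Y) (hf : IsAffineMor f)
    (hYa : IsAlgSpace Y) (hY : IsQuasiCompactSp Y) : IsQuasiCompactSp X :=
  isQuasiCompactMor_of_isAffineMor f hf hYa hY (𝟙 _) (𝟙 _) f (IsPullback.of_horiz_isIso ⟨by simp⟩)

/-- Affineness of a morphism can be checked on one etale atlas of the target. -/
theorem isAffineMor_of_one_atlas {X Y : Sp S} (f : X ⟶ Y) {V : Over S}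
    (p : (yon S).obj V ⟶ Y) (hp : RepWith @Etale p) (hps : RepWith @Surjective p)
    {P : Sp S} (fst : P ⟶ X) (snd : P ⟶ (yon S).obj V) (sqP : IsPullback fst snd f p)
    (h : IsAffineMor snd) : IsAffineMor f := by
  intro Z hZ g
  obtain ⟨VZ, a, b, sqU⟩ := hp.1 g
  obtain ⟨b', rfl⟩ := (yon S).map_surjective b
  have hae : Etale a.left := hp.2 g _ a sqU
  have has : Surjective a.left := hps.2 g _ a sqU
  exact exists_affine_pullback_of_etale_local f hZ g a hae has p b' sqU.w fst snd sqP h

section

variable {I : Type u} [SmallCategory I] [IsCofiltered I] (D : I ⥤ Sp S)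
  (hDa : ∀ (i j : I) (φ : i ⟶ j), IsAffineMor (D.map φ)) (c : Cone D) (hc : IsLimit c)
  [QuasiSeparatedSpace ↥S]

include hDa hc in
/-- If the base change of a quasi-compact quasi-separated algebraic space `Z₀` over a stage to
the limit is an affine scheme, then so is its base change to a later stage. -/
theorem exists_affine_pbDiagram (hD : ∀ i, IsAlgSpace (D.obj i)) (i₀ : I) {Z₀ : Sp S}
    (hZ₀ : IsAlgSpace Z₀) (hZqc : IsQuasiCompactSp Z₀) (hZqs : IsQuasiSeparatedSp Z₀)
    (g₀ : Z₀ ⟶ D.obj i₀) {T : Over S} (hT : IsAffine T.left) (p₁ : (yon S).obj T ⟶ c.pt)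
    (p₂ : (yon S).obj T ⟶ Z₀) (sq : IsPullback p₁ p₂ (c.π.app i₀) g₀) :
    ∃ (j : Over i₀) (T' : Over S), IsAffine T'.left ∧
      Nonempty ((yon S).obj T' ≅ pullback (D.map j.hom) g₀) := by
  have hsnd : ∀ j : Over i₀, IsAffineMor (pullback.snd (D.map j.hom) g₀) := fun j =>
    isAffineMor_of_isPullback (IsPullback.of_hasPullback (D.map j.hom) g₀) (hDa _ _ _)
  exact exists_affine_of_limit_affine (pbDiagram D i₀ g₀)
    (fun j k φ => isAffineMor_of_isPullback (isPullback_pbDiagram_map D i₀ g₀ φ).flip (hDa _ _ _))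
    (pbCone D c i₀ g₀) (pbConeIsLimit D c i₀ g₀ hc)
    (fun j => Groth.Agent.H49.isAlgSpace_of_isPullback
      (IsPullback.of_hasPullback (D.map j.hom) g₀) (hD i₀).diag (hD j.left) hZ₀)
    (fun j => isQuasiCompactSp_of_isAffineMor _ (hsnd j) hZ₀ hZqc)
    (fun j => isQuasiSeparatedSp_of_isAffineMor _ (hsnd j) hZqs)
    T hT sq.isoPullback

end

end Groth.Agent.H50
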