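import Groth.Agent.H50.LimAffineB
import Groth.Agent.H52.Epi
import Groth.Agent.H51.SpCover

set_option autoImplicit false
set_option backward.isDefEq.respectTransparency false
set_option linter.style.haveILetI false
universe u
open CategoryTheory CategoryTheory.Limits AlgebraicGeometry Opposite

namespace Groth.Agent.H50

open AlgSp

variable {S : Scheme.{u}}

section

variable {I : Type u} [SmallCategory I] [IsCofiltered I] (D : I ⥤ Sp S)
  (hDa : ∀ (i j : I) (φ : i ⟶ j), IsAffineMor (D.map φ)) (c : Cone D) (hc : IsLimit c)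

include hDa hc in
/-- Two morphisms from a quasi-compact sheaf over a stage to a scheme locally of finite type
over `S` which agree after base change to the limit agree after base change to a later stage. -/
theorem exists_eq_of_lft_sp (i₀ : I) {Y₀ : Sp S} (hYqc : IsQuasiCompactSp Y₀)
    (b₀ : Y₀ ⟶ D.obj i₀) {V : Over S} (hV : LocallyOfFiniteType V.hom)
    (a b : Y₀ ⟶ (yon S).obj V)
    (Y : Sp S) (pY : Y ⟶ Y₀) (qY : Y ⟶ c.pt) (hY : IsPullback pY qY b₀ (c.π.app i₀))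
    (hab : pY ≫ a = pY ≫ b) :
    ∃ (i : I) (φ : i ⟶ i₀), ∀ (Yi : Sp S) (pYi : Yi ⟶ Y₀) (qYi : Yi ⟶ D.obj i)
      (_ : IsPullback pYi qYi b₀ (D.map φ)), pYi ≫ a = pYi ≫ b := by
  obtain ⟨Z, r, hZ, hr, hrs⟩ :=
    (Groth.Agent.H51.isQuasiCompactSp_iff_exists_affine_atlas).1 hYqc
  haveI : IsConnected (Over i₀) := IsCofiltered.isConnected _
  haveI := affSys_hasLimit D hDa i₀ hZ (r ≫ b₀)
  let W := affSys D hDa i₀ hZ (r ≫ b₀)
  let L := limit.cone W
  have hL : IsLimit L := limit.isLimit W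
  let i₀' : Over i₀ := Over.mk (𝟙 i₀)
  let ι := affSysι D hDa i₀ hZ (r ≫ b₀)
  obtain ⟨a', ha'⟩ : ∃ a' : Z ⟶ V, (yon S).map a' = r ≫ a :=
    ⟨(yon S).preimage _, (yon S).map_preimage _⟩
  obtain ⟨b', hb'⟩ : ∃ b' : Z ⟶ V, (yon S).map b' = r ≫ b :=
    ⟨(yon S).preimage _, (yon S).map_preimage _⟩
  have sqL := affSys_isPullback_limit D hDa i₀ hZ (r ≫ b₀) c hc L hL
  have hlim : L.π.app i₀' ≫ ι i₀' ≫ a' = L.π.app i₀' ≫ ι i₀' ≫ b' := by
    apply (yon S).map_injective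
    let m : (yon S).obj L.pt ⟶ Y := hY.lift ((yon S).map (L.π.app i₀' ≫ ι i₀') ≫ r)
      (affSysLimFst D hDa i₀ hZ (r ≫ b₀) c hc L) (by
        rw [Category.assoc]
        exact sqL.w.symm)
    have hm : m ≫ pY = (yon S).map (L.π.app i₀' ≫ ι i₀') ≫ r := hY.lift_fst _ _ _
    have h1 : (yon S).map (L.π.app i₀' ≫ ι i₀' ≫ a') =
        (yon S).map (L.π.app i₀' ≫ ι i₀') ≫ r ≫ a := by
      rw [← Category.assoc, Functor.map_comp, ha']
    have h2 : (yon S).map (L.π.app i₀' ≫ ι i₀' ≫ b') =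
        (yon S).map (L.π.app i₀' ≫ ι i₀') ≫ r ≫ b := by
      rw [← Category.assoc, Functor.map_comp, hb']
    rw [h1, h2, ← Category.assoc, ← Category.assoc, ← hm, Category.assoc, Category.assoc, hab]
  obtain ⟨k, ψ, hk⟩ := exists_eq_of_lft W (affSys_isAffine D hDa i₀ hZ (r ≫ b₀)) L hL hV
    (j := i₀') (ι i₀' ≫ a') (ι i₀' ≫ b') hlim
  have hk' : ι k ≫ a' = ι k ≫ b' := by
    have h1 : W.map ψ ≫ ι i₀' = ι k := affSysMap_ι D hDa i₀ hZ (r ≫ b₀) ψ
    rw [← h1, Category.assoc, Category.assoc]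
    exact hk
  refine ⟨k.left, k.hom, ?_⟩
  intro Yi pYi qYi hYi
  have sqk := affSys_isPullback D hDa i₀ hZ (r ≫ b₀) k
  let n : (yon S).obj (W.obj k) ⟶ Yi := hYi.lift ((yon S).map (ι k) ≫ r)
    (affSysFst D hDa i₀ hZ (r ≫ b₀) k) (by
      rw [Category.assoc]
      exact sqk.w.symm)
  have hn1 : n ≫ pYi = (yon S).map (ι k) ≫ r := hYi.lift_fst _ _ _
  have hn2 : n ≫ qYi = affSysFst D hDa i₀ hZ (r ≫ b₀) k := hYi.lift_snd _ _ _
  have sqn : IsPullback ((yon S).map (ι k)) n r pYi := by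
    refine IsPullback.of_bot ?_ hn1.symm hYi
    rw [hn2]
    exact sqk.flip
  have hn_e : RepWith @Etale n := MorphismProperty.of_isPullback sqn hr
  have hn_s : RepWith @Surjective n := MorphismProperty.of_isPullback sqn hrs
  haveI : Epi n := Groth.Agent.H52.epi_of_repWith_etale_surjective n hn_e hn_s
  rw [← cancel_epi n, ← Category.assoc, ← Category.assoc, hn1, Category.assoc, Category.assoc,
    ← ha', ← hb', ← Functor.map_comp, ← Functor.map_comp, hk']

end

end Groth.Agent.H50
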