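import Groth.Agent.H50.LimAffineP

set_option autoImplicit false
set_option backward.isDefEq.respectTransparency false
set_option linter.style.haveILetI false
universe u
open CategoryTheory CategoryTheory.Limits AlgebraicGeometry Opposite

namespace Groth.Agent.H50

open AlgSp

variable {S : Scheme.{u}}

section

variable {I : Type u} [SmallCategory I] [IsCofiltered I] (D : I ⥤ Sp S)
  (hDa : ∀ (i j : I) (φ : i ⟶ j), IsAffineMor (D.map φ)) (c : Cone D) (hc : IsLimit c)
  [QuasiSeparatedSpace ↥S]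

include hDa hc in
/-- If the limit of a system of quasi-compact quasi-separated algebraic spaces over `Y` with affine
transition maps is affine over `Y`, then so are the members of the system from some stage on. -/
theorem eventually_isAffineMor_of_limit (hD : ∀ i, IsAlgSpace (D.obj i)) {Y : Sp S}
    (hYa : IsAlgSpace Y) (t : D ⟶ (Functor.const I).obj Y) (g : c.pt ⟶ Y)
    (hg : ∀ i, c.π.app i ≫ t.app i = g)
    (hqc : ∀ i, IsQuasiCompactSp (D.obj i)) (hqs : ∀ i, IsQuasiSeparatedSp (D.obj i))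
    (hYqc : IsQuasiCompactSp Y) (hYqs : IsQuasiSeparatedSp Y) (hX : IsAffineMor g) :
    ∃ i₀ : I, ∀ (i : I) (_ : i ⟶ i₀), IsAffineMor (t.app i) := by
  obtain ⟨i₁⟩ := IsCofiltered.nonempty (C := I)
  obtain ⟨V, v, hV, hv, hvs⟩ :=
    (Groth.Agent.H51.isQuasiCompactSp_iff_exists_affine_atlas).1 hYqc
  let Z₀ := pullback (t.app i₁) v
  let g₀ : Z₀ ⟶ D.obj i₁ := pullback.fst _ _
  let z₂ : Z₀ ⟶ (yon S).obj V := pullback.snd _ _
  have sqZ : IsPullback g₀ z₂ (t.app i₁) v := IsPullback.of_hasPullback _ _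
  have hZ₀ : IsAlgSpace Z₀ :=
    Groth.Agent.H49.isAlgSpace_of_isPullback sqZ hYa.diag (hD i₁) (IsAlgSpace.yon_obj V)
  have hVqc : IsQuasiCompactSp ((yon S).obj V) :=
    haveI := hV
    Groth.Agent.H49.isQuasiCompactSp_yon V
  have hVqs : IsQuasiSeparatedSp ((yon S).obj V) := isQuasiSeparatedSp_yon_of_isAffine V hV
  have hZq := Groth.Agent.H49.isQuasiCompactSp_and_isQuasiSeparatedSp_of_isPullback (hD i₁) hYa
    (IsAlgSpace.yon_obj V) sqZ ⟨hqc i₁, hqs i₁⟩ hYqs ⟨hVqc, hVqs⟩
  obtain ⟨T, i, p₁, sqT, hT⟩ := hX hV v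
  let p₂ : (yon S).obj T ⟶ Z₀ := pullback.lift (p₁ ≫ c.π.app i₁) ((yon S).map i) (by
    rw [Category.assoc, hg, sqT.w])
  have hp₂1 : p₂ ≫ g₀ = p₁ ≫ c.π.app i₁ := pullback.lift_fst _ _ _
  have hp₂2 : p₂ ≫ z₂ = (yon S).map i := pullback.lift_snd _ _ _
  have sq : IsPullback p₁ p₂ (c.π.app i₁) g₀ := by
    have h1 : IsPullback p₂ p₁ g₀ (c.π.app i₁) := by
      refine IsPullback.of_right ?_ hp₂1 sqZ.flip
      rw [hp₂2, hg]
      exact sqT.flip
    exact h1.flip
  obtain ⟨j, T', hT', ⟨e'⟩⟩ := exists_affine_pbDiagram D hDa c hc hD i₁ hZ₀ hZq.1 hZq.2 g₀ hT p₁ p₂ sq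
  have htj : D.map j.hom ≫ t.app i₁ = t.app j.left := by
    have := t.naturality j.hom
    rw [this]
    exact Category.comp_id _
  have hj : IsAffineMor (t.app j.left) := by
    have sqP : IsPullback (pullback.fst (D.map j.hom) g₀) (pullback.snd (D.map j.hom) g₀ ≫ z₂)
        (t.app j.left) v := by
      have h1 := (IsPullback.of_hasPullback (D.map j.hom) g₀).flip.paste_horiz sqZ.flip
      rw [htj] at h1
      exact h1.flip
    exact isAffineMor_of_one_atlas (t.app j.left) v hv hvs _ _ sqP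
      (isAffineMor_of_iso_yon e' _ hT' hV)
  refine ⟨j.left, fun i φ => ?_⟩
  have hti : D.map φ ≫ t.app j.left = t.app i := by
    have := t.naturality φ
    rw [this]
    exact Category.comp_id _
  rw [← hti]
  exact isAffineMor_comp (hDa _ _ _) hj

end

end Groth.Agent.H50
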