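import Groth.Agent.H50.LimDescLocP

set_option autoImplicit false
set_option backward.isDefEq.respectTransparency false
set_option linter.style.haveILetI false
universe u
open CategoryTheory CategoryTheory.Limits AlgebraicGeometry Opposite Topology

namespace Groth.Agent.H50

open AlgSp

variable {S : Scheme.{u}} {I : Type u} [SmallCategory I] [IsCofiltered I] (D : I ⥤ Sp S)
  (hDa : ∀ (i j : I) (φ : i ⟶ j), IsAffineMor (D.map φ))

/-- Points of a fibre product of schemes over `S`. -/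
theorem exists_pt_of_pullback_over {U V T : Over S} (h₀ : U ⟶ V) (r : T ⟶ V) (u : ↥U.left)
    (t : ↥T.left) (h : h₀.left u = r.left t) :
    ∃ z : ↥(pullback h₀ r).left, (pullback.fst h₀ r).left z = u ∧
      (pullback.snd h₀ r).left z = t := by
  have sqXT := (IsPullback.of_hasPullback h₀ r).map (yon S)
  refine Groth.Agent.H53.exists_pt_of_isPullback_yon sqXT u t ?_
  rw [← Category.comp_id ((yon S).map h₀), ← Category.comp_id ((yon S).map r),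
    Groth.Agent.H51.ofPt_map_comp, Groth.Agent.H51.ofPt_map_comp, h]

variable [QuasiSeparatedSpace ↥S]

omit [IsCofiltered I] in
include hDa in
/-- Affine charts adapted to a morphism of quasi-compact algebraic spaces over a stage of a
cofiltered system. -/
theorem exists_chart_setup (i₀ : I) {X₀ Y₀ : Sp S} (hY₀ : IsAlgSpace Y₀) (f₀ : X₀ ⟶ Y₀)
    (b₀ : Y₀ ⟶ D.obj i₀) (hXqc : IsQuasiCompactSp X₀) (hYqc : IsQuasiCompactSp Y₀)
    (hYqs : IsQuasiSeparatedSp Y₀) :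
    ∃ (V₀ : Over S) (hV₀ : IsAffine V₀.left) (v : (yon S).obj V₀ ⟶ Y₀) (U₀ : Over S)
      (a₀ : (yon S).obj U₀ ⟶ X₀)
      (h₀ : U₀ ⟶ (affSys D hDa i₀ hV₀ (v ≫ b₀)).obj (Over.mk (𝟙 i₀)))
      (v' : (yon S).obj ((affSys D hDa i₀ hV₀ (v ≫ b₀)).obj (Over.mk (𝟙 i₀))) ⟶ Y₀),
      RepWith @Etale v' ∧ RepWith @Surjective v' ∧
      v' ≫ b₀ = affSysFst D hDa i₀ hV₀ (v ≫ b₀) (Over.mk (𝟙 i₀)) ∧
      RepWith @Etale a₀ ∧ RepWith @Surjective a₀ ∧ a₀ ≫ f₀ = (yon S).map h₀ ≫ v' ∧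
      CompactSpace ↥U₀.left ∧
      ∀ (x₀ : Points X₀) (t : ↥((affSys D hDa i₀ hV₀ (v ≫ b₀)).obj (Over.mk (𝟙 i₀))).left),
        Points.map f₀ x₀ = Points.ofPt v' t →
          ∃ u : ↥U₀.left, Points.ofPt a₀ u = x₀ ∧ h₀.left u = t := by
  obtain ⟨V₀, v, hV₀, hv, hvs⟩ :=
    (Groth.Agent.H51.isQuasiCompactSp_iff_exists_affine_atlas).1 hYqc
  obtain ⟨U₁, u₁, hU₁, hu₁, hu₁s⟩ :=
    (Groth.Agent.H51.isQuasiCompactSp_iff_exists_affine_atlas).1 hXqc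
  let W := affSys D hDa i₀ hV₀ (v ≫ b₀)
  let i₀' : Over i₀ := Over.mk (𝟙 i₀)
  have sq₀ := affSys_isPullback D hDa i₀ hV₀ (v ≫ b₀) i₀'
  haveI : IsIso (D.map i₀'.hom) := by
    change IsIso (D.map (𝟙 i₀))
    rw [D.map_id]
    infer_instance
  haveI hιiso : IsIso ((yon S).map (affSysι D hDa i₀ hV₀ (v ≫ b₀) i₀')) :=
    sq₀.isIso_snd_of_isIso
  let v' : (yon S).obj (W.obj i₀') ⟶ Y₀ := (yon S).map (affSysι D hDa i₀ hV₀ (v ≫ b₀) i₀') ≫ v
  have hv' : RepWith @Etale v' := MorphismProperty.RespectsIso.precomp _ _ _ hv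
  have hv's : RepWith @Surjective v' := MorphismProperty.RespectsIso.precomp _ _ _ hvs
  have hv'b : v' ≫ b₀ = affSysFst D hDa i₀ hV₀ (v ≫ b₀) i₀' := by
    have := sq₀.w
    change _ ≫ D.map (𝟙 i₀) = _ at this
    rw [D.map_id, Category.comp_id] at this
    rw [this, Category.assoc]
  obtain ⟨U₀, w₁, h₀, sqU⟩ := Groth.Agent.H53.exists_pullback_yon (u₁ ≫ f₀) v' hv'.rep
  have hw₁ : Etale w₁.left := Groth.Agent.H53.prop_of_isPullback_yon sqU hv'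
  have hw₁s : Surjective w₁.left := Groth.Agent.H53.prop_of_isPullback_yon sqU hv's
  let a₀ : (yon S).obj U₀ ⟶ X₀ := (yon S).map w₁ ≫ u₁
  have ha₀ : RepWith @Etale a₀ :=
    (RepWith @Etale).comp_mem _ _ ((repWith_yon_map_iff _ _).2 hw₁) hu₁
  have ha₀s : RepWith @Surjective a₀ :=
    (RepWith @Surjective).comp_mem _ _ ((repWith_yon_map_iff _ _).2 hw₁s) hu₁s
  have hcomm : a₀ ≫ f₀ = (yon S).map h₀ ≫ v' := by
    rw [Category.assoc]; exact sqU.w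
  have hU₀c : CompactSpace ↥U₀.left := by
    haveI : IsAffine U₁.left := hU₁
    haveI : IsAffine (W.obj i₀').left := affSys_isAffine D hDa i₀ hV₀ (v ≫ b₀) i₀'
    have hqcm : IsQuasiCompactMor (u₁ ≫ f₀) :=
      Groth.Agent.H49.isQuasiCompactMor_of_isQuasiCompactSp_of_isQuasiSeparatedSp
        (IsAlgSpace.yon_obj U₁) hY₀ _ (Groth.Agent.H49.isQuasiCompactSp_yon U₁) hYqs
    exact Groth.Agent.H49.compactSpace_of_isQuasiCompactSp_yon U₀
      (hqcm (IsAlgSpace.yon_obj _) (Groth.Agent.H49.isQuasiCompactSp_yon (W.obj i₀')) v' _ _ sqU)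
  refine ⟨V₀, hV₀, v, U₀, a₀, h₀, v', hv', hv's, hv'b, ha₀, ha₀s, hcomm, hU₀c, ?_⟩
  intro x₀ t hx₀
  obtain ⟨t₁, ht₁⟩ := Groth.Agent.H51.surjective_ofPt_of_surjective u₁ hu₁s x₀
  have h1 : Points.ofPt (u₁ ≫ f₀) t₁ = Points.ofPt v' t := by
    rw [← Points.map_ofPt, ht₁, hx₀]
  obtain ⟨u, hu1, hu2⟩ := Groth.Agent.H53.exists_pt_of_isPullback_yon sqU t₁ t h1
  refine ⟨u, ?_, hu2⟩
  change Points.ofPt ((yon S).map w₁ ≫ u₁) u = x₀
  rw [Groth.Agent.H51.ofPt_map_comp, hu1, ht₁]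

end Groth.Agent.H50
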