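import Groth.Agent.H50.LimSys
import Groth.Agent.H49.AlgSpSep
import Mathlib.AlgebraicGeometry.AffineTransitionLimit

set_option autoImplicit false
set_option backward.isDefEq.respectTransparency false
set_option linter.style.haveILetI false
universe u
open CategoryTheory CategoryTheory.Limits AlgebraicGeometry Opposite Topology

namespace Groth.Agent.H50

open AlgSp

/-- A cofiltered limit of closed subschemes of an affine scheme is a closed subscheme. -/
theorem isClosedImmersion_limit_π_comp {J : Type u} [SmallCategory J] [IsCofiltered J]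
    (W : J ⥤ Scheme.{u}) (Z : Scheme.{u}) [IsAffine Z] (ι : ∀ j, W.obj j ⟶ Z)
    (hcl : ∀ j, IsClosedImmersion (ι j)) (c : Cone W) (hc : IsLimit c)
    (hι : ∀ i j : J, c.π.app i ≫ ι i = c.π.app j ≫ ι j) (j₀ : J) :
    IsClosedImmersion (c.π.app j₀ ≫ ι j₀) := by
  haveI : ∀ j, IsAffine (W.obj j) := fun j => by
    haveI := hcl j
    exact isAffine_of_isAffineHom (ι j)
  haveI : IsAffine c.pt := Scheme.isAffine_of_isLimit c hc
  haveI : IsAffine (((Functor.const J).obj c.pt).obj j₀) := ‹IsAffine c.pt›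
  apply IsClosedImmersion.of_surjective_of_isAffine
  intro s
  obtain ⟨i, t, rfl⟩ := exists_appTop_π_eq_of_isAffine_of_isLimit W c hc s
  haveI := hcl i
  obtain ⟨z, rfl⟩ := (IsClosedImmersion.isAffine_surjective_of_isAffine (f := ι i)).2 t
  refine ⟨z, ?_⟩
  rw [← hι i j₀, Scheme.Hom.comp_appTop]
  rfl

variable {S : Scheme.{u}}

/-- The limit of a morphism of cofiltered systems which is termwise a closed immersion is a closed
immersion. -/
theorem repWith_isClosedImmersion_of_isLimit {J : Type u} [SmallCategory J] [IsCofiltered J]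
    {DX DY : J ⥤ Sp S} (τ : DX ⟶ DY) (hτ : ∀ i, RepWith @IsClosedImmersion (τ.app i))
    (cX : Cone DX) (hcX : IsLimit cX) (cY : Cone DY) (hcY : IsLimit cY)
    (g : cX.pt ⟶ cY.pt) (hg : ∀ i, g ≫ cY.π.app i = cX.π.app i ≫ τ.app i) :
    RepWith @IsClosedImmersion g := by
  have key : ∀ ⦃Z : Over S⦄, IsAffine Z.left → ∀ (ζ : (yon S).obj Z ⟶ cY.pt),
      ∃ (W : Over S) (i : W ⟶ Z) (fst : (yon S).obj W ⟶ cX.pt),
        IsPullback fst ((yon S).map i) g ζ ∧ IsClosedImmersion i.left := by
    intro Z hZ ζ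
    haveI := hZ
    haveI : IsConnected J := IsCofiltered.isConnected _
    obtain ⟨j₀⟩ := IsCofiltered.nonempty (C := J)
    have hγ : ∀ {i j : J} (φ : i ⟶ j),
        (ζ ≫ cY.π.app i) ≫ DY.map φ = ζ ≫ cY.π.app j := by
      intro i j φ
      rw [Category.assoc, cY.w]
    let P : PbSys τ Z (fun j => ζ ≫ cY.π.app j) :=
      { W := fun j => (hτ j).rep.pullback (ζ ≫ cY.π.app j)
        ι := fun j => (hτ j).rep.snd (ζ ≫ cY.π.app j)
        fst := fun j => (hτ j).rep.fst (ζ ≫ cY.π.app j)
        sq := fun j => (hτ j).rep.isPullback (ζ ≫ cY.π.app j) }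
    have hcl : ∀ j, IsClosedImmersion (P.ι j).left := fun j => (hτ j).2 _ _ _ (P.sq j)
    have hW : ∀ j, IsAffine (P.W j).left := fun j => by
      haveI := hcl j
      exact isAffine_of_isAffineHom (P.ι j).left
    haveI := P.hasLimit_of_isAffine hγ hW
    have hL := limit.isLimit (P.functor hγ)
    have hL' := isLimitOfPreserves (Over.forget S) hL
    refine ⟨_, _, _, P.isPullback_limit hγ cX hcX cY hcY g hg ζ (fun j => rfl) _ hL j₀, ?_⟩
    exact isClosedImmersion_limit_π_comp (P.functor hγ ⋙ Over.forget S) Z.left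
      (fun j => (P.ι j).left) hcl _ hL' (fun i j => by
        have := P.π_ι hγ (limit.cone (P.functor hγ)) i j
        exact congrArg (fun m => m.left) this) j₀
  have hrep : Representable g := Groth.Agent.H51.representable_of_affine_test g (by
    intro Z hZ ζ
    obtain ⟨W, i, fst, sq, -⟩ := key hZ ζ
    exact ⟨W, i, fst, sq⟩)
  refine Groth.Agent.H49.repWith_of_affine_test @IsClosedImmersion g hrep ?_
  intro T V hT ζ fst snd sq
  obtain ⟨W, i, fst', sq', hi⟩ := key hT ζ
  -- the two pullbacks are isomorphic over `T`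
  let e := sq.isoIsPullback _ _ sq'
  have he : e.hom ≫ (yon S).map i = (yon S).map snd := sq.isoIsPullback_hom_snd _ _ sq'
  obtain ⟨e₀, he₀⟩ := (yon S).map_surjective e.hom
  obtain ⟨e₁, he₁⟩ := (yon S).map_surjective e.inv
  have h1 : e₀ ≫ i = snd := (yon S).map_injective (by rw [Functor.map_comp, he₀, he])
  haveI : IsIso e₀ := ⟨e₁, (yon S).map_injective (by
      rw [Functor.map_comp, he₀, he₁, e.hom_inv_id, CategoryTheory.Functor.map_id]),
    (yon S).map_injective (by
      rw [Functor.map_comp, he₀, he₁, e.inv_hom_id, CategoryTheory.Functor.map_id])⟩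
  haveI : IsIso e₀.left := (Over.forget S).map_isIso e₀
  rw [← h1, Over.comp_left]
  haveI := hi
  infer_instance

end Groth.Agent.H50
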