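import Groth.Agent.H50.LimAff2
import Groth.Agent.H51.SpEtReduced
import Groth.Agent.H53.Charts
import Groth.Agent.S4774
import Groth.Agent.H50.QCKer2
import Groth.Agent.H50.Points

set_option autoImplicit false
set_option backward.isDefEq.respectTransparency false
set_option linter.style.haveILetI false
universe u
open CategoryTheory CategoryTheory.Limits AlgebraicGeometry Opposite Topology

namespace Groth.Agent.H50

open AlgSp

variable {S : Scheme.{u}}

/-- Reducedness of an algebraic space can be checked on a jointly surjective family of etale maps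
from reduced schemes. -/
theorem isReducedSp_of_family {X : Sp S} (hX : IsAlgSpace X) {σ : Type*} (L : σ → Over S)
    (a : ∀ k, (yon S).obj (L k) ⟶ X) (ha : ∀ k, RepWith @Etale (a k))
    (hred : ∀ k, AlgebraicGeometry.IsReduced (L k).left)
    (hsurj : ∀ x : Points X, ∃ (k : σ) (l : ↥(L k).left), Points.ofPt (a k) l = x) :
    IsReducedSp X := by
  obtain ⟨A, p, hp, hps⟩ := hX.atlas
  refine ⟨A, p, hp, hps, ?_⟩
  haveI : ∀ α : ↥A.left, _root_.IsReduced (A.left.presheaf.stalk α) := by
    intro α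
    obtain ⟨k, l, hl⟩ := hsurj (Points.ofPt p α)
    obtain ⟨W, pr, pr', sq⟩ := Groth.Agent.H53.exists_pullback_yon p (a k) (ha k).rep
    haveI : Etale pr.left := Groth.Agent.H53.prop_of_isPullback_yon sq (ha k)
    haveI : Etale pr'.left := Groth.Agent.H53.prop_of_isPullback_yon sq.flip hp
    haveI := hred k
    haveI : AlgebraicGeometry.IsReduced W.left := Groth.Agent.H52.isReduced_of_etale_scheme pr'.left
    obtain ⟨w, hw, -⟩ := Groth.Agent.H53.exists_pt_of_isPullback_yon sq α l hl.symm
    have := Groth.Agent.H52.isReduced_stalk_of_flat pr.left w inferInstance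
    rwa [hw] at this
  exact isReduced_of_isReduced_stalk A.left

section Limit

variable {I : Type u} [SmallCategory I] [IsCofiltered I] (D : I ⥤ Sp S)
  (hDa : ∀ (i j : I) (φ : i ⟶ j), IsAffineMor (D.map φ)) (c : Cone D) (hc : IsLimit c)

include hDa hc in
/-- Over an affine etale chart of a stage, the limit has an affine etale chart which is reduced if
all the stages are. -/
theorem exists_reduced_chart_of_isLimit (hred : ∀ i, IsReducedSp (D.obj i)) (i₀ : I) {Z : Over S}
    (hZ : IsAffine Z.left) (g : (yon S).obj Z ⟶ D.obj i₀) (hg : RepWith @Etale g) :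
    ∃ (L : Over S) (a : (yon S).obj L ⟶ c.pt), RepWith @Etale a ∧
      AlgebraicGeometry.IsReduced L.left ∧
      ∀ x : Points c.pt, Points.map (c.π.app i₀) x ∈ Set.range (Points.ofPt g) →
        ∃ l : ↥L.left, Points.ofPt a l = x := by
  haveI : IsConnected (Over i₀) := IsCofiltered.isConnected _
  haveI := affSys_hasLimit D hDa i₀ hZ g
  let W := affSys D hDa i₀ hZ g
  have hL := limit.isLimit W
  have sq := affSys_isPullback_limit D hDa i₀ hZ g c hc (limit.cone W) hL
  refine ⟨(limit.cone W).pt, affSysLimFst D hDa i₀ hZ g c hc (limit.cone W),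
    MorphismProperty.of_isPullback sq.flip hg, ?_, ?_⟩
  · have hL' := isLimitOfPreserves (Over.forget S) hL
    haveI : ∀ j, IsAffine ((W ⋙ Over.forget S).obj j) := affSys_isAffine D hDa i₀ hZ g
    haveI : ∀ (j k : Over i₀) (f : j ⟶ k), IsAffineHom ((W ⋙ Over.forget S).map f) :=
      fun _ _ f => isAffineHom_of_isAffine _
    have hW : ∀ j, AlgebraicGeometry.IsReduced ((W ⋙ Over.forget S).obj j) := by
      intro j
      have hsj : RepWith @Etale (affSysFst D hDa i₀ hZ g j) :=
        MorphismProperty.of_isPullback (affSys_isPullback D hDa i₀ hZ g j).flip hg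
      exact Groth.Agent.H51.isReduced_of_isReducedSp (hred j.left) (EtOver.mk _ hsj)
    by_contra hnr
    obtain ⟨j, hj⟩ := Groth.Agent.S4774.result (W ⋙ Over.forget S) _ hL' hnr
    exact hj j (𝟙 j) (hW j)
  · rintro x ⟨z, hz⟩
    rw [Points.ofPt_eq_map_ofScheme] at hz
    obtain ⟨w, hw1, -⟩ := points_exists_of_isPullback sq x (Points.ofScheme Z z) hz.symm
    obtain ⟨l, rfl⟩ := (Points.schemeHomeo (limit.cone W).pt).surjective w
    refine ⟨l, ?_⟩
    rw [Points.ofPt_eq_map_ofScheme]
    exact hw1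

include hDa hc in
/-- A cofiltered limit of reduced algebraic spaces with affine transition maps is reduced. -/
theorem isReducedSp_of_isLimit (hD : ∀ i, IsAlgSpace (D.obj i))
    (hred : ∀ i, IsReducedSp (D.obj i)) : IsReducedSp c.pt := by
  have hX := isAlgSpace_of_isLimit D hDa c hc hD
  obtain ⟨i₀⟩ := IsCofiltered.nonempty (C := I)
  obtain ⟨U₀, p₀, hp₀, hps₀⟩ := (hD i₀).atlas
  have key : ∀ V : U₀.left.affineOpens, ∃ (L : Over S) (a : (yon S).obj L ⟶ c.pt),
      RepWith @Etale a ∧ AlgebraicGeometry.IsReduced L.left ∧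
      ∀ x : Points c.pt, Points.map (c.π.app i₀) x ∈
        Set.range (Points.ofPt ((yon S).map (opensOvι U₀ V.1) ≫ p₀)) →
        ∃ l : ↥L.left, Points.ofPt a l = x := fun V =>
    exists_reduced_chart_of_isLimit D hDa c hc hred i₀ (Z := opensOv U₀ V.1) V.2 _
      (Groth.Agent.H53.repWith_etale_map_comp (opensOvι U₀ V.1) (inferInstance : Etale V.1.ι) p₀ hp₀)
  choose L a ha hLred hLs using key
  refine isReducedSp_of_family hX L a ha hLred ?_
  intro x
  obtain ⟨u, hu⟩ := Groth.Agent.H51.surjective_ofPt_of_surjective p₀ hps₀ (Points.map (c.π.app i₀) x)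
  obtain ⟨_, ⟨V, hV, rfl⟩, huV, -⟩ := U₀.left.isBasis_affineOpens.exists_subset_of_mem_open
    (Set.mem_univ u) isOpen_univ
  obtain ⟨l, hl⟩ := hLs ⟨V, hV⟩ x ⟨⟨u, huV⟩, by
    rw [← hu]
    exact Groth.Agent.H51.ofPt_map_comp (opensOvι U₀ V) p₀ ⟨u, huV⟩⟩
  exact ⟨⟨V, hV⟩, l, hl⟩

end Limit

end Groth.Agent.H50
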