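import Groth.Agent.H50.LimTop
import Groth.Agent.H50.LimClosed
import Groth.Agent.H50.LimRed
import Groth.Agent.H50.AffineMor
import Groth.Agent.H51.SpRedClosed

set_option autoImplicit false
set_option backward.isDefEq.respectTransparency false
set_option linter.style.haveILetI false
universe u
open CategoryTheory CategoryTheory.Limits AlgebraicGeometry Opposite Topology

namespace Groth.Agent.H50

open AlgSp

variable {S : Scheme.{u}}

/-- The sheaf of a reduced scheme is reduced. -/
theorem isReducedSp_yon_of_isReduced (T : Over S) [AlgebraicGeometry.IsReduced T.left] :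
    IsReducedSp ((yon S).obj T) :=
  ⟨T, 𝟙 _, (RepWith @Etale).id_mem _, (RepWith @Surjective).id_mem _, inferInstance⟩

/-- The graph square of a morphism to the source of a monomorphism. -/
theorem isPullback_id_of_mono' {A B C : Sp S} (k₀ : A ⟶ B) (j : B ⟶ C) [Mono j] :
    IsPullback (𝟙 A) k₀ (k₀ ≫ j) j := by
  have top : IsPullback (𝟙 A) k₀ k₀ (𝟙 B) :=
    (IsPullback.of_horiz_isIso (fst := 𝟙 A) (snd := k₀) (f := k₀) (g := 𝟙 B) ⟨by simp⟩ :)
  have bot : IsPullback (𝟙 B) (𝟙 B) j j := IsKernelPair.id_of_mono j
  simpa using top.paste_vert bot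

/-- A field valued point whose class lies in the image of a closed immersion factors through
it. -/
theorem exists_factor_of_mem_range_of_isClosedImmersion {F Z : Sp S} (i : Z ⟶ F)
    (hi : RepWith @IsClosedImmersion i) (q : FieldPt F)
    (hq : Points.mk q ∈ Set.range (Points.map i)) : ∃ m : (yon S).obj q.pt ⟶ Z, m ≫ i = q.toHom := by
  haveI : AlgebraicGeometry.IsReduced q.pt.left :=
    inferInstanceAs (AlgebraicGeometry.IsReduced (Spec (CommRingCat.of q.K)))
  refine (Groth.Agent.H51.s10193 i hi (isReducedSp_yon_of_isReduced q.pt) q.toHom).2 ?_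
  rintro _ ⟨y, rfl⟩
  obtain ⟨t, rfl⟩ := (Points.schemeEquiv q.pt).surjective y
  change Points.map q.toHom (Points.ofScheme q.pt t) ∈ _
  rw [← Points.ofPt_eq_map_ofScheme, Points.ofPt_toHom]
  exact hq

variable {I : Type u} [SmallCategory I] [IsCofiltered I] (D : I ⥤ Sp S)
  (hD : ∀ i, IsAlgSpace (D.obj i))
  (hDa : ∀ (i j : I) (φ : i ⟶ j), IsAffineMor (D.map φ))
  (c : Cone D) (hc : IsLimit c)

include hD hDa hc in
/-- The closure of a point of the limit is cut out by the closures of its images. -/
theorem closure_singleton_eq_of_isLimit (x : Points c.pt) :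
    closure {x} =
      {x' | ∀ i, Points.map (c.π.app i) x' ∈ closure {Points.map (c.π.app i) x}} := by
  ext x'
  simp only [Set.mem_ofPred_eq, ← specializes_iff_mem_closure]
  constructor
  · intro h i
    exact h.map (Points.continuous_map (c.π.app i))
  · intro h
    rw [specializes_iff_nhds, points_topology_eq_iInf D hD hDa c hc]
    simp only [nhds_iInf, nhds_induced]
    exact iInf_mono fun i => Filter.comap_mono (specializes_iff_nhds.1 (h i))

include hD hDa hc in
/-- The reduced induced closed subspace on the closure of a point of the limit is the limit of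
the reduced induced closed subspaces on the closures of its images. -/
theorem nonempty_isLimit_redInduced_closure (x : Points c.pt) (Z : Sp S) (zι : Z ⟶ c.pt)
    (hz : IsRedInduced (closure {x}) zι)
    (DZ : I ⥤ Sp S) (hDZ : ∀ i, IsAlgSpace (DZ.obj i)) (ι : DZ ⟶ D)
    (hι : ∀ i, IsRedInduced (closure {Points.map (c.π.app i) x}) (ι.app i))
    (ξ : (Functor.const I).obj Z ⟶ DZ) (hξ : ∀ i, ξ.app i ≫ ι.app i = zι ≫ c.π.app i) :
    Nonempty (IsLimit (Cone.mk Z ξ)) := by
  have hmono : ∀ i, Mono (ι.app i) := fun i =>
    Groth.Agent.H49.mono_of_repWith_mono isClosedImmersion_le_mono _ (hι i).1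
  -- the transition maps of `DZ` are affine
  have hDZa : ∀ (i j : I) (φ : i ⟶ j), IsAffineMor (DZ.map φ) := by
    intro i j φ
    have h1 : IsAffineMor (DZ.map φ ≫ ι.app j) := by
      rw [ι.naturality]
      exact isAffineMor_comp (isAffineMor_of_repWith_isClosedImmersion (hι i).1) (hDa i j φ)
    haveI := hmono j
    have sq : IsPullback (𝟙 (DZ.obj i)) (DZ.map φ) (DZ.map φ ≫ ι.app j) (ι.app j) :=
      isPullback_id_of_mono' (DZ.map φ) (ι.app j)
    exact isAffineMor_of_isPullback sq h1
  let cZ := limit.cone DZ
  have hcZ : IsLimit cZ := limit.isLimit DZ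
  let k : cZ.pt ⟶ c.pt := hc.lift ⟨cZ.pt, cZ.π ≫ ι⟩
  have hk : ∀ i, k ≫ c.π.app i = cZ.π.app i ≫ ι.app i := fun i => hc.fac _ i
  have hkcl : RepWith @IsClosedImmersion k :=
    repWith_isClosedImmersion_of_isLimit ι (fun i => (hι i).1) cZ hcZ c hc k hk
  have hZ'red : IsReducedSp cZ.pt :=
    isReducedSp_of_isLimit DZ hDZa cZ hcZ hDZ (fun i => (hι i).2.2)
  have hrange : Set.range (Points.map k) = closure {x} := by
    rw [closure_singleton_eq_of_isLimit D hD hDa c hc x]
    ext x'
    constructor
    · rintro ⟨y, rfl⟩ i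
      rw [← Points.map_comp, hk, Points.map_comp, ← (hι i).2.1]
      exact ⟨_, rfl⟩
    · intro hx'
      induction x' using Points.ind with
      | h q =>
        have hm : ∀ i, ∃ m : (yon S).obj q.pt ⟶ DZ.obj i, m ≫ ι.app i = q.toHom ≫ c.π.app i := by
          intro i
          obtain ⟨m, hm⟩ := exists_factor_of_mem_range_of_isClosedImmersion (ι.app i) (hι i).1
            (q.map (c.π.app i)) (by rw [(hι i).2.1]; exact hx' i)
          exact ⟨m, hm.trans (FieldPt.toHom_map _ _)⟩
        choose m hm using hm
        let cT : Cone DZ :=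
          { pt := (yon S).obj q.pt
            π :=
              { app := m
                naturality := by
                  intro i j φ
                  change 𝟙 _ ≫ m j = m i ≫ DZ.map φ
                  haveI := hmono j
                  rw [Category.id_comp, ← cancel_mono (ι.app j), Category.assoc, ι.naturality,
                    ← Category.assoc, hm, hm, Category.assoc, c.w] } }
        have hn : hcZ.lift cT ≫ k = q.toHom := by
          apply hc.hom_ext
          intro i
          rw [Category.assoc, hk, ← Category.assoc, hcZ.fac]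
          exact hm i
        refine ⟨Points.ofPt (hcZ.lift cT) (IsLocalRing.closedPoint q.K), ?_⟩
        rw [Points.map_ofPt, hn, Points.ofPt_toHom]
  -- the two reduced closed subspaces agree
  obtain ⟨a, ha⟩ := (Groth.Agent.H51.s10193 k hkcl hz.2.2 zι).2 (by rw [hrange, hz.2.1])
  obtain ⟨b, hb⟩ := (Groth.Agent.H51.s10193 zι hz.1 hZ'red k).2 (by rw [hrange, hz.2.1])
  haveI : Mono zι := Groth.Agent.H49.mono_of_repWith_mono isClosedImmersion_le_mono _ hz.1
  haveI : Mono k := Groth.Agent.H49.mono_of_repWith_mono isClosedImmersion_le_mono _ hkcl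
  let e : cZ.pt ≅ Z :=
    ⟨b, a, by rw [← cancel_mono k, Category.assoc, ha, hb, Category.id_comp],
      by rw [← cancel_mono zι, Category.assoc, hb, ha, Category.id_comp]⟩
  refine ⟨IsLimit.ofIsoLimit hcZ (Cone.ext e (fun j => ?_))⟩
  haveI := hmono j
  change cZ.π.app j = b ≫ ξ.app j
  rw [← cancel_mono (ι.app j), Category.assoc, hξ, ← Category.assoc, hb, hk]

end Groth.Agent.H50
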