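import Groth.Agent.H24.LimitClosedImm

set_option autoImplicit false
set_option backward.isDefEq.respectTransparency false
set_option linter.style.haveILetI false
universe u
open CategoryTheory CategoryTheory.Limits AlgebraicGeometry

namespace Groth.Agent.H50

/-- Descent of closed immersions along a cofiltered limit of schemes with affine transition maps,
for a morphism to a stage, in terms of arbitrary pullback squares. -/
theorem exists_stage_isClosedImmersion_id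
    {J : Type u} [Category.{u} J] [IsCofiltered J] (D' : J ⥤ Scheme.{u})
    [∀ {i j} (f : i ⟶ j), IsAffineHom (D'.map f)] (c' : Cone D') (hc' : IsLimit c') (j₀ : J)
    {X₀ : Scheme.{u}} (f₀ : X₀ ⟶ D'.obj j₀) [LocallyOfFiniteType f₀] [CompactSpace X₀]
    [QuasiSeparatedSpace X₀] [CompactSpace (D'.obj j₀)] [QuasiSeparatedSpace (D'.obj j₀)]
    {X : Scheme.{u}} (f : X ⟶ c'.pt) (qX : X ⟶ X₀) (hX : IsPullback qX f f₀ (c'.π.app j₀))
    (hf : IsClosedImmersion f) :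
    ∃ (j : J) (φ : j ⟶ j₀), ∀ {Xj : Scheme.{u}} (pX : Xj ⟶ X₀) (fj : Xj ⟶ D'.obj j),
      IsPullback pX fj f₀ (D'.map φ) → IsClosedImmersion fj := by
  -- the limit map is a base change of `f`
  have hlim : IsClosedImmersion (Groth.Agent.H24.limMap D' c' j₀ f₀ (𝟙 _)) := by
    have h1 := Groth.Agent.H24.isPullback_limMap D' c' j₀ f₀ (𝟙 _)
    have h2 : pullback.snd (c'.π.app j₀) (𝟙 (D'.obj j₀)) =
        pullback.fst (c'.π.app j₀) (𝟙 (D'.obj j₀)) ≫ c'.π.app j₀ := by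
      rw [pullback.condition, Category.comp_id]
    rw [h2] at h1
    let a : pullback (c'.π.app j₀) (f₀ ≫ 𝟙 _) ⟶ X := hX.lift
      (pullback.snd (c'.π.app j₀) (f₀ ≫ 𝟙 _))
      (Groth.Agent.H24.limMap D' c' j₀ f₀ (𝟙 _) ≫ pullback.fst (c'.π.app j₀) (𝟙 _)) (by
        rw [Category.assoc]; exact h1.w)
    have ha1 : a ≫ qX = pullback.snd (c'.π.app j₀) (f₀ ≫ 𝟙 _) := hX.lift_fst _ _ _
    have ha2 : a ≫ f = Groth.Agent.H24.limMap D' c' j₀ f₀ (𝟙 _) ≫
        pullback.fst (c'.π.app j₀) (𝟙 _) := hX.lift_snd _ _ _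
    have sq : IsPullback a (Groth.Agent.H24.limMap D' c' j₀ f₀ (𝟙 _)) f
        (pullback.fst (c'.π.app j₀) (𝟙 _)) := by
      refine IsPullback.of_right ?_ ha2 hX
      rw [ha1]
      exact h1
    exact MorphismProperty.of_isPullback sq hf
  obtain ⟨ψ, hψ⟩ := Groth.Agent.H24.exists_isClosedImmersion_stageMap D' c' j₀ f₀ (𝟙 _) hc' hlim
  refine ⟨ψ.left, ψ.hom, fun {Xj} pX fj sq => ?_⟩
  have h1 := Groth.Agent.H24.isPullback_stageMap D' j₀ f₀ (𝟙 _) ψ
  have h2 : pullback.snd (D'.map ψ.hom) (𝟙 (D'.obj j₀)) =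
      pullback.fst (D'.map ψ.hom) (𝟙 (D'.obj j₀)) ≫ D'.map ψ.hom := by
    rw [pullback.condition, Category.comp_id]
  rw [h2] at h1
  -- `fj` is a base change of the stage map along an isomorphism
  let s : D'.obj ψ.left ⟶ pullback (D'.map ψ.hom) (𝟙 (D'.obj j₀)) :=
    pullback.lift (𝟙 _) (D'.map ψ.hom) (by simp)
  have hs : s ≫ pullback.fst (D'.map ψ.hom) (𝟙 (D'.obj j₀)) = 𝟙 _ := pullback.lift_fst _ _ _
  let a : Xj ⟶ pullback (D'.map ψ.hom) (f₀ ≫ 𝟙 _) := h1.lift pX (fj ≫ s) (by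
    rw [Category.assoc, ← Category.assoc s, hs, Category.id_comp]
    exact sq.w)
  have ha1 : a ≫ pullback.snd (D'.map ψ.hom) (f₀ ≫ 𝟙 _) = pX := h1.lift_fst _ _ _
  have ha2 : a ≫ Groth.Agent.H24.stageMap D' j₀ f₀ (𝟙 _) ψ = fj ≫ s := h1.lift_snd _ _ _
  have sq' : IsPullback a fj (Groth.Agent.H24.stageMap D' j₀ f₀ (𝟙 _) ψ) s := by
    refine IsPullback.of_right ?_ ha2 h1
    rw [ha1, ← Category.assoc, hs, Category.id_comp]
    exact sq
  exact MorphismProperty.of_isPullback sq' hψ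

end Groth.Agent.H50
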