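import Groth.Agent.H50.LimDescLocP
import Groth.Agent.H50.LimDescClSch
import Groth.Agent.H50.ImmEtLocal

set_option autoImplicit false
set_option backward.isDefEq.respectTransparency false
set_option linter.style.haveILetI false
universe u
open CategoryTheory CategoryTheory.Limits AlgebraicGeometry Opposite Topology

namespace Groth.Agent.H50

open AlgSp

variable {S : Scheme.{u}}

/-- If the chart square of `f₀` is a pullback, then so is the chart square of a base change. -/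
theorem isPullback_chart_of_isPullback {X₀ Y₀ X' Y' : Sp S} {f₀ : X₀ ⟶ Y₀} {pY' : Y' ⟶ Y₀}
    {f' : X' ⟶ Y'} {pX' : X' ⟶ X₀} (hX' : IsPullback pX' f' f₀ pY') {U V T : Over S}
    (a₀ : (yon S).obj U ⟶ X₀) (v' : (yon S).obj V ⟶ Y₀) (h₀ : U ⟶ V)
    (sqU : IsPullback a₀ ((yon S).map h₀) f₀ v') (r : T ⟶ V) (ℓ : (yon S).obj T ⟶ Y')
    (sqℓ : IsPullback ℓ ((yon S).map r) pY' v')
    (ℓX : (yon S).obj (pullback h₀ r) ⟶ X')
    (hℓX : ℓX ≫ f' = (yon S).map (pullback.snd h₀ r) ≫ ℓ)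
    (sqℓX : IsPullback ℓX ((yon S).map (pullback.fst h₀ r)) pX' a₀) :
    IsPullback ℓX ((yon S).map (pullback.snd h₀ r)) f' ℓ := by
  have sqXT := (IsPullback.of_hasPullback h₀ r).map (yon S)
  have h1 : IsPullback ((yon S).map (pullback.snd h₀ r)) ℓX ℓ f' := by
    refine IsPullback.of_bot ?_ hℓX.symm hX'.flip
    rw [sqℓX.w, sqℓ.w]
    exact sqXT.flip.paste_vert sqU.flip
  exact h1.flip

section

variable {I : Type u} [SmallCategory I] [IsCofiltered I] (D : I ⥤ Sp S)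
  (hDa : ∀ (i j : I) (φ : i ⟶ j), IsAffineMor (D.map φ)) (c : Cone D) (hc : IsLimit c)

include hDa hc in
/-- Descent of closed immersions along a cofiltered limit, for an affine morphism locally of
finite type. -/
theorem descend_isClosedImmersion_of_isAffineMor (i₀ : I) {X₀ Y₀ : Sp S} (f₀ : X₀ ⟶ Y₀)
    (b₀ : Y₀ ⟶ D.obj i₀) (hYqc : IsQuasiCompactSp Y₀)
    (X Y : Sp S) (f : X ⟶ Y) (pY : Y ⟶ Y₀) (qY : Y ⟶ c.pt)
    (hY : IsPullback pY qY b₀ (c.π.app i₀)) (pX : X ⟶ X₀) (hX : IsPullback pX f f₀ pY)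
    (hf : RepWith @IsClosedImmersion f) (hf₀a : IsAffineMor f₀)
    (hf₀ : LocP @LocallyOfFiniteType f₀) :
    ∃ (i : I) (φ : i ⟶ i₀), ∀ (Xi Yi : Sp S) (fi : Xi ⟶ Yi) (pYi : Yi ⟶ Y₀)
      (qYi : Yi ⟶ D.obj i) (_ : IsPullback pYi qYi b₀ (D.map φ)) (pXi : Xi ⟶ X₀)
      (_ : IsPullback pXi fi f₀ pYi), RepWith @IsClosedImmersion fi := by
  obtain ⟨V₀, v, hV₀, hv, hvs⟩ :=
    (Groth.Agent.H51.isQuasiCompactSp_iff_exists_affine_atlas).1 hYqc
  haveI : IsConnected (Over i₀) := IsCofiltered.isConnected _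
  haveI := affSys_hasLimit D hDa i₀ hV₀ (v ≫ b₀)
  let W := affSys D hDa i₀ hV₀ (v ≫ b₀)
  let L := limit.cone W
  have hL : IsLimit L := limit.isLimit W
  let i₀' : Over i₀ := Over.mk (𝟙 i₀)
  have sq₀ := affSys_isPullback D hDa i₀ hV₀ (v ≫ b₀) i₀'
  haveI : IsIso (D.map i₀'.hom) := by
    change IsIso (D.map (𝟙 i₀))
    rw [D.map_id]
    infer_instance
  haveI hιiso : IsIso ((yon S).map (affSysι D hDa i₀ hV₀ (v ≫ b₀) i₀')) :=
    sq₀.isIso_snd_of_isIso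
  let v' : (yon S).obj (W.obj i₀') ⟶ Y₀ := (yon S).map (affSysι D hDa i₀ hV₀ (v ≫ b₀) i₀') ≫ v
  have hv' : RepWith @Etale v' := MorphismProperty.RespectsIso.precomp _ _ _ hv
  have hv's : RepWith @Surjective v' := MorphismProperty.RespectsIso.precomp _ _ _ hvs
  have hv'b : v' ≫ b₀ = affSysFst D hDa i₀ hV₀ (v ≫ b₀) i₀' := by
    have := sq₀.w
    change _ ≫ D.map (𝟙 i₀) = _ at this
    rw [D.map_id, Category.comp_id] at this
    rw [this, Category.assoc]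
  have hWaff : ∀ j, IsAffine (W.obj j).left := affSys_isAffine D hDa i₀ hV₀ (v ≫ b₀)
  -- the affine chart of `X₀`
  obtain ⟨U₀, h₀, a₀, sqU, hU₀⟩ := hf₀a (hWaff i₀') v'
  have ha₀ : RepWith @Etale a₀ := MorphismProperty.of_isPullback sqU.flip hv'
  have ha₀s : RepWith @Surjective a₀ := MorphismProperty.of_isPullback sqU.flip hv's
  haveI hh₀ : LocallyOfFiniteType h₀.left := hf₀ a₀ v' h₀ ha₀ hv' sqU.w
  -- the limit level
  have sqL := affSys_isPullback_limit D hDa i₀ hV₀ (v ≫ b₀) c hc L hL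
  have sqJ₀ : IsPullback (affSysLimFst D hDa i₀ hV₀ (v ≫ b₀) c hc L)
      ((yon S).map (L.π.app i₀')) (c.π.app i₀) (v' ≫ b₀) := by
    rw [hv'b]
    refine IsPullback.of_bot ?_ (affSysLimFst_π D hDa i₀ hV₀ (v ≫ b₀) c hc L i₀') sq₀
    rw [← Functor.map_comp]
    have : c.π.app i₀ ≫ D.map i₀'.hom = c.π.app i₀ := c.w i₀'.hom
    rw [this]
    exact sqL
  obtain ⟨ℓY, -, sqℓY⟩ := exists_chart_of_isPullback_base hY v' (L.π.app i₀')
    (affSysLimFst D hDa i₀ hV₀ (v ≫ b₀) c hc L) sqJ₀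
  obtain ⟨ℓX, hℓX, sqℓX⟩ :=
    exists_chart_of_isPullback_mor hX a₀ v' h₀ sqU.w (L.π.app i₀') ℓY sqℓY
  have sqPL := isPullback_chart_of_isPullback hX a₀ v' h₀ sqU (L.π.app i₀') ℓY sqℓY ℓX hℓX sqℓX
  have hPL : IsClosedImmersion (pullback.snd h₀ (L.π.app i₀')).left :=
    (repWith_yon_map_iff @IsClosedImmersion _).1 (MorphismProperty.of_isPullback sqPL hf)
  -- the scheme level descent
  have hL' := isLimitOfPreserves (Over.forget S) hL
  haveI : ∀ j, IsAffine ((W ⋙ Over.forget S).obj j) := hWaff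
  haveI : ∀ {j k : Over i₀} (f : j ⟶ k), IsAffineHom ((W ⋙ Over.forget S).map f) :=
    fun f => isAffineHom_of_isAffine _
  haveI : LocallyOfFiniteType (X := U₀.left) (Y := (W ⋙ Over.forget S).obj i₀') h₀.left := hh₀
  haveI : IsAffine U₀.left := hU₀
  obtain ⟨j, φ', hj⟩ := exists_stage_isClosedImmersion_id (W ⋙ Over.forget S)
    ((Over.forget S).mapCone L) hL' i₀' (X₀ := U₀.left) h₀.left
    (pullback.snd h₀ (L.π.app i₀')).left (pullback.fst h₀ (L.π.app i₀')).left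
    ((IsPullback.of_hasPullback h₀ (L.π.app i₀')).map (Over.forget S)) hPL
  have hPj : IsClosedImmersion (pullback.snd h₀ (W.map φ')).left :=
    hj (pullback.fst h₀ (W.map φ')).left (pullback.snd h₀ (W.map φ')).left
      ((IsPullback.of_hasPullback h₀ (W.map φ')).map (Over.forget S))
  -- the stage
  refine ⟨j.left, φ'.left, ?_⟩
  intro Xi Yi fi pYi qYi hYi pXi hXi
  have sqJ : IsPullback (affSysFst D hDa i₀ hV₀ (v ≫ b₀) j) ((yon S).map (W.map φ'))
      (D.map φ'.left) (v' ≫ b₀) := by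
    rw [hv'b]
    exact affSys_isPullback_map D hDa i₀ hV₀ (v ≫ b₀) φ'
  obtain ⟨ℓYi, -, sqℓYi⟩ := exists_chart_of_isPullback_base hYi v' (W.map φ')
    (affSysFst D hDa i₀ hV₀ (v ≫ b₀) j) sqJ
  obtain ⟨ℓXi, hℓXi, sqℓXi⟩ :=
    exists_chart_of_isPullback_mor hXi a₀ v' h₀ sqU.w (W.map φ') ℓYi sqℓYi
  have sqPi := isPullback_chart_of_isPullback hXi a₀ v' h₀ sqU (W.map φ') ℓYi sqℓYi ℓXi hℓXi
    sqℓXi
  have hℓYie : RepWith @Etale ℓYi := MorphismProperty.of_isPullback sqℓYi.flip hv'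
  have hℓYis : RepWith @Surjective ℓYi := MorphismProperty.of_isPullback sqℓYi.flip hv's
  exact repWith_isClosedImmersion_of_etale_cover fi ℓYi hℓYie hℓYis ℓXi _ sqPi
    ((repWith_yon_map_iff @IsClosedImmersion _).2 hPj)

end

end Groth.Agent.H50
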