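import Groth.Agent.H50.LimDescIso

set_option autoImplicit false
set_option backward.isDefEq.respectTransparency false
set_option linter.style.haveILetI false
universe u
open CategoryTheory CategoryTheory.Limits AlgebraicGeometry Opposite

namespace Groth.Agent.H50

open AlgSp

variable {S : Scheme.{u}}

/-- Pasting: base changes of `f₀` over `B'` are base changes of the base change `f₁` of `f₀` over
an intermediate `B₁`. -/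
theorem exists_shift_squares {B₀ B₁ B' X₀ Y₀ X₁ Y₁ X' Y' : Sp S} {f₀ : X₀ ⟶ Y₀} {b₀ : Y₀ ⟶ B₀}
    {β₁ : B₁ ⟶ B₀} {f₁ : X₁ ⟶ Y₁} {pY₁ : Y₁ ⟶ Y₀} {b₁ : Y₁ ⟶ B₁}
    (hY₁ : IsPullback pY₁ b₁ b₀ β₁) {pX₁ : X₁ ⟶ X₀} (hX₁ : IsPullback pX₁ f₁ f₀ pY₁)
    {β : B' ⟶ B₁} {β' : B' ⟶ B₀} (hβ : β ≫ β₁ = β')
    {f' : X' ⟶ Y'} {pY' : Y' ⟶ Y₀} {qY' : Y' ⟶ B'} (hY' : IsPullback pY' qY' b₀ β')
    {pX' : X' ⟶ X₀} (hX' : IsPullback pX' f' f₀ pY') :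
    ∃ (pY'' : Y' ⟶ Y₁) (pX'' : X' ⟶ X₁), IsPullback pY'' qY' b₁ β ∧
      IsPullback pX'' f' f₁ pY'' ∧ pY'' ≫ pY₁ = pY' ∧ pX'' ≫ pX₁ = pX' := by
  subst hβ
  let pY'' : Y' ⟶ Y₁ := hY₁.lift pY' (qY' ≫ β) (by rw [Category.assoc]; exact hY'.w)
  have h1 : pY'' ≫ pY₁ = pY' := hY₁.lift_fst _ _ _
  have h2 : pY'' ≫ b₁ = qY' ≫ β := hY₁.lift_snd _ _ _
  have sqY : IsPullback pY'' qY' b₁ β := by
    refine IsPullback.of_right ?_ h2 hY₁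
    rw [h1]
    exact hY'
  let pX'' : X' ⟶ X₁ := hX₁.lift pX' (f' ≫ pY'') (by rw [Category.assoc, h1]; exact hX'.w)
  have h3 : pX'' ≫ pX₁ = pX' := hX₁.lift_fst _ _ _
  have h4 : pX'' ≫ f₁ = f' ≫ pY'' := hX₁.lift_snd _ _ _
  have sqX : IsPullback pX'' f' f₁ pY'' := by
    refine IsPullback.of_right ?_ h4 hX₁
    rw [h3, h1]
    exact hX'
  exact ⟨pY'', pX'', sqY, sqX, h1, h3⟩

end Groth.Agent.H50
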