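import Groth.Agent.H50.LimDescCl
import Groth.Agent.H50.LimAffineD
import Groth.Agent.H50.LimShift
import Groth.Agent.H50.LocPBase

set_option autoImplicit false
set_option backward.isDefEq.respectTransparency false
set_option linter.style.haveILetI false
universe u
open CategoryTheory CategoryTheory.Limits AlgebraicGeometry Opposite Topology

namespace Groth.Agent.H50

open AlgSp

variable {S : Scheme.{u}}

section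

variable {I : Type u} [SmallCategory I] [IsCofiltered I] (D : I ⥤ Sp S)
  (hDa : ∀ (i j : I) (φ : i ⟶ j), IsAffineMor (D.map φ)) (c : Cone D) (hc : IsLimit c)
  [QuasiSeparatedSpace ↥S]

include hDa hc in
/-- Reduction of a descent problem for a property `Q` implying affineness to the case where the
morphism at the stage is affine. -/
theorem descend_of_affine_case (Q : MorphismProperty (Sp S))
    (hQa : ∀ {A B : Sp S} (g : A ⟶ B), Q g → IsAffineMor g)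
    (hcase : ∀ (i₁ : I) {X₁ Y₁ : Sp S} (f₁ : X₁ ⟶ Y₁) (b₁ : Y₁ ⟶ D.obj i₁),
      IsAlgSpace X₁ → IsAlgSpace Y₁ → IsQuasiCompactSp Y₁ →
      ∀ (X Y : Sp S) (f : X ⟶ Y) (pY : Y ⟶ Y₁) (qY : Y ⟶ c.pt)
      (_ : IsPullback pY qY b₁ (c.π.app i₁)) (pX : X ⟶ X₁) (_ : IsPullback pX f f₁ pY),
      Q f → IsAffineMor f₁ → LocP @LocallyOfFiniteType f₁ →
      ∃ (i : I) (φ : i ⟶ i₁), ∀ (Xi Yi : Sp S) (fi : Xi ⟶ Yi) (pYi : Yi ⟶ Y₁)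
        (qYi : Yi ⟶ D.obj i) (_ : IsPullback pYi qYi b₁ (D.map φ)) (pXi : Xi ⟶ X₁)
        (_ : IsPullback pXi fi f₁ pYi), Q fi)
    (hD : ∀ i, IsAlgSpace (D.obj i)) (i₀ : I)
    {X₀ Y₀ : Sp S} (hX₀ : IsAlgSpace X₀) (hY₀ : IsAlgSpace Y₀) (f₀ : X₀ ⟶ Y₀)
    (b₀ : Y₀ ⟶ D.obj i₀)
    (hXqc : IsQuasiCompactSp X₀) (hXqs : IsQuasiSeparatedSp X₀) (hYqc : IsQuasiCompactSp Y₀)
    (hYqs : IsQuasiSeparatedSp Y₀)
    (X Y : Sp S) (f : X ⟶ Y) (pY : Y ⟶ Y₀) (qY : Y ⟶ c.pt)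
    (hY : IsPullback pY qY b₀ (c.π.app i₀)) (pX : X ⟶ X₀) (hX : IsPullback pX f f₀ pY)
    (hf : Q f) (hf₀ : LocP @LocallyOfFiniteType f₀) :
    ∃ (i : I) (φ : i ⟶ i₀), ∀ (Xi Yi : Sp S) (fi : Xi ⟶ Yi) (pYi : Yi ⟶ Y₀)
      (qYi : Yi ⟶ D.obj i) (_ : IsPullback pYi qYi b₀ (D.map φ)) (pXi : Xi ⟶ X₀)
      (_ : IsPullback pXi fi f₀ pYi), Q fi := by
  obtain ⟨i₁, φ₁, h₁⟩ := descend_isAffineMor_of_isLimit D hDa c hc hD i₀ hX₀ hY₀ f₀ b₀ hXqc hXqs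
    hYqc hYqs X Y f pY qY hY pX hX (hQa f hf)
  let Y₁ := pullback b₀ (D.map φ₁)
  let pY₁ : Y₁ ⟶ Y₀ := pullback.fst _ _
  let b₁ : Y₁ ⟶ D.obj i₁ := pullback.snd _ _
  have hY₁ : IsPullback pY₁ b₁ b₀ (D.map φ₁) := IsPullback.of_hasPullback _ _
  let X₁ := pullback f₀ pY₁
  let pX₁ : X₁ ⟶ X₀ := pullback.fst _ _
  let f₁ : X₁ ⟶ Y₁ := pullback.snd _ _
  have hX₁ : IsPullback pX₁ f₁ f₀ pY₁ := IsPullback.of_hasPullback _ _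
  have hf₁a : IsAffineMor f₁ := h₁ X₁ Y₁ f₁ pY₁ b₁ hY₁ pX₁ hX₁
  have hY₁a : IsAlgSpace Y₁ :=
    Groth.Agent.H49.isAlgSpace_of_isPullback hY₁ (hD i₀).diag hY₀ (hD i₁)
  have hX₁a : IsAlgSpace X₁ :=
    Groth.Agent.H49.isAlgSpace_of_isPullback hX₁ hY₀.diag hX₀ hY₁a
  have hf₁ : LocP @LocallyOfFiniteType f₁ :=
    goodClass_lft.locP_of_isPullback hX₀ hY₀ hY₁a f₀ pY₁ pX₁ f₁ hX₁ hf₀
  have hpY₁a : IsAffineMor pY₁ := isAffineMor_of_isPullback hY₁.flip (hDa _ _ φ₁)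
  have hY₁qc : IsQuasiCompactSp Y₁ := isQuasiCompactSp_of_isAffineMor pY₁ hpY₁a hY₀ hYqc
  obtain ⟨pY'', pX'', sqY, sqX, -, -⟩ := exists_shift_squares hY₁ hX₁ (c.w φ₁) hY hX
  obtain ⟨i, φ, h⟩ := hcase i₁ f₁ b₁ hX₁a hY₁a hY₁qc X Y f pY'' qY sqY pX'' sqX hf hf₁a hf₁
  refine ⟨i, φ ≫ φ₁, ?_⟩
  intro Xi Yi fi pYi qYi hYi pXi hXi
  obtain ⟨pYi'', pXi'', sqYi, sqXi, -, -⟩ :=
    exists_shift_squares hY₁ hX₁ (D.map_comp φ φ₁).symm hYi hXi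
  exact h Xi Yi fi pYi'' qYi sqYi pXi'' sqXi

include hDa hc in
/-- Descent of closed immersions along a cofiltered limit of algebraic spaces with affine
transition maps. -/
theorem descend_isClosedImmersion_of_isLimit (hD : ∀ i, IsAlgSpace (D.obj i)) (i₀ : I)
    {X₀ Y₀ : Sp S} (hX₀ : IsAlgSpace X₀) (hY₀ : IsAlgSpace Y₀) (f₀ : X₀ ⟶ Y₀)
    (b₀ : Y₀ ⟶ D.obj i₀)
    (hXqc : IsQuasiCompactSp X₀) (hXqs : IsQuasiSeparatedSp X₀) (hYqc : IsQuasiCompactSp Y₀)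
    (hYqs : IsQuasiSeparatedSp Y₀)
    (X Y : Sp S) (f : X ⟶ Y) (pY : Y ⟶ Y₀) (qY : Y ⟶ c.pt)
    (hY : IsPullback pY qY b₀ (c.π.app i₀)) (pX : X ⟶ X₀) (hX : IsPullback pX f f₀ pY)
    (hf : RepWith @IsClosedImmersion f) (hf₀ : LocP @LocallyOfFiniteType f₀) :
    ∃ (i : I) (φ : i ⟶ i₀), ∀ (Xi Yi : Sp S) (fi : Xi ⟶ Yi) (pYi : Yi ⟶ Y₀)
      (qYi : Yi ⟶ D.obj i) (_ : IsPullback pYi qYi b₀ (D.map φ)) (pXi : Xi ⟶ X₀)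
      (_ : IsPullback pXi fi f₀ pYi), RepWith @IsClosedImmersion fi :=
  descend_of_affine_case D hDa c hc (RepWith @IsClosedImmersion)
    (fun _ hg => isAffineMor_of_repWith_isClosedImmersion hg)
    (fun i₁ _ _ f₁ b₁ _ _ hY₁qc X Y f pY qY hY pX hX hf hf₁a hf₁ =>
      descend_isClosedImmersion_of_isAffineMor D hDa c hc i₁ f₁ b₁ hY₁qc X Y f pY qY hY pX hX hf
        hf₁a hf₁)
    hD i₀ hX₀ hY₀ f₀ b₀ hXqc hXqs hYqc hYqs X Y f pY qY hY pX hX hf hf₀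

end

end Groth.Agent.H50
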