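import Groth.Agent.H50.LimSys
import Groth.Agent.H50.LocPClass
import Groth.Agent.H50.AffineLocal4
import Groth.Agent.H51.SpAffine
import Groth.Agent.H51.SpCover
import Mathlib.CategoryTheory.Limits.Connected

set_option autoImplicit false
set_option backward.isDefEq.respectTransparency false
set_option linter.style.haveILetI false
universe u
open CategoryTheory CategoryTheory.Limits AlgebraicGeometry Opposite Topology

namespace Groth.Agent.H50

open AlgSp

variable {S : Scheme.{u}}

section

variable {J : Type u} [SmallCategory J] (DX : J ⥤ Sp S) {Y : Sp S}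
  (t : DX ⟶ (Functor.const J).obj Y) (ht : ∀ j, IsAffineMor (t.app j)) {V : Over S}
  (hV : IsAffine V.left) (v : (yon S).obj V ⟶ Y)

/-- The system of affine schemes `DX_j ×_Y V`. -/
noncomputable def sysY : PbSys t V (fun _ => v) where
  W j := (ht j hV v).choose
  ι j := (ht j hV v).choose_spec.choose
  fst j := (ht j hV v).choose_spec.choose_spec.choose
  sq j := (ht j hV v).choose_spec.choose_spec.choose_spec.1

theorem sysY_isAffine (j : J) : IsAffine ((sysY DX t ht hV v).W j).left :=
  (ht j hV v).choose_spec.choose_spec.choose_spec.2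

theorem sysY_hγ {i j : J} (φ : i ⟶ j) : v ≫ ((Functor.const J).obj Y).map φ = v :=
  Category.comp_id _

/-- The transition maps of the system are base changes of those of `DX`. -/
theorem sysY_isPullback_map {j k : J} (φ : j ⟶ k) :
    IsPullback ((sysY DX t ht hV v).fst j)
      ((yon S).map ((sysY DX t ht hV v).map (fun φ => sysY_hγ v φ) φ)) (DX.map φ)
      ((sysY DX t ht hV v).fst k) := by
  set P := sysY DX t ht hV v
  have hγ : ∀ {i j : J} (φ : i ⟶ j), v ≫ ((Functor.const J).obj Y).map φ = v :=
    fun φ => sysY_hγ v φ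
  have hnat : DX.map φ ≫ t.app k = t.app j := by
    have := t.naturality φ
    rw [this]
    exact Category.comp_id _
  have h1 : IsPullback ((yon S).map (P.map hγ φ)) (P.fst j) (P.fst k) (DX.map φ) := by
    refine IsPullback.of_right ?_ (P.map_fst hγ φ) (P.sq k).flip
    rw [← Functor.map_comp, P.map_ι hγ φ, hnat]
    exact (P.sq j).flip
  exact h1.flip

end

/-- A property of affine morphisms satisfying fpqc descent descends along a surjective etale base
change from a scheme. -/
theorem repWith_of_etale_cover (Pr : MorphismProperty Scheme.{u}) [IsZariskiLocalAtTarget Pr]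
    [Pr.DescendsAlong (@Surjective ⊓ @Flat ⊓ @QuasiCompact)]
    (hPra : ∀ {A B : Scheme.{u}} (g : A ⟶ B), Pr g → IsAffineHom g)
    {X Y : Sp S} (f : X ⟶ Y) {V : Over S}
    (p : (yon S).obj V ⟶ Y) (hp : RepWith @Etale p) (hps : RepWith @Surjective p)
    {P₀ : Sp S} (fst : P₀ ⟶ X) (snd : P₀ ⟶ (yon S).obj V) (sq : IsPullback fst snd f p)
    (h : RepWith Pr snd) : RepWith Pr f := by
  have hsnd := (Groth.Agent.H51.affine_test_iff_repWith Pr hPra snd).2 h
  refine (Groth.Agent.H51.affine_test_iff_repWith Pr hPra f).1 ?_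
  intro Z hZ g
  obtain ⟨VZ, a, b, sqW⟩ := hp.1 g
  obtain ⟨b', rfl⟩ := (yon S).map_surjective b
  exact exists_affine_pullback_with_property Pr f hZ g a
    (hp.2 g _ a sqW) (hps.2 g _ a sqW) p b' sqW.w fst snd sq hsnd

end Groth.Agent.H50
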