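import Groth.Agent.H50.LimDescCl2
import Groth.Agent.H50.LimSysY
import Groth.Agent.H24.LimitFinite
import Groth.Agent.H1.Descent

set_option autoImplicit false
set_option backward.isDefEq.respectTransparency false
set_option linter.style.haveILetI false
universe u
open CategoryTheory CategoryTheory.Limits AlgebraicGeometry Opposite Topology

namespace Groth.Agent.H50

open AlgSp

variable {S : Scheme.{u}}

/-- Descent of finite morphisms along a cofiltered limit of schemes with affine transition maps,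
for a morphism to a stage, in terms of arbitrary pullback squares. -/
theorem exists_stage_isFinite_id
    {J : Type u} [Category.{u} J] [IsCofiltered J] (D' : J ⥤ Scheme.{u})
    [∀ {i j} (f : i ⟶ j), IsAffineHom (D'.map f)] (c' : Cone D') (hc' : IsLimit c') (j₀ : J)
    {X₀ : Scheme.{u}} (f₀ : X₀ ⟶ D'.obj j₀) [LocallyOfFiniteType f₀] [CompactSpace X₀]
    [QuasiSeparatedSpace X₀] [CompactSpace (D'.obj j₀)] [QuasiSeparatedSpace (D'.obj j₀)]
    {X : Scheme.{u}} (f : X ⟶ c'.pt) (qX : X ⟶ X₀) (hX : IsPullback qX f f₀ (c'.π.app j₀))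
    (hf : IsFinite f) :
    ∃ (j : J) (φ : j ⟶ j₀), ∀ {Xj : Scheme.{u}} (pX : Xj ⟶ X₀) (fj : Xj ⟶ D'.obj j),
      IsPullback pX fj f₀ (D'.map φ) → IsFinite fj := by
  -- the limit map is a base change of `f`
  have hlim : IsFinite (Groth.Agent.H24.limMap D' c' j₀ f₀ (𝟙 _)) := by
    have h1 := Groth.Agent.H24.isPullback_limMap D' c' j₀ f₀ (𝟙 _)
    have h2 : pullback.snd (c'.π.app j₀) (𝟙 (D'.obj j₀)) =
        pullback.fst (c'.π.app j₀) (𝟙 (D'.obj j₀)) ≫ c'.π.app j₀ := by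
      rw [pullback.condition, Category.comp_id]
    rw [h2] at h1
    let a : pullback (c'.π.app j₀) (f₀ ≫ 𝟙 _) ⟶ X := hX.lift
      (pullback.snd (c'.π.app j₀) (f₀ ≫ 𝟙 _))
      (Groth.Agent.H24.limMap D' c' j₀ f₀ (𝟙 _) ≫ pullback.fst (c'.π.app j₀) (𝟙 _)) (by
        rw [Category.assoc]; exact h1.w)
    have ha1 : a ≫ qX = pullback.snd (c'.π.app j₀) (f₀ ≫ 𝟙 _) := hX.lift_fst _ _ _
    have ha2 : a ≫ f = Groth.Agent.H24.limMap D' c' j₀ f₀ (𝟙 _) ≫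
        pullback.fst (c'.π.app j₀) (𝟙 _) := hX.lift_snd _ _ _
    have sq : IsPullback a (Groth.Agent.H24.limMap D' c' j₀ f₀ (𝟙 _)) f
        (pullback.fst (c'.π.app j₀) (𝟙 _)) := by
      refine IsPullback.of_right ?_ ha2 hX
      rw [ha1]
      exact h1
    exact MorphismProperty.of_isPullback sq hf
  obtain ⟨ψ, hψ⟩ := Groth.Agent.H24.exists_isFinite_stageMap D' c' j₀ f₀ (𝟙 _) hc' hlim
  refine ⟨ψ.left, ψ.hom, fun {Xj} pX fj sq => ?_⟩
  have h1 := Groth.Agent.H24.isPullback_stageMap D' j₀ f₀ (𝟙 _) ψ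
  have h2 : pullback.snd (D'.map ψ.hom) (𝟙 (D'.obj j₀)) =
      pullback.fst (D'.map ψ.hom) (𝟙 (D'.obj j₀)) ≫ D'.map ψ.hom := by
    rw [pullback.condition, Category.comp_id]
  rw [h2] at h1
  -- `fj` is a base change of the stage map along an isomorphism
  let s : D'.obj ψ.left ⟶ pullback (D'.map ψ.hom) (𝟙 (D'.obj j₀)) :=
    pullback.lift (𝟙 _) (D'.map ψ.hom) (by simp)
  have hs : s ≫ pullback.fst (D'.map ψ.hom) (𝟙 (D'.obj j₀)) = 𝟙 _ := pullback.lift_fst _ _ _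
  let a : Xj ⟶ pullback (D'.map ψ.hom) (f₀ ≫ 𝟙 _) := h1.lift pX (fj ≫ s) (by
    rw [Category.assoc, ← Category.assoc s, hs, Category.id_comp]
    exact sq.w)
  have ha1 : a ≫ pullback.snd (D'.map ψ.hom) (f₀ ≫ 𝟙 _) = pX := h1.lift_fst _ _ _
  have ha2 : a ≫ Groth.Agent.H24.stageMap D' j₀ f₀ (𝟙 _) ψ = fj ≫ s := h1.lift_snd _ _ _
  have sq' : IsPullback a fj (Groth.Agent.H24.stageMap D' j₀ f₀ (𝟙 _) ψ) s := by
    refine IsPullback.of_right ?_ ha2 h1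
    rw [ha1, ← Category.assoc, hs, Category.id_comp]
    exact sq
  exact MorphismProperty.of_isPullback sq' hψ

section

variable {I : Type u} [SmallCategory I] [IsCofiltered I] (D : I ⥤ Sp S)
  (hDa : ∀ (i j : I) (φ : i ⟶ j), IsAffineMor (D.map φ)) (c : Cone D) (hc : IsLimit c)

include hDa hc in
/-- Descent of finite morphisms along a cofiltered limit, for an affine morphism locally of
finite type. -/
theorem descend_repWith_isFinite_of_isAffineMor (i₀ : I) {X₀ Y₀ : Sp S} (f₀ : X₀ ⟶ Y₀)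
    (b₀ : Y₀ ⟶ D.obj i₀) (hYqc : IsQuasiCompactSp Y₀)
    (X Y : Sp S) (f : X ⟶ Y) (pY : Y ⟶ Y₀) (qY : Y ⟶ c.pt)
    (hY : IsPullback pY qY b₀ (c.π.app i₀)) (pX : X ⟶ X₀) (hX : IsPullback pX f f₀ pY)
    (hf : RepWith @IsFinite f) (hf₀a : IsAffineMor f₀)
    (hf₀ : LocP @LocallyOfFiniteType f₀) :
    ∃ (i : I) (φ : i ⟶ i₀), ∀ (Xi Yi : Sp S) (fi : Xi ⟶ Yi) (pYi : Yi ⟶ Y₀)
      (qYi : Yi ⟶ D.obj i) (_ : IsPullback pYi qYi b₀ (D.map φ)) (pXi : Xi ⟶ X₀)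
      (_ : IsPullback pXi fi f₀ pYi), RepWith @IsFinite fi := by
  obtain ⟨V₀, v, hV₀, hv, hvs⟩ :=
    (Groth.Agent.H51.isQuasiCompactSp_iff_exists_affine_atlas).1 hYqc
  haveI : IsConnected (Over i₀) := IsCofiltered.isConnected _
  haveI := affSys_hasLimit D hDa i₀ hV₀ (v ≫ b₀)
  let W := affSys D hDa i₀ hV₀ (v ≫ b₀)
  let L := limit.cone W
  have hL : IsLimit L := limit.isLimit W
  let i₀' : Over i₀ := Over.mk (𝟙 i₀)
  have sq₀ := affSys_isPullback D hDa i₀ hV₀ (v ≫ b₀) i₀'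
  haveI : IsIso (D.map i₀'.hom) := by
    change IsIso (D.map (𝟙 i₀))
    rw [D.map_id]
    infer_instance
  haveI hιiso : IsIso ((yon S).map (affSysι D hDa i₀ hV₀ (v ≫ b₀) i₀')) :=
    sq₀.isIso_snd_of_isIso
  let v' : (yon S).obj (W.obj i₀') ⟶ Y₀ := (yon S).map (affSysι D hDa i₀ hV₀ (v ≫ b₀) i₀') ≫ v
  have hv' : RepWith @Etale v' := MorphismProperty.RespectsIso.precomp _ _ _ hv
  have hv's : RepWith @Surjective v' := MorphismProperty.RespectsIso.precomp _ _ _ hvs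
  have hv'b : v' ≫ b₀ = affSysFst D hDa i₀ hV₀ (v ≫ b₀) i₀' := by
    have := sq₀.w
    change _ ≫ D.map (𝟙 i₀) = _ at this
    rw [D.map_id, Category.comp_id] at this
    rw [this, Category.assoc]
  have hWaff : ∀ j, IsAffine (W.obj j).left := affSys_isAffine D hDa i₀ hV₀ (v ≫ b₀)
  -- the affine chart of `X₀`
  obtain ⟨U₀, h₀, a₀, sqU, hU₀⟩ := hf₀a (hWaff i₀') v'
  have ha₀ : RepWith @Etale a₀ := MorphismProperty.of_isPullback sqU.flip hv'
  have ha₀s : RepWith @Surjective a₀ := MorphismProperty.of_isPullback sqU.flip hv's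
  haveI hh₀ : LocallyOfFiniteType h₀.left := hf₀ a₀ v' h₀ ha₀ hv' sqU.w
  -- the limit level
  have sqL := affSys_isPullback_limit D hDa i₀ hV₀ (v ≫ b₀) c hc L hL
  have sqJ₀ : IsPullback (affSysLimFst D hDa i₀ hV₀ (v ≫ b₀) c hc L)
      ((yon S).map (L.π.app i₀')) (c.π.app i₀) (v' ≫ b₀) := by
    rw [hv'b]
    refine IsPullback.of_bot ?_ (affSysLimFst_π D hDa i₀ hV₀ (v ≫ b₀) c hc L i₀') sq₀
    rw [← Functor.map_comp]
    have : c.π.app i₀ ≫ D.map i₀'.hom = c.π.app i₀ := c.w i₀'.hom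
    rw [this]
    exact sqL
  obtain ⟨ℓY, -, sqℓY⟩ := exists_chart_of_isPullback_base hY v' (L.π.app i₀')
    (affSysLimFst D hDa i₀ hV₀ (v ≫ b₀) c hc L) sqJ₀
  obtain ⟨ℓX, hℓX, sqℓX⟩ :=
    exists_chart_of_isPullback_mor hX a₀ v' h₀ sqU.w (L.π.app i₀') ℓY sqℓY
  have sqPL := isPullback_chart_of_isPullback hX a₀ v' h₀ sqU (L.π.app i₀') ℓY sqℓY ℓX hℓX sqℓX
  have hPL : IsFinite (pullback.snd h₀ (L.π.app i₀')).left :=
    (repWith_yon_map_iff @IsFinite _).1 (MorphismProperty.of_isPullback sqPL hf)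
  -- the scheme level descent
  have hL' := isLimitOfPreserves (Over.forget S) hL
  haveI : ∀ j, IsAffine ((W ⋙ Over.forget S).obj j) := hWaff
  haveI : ∀ {j k : Over i₀} (f : j ⟶ k), IsAffineHom ((W ⋙ Over.forget S).map f) :=
    fun f => isAffineHom_of_isAffine _
  haveI : LocallyOfFiniteType (X := U₀.left) (Y := (W ⋙ Over.forget S).obj i₀') h₀.left := hh₀
  haveI : IsAffine U₀.left := hU₀
  obtain ⟨j, φ', hj⟩ := exists_stage_isFinite_id (W ⋙ Over.forget S)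
    ((Over.forget S).mapCone L) hL' i₀' (X₀ := U₀.left) h₀.left
    (pullback.snd h₀ (L.π.app i₀')).left (pullback.fst h₀ (L.π.app i₀')).left
    ((IsPullback.of_hasPullback h₀ (L.π.app i₀')).map (Over.forget S)) hPL
  have hPj : IsFinite (pullback.snd h₀ (W.map φ')).left :=
    hj (pullback.fst h₀ (W.map φ')).left (pullback.snd h₀ (W.map φ')).left
      ((IsPullback.of_hasPullback h₀ (W.map φ')).map (Over.forget S))
  -- the stage
  refine ⟨j.left, φ'.left, ?_⟩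
  intro Xi Yi fi pYi qYi hYi pXi hXi
  have sqJ : IsPullback (affSysFst D hDa i₀ hV₀ (v ≫ b₀) j) ((yon S).map (W.map φ'))
      (D.map φ'.left) (v' ≫ b₀) := by
    rw [hv'b]
    exact affSys_isPullback_map D hDa i₀ hV₀ (v ≫ b₀) φ'
  obtain ⟨ℓYi, -, sqℓYi⟩ := exists_chart_of_isPullback_base hYi v' (W.map φ')
    (affSysFst D hDa i₀ hV₀ (v ≫ b₀) j) sqJ
  obtain ⟨ℓXi, hℓXi, sqℓXi⟩ :=
    exists_chart_of_isPullback_mor hXi a₀ v' h₀ sqU.w (W.map φ') ℓYi sqℓYi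
  have sqPi := isPullback_chart_of_isPullback hXi a₀ v' h₀ sqU (W.map φ') ℓYi sqℓYi ℓXi hℓXi
    sqℓXi
  have hℓYie : RepWith @Etale ℓYi := MorphismProperty.of_isPullback sqℓYi.flip hv'
  have hℓYis : RepWith @Surjective ℓYi := MorphismProperty.of_isPullback sqℓYi.flip hv's
  have := Groth.Agent.H1.isFinite_descendsAlong_fpqc.{u}
  exact repWith_of_etale_cover @IsFinite (fun g hg => inferInstance) fi ℓYi hℓYie hℓYis ℓXi _
    sqPi ((repWith_yon_map_iff @IsFinite _).2 hPj)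

end

section

variable {I : Type u} [SmallCategory I] [IsCofiltered I] (D : I ⥤ Sp S)
  (hDa : ∀ (i j : I) (φ : i ⟶ j), IsAffineMor (D.map φ)) (c : Cone D) (hc : IsLimit c)
  [QuasiSeparatedSpace ↥S]

include hDa hc in
/-- Descent of finite morphisms along a cofiltered limit of algebraic spaces with affine
transition maps. -/
theorem descend_isFiniteMor_of_isLimit (hD : ∀ i, IsAlgSpace (D.obj i)) (i₀ : I)
    {X₀ Y₀ : Sp S} (hX₀ : IsAlgSpace X₀) (hY₀ : IsAlgSpace Y₀) (f₀ : X₀ ⟶ Y₀)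
    (b₀ : Y₀ ⟶ D.obj i₀)
    (hXqc : IsQuasiCompactSp X₀) (hXqs : IsQuasiSeparatedSp X₀) (hYqc : IsQuasiCompactSp Y₀)
    (hYqs : IsQuasiSeparatedSp Y₀)
    (X Y : Sp S) (f : X ⟶ Y) (pY : Y ⟶ Y₀) (qY : Y ⟶ c.pt)
    (hY : IsPullback pY qY b₀ (c.π.app i₀)) (pX : X ⟶ X₀) (hX : IsPullback pX f f₀ pY)
    (hf : IsFiniteMor f) (hf₀ : LocP @LocallyOfFiniteType f₀) :
    ∃ (i : I) (φ : i ⟶ i₀), ∀ (Xi Yi : Sp S) (fi : Xi ⟶ Yi) (pYi : Yi ⟶ Y₀)
      (qYi : Yi ⟶ D.obj i) (_ : IsPullback pYi qYi b₀ (D.map φ)) (pXi : Xi ⟶ X₀)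
      (_ : IsPullback pXi fi f₀ pYi), IsFiniteMor fi := by
  have hfa : ∀ {A B : Scheme.{u}} (g : A ⟶ B), IsFinite g → IsAffineHom g :=
    fun g hg => inferInstance
  have hiff : ∀ {A B : Sp S} (g : A ⟶ B), IsFiniteMor g ↔ RepWith @IsFinite g := fun g =>
    Groth.Agent.H51.affine_test_iff_repWith @IsFinite hfa g
  obtain ⟨i, φ, h⟩ := descend_of_affine_case D hDa c hc (RepWith @IsFinite)
    (fun {A B} g hg Z hZ ζ => by
      obtain ⟨W, i, fst, sq, hW, -⟩ := (hiff g).2 hg hZ ζ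
      exact ⟨W, i, fst, sq, hW⟩)
    (fun i₁ _ _ f₁ b₁ _ _ hY₁qc X Y f pY qY hY pX hX hf hf₁a hf₁ =>
      descend_repWith_isFinite_of_isAffineMor D hDa c hc i₁ f₁ b₁ hY₁qc X Y f pY qY hY pX hX hf
        hf₁a hf₁)
    hD i₀ hX₀ hY₀ f₀ b₀ hXqc hXqs hYqc hYqs X Y f pY qY hY pX hX ((hiff f).1 hf) hf₀
  exact ⟨i, φ, fun Xi Yi fi pYi qYi hYi pXi hXi =>
    (hiff fi).2 (h Xi Yi fi pYi qYi hYi pXi hXi)⟩

end

end Groth.Agent.H50
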