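import Groth.Agent.H50.LimDescIso

set_option autoImplicit false
set_option backward.isDefEq.respectTransparency false
set_option linter.style.haveILetI false
universe u
open CategoryTheory CategoryTheory.Limits AlgebraicGeometry Opposite Topology

namespace Groth.Agent.H50

open AlgSp

variable {S : Scheme.{u}} {I : Type u} [SmallCategory I] [IsCofiltered I] (D : I ⥤ Sp S)
  (hDa : ∀ (i j : I) (φ : i ⟶ j), IsAffineMor (D.map φ)) [QuasiSeparatedSpace ↥S]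
  (c : Cone D) (hc : IsLimit c)

include hDa hc in
/-- Descent of monomorphisms along a cofiltered limit of algebraic spaces with affine transition
maps. -/
theorem descend_mono_of_isLimit (hD : ∀ i, IsAlgSpace (D.obj i)) (i₀ : I)
    {X₀ Y₀ : Sp S} (hX₀ : IsAlgSpace X₀) (hY₀ : IsAlgSpace Y₀) (f₀ : X₀ ⟶ Y₀)
    (b₀ : Y₀ ⟶ D.obj i₀)
    (hXqc : IsQuasiCompactSp X₀) (hXqs : IsQuasiSeparatedSp X₀) (hYqs : IsQuasiSeparatedSp Y₀)
    (X Y : Sp S) (f : X ⟶ Y) (pY : Y ⟶ Y₀) (qY : Y ⟶ c.pt)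
    (hY : IsPullback pY qY b₀ (c.π.app i₀)) (pX : X ⟶ X₀) (hX : IsPullback pX f f₀ pY)
    [Mono f] (hf₀ : LocP @LocallyOfFiniteType f₀) :
    ∃ (i : I) (φ : i ⟶ i₀), ∀ (Xi Yi : Sp S) (fi : Xi ⟶ Yi) (pYi : Yi ⟶ Y₀)
      (qYi : Yi ⟶ D.obj i) (_ : IsPullback pYi qYi b₀ (D.map φ)) (pXi : Xi ⟶ X₀)
      (_ : IsPullback pXi fi f₀ pYi), Mono fi := by
  have hP₀ : IsAlgSpace (pullback f₀ f₀) :=
    Groth.Agent.H49.isAlgSpace_of_isPullback (IsPullback.of_hasPullback f₀ f₀) hY₀.diag hX₀ hX₀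
  have hP₀q := Groth.Agent.H49.isQuasiCompactSp_and_isQuasiSeparatedSp_of_isPullback hX₀ hY₀ hX₀
    (IsPullback.of_hasPullback f₀ f₀) ⟨hXqc, hXqs⟩ hYqs ⟨hXqc, hXqs⟩
  have hΔ₀ : LocP @LocallyOfFinitePresentation (pullback.diagonal f₀) :=
    locP_lfp_diagonal hX₀ hY₀ f₀ hf₀
  haveI : IsIso (pullback.diagonal f) := (pullback.isIso_diagonal_iff f).2 inferInstance
  obtain ⟨i, φ, h⟩ := descend_isIso_of_isLimit D hDa c hc hD i₀ hX₀ hP₀ (pullback.diagonal f₀)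
    ((pullback.fst f₀ f₀ ≫ f₀) ≫ b₀) hXqc hXqs hP₀q.1 hP₀q.2 X (pullback f f)
    (pullback.diagonal f) _ _ ((isPullback_diagonalObj_of_isPullback hX).paste_vert hY) pX
    (isPullback_diagonal_of_isPullback hX) hΔ₀
  refine ⟨i, φ, fun Xi Yi fi pYi qYi hYi pXi hXi => ?_⟩
  exact (pullback.isIso_diagonal_iff fi).1
    (h Xi (pullback fi fi) (pullback.diagonal fi) _ _
      ((isPullback_diagonalObj_of_isPullback hXi).paste_vert hYi) pXi
      (isPullback_diagonal_of_isPullback hXi))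

end Groth.Agent.H50
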