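import Groth.Agent.H50.LimTop
import Groth.Agent.H50.ImmEtLocal
import Groth.Agent.H51.SpEtale
import Groth.Agent.H24.LimitClosedImmStage

set_option autoImplicit false
set_option backward.isDefEq.respectTransparency false
set_option linter.style.haveILetI false
universe u
open CategoryTheory CategoryTheory.Limits AlgebraicGeometry Opposite Topology

namespace Groth.Agent.H50

open AlgSp

variable {S : Scheme.{u}} {I : Type u} [SmallCategory I] [IsCofiltered I] (D : I ⥤ Sp S)
  (hDa : ∀ (i j : I) (φ : i ⟶ j), IsAffineMor (D.map φ))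
  (c : Cone D) (hc : IsLimit c)

include hDa hc in
/-- A closed subspace of a cofiltered limit with affine transition maps which is locally of finite
type over a quasi-compact stage is a closed subspace of all sufficiently small stages. -/
theorem eventually_isClosedImmersion_comp_π (i₁ : I) (hqc : IsQuasiCompactSp (D.obj i₁))
    {Y : Sp S} (y : Y ⟶ c.pt) (hy : RepWith @IsClosedImmersion y)
    (hlft : LocP @LocallyOfFiniteType (y ≫ c.π.app i₁)) :
    ∃ i₀ : I, ∀ (i : I) (_ : i ⟶ i₀), RepWith @IsClosedImmersion (y ≫ c.π.app i) := by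
  obtain ⟨Z, g, hZ, hg, hgs⟩ :=
    (Groth.Agent.H51.isQuasiCompactSp_iff_exists_affine_atlas).1 hqc
  haveI : IsConnected (Over i₁) := IsCofiltered.isConnected _
  haveI := affSys_hasLimit D hDa i₁ hZ g
  let W := affSys D hDa i₁ hZ g
  let L := limit.cone W
  have hL : IsLimit L := limit.isLimit W
  have sqL := affSys_isPullback_limit D hDa i₁ hZ g c hc L hL
  have sqJ : ∀ j : Over i₁, IsPullback (affSysLimFst D hDa i₁ hZ g c hc L)
      ((yon S).map (L.π.app j)) (c.π.app j.left) (affSysFst D hDa i₁ hZ g j) := by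
    intro j
    refine IsPullback.of_bot ?_ (affSysLimFst_π D hDa i₁ hZ g c hc L j)
      (affSys_isPullback D hDa i₁ hZ g j)
    rw [← Functor.map_comp, affSys_π_ι, c.w]
    exact sqL
  have hfstJ : ∀ j : Over i₁, RepWith @Etale (affSysFst D hDa i₁ hZ g j) := fun j =>
    MorphismProperty.of_isPullback (affSys_isPullback D hDa i₁ hZ g j).flip hg
  have hfstJs : ∀ j : Over i₁, RepWith @Surjective (affSysFst D hDa i₁ hZ g j) := fun j =>
    MorphismProperty.of_isPullback (affSys_isPullback D hDa i₁ hZ g j).flip hgs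
  have hlimE : RepWith @Etale (affSysLimFst D hDa i₁ hZ g c hc L) :=
    MorphismProperty.of_isPullback sqL.flip hg
  -- the pullback of `y` to the limit chart
  have sqY := hy.rep.isPullback (affSysLimFst D hDa i₁ hZ g c hc L)
  let s := hy.rep.snd (affSysLimFst D hDa i₁ hZ g c hc L)
  haveI hscl : IsClosedImmersion s.left := hy.property_snd _
  have hfstE : RepWith @Etale (hy.rep.fst (affSysLimFst D hDa i₁ hZ g c hc L)) :=
    MorphismProperty.of_isPullback sqY.flip hlimE
  have hlftS : LocallyOfFiniteType (s ≫ L.π.app (Over.mk (𝟙 i₁))).left := by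
    refine hlft (hy.rep.fst (affSysLimFst D hDa i₁ hZ g c hc L))
      (affSysFst D hDa i₁ hZ g (Over.mk (𝟙 i₁))) (s ≫ L.π.app (Over.mk (𝟙 i₁))) hfstE (hfstJ _) ?_
    rw [← Category.assoc, sqY.w, Category.assoc, Functor.map_comp, Category.assoc]
    congr 1
    exact affSysLimFst_π D hDa i₁ hZ g c hc L (Over.mk (𝟙 i₁))
  -- the scheme level statement
  have hL' := isLimitOfPreserves (Over.forget S) hL
  haveI : ∀ j, IsAffine ((W ⋙ Over.forget S).obj j) := affSys_isAffine D hDa i₁ hZ g
  haveI : ∀ {j k : Over i₁} (f : j ⟶ k), IsAffineHom ((W ⋙ Over.forget S).map f) :=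
    fun f => isAffineHom_of_isAffine _
  haveI : CompactSpace ↥((W ⋙ Over.forget S).obj (Over.mk (𝟙 i₁))) := inferInstance
  haveI : LocallyOfFiniteType
      (s.left ≫ ((Over.forget S).mapCone L).π.app (Over.mk (𝟙 i₁))) := hlftS
  obtain ⟨j, hj⟩ := Groth.Agent.H24.exists_isClosedImmersion_comp_π
    (D := W ⋙ Over.forget S) (c := (Over.forget S).mapCone L) hL' (Over.mk (𝟙 i₁)) s.left
  refine ⟨j.left.left, fun i φ => ?_⟩
  let k : Over i₁ := Over.mk (φ ≫ j.left.hom)
  let ψ : k ⟶ j.left := Over.homMk φ rfl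
  have hw : L.π.app k ≫ W.map ψ = L.π.app j.left := L.w ψ
  haveI : IsAffineHom (W.map ψ).left :=
    inferInstanceAs (IsAffineHom ((W ⋙ Over.forget S).map ψ))
  haveI : IsClosedImmersion ((s ≫ L.π.app k).left ≫ (W.map ψ).left) := by
    rw [← Over.comp_left, Category.assoc, hw]
    exact hj
  have hk : IsClosedImmersion (s ≫ L.π.app k).left :=
    IsClosedImmersion.of_comp _ (W.map ψ).left
  have sqBig := sqY.paste_vert (sqJ k)
  rw [← Functor.map_comp] at sqBig
  exact repWith_isClosedImmersion_of_etale_cover (y ≫ c.π.app i) (affSysFst D hDa i₁ hZ g k)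
    (hfstJ k) (hfstJs k) _ _ sqBig ((repWith_yon_map_iff _ _).2 hk)

end Groth.Agent.H50
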