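import Groth.Agent.H50.ImmFactor
import Groth.Agent.H50.PbDiag
import Groth.Agent.H50.LimEvCl
import Groth.Agent.H50.Charts

set_option autoImplicit false
set_option backward.isDefEq.respectTransparency false
set_option linter.style.haveILetI false
universe u
open CategoryTheory CategoryTheory.Limits AlgebraicGeometry Opposite Topology

namespace Groth.Agent.H50

open AlgSp

variable {S : Scheme.{u}}

/-- Left cancellation for `LocP` locally of finite type. -/
theorem locP_lft_of_comp {X Y Z : Sp S} (hZ : IsAlgSpace Z) (f : X ⟶ Y) (g : Y ⟶ Z)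
    (h : LocP @LocallyOfFiniteType (f ≫ g)) : LocP @LocallyOfFiniteType f :=
  locP_of_comp_cancel @LocallyOfFiniteType (fun _ _ _ => True)
    (fun h k hhk _ => by
      haveI : LocallyOfFiniteType (h ≫ k) := hhk
      exact locallyOfFiniteType_of_comp h k)
    (fun h v u h' sq hv hvs hP => goodClass_lft.desc h v u h' sq hv hvs hP)
    hZ f g h (fun _ _ _ _ _ _ _ _ => trivial)

variable {I : Type u} [SmallCategory I] [IsCofiltered I] (D : I ⥤ Sp S)
  (c : Cone D) (hc : IsLimit c)

include hc in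
/-- An immersion from a quasi-compact algebraic space into a cofiltered limit with affine
transition maps, locally of finite type over a stage, stays an immersion at all sufficiently
small stages. -/
theorem eventually_isImmersion_comp_π (hD : ∀ i, IsAlgSpace (D.obj i))
    (hDa : ∀ (i j : I) (φ : i ⟶ j), IsAffineMor (D.map φ))
    {Y : Sp S} (hY : IsAlgSpace Y)
    (hYqc : IsQuasiCompactSp Y) (y : Y ⟶ c.pt) (hy : RepWith @IsImmersion y) (i₁ : I)
    (hlft : LocP @LocallyOfFiniteType (y ≫ c.π.app i₁)) :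
    ∃ i₀ : I, ∀ (i : I) (_ : i ⟶ i₀), RepWith @IsImmersion (y ≫ c.π.app i) := by
  have hX : IsAlgSpace c.pt := isAlgSpace_of_isLimit D hDa c hc hD
  -- factor through a quasi-compact open
  obtain ⟨V, hVo, hVc, y', hy', hy'c⟩ :=
    exists_closedImmersion_factor_of_isImmersion hX hY hYqc y hy
  have hju : RepWith @IsOpenImmersion (Groth.Agent.H51.openSubι c.pt V) :=
    Groth.Agent.H51.repWith_isOpenImmersion_openSubι V hVo
  have hUqc : IsQuasiCompactSp (Groth.Agent.H51.openSubSp c.pt V) :=
    isQuasiCompactSp_openSubSp hX V hVo hVc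
  -- descend the open
  obtain ⟨i₂, U₂, j₂, q, hj₂, hU₂qc, sq⟩ :=
    exists_open_descends_of_isLimit D hD hDa c hc _ _ hju hUqc
  have hU₂ : IsAlgSpace U₂ :=
    Groth.Agent.H49.isAlgSpace_of_representable_to j₂ hj₂.rep (hD i₂)
  -- the system of opens
  let F := pbDiagram D i₂ j₂
  let cF := pbCone D c i₂ j₂
  have hcF : IsLimit cF := pbConeIsLimit D c i₂ j₂ hc
  have hFa : ∀ (φ ψ : Over i₂) (f : φ ⟶ ψ), IsAffineMor (F.map f) := fun φ ψ f =>
    isAffineMor_of_isPullback (isPullback_pbDiagram_map D i₂ j₂ f).flip (hDa _ _ f.left)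
  have hfstO : ∀ φ : Over i₂, RepWith @IsOpenImmersion (pullback.fst (D.map φ.hom) j₂) :=
    fun φ => MorphismProperty.of_isPullback (IsPullback.of_hasPullback (D.map φ.hom) j₂).flip hj₂
  -- the transported closed immersion
  let e := sq.isoPullback
  let y'' : Y ⟶ cF.pt := y' ≫ e.hom
  have hy''c : RepWith @IsClosedImmersion y'' :=
    MorphismProperty.RespectsIso.postcomp _ e.hom y' hy'c
  have hy''fst : y'' ≫ pullback.fst (c.π.app i₂) j₂ = y := by
    change (y' ≫ e.hom) ≫ _ = y
    rw [Category.assoc, IsPullback.isoPullback_hom_fst]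
    exact hy'
  have hyπ : ∀ φ : Over i₂, (y'' ≫ cF.π.app φ) ≫ pullback.fst (D.map φ.hom) j₂ =
      y ≫ c.π.app φ.left := by
    intro φ
    rw [Category.assoc, pbCone_π_fst, ← Category.assoc, hy''fst]
  -- the index
  let j₁ : Over i₂ := Over.mk (IsCofiltered.minToLeft i₂ i₁)
  have hqcF : IsQuasiCompactSp (F.obj j₁) := by
    have haff : IsAffineMor (pullback.snd (D.map j₁.hom) j₂) :=
      isAffineMor_of_isPullback (IsPullback.of_hasPullback (D.map j₁.hom) j₂) (hDa _ _ j₁.hom)
    have hqcm := isQuasiCompactMor_of_isAffineMor _ haff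
    exact hqcm hU₂ hU₂qc (𝟙 U₂) (𝟙 _) (pullback.snd (D.map j₁.hom) j₂)
      (IsPullback.of_horiz_isIso ⟨by simp⟩)
  have hlftF : LocP @LocallyOfFiniteType (y'' ≫ cF.π.app j₁) := by
    have h1 : LocP @LocallyOfFiniteType (y ≫ c.π.app j₁.left) := by
      refine locP_lft_of_comp (hD i₁) _ (D.map (IsCofiltered.minToRight i₂ i₁)) ?_
      rw [Category.assoc, c.w]
      exact hlft
    refine locP_lft_of_comp (hD j₁.left) _ (pullback.fst (D.map j₁.hom) j₂) ?_
    rw [hyπ]
    exact h1
  obtain ⟨j₀, hj₀⟩ := eventually_isClosedImmersion_comp_π F hFa cF hcF j₁ hqcF y'' hy''c hlftF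
  refine ⟨j₀.left, fun i φ => ?_⟩
  let k : Over i₂ := Over.mk (φ ≫ j₀.hom)
  let ψ : k ⟶ j₀ := Over.homMk φ rfl
  have hk : RepWith @IsClosedImmersion (y'' ≫ cF.π.app k) := hj₀ k ψ
  have h1 : RepWith @IsImmersion (y'' ≫ cF.π.app k) :=
    Groth.Agent.H51.repWith_mono (fun _ _ g hg => by
      haveI : IsClosedImmersion g := hg
      infer_instance) hk
  have h2 : RepWith @IsImmersion (pullback.fst (D.map k.hom) j₂) :=
    Groth.Agent.H51.repWith_mono (fun _ _ g hg => by
      haveI : IsOpenImmersion g := hg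
      infer_instance) (hfstO k)
  have := (RepWith @IsImmersion).comp_mem _ _ h1 h2
  rw [hyπ k] at this
  exact this

end Groth.Agent.H50
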