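import Groth.Agent.H50.LimDescCl2
import Groth.Agent.H50.LimEvImm

set_option autoImplicit false
set_option backward.isDefEq.respectTransparency false
set_option linter.style.haveILetI false
universe u
open CategoryTheory CategoryTheory.Limits AlgebraicGeometry Opposite Topology

namespace Groth.Agent.H50

open AlgSp

variable {S : Scheme.{u}}

section Cat

variable {C : Type*} [Category C] [HasPullbacks C]

/-- The map on kernel pairs induced by a square. -/
noncomputable abbrev kerMap {X Y X₀ Y₀ : C} (f : X ⟶ Y) (f₀ : X₀ ⟶ Y₀) (pX : X ⟶ X₀) (pY : Y ⟶ Y₀)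
    (w : pX ≫ f₀ = f ≫ pY) : pullback f f ⟶ pullback f₀ f₀ :=
  pullback.map f f f₀ f₀ pX pX pY w.symm w.symm

/-- For a base change `f` of `f₀`, the kernel pair of `f` is the base change of the kernel pair of
`f₀` along the first projection. -/
theorem isPullback_kerMap_fst {X Y X₀ Y₀ : C} {f : X ⟶ Y} {f₀ : X₀ ⟶ Y₀} {pX : X ⟶ X₀}
    {pY : Y ⟶ Y₀} (hX : IsPullback pX f f₀ pY) :
    IsPullback (kerMap f f₀ pX pY hX.w) (pullback.fst f f) (pullback.fst f₀ f₀) pX := by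
  have h1 : IsPullback (pullback.snd f f ≫ pX) (pullback.fst f f) f₀ (f ≫ pY) :=
    (IsPullback.of_hasPullback f f).flip.paste_horiz hX
  refine IsPullback.of_right ?_ (by simp [kerMap]) (IsPullback.of_hasPullback f₀ f₀).flip
  have h2 : kerMap f f₀ pX pY hX.w ≫ pullback.snd f₀ f₀ = pullback.snd f f ≫ pX := by
    simp [kerMap]
  rw [h2, hX.w]
  exact h1

/-- For a base change `f` of `f₀`, the kernel pair of `f` is the base change of the kernel pair of
`f₀` along `pY`. -/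
theorem isPullback_kerMap {X Y X₀ Y₀ : C} {f : X ⟶ Y} {f₀ : X₀ ⟶ Y₀} {pX : X ⟶ X₀}
    {pY : Y ⟶ Y₀} (hX : IsPullback pX f f₀ pY) :
    IsPullback (kerMap f f₀ pX pY hX.w) (pullback.fst f f ≫ f) (pullback.fst f₀ f₀ ≫ f₀) pY :=
  (isPullback_kerMap_fst hX).paste_vert hX

/-- For a base change `f` of `f₀`, the diagonal of `f` is a base change of the diagonal of
`f₀`. -/
theorem isPullback_diagonal_kerMap {X Y X₀ Y₀ : C} {f : X ⟶ Y} {f₀ : X₀ ⟶ Y₀} {pX : X ⟶ X₀}
    {pY : Y ⟶ Y₀} (hX : IsPullback pX f f₀ pY) :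
    IsPullback pX (pullback.diagonal f) (pullback.diagonal f₀) (kerMap f f₀ pX pY hX.w) := by
  have hcomm : pullback.diagonal f ≫ kerMap f f₀ pX pY hX.w = pX ≫ pullback.diagonal f₀ := by
    apply pullback.hom_ext <;> simp [kerMap]
  have h1 : IsPullback (pullback.diagonal f) pX (kerMap f f₀ pX pY hX.w)
      (pullback.diagonal f₀) := by
    refine IsPullback.of_right ?_ hcomm (isPullback_kerMap_fst hX).flip
    rw [pullback.diagonal_fst, pullback.diagonal_fst]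
    exact IsPullback.of_horiz_isIso ⟨by simp⟩
  exact h1.flip

end Cat

/-- The diagonal of a morphism of algebraic spaces is locally of finite type. -/
theorem locP_lft_diagonal {X Y : Sp S} (hX : IsAlgSpace X) (f : X ⟶ Y) :
    LocP @LocallyOfFiniteType (pullback.diagonal f) := by
  refine locP_lft_of_comp hX (pullback.diagonal f) (pullback.fst f f) ?_
  rw [pullback.diagonal_fst]
  exact goodClass_lft.locP_of_repWith_etale _ ((RepWith @Etale).id_mem X)

section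

variable {I : Type u} [SmallCategory I] [IsCofiltered I] (D : I ⥤ Sp S)
  (hDa : ∀ (i j : I) (φ : i ⟶ j), IsAffineMor (D.map φ)) (c : Cone D) (hc : IsLimit c)
  [QuasiSeparatedSpace ↥S]

include hDa hc in
/-- Descent of separatedness along a cofiltered limit of algebraic spaces with affine transition
maps (no finiteness hypothesis). -/
theorem descend_isSeparatedMor_of_isLimit (hD : ∀ i, IsAlgSpace (D.obj i)) (i₀ : I)
    {X₀ Y₀ : Sp S} (hX₀ : IsAlgSpace X₀) (hY₀ : IsAlgSpace Y₀) (f₀ : X₀ ⟶ Y₀)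
    (b₀ : Y₀ ⟶ D.obj i₀)
    (hXqc : IsQuasiCompactSp X₀) (hXqs : IsQuasiSeparatedSp X₀)
    (hYqs : IsQuasiSeparatedSp Y₀)
    (X Y : Sp S) (f : X ⟶ Y) (pY : Y ⟶ Y₀) (qY : Y ⟶ c.pt)
    (hY : IsPullback pY qY b₀ (c.π.app i₀)) (pX : X ⟶ X₀) (hX : IsPullback pX f f₀ pY)
    (hf : IsSeparatedMor f) :
    ∃ (i : I) (φ : i ⟶ i₀), ∀ (Xi Yi : Sp S) (fi : Xi ⟶ Yi) (pYi : Yi ⟶ Y₀)
      (qYi : Yi ⟶ D.obj i) (_ : IsPullback pYi qYi b₀ (D.map φ)) (pXi : Xi ⟶ X₀)
      (_ : IsPullback pXi fi f₀ pYi), IsSeparatedMor fi := by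
  let Z₀ := pullback f₀ f₀
  have sqZ : IsPullback (pullback.fst f₀ f₀) (pullback.snd f₀ f₀) f₀ f₀ :=
    IsPullback.of_hasPullback f₀ f₀
  have hZ₀ : IsAlgSpace Z₀ := Groth.Agent.H49.isAlgSpace_of_isPullback sqZ hY₀.diag hX₀ hX₀
  have hZq := Groth.Agent.H49.isQuasiCompactSp_and_isQuasiSeparatedSp_of_isPullback hX₀ hY₀ hX₀
    sqZ ⟨hXqc, hXqs⟩ hYqs ⟨hXqc, hXqs⟩
  let bZ : Z₀ ⟶ D.obj i₀ := (pullback.fst f₀ f₀ ≫ f₀) ≫ b₀
  have hΔ₀ : LocP @LocallyOfFiniteType (pullback.diagonal f₀) := locP_lft_diagonal hX₀ f₀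
  have hZlim : IsPullback (kerMap f f₀ pX pY hX.w) ((pullback.fst f f ≫ f) ≫ qY) bZ
      (c.π.app i₀) := (isPullback_kerMap hX).paste_vert hY
  obtain ⟨i, φ, h⟩ := descend_isClosedImmersion_of_isLimit D hDa c hc hD i₀ hX₀ hZ₀
    (pullback.diagonal f₀) bZ hXqc hXqs hZq.1 hZq.2 X (pullback f f) (pullback.diagonal f)
    (kerMap f f₀ pX pY hX.w) ((pullback.fst f f ≫ f) ≫ qY) hZlim pX
    (isPullback_diagonal_kerMap hX) hf hΔ₀
  refine ⟨i, φ, ?_⟩
  intro Xi Yi fi pYi qYi hYi pXi hXi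
  exact h Xi (pullback fi fi) (pullback.diagonal fi) (kerMap fi f₀ pXi pYi hXi.w)
    ((pullback.fst fi fi ≫ fi) ≫ qYi) ((isPullback_kerMap hXi).paste_vert hYi) pXi
    (isPullback_diagonal_kerMap hXi)

end

end Groth.Agent.H50
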