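import Groth.Agent.H50.LimChart
import Groth.Agent.H24.LimitDescent

set_option autoImplicit false
set_option backward.isDefEq.respectTransparency false
set_option linter.style.haveILetI false
universe u
open CategoryTheory CategoryTheory.Limits AlgebraicGeometry Opposite Topology

namespace Groth.Agent.H50

open AlgSp

variable {S : Scheme.{u}} {I : Type u} [SmallCategory I] [IsCofiltered I] (D : I ⥤ Sp S)
  (hDa : ∀ (i j : I) (φ : i ⟶ j), IsAffineMor (D.map φ)) [QuasiSeparatedSpace ↥S]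
  (c : Cone D) (hc : IsLimit c)

include hDa hc in
/-- Descent of surjectivity along a cofiltered limit of algebraic spaces with affine transition
maps. -/
theorem descend_surjective_of_isLimit (i₀ : I) {X₀ Y₀ : Sp S}
    (hY₀ : IsAlgSpace Y₀) (f₀ : X₀ ⟶ Y₀) (b₀ : Y₀ ⟶ D.obj i₀)
    (hXqc : IsQuasiCompactSp X₀) (hYqc : IsQuasiCompactSp Y₀) (hYqs : IsQuasiSeparatedSp Y₀)
    (X Y : Sp S) (f : X ⟶ Y) (pY : Y ⟶ Y₀) (qY : Y ⟶ c.pt)
    (hY : IsPullback pY qY b₀ (c.π.app i₀)) (pX : X ⟶ X₀) (hX : IsPullback pX f f₀ pY)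
    (hf : IsSurjectiveMor f) (hf₀ : LocP @LocallyOfFinitePresentation f₀) :
    ∃ (i : I) (φ : i ⟶ i₀), ∀ (Xi Yi : Sp S) (fi : Xi ⟶ Yi) (pYi : Yi ⟶ Y₀)
      (qYi : Yi ⟶ D.obj i) (_ : IsPullback pYi qYi b₀ (D.map φ)) (pXi : Xi ⟶ X₀)
      (_ : IsPullback pXi fi f₀ pYi), IsSurjectiveMor fi := by
  obtain ⟨V₀, hV₀, v, U₀, a₀, h₀, v', hv', hv's, hv'b, ha₀, ha₀s, hcomm, hU₀c, hpts⟩ :=
    exists_chart_setup D hDa i₀ hY₀ f₀ b₀ hXqc hYqc hYqs
  haveI : IsConnected (Over i₀) := IsCofiltered.isConnected _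
  haveI := affSys_hasLimit D hDa i₀ hV₀ (v ≫ b₀)
  let W := affSys D hDa i₀ hV₀ (v ≫ b₀)
  let L := limit.cone W
  have hL : IsLimit L := limit.isLimit W
  let i₀' : Over i₀ := Over.mk (𝟙 i₀)
  have sq₀ := affSys_isPullback D hDa i₀ hV₀ (v ≫ b₀) i₀'
  haveI hh₀ : LocallyOfFinitePresentation h₀.left := hf₀ a₀ v' h₀ ha₀ hv' hcomm
  -- the limit level
  have sqL := affSys_isPullback_limit D hDa i₀ hV₀ (v ≫ b₀) c hc L hL
  have sqJ₀ : IsPullback (affSysLimFst D hDa i₀ hV₀ (v ≫ b₀) c hc L)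
      ((yon S).map (L.π.app i₀')) (c.π.app i₀) (v' ≫ b₀) := by
    rw [hv'b]
    refine IsPullback.of_bot ?_ (affSysLimFst_π D hDa i₀ hV₀ (v ≫ b₀) c hc L i₀') sq₀
    rw [← Functor.map_comp]
    have : c.π.app i₀ ≫ D.map i₀'.hom = c.π.app i₀ := c.w i₀'.hom
    rw [this]
    exact sqL
  obtain ⟨ℓY, -, sqℓY⟩ := exists_chart_of_isPullback_base hY v' (L.π.app i₀')
    (affSysLimFst D hDa i₀ hV₀ (v ≫ b₀) c hc L) sqJ₀
  -- every point of the limit chart lies in the image of `h₀`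
  have hrange : ∀ l : ↥L.pt.left, (L.π.app i₀').left l ∈ Set.range h₀.left := by
    intro l
    obtain ⟨x, hx⟩ := hf (Points.ofPt ℓY l)
    have h1 : Points.map f₀ (Points.map pX x) = Points.ofPt v' ((L.π.app i₀').left l) := by
      rw [← Points.map_comp, hX.w, Points.map_comp, hx, Points.map_ofPt, sqℓY.w,
        Groth.Agent.H51.ofPt_map_comp]
    obtain ⟨u, -, hu⟩ := hpts _ _ h1
    exact ⟨u, hu⟩
  -- the scheme level descent
  have hL' := isLimitOfPreserves (Over.forget S) hL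
  haveI : ∀ j, IsAffine ((W ⋙ Over.forget S).obj j) := affSys_isAffine D hDa i₀ hV₀ (v ≫ b₀)
  haveI : ∀ {j k : Over i₀} (f : j ⟶ k), IsAffineHom ((W ⋙ Over.forget S).map f) :=
    fun f => isAffineHom_of_isAffine _
  haveI : CompactSpace ↥((W ⋙ Over.forget S).obj i₀') := inferInstance
  haveI : LocallyOfFinitePresentation (X := U₀.left) (Y := (W ⋙ Over.forget S).obj i₀')
      h₀.left := hh₀
  haveI : QuasiCompact (X := U₀.left) (Y := (W ⋙ Over.forget S).obj i₀') h₀.left :=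
    inferInstance
  have hC : ProCons.IsProConstructible
      (Set.range (h₀.left : U₀.left ⟶ (W ⋙ Over.forget S).obj i₀').base)ᶜ :=
    Groth.Agent.H24.isProConstructible_compl_range _
  obtain ⟨j, φ', hj⟩ := Groth.Agent.H24.eventuallyEmpty_of_isProConstructible
    (W ⋙ Over.forget S) ((Over.forget S).mapCone L) hL' hC (by
      rw [← Set.subset_empty_iff]
      intro l hl
      exact hl (hrange l))
  have hrangej : ∀ w : ↥(W.obj j).left, (W.map φ').left w ∈ Set.range h₀.left := by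
    intro w
    by_contra hw
    have : w ∈ ((W ⋙ Over.forget S).map φ') ⁻¹'
        (Set.range (h₀.left : U₀.left ⟶ (W ⋙ Over.forget S).obj i₀').base)ᶜ := hw
    rw [hj] at this
    exact this
  -- the stage
  refine ⟨j.left, φ'.left, ?_⟩
  intro Xi Yi fi pYi qYi hYi pXi hXi
  have sqJ : IsPullback (affSysFst D hDa i₀ hV₀ (v ≫ b₀) j) ((yon S).map (W.map φ'))
      (D.map φ'.left) (v' ≫ b₀) := by
    rw [hv'b]
    exact affSys_isPullback_map D hDa i₀ hV₀ (v ≫ b₀) φ'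
  obtain ⟨ℓYi, -, sqℓYi⟩ := exists_chart_of_isPullback_base hYi v' (W.map φ')
    (affSysFst D hDa i₀ hV₀ (v ≫ b₀) j) sqJ
  obtain ⟨ℓXi, hℓXi, -⟩ :=
    exists_chart_of_isPullback_mor hXi a₀ v' h₀ hcomm (W.map φ') ℓYi sqℓYi
  have hℓYis : RepWith @Surjective ℓYi := MorphismProperty.of_isPullback sqℓYi.flip hv's
  intro y
  obtain ⟨w, rfl⟩ := Groth.Agent.H51.surjective_ofPt_of_surjective ℓYi hℓYis y
  obtain ⟨u, hu⟩ := hrangej w
  obtain ⟨z, -, hz⟩ := exists_pt_of_pullback_over h₀ (W.map φ') u w hu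
  refine ⟨Points.ofPt ℓXi z, ?_⟩
  rw [Points.map_ofPt, hℓXi, Groth.Agent.H51.ofPt_map_comp, hz]

end Groth.Agent.H50
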