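import Groth.Agent.H50.LimDescLocP
import Groth.Agent.H50.ImmEtLocal
import Groth.Agent.H50.LfpDiag
import Groth.Agent.H50.Charts
import Groth.Agent.H50.Mor
import Groth.Agent.H51.SpOpen
import Groth.Agent.H24.LimitIso

set_option autoImplicit false
set_option backward.isDefEq.respectTransparency false
set_option linter.style.haveILetI false
universe u
open CategoryTheory CategoryTheory.Limits AlgebraicGeometry Opposite Topology

namespace Groth.Agent.H50

open AlgSp

section Cat

variable {C : Type*} [Category C]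

/-- The base change of a monomorphism `f` along a morphism factoring through `f` is an
isomorphism. -/
theorem isIso_snd_of_mono_of_factor {P X Y Z : C} {fst : P ⟶ X} {snd : P ⟶ Y} {f : X ⟶ Z}
    {g : Y ⟶ Z} (sq : IsPullback fst snd f g) [Mono f] (e : Y ⟶ X) (he : e ≫ f = g) :
    IsIso snd := by
  haveI : Mono snd := sq.mono_snd_of_mono
  haveI : IsSplitEpi snd := IsSplitEpi.mk' ⟨sq.lift e (𝟙 _) (by rw [he, Category.id_comp]),
    sq.lift_snd _ _ _⟩
  exact isIso_of_mono_of_isSplitEpi snd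

theorem isIso_fst_of_mono_of_factor {P X Y Z : C} {fst : P ⟶ X} {snd : P ⟶ Y} {f : X ⟶ Z}
    {g : Y ⟶ Z} (sq : IsPullback fst snd f g) [Mono g] (e : X ⟶ Y) (he : e ≫ g = f) :
    IsIso fst :=
  isIso_snd_of_mono_of_factor sq.flip e he

/-- The projections of a cofiltered limit with monic transition maps are monic. -/
theorem mono_π_of_isLimit {J : Type*} [Category J] [IsCofiltered J] (W : J ⥤ C)
    (hmono : ∀ {i j : J} (f : i ⟶ j), Mono (W.map f)) (c : Cone W) (hc : IsLimit c) (j₀ : J) :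
    Mono (c.π.app j₀) := by
  refine ⟨fun {T} a b hab => ?_⟩
  apply hc.hom_ext
  intro j
  let k := IsCofiltered.min j₀ j
  haveI := hmono (IsCofiltered.minToLeft j₀ j)
  have h1 : a ≫ c.π.app k = b ≫ c.π.app k := by
    rw [← cancel_mono (W.map (IsCofiltered.minToLeft j₀ j)), Category.assoc, Category.assoc, c.w,
      hab]
  rw [← c.w (IsCofiltered.minToRight j₀ j), ← Category.assoc, h1, Category.assoc]

end Cat

/-- A cofiltered limit of affine schemes with monic transition maps which is locally of finite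
presentation over a stage is isomorphic to a stage. -/
theorem exists_isIso_π_of_lfp {J : Type u} [SmallCategory J] [IsCofiltered J]
    (W : J ⥤ Scheme.{u}) [∀ j, IsAffine (W.obj j)]
    (hmono : ∀ {i j : J} (f : i ⟶ j), Mono (W.map f)) (c : Cone W) (hc : IsLimit c) (j₀ : J)
    [LocallyOfFinitePresentation (c.π.app j₀)] :
    ∃ (j : J) (_ : j ⟶ j₀), IsIso (c.π.app j) := by
  haveI : ∀ {j k : J} (f : j ⟶ k), IsAffineHom (W.map f) := fun f => isAffineHom_of_isAffine _
  haveI : IsAffine c.pt := Scheme.isAffine_of_isLimit c hc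
  haveI : IsAffine (((Functor.const J).obj c.pt).obj j₀) := ‹IsAffine c.pt›
  haveI hm : Mono (c.π.app j₀) := mono_π_of_isLimit W hmono c hc j₀
  have hlim : IsIso (Groth.Agent.H24.limMap W c j₀ (c.π.app j₀) (𝟙 (W.obj j₀))) := by
    refine isIso_snd_of_mono_of_factor
      (Groth.Agent.H24.isPullback_limMap W c j₀ (c.π.app j₀) (𝟙 (W.obj j₀)))
      (pullback.fst (c.π.app j₀) (𝟙 (W.obj j₀))) ?_
    rw [pullback.condition, Category.comp_id]
  obtain ⟨ψ, hψ⟩ := Groth.Agent.H24.exists_isIso_stageMap_of_isIso_limMap W c j₀ (c.π.app j₀)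
    (𝟙 (W.obj j₀)) hc hlim
  refine ⟨ψ.left, ψ.hom, ?_⟩
  have sq := Groth.Agent.H24.isPullback_stageMap W j₀ (c.π.app j₀) (𝟙 (W.obj j₀)) ψ
  haveI := hmono ψ.hom
  haveI : IsIso (pullback.fst (W.map ψ.hom) (𝟙 (W.obj j₀))) := inferInstance
  have hsnd : pullback.snd (W.map ψ.hom) (𝟙 (W.obj j₀)) =
      pullback.fst (W.map ψ.hom) (𝟙 (W.obj j₀)) ≫ W.map ψ.hom := by
    rw [pullback.condition, Category.comp_id]
  haveI : Mono (pullback.snd (W.map ψ.hom) (𝟙 (W.obj j₀))) := by
    rw [hsnd]; infer_instance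
  haveI h1 : IsIso (pullback.snd (W.map ψ.hom) (c.π.app j₀ ≫ 𝟙 (W.obj j₀))) := by
    refine isIso_fst_of_mono_of_factor sq
      (c.π.app ψ.left ≫ inv (pullback.fst (W.map ψ.hom) (𝟙 (W.obj j₀)))) ?_
    rw [hsnd, Category.assoc, IsIso.inv_hom_id_assoc, c.w]
  have h2 : pullback.snd (W.map ψ.hom) (c.π.app j₀ ≫ 𝟙 (W.obj j₀)) ≫ c.π.app ψ.left =
      Groth.Agent.H24.stageMap W j₀ (c.π.app j₀) (𝟙 (W.obj j₀)) ψ ≫
        pullback.fst (W.map ψ.hom) (𝟙 (W.obj j₀)) := by
    rw [← cancel_mono (W.map ψ.hom), Category.assoc, Category.assoc, c.w, ← hsnd]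
    exact sq.w
  have h3 : c.π.app ψ.left = inv (pullback.snd (W.map ψ.hom) (c.π.app j₀ ≫ 𝟙 (W.obj j₀))) ≫
      Groth.Agent.H24.stageMap W j₀ (c.π.app j₀) (𝟙 (W.obj j₀)) ψ ≫
        pullback.fst (W.map ψ.hom) (𝟙 (W.obj j₀)) := by
    rw [← h2, IsIso.inv_hom_id_assoc]
  rw [h3]
  infer_instance

variable {S : Scheme.{u}} {I : Type u} [SmallCategory I] [IsCofiltered I] (D : I ⥤ Sp S)
  (c : Cone D) (hc : IsLimit c)

include hc in
/-- A cofiltered limit of quasi-compact algebraic spaces with closed immersions as transition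
maps which is locally of finite presentation over a stage is isomorphic to all sufficiently
small stages. -/
theorem eventually_isIso_π_of_lfp (hD : ∀ i, IsAlgSpace (D.obj i))
    (hDc : ∀ (i j : I) (φ : i ⟶ j), RepWith @IsClosedImmersion (D.map φ)) (i₁ : I)
    (hqc : IsQuasiCompactSp (D.obj i₁))
    (hX : LocP @LocallyOfFinitePresentation (c.π.app i₁)) :
    ∃ i₀ : I, ∀ (i : I) (_ : i ⟶ i₀), IsIso (c.π.app i) := by
  have hDa : ∀ (i j : I) (φ : i ⟶ j), IsAffineMor (D.map φ) := fun i j φ =>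
    isAffineMor_of_repWith_isClosedImmersion (hDc i j φ)
  have hDm : ∀ {i j : I} (φ : i ⟶ j), Mono (D.map φ) := fun {i j} φ =>
    mono_of_repWith (fun _ _ f hf => by
      haveI : IsClosedImmersion f := hf
      exact MorphismProperty.monomorphisms.infer_property f) _ (hDc i j φ)
  have hcpt : IsAlgSpace c.pt := isAlgSpace_of_isLimit D hDa c hc hD
  obtain ⟨Z, g, hZ, hg, hgs⟩ :=
    (Groth.Agent.H51.isQuasiCompactSp_iff_exists_affine_atlas).1 hqc
  haveI : IsConnected (Over i₁) := IsCofiltered.isConnected _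
  haveI := affSys_hasLimit D hDa i₁ hZ g
  let W := affSys D hDa i₁ hZ g
  let L := limit.cone W
  have hL : IsLimit L := limit.isLimit W
  have sqL := affSys_isPullback_limit D hDa i₁ hZ g c hc L hL
  have sqJ : ∀ j : Over i₁, IsPullback (affSysLimFst D hDa i₁ hZ g c hc L)
      ((yon S).map (L.π.app j)) (c.π.app j.left) (affSysFst D hDa i₁ hZ g j) := by
    intro j
    refine IsPullback.of_bot ?_ (affSysLimFst_π D hDa i₁ hZ g c hc L j)
      (affSys_isPullback D hDa i₁ hZ g j)
    rw [← Functor.map_comp, affSys_π_ι, c.w]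
    exact sqL
  have hfstJ : ∀ j : Over i₁, RepWith @Etale (affSysFst D hDa i₁ hZ g j) := fun j =>
    MorphismProperty.of_isPullback (affSys_isPullback D hDa i₁ hZ g j).flip hg
  have hfstJs : ∀ j : Over i₁, RepWith @Surjective (affSysFst D hDa i₁ hZ g j) := fun j =>
    MorphismProperty.of_isPullback (affSys_isPullback D hDa i₁ hZ g j).flip hgs
  have hlimE : RepWith @Etale (affSysLimFst D hDa i₁ hZ g c hc L) :=
    MorphismProperty.of_isPullback sqL.flip hg
  -- finite presentation of the limit chart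
  have hlfp : LocallyOfFinitePresentation (L.π.app (Over.mk (𝟙 i₁))).left :=
    hX (affSysLimFst D hDa i₁ hZ g c hc L) (affSysFst D hDa i₁ hZ g (Over.mk (𝟙 i₁)))
      (L.π.app (Over.mk (𝟙 i₁))) hlimE (hfstJ _)
      (affSysLimFst_π D hDa i₁ hZ g c hc L (Over.mk (𝟙 i₁)))
  -- the scheme level statement
  have hL' := isLimitOfPreserves (Over.forget S) hL
  haveI : ∀ j, IsAffine ((W ⋙ Over.forget S).obj j) := affSys_isAffine D hDa i₁ hZ g
  have hWm : ∀ {j k : Over i₁} (f : j ⟶ k), Mono ((W ⋙ Over.forget S).map f) := by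
    intro j k f
    have h1 : RepWith @IsClosedImmersion ((yon S).map (W.map f)) :=
      MorphismProperty.of_isPullback (affSys_isPullback_map D hDa i₁ hZ g f) (hDc _ _ f.left)
    haveI : IsClosedImmersion (W.map f).left := (repWith_yon_map_iff _ _).1 h1
    exact inferInstanceAs (Mono (W.map f).left)
  haveI : LocallyOfFinitePresentation
      (((Over.forget S).mapCone L).π.app (Over.mk (𝟙 i₁))) := hlfp
  obtain ⟨j, -, hj⟩ := exists_isIso_π_of_lfp (W ⋙ Over.forget S) hWm
    ((Over.forget S).mapCone L) hL' (Over.mk (𝟙 i₁))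
  haveI : IsIso (L.π.app j).left := hj
  haveI : IsIso ((Over.forget S).map (L.π.app j)) := hj
  haveI : IsIso (L.π.app j) := isIso_of_reflects_iso _ (Over.forget S)
  -- descent to the stage `j`
  have hOI : RepWith @IsOpenImmersion (c.π.app j.left) := by
    refine repWith_isOpenImmersion_of_etale_cover hcpt (hD j.left) (c.π.app j.left)
      (affSysFst D hDa i₁ hZ g j) (hfstJ j) (hfstJs j) _ _ (sqJ j) ?_
    rw [repWith_yon_map_iff]
    infer_instance
  have hsurj : Function.Surjective (Points.map (c.π.app j.left)) := by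
    intro y
    obtain ⟨v, rfl⟩ := Groth.Agent.H51.surjective_ofPt_of_surjective _ (hfstJs j) y
    obtain ⟨w, rfl⟩ : ∃ w, (L.π.app j).left w = v :=
      ⟨(inv (L.π.app j).left) v, by
        rw [← Scheme.Hom.comp_apply, IsIso.inv_hom_id]; rfl⟩
    refine ⟨Points.ofPt (affSysLimFst D hDa i₁ hZ g c hc L) w, ?_⟩
    rw [Points.map_ofPt, (sqJ j).w, Groth.Agent.H51.ofPt_map_comp]
    rfl
  haveI hiso : IsIso (c.π.app j.left) :=
    Groth.Agent.H51.isIso_of_isOpenImmersion_of_surjective _ hOI hsurj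
  refine ⟨j.left, fun i φ => ?_⟩
  haveI := hDm φ
  have hw : c.π.app i ≫ D.map φ = c.π.app j.left := c.w φ
  haveI : IsSplitEpi (D.map φ) :=
    IsSplitEpi.mk' ⟨inv (c.π.app j.left) ≫ c.π.app i, by rw [Category.assoc, hw, IsIso.inv_hom_id]⟩
  haveI : IsIso (D.map φ) := isIso_of_mono_of_isSplitEpi _
  have : c.π.app i = c.π.app j.left ≫ inv (D.map φ) := by
    rw [← hw, Category.assoc, IsIso.hom_inv_id, Category.comp_id]
  rw [this]
  infer_instance

end Groth.Agent.H50
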