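import Groth.Agent.H50.PbOver
import Groth.Agent.H50.LimDescCl2
import Groth.Agent.H50.LimEvCl
import Groth.Agent.H50.LimEvMono
import Groth.Agent.H50.LimEvImm
import Groth.Agent.H50.LimDescSep
import Groth.Agent.H50.LimAffineP
import Groth.Agent.H50.ProperImage

set_option autoImplicit false
set_option backward.isDefEq.respectTransparency false
set_option linter.style.haveILetI false
universe u
open CategoryTheory CategoryTheory.Limits AlgebraicGeometry Opposite Topology

namespace Groth.Agent.H50

open AlgSp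

variable {S : Scheme.{u}}

/-- If `v ≫ w` is a closed immersion and `w` is separated then `v` is a closed immersion. -/
theorem repWith_isClosedImmersion_of_comp_of_isSeparatedMor {A B E : Sp S} (v : A ⟶ B)
    (w : B ⟶ E) (hvw : RepWith @IsClosedImmersion (v ≫ w)) (hw : IsSeparatedMor w) :
    RepWith @IsClosedImmersion v := by
  have sqΓ := pullback_lift_diagonal_isPullback v w
  have hΓ : RepWith @IsClosedImmersion
      (pullback.lift (𝟙 A) v (by simp) : A ⟶ pullback (v ≫ w) w) :=
    MorphismProperty.of_isPullback (P := RepWith @IsClosedImmersion) sqΓ hw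
  have hpr : RepWith @IsClosedImmersion (pullback.snd (v ≫ w) w) :=
    MorphismProperty.of_isPullback (P := RepWith @IsClosedImmersion)
      (IsPullback.of_hasPullback (v ≫ w) w) hvw
  have := (RepWith (S := S) @IsClosedImmersion).comp_mem _ _ hΓ hpr
  rwa [pullback.lift_snd] at this

section

variable {I : Type u} [SmallCategory I] [IsCofiltered I] (D : I ⥤ Sp S) (c : Cone D)
  (hc : IsLimit c) [QuasiSeparatedSpace ↥S]

include hc in
/-- If the limit of a system over `Y` with affine transition maps is separated over `Y`, then so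
are the members of the system from some stage on. -/
theorem eventually_isSeparatedMor_of_limit_over (hD : ∀ i, IsAlgSpace (D.obj i)) {Y : Sp S}
    (hYa : IsAlgSpace Y) (t : D ⟶ (Functor.const I).obj Y)
    (hDa : ∀ (i j : I) (φ : i ⟶ j), IsAffineMor (D.map φ))
    (g : c.pt ⟶ Y) (hg : ∀ i, c.π.app i ≫ t.app i = g)
    (hqc : ∀ i, IsQuasiCompactSp (D.obj i)) (hqs : ∀ i, IsQuasiSeparatedSp (D.obj i))
    (hYqs : IsQuasiSeparatedSp Y) (hX : IsSeparatedMor g) :
    ∃ i₀ : I, ∀ (i : I) (_ : i ⟶ i₀), IsSeparatedMor (t.app i) := by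
  have hXa : IsAlgSpace c.pt := isAlgSpace_of_isLimit D hDa c hc hD
  obtain ⟨i₁⟩ := IsCofiltered.nonempty (C := I)
  have hπa : ∀ i, IsAffineMor (c.π.app i) := fun i => isAffineMor_π_of_isLimit D hDa c hc i
  have hXqc : IsQuasiCompactSp c.pt :=
    isQuasiCompactSp_of_isAffineMor (c.π.app i₁) (hπa i₁) (hD i₁) (hqc i₁)
  have hXqs : IsQuasiSeparatedSp c.pt :=
    isQuasiSeparatedSp_of_isAffineMor (c.π.app i₁) (hπa i₁) (hqs i₁)
  -- step 1: the graphs of the projections are eventually closed immersions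
  let E := pbOver D t g
  let cE := pbOverCone D t g c g hg
  have hcE : IsLimit cE := pbOverConeIsLimit D t g c g hg hc
  have hEa : ∀ (i j : I) (φ : i ⟶ j), IsAffineMor (E.map φ) := fun i j φ =>
    isAffineMor_of_isPullback (isPullback_pbOver_map D t g φ).flip (hDa i j φ)
  have hEqc : IsQuasiCompactSp (E.obj i₁) :=
    (Groth.Agent.H49.isQuasiCompactSp_and_isQuasiSeparatedSp_of_isPullback hXa hYa (hD i₁)
      (IsPullback.of_hasPullback g (t.app i₁)) ⟨hXqc, hXqs⟩ hYqs ⟨hqc i₁, hqs i₁⟩).1
  have hyπ : ∀ i, pullback.diagonal g ≫ cE.π.app i =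
      pullback.lift (𝟙 c.pt) (c.π.app i) (by rw [Category.id_comp, hg]) := by
    intro i
    apply pullback.hom_ext
    · rw [Category.assoc, pbOverCone_π_fst, pullback.diagonal_fst, pullback.lift_fst]
    · rw [Category.assoc, pbOverCone_π_snd, pullback.diagonal_snd_assoc, pullback.lift_snd]
  have hlft : LocP @LocallyOfFiniteType (pullback.diagonal g ≫ cE.π.app i₁) := by
    refine locP_lft_of_comp hXa _ (pullback.fst g (t.app i₁)) ?_
    rw [hyπ, pullback.lift_fst]
    exact goodClass_lft.locP_of_repWith_etale _ ((RepWith @Etale).id_mem c.pt)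
  obtain ⟨j, hj⟩ := eventually_isClosedImmersion_comp_π E hEa cE hcE i₁ hEqc
    (pullback.diagonal g) hX hlft
  have hΓj : RepWith @IsClosedImmersion
      (pullback.lift (𝟙 c.pt) (c.π.app j) (by rw [Category.id_comp, hg]) :
        c.pt ⟶ pullback g (t.app j)) := by
    rw [← hyπ]
    exact hj j (𝟙 j)
  -- step 2: descend the graph
  have sqZ : IsPullback (pullback.fst (t.app j) (t.app j)) (pullback.snd (t.app j) (t.app j))
      (t.app j) (t.app j) := IsPullback.of_hasPullback _ _
  have hZ₀ : IsAlgSpace (pullback (t.app j) (t.app j)) :=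
    Groth.Agent.H49.isAlgSpace_of_isPullback sqZ hYa.diag (hD j) (hD j)
  have hZq := Groth.Agent.H49.isQuasiCompactSp_and_isQuasiSeparatedSp_of_isPullback (hD j) hYa
    (hD j) sqZ ⟨hqc j, hqs j⟩ hYqs ⟨hqc j, hqs j⟩
  obtain ⟨k, φ, h⟩ := descend_isClosedImmersion_of_isLimit D hDa c hc hD j (hD j) hZ₀
    (pullback.diagonal (t.app j)) (pullback.fst (t.app j) (t.app j)) (hqc j) (hqs j) hZq.1 hZq.2
    c.pt (pullback g (t.app j))
    (pullback.lift (𝟙 c.pt) (c.π.app j) (by rw [Category.id_comp, hg]))
    (pullback.map g (t.app j) (t.app j) (t.app j) (c.π.app j) (𝟙 _) (𝟙 _)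
      (by rw [Category.comp_id, hg]) (by simp))
    (pullback.fst g (t.app j))
    (isPullback_map_fst_fst (c.π.app j) (t.app j) g (hg j)) (c.π.app j)
    (isPullback_graph (c.π.app j) (t.app j) g (hg j)) hΓj (locP_lft_diagonal (hD j) (t.app j))
  have hφ : D.map φ ≫ t.app j = t.app k := pbOver_naturality D t φ
  have hΓk := h (D.obj k) (pullback (t.app k) (t.app j))
    (pullback.lift (𝟙 _) (D.map φ) (by rw [Category.id_comp, hφ]))
    (pullback.map (t.app k) (t.app j) (t.app j) (t.app j) (D.map φ) (𝟙 _) (𝟙 _)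
      (by rw [Category.comp_id, hφ]) (by simp))
    (pullback.fst (t.app k) (t.app j))
    (isPullback_map_fst_fst (D.map φ) (t.app j) (t.app k) hφ) (D.map φ)
    (isPullback_graph (D.map φ) (t.app j) (t.app k) hφ)
  -- the diagonal of `X_k ⟶ Y` is a closed immersion
  have hw : IsAffineMor ((pbOver D t (t.app k)).map φ) :=
    isAffineMor_of_isPullback (isPullback_pbOver_map D t (t.app k) φ).flip (hDa k j φ)
  have hΔw : pullback.diagonal (t.app k) ≫ (pbOver D t (t.app k)).map φ =
      pullback.lift (𝟙 _) (D.map φ) (by rw [Category.id_comp, hφ]) := by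
    apply pullback.hom_ext
    · rw [Category.assoc, pbOver_map_fst, pullback.diagonal_fst, pullback.lift_fst]
    · rw [Category.assoc, pbOver_map_snd, pullback.diagonal_snd_assoc, pullback.lift_snd]
  have hk : IsSeparatedMor (t.app k) := by
    refine repWith_isClosedImmersion_of_comp_of_isSeparatedMor (pullback.diagonal (t.app k))
      ((pbOver D t (t.app k)).map φ) ?_ (isSeparatedMor_of_isAffineMor _ hw)
    rw [hΔw]
    exact hΓk
  refine ⟨k, fun i ψ => ?_⟩
  rw [← pbOver_naturality D t ψ]
  exact isSeparatedMor_comp _ _ (isSeparatedMor_of_isAffineMor _ (hDa i k ψ)) hk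

end

end Groth.Agent.H50
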