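import Groth.Agent.H50.LimEvSep

set_option autoImplicit false
set_option backward.isDefEq.respectTransparency false
set_option linter.style.haveILetI false
universe u
open CategoryTheory CategoryTheory.Limits AlgebraicGeometry Opposite Topology

namespace Groth.Agent.H50

open AlgSp

variable {S : Scheme.{u}}

/-- The terminal sheaf is an algebraic space. -/
theorem isAlgSpace_terminal : IsAlgSpace (⊤_ (Sp S)) :=
  (IsAlgSpace.yon_obj (⊤_ (Over S))).of_iso (PreservesTerminal.iso (yon S))

/-- The terminal sheaf is quasi-separated. -/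
theorem isQuasiSeparatedSp_terminal : IsQuasiSeparatedSp (⊤_ (Sp S)) := by
  have : IsIso (Limits.diag (⊤_ (Sp S))) :=
    ⟨prod.fst, Subsingleton.elim _ _, by
      apply Limits.prod.hom_ext <;> exact Subsingleton.elim _ _⟩
  exact MorphismProperty.of_isIso (RepWith @QuasiCompact) _

/-- Separatedness over the base in terms of the morphism to the terminal sheaf. -/
theorem isSeparatedSp_iff_terminal (X : Sp S) :
    IsSeparatedSp X ↔ IsSeparatedMor (terminal.from X) := by
  have := Groth.Agent.H49.diag_iff_diagonal_terminal (RepWith (S := S) @IsClosedImmersion) X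
  exact this

section

variable {I : Type u} [SmallCategory I] [IsCofiltered I] (D : I ⥤ Sp S) (c : Cone D)
  (hc : IsLimit c) [QuasiSeparatedSpace ↥S]

include hc in
/-- If the limit of a system of quasi-compact quasi-separated algebraic spaces with affine
transition maps is separated, then so is a member of the system. -/
theorem exists_isSeparatedSp_of_isLimit (hD : ∀ i, IsAlgSpace (D.obj i))
    (hDa : ∀ (i j : I) (φ : i ⟶ j), IsAffineMor (D.map φ))
    (hqc : ∀ i, IsQuasiCompactSp (D.obj i)) (hqs : ∀ i, IsQuasiSeparatedSp (D.obj i))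
    (hX : IsSeparatedSp c.pt) : ∃ i, IsSeparatedSp (D.obj i) := by
  let t : D ⟶ (Functor.const I).obj (⊤_ (Sp S)) :=
    { app := fun i => terminal.from (D.obj i)
      naturality := fun _ _ _ => terminal.hom_ext _ _ }
  obtain ⟨i₀, h⟩ := eventually_isSeparatedMor_of_limit_over D c hc hD isAlgSpace_terminal t hDa
    (terminal.from c.pt) (fun _ => terminal.hom_ext _ _) hqc hqs isQuasiSeparatedSp_terminal
    ((isSeparatedSp_iff_terminal c.pt).1 hX)
  exact ⟨i₀, (isSeparatedSp_iff_terminal _).2 (h i₀ (𝟙 i₀))⟩

end

end Groth.Agent.H50
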