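import Groth.Agent.H50.LimAff2
import Groth.Agent.H52.MonoPoint
import Groth.Agent.H24.LimitTopLimit

set_option autoImplicit false
set_option backward.isDefEq.respectTransparency false
set_option linter.style.haveILetI false
universe u
open CategoryTheory CategoryTheory.Limits AlgebraicGeometry Opposite Topology

namespace Groth.Agent.H50

open AlgSp

variable {S : Scheme.{u}} {I : Type u} [SmallCategory I]

/-- A system of schemes with monomorphisms to the members of a diagram of sheaves, compatible with
the transition morphisms. -/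
structure MonoSys (D : I ⥤ Sp S) where
  /-- the schemes -/
  W : I → Over S
  /-- the monomorphisms -/
  a : ∀ i, (yon S).obj (W i) ⟶ D.obj i
  mono : ∀ i, Mono (a i)
  exists_map : ∀ {i j : I} (φ : i ⟶ j), ∃ m : W i ⟶ W j, (yon S).map m ≫ a j = a i ≫ D.map φ

namespace MonoSys

variable {D : I ⥤ Sp S} (P : MonoSys D)

/-- The transition morphisms. -/
noncomputable def map {i j : I} (φ : i ⟶ j) : P.W i ⟶ P.W j := (P.exists_map φ).choose

theorem map_a {i j : I} (φ : i ⟶ j) : (yon S).map (P.map φ) ≫ P.a j = P.a i ≫ D.map φ :=
  (P.exists_map φ).choose_spec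

theorem hom_ext {T : Over S} {k : I} (x y : T ⟶ P.W k)
    (h : (yon S).map x ≫ P.a k = (yon S).map y ≫ P.a k) : x = y := by
  apply (yon S).map_injective
  have := P.mono k
  exact (cancel_mono (P.a k)).1 h

/-- The system as a functor. -/
noncomputable def functor : I ⥤ Over S where
  obj := P.W
  map φ := P.map φ
  map_id j := by
    apply P.hom_ext
    rw [map_a, CategoryTheory.Functor.map_id, Category.comp_id, CategoryTheory.Functor.map_id,
      Category.id_comp]
  map_comp φ ψ := by
    apply P.hom_ext
    rw [map_a, D.map_comp, Functor.map_comp, Category.assoc, map_a, ← Category.assoc,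
      ← Category.assoc, map_a]

/-- The cone over `D` with vertex a cone of the system. -/
noncomputable def cone (L : Cone P.functor) : Cone D where
  pt := (yon S).obj L.pt
  π :=
    { app := fun j => (yon S).map (L.π.app j) ≫ P.a j
      naturality := by
        intro j k φ
        change 𝟙 _ ≫ _ = (_ ≫ _) ≫ D.map φ
        rw [Category.id_comp, Category.assoc, ← P.map_a, ← Category.assoc, ← Functor.map_comp]
        congr 2
        exact (L.w φ).symm }

variable (c : Cone D) (hc : IsLimit c)

/-- The morphism from the limit of the system to the limit of `D`. -/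
noncomputable def limMap (L : Cone P.functor) : (yon S).obj L.pt ⟶ c.pt :=
  hc.lift (P.cone L)

theorem limMap_π (L : Cone P.functor) (j : I) :
    P.limMap c hc L ≫ c.π.app j = (yon S).map (L.π.app j) ≫ P.a j :=
  hc.fac (P.cone L) j

/-- A morphism from a scheme to the limit of `D` which factors termwise through the system
factors through the limit of the system. -/
theorem exists_lift (L : Cone P.functor) (hL : IsLimit L) {T : Over S} (t : (yon S).obj T ⟶ c.pt)
    (h : ∀ j, ∃ m : T ⟶ P.W j, (yon S).map m ≫ P.a j = t ≫ c.π.app j) :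
    ∃ n : T ⟶ L.pt, (yon S).map n ≫ P.limMap c hc L = t := by
  choose m hm using h
  let cT : Cone P.functor :=
    { pt := T
      π :=
        { app := m
          naturality := by
            intro j k φ
            change 𝟙 _ ≫ m k = m j ≫ P.map φ
            rw [Category.id_comp]
            apply P.hom_ext
            rw [hm, Functor.map_comp, Category.assoc, P.map_a, ← Category.assoc, hm,
              Category.assoc, c.w] } }
  refine ⟨hL.lift cT, ?_⟩
  apply hc.hom_ext
  intro j
  rw [Category.assoc, limMap_π, ← Category.assoc, ← Functor.map_comp, hL.fac]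
  exact hm j

end MonoSys

section PtSys

variable {D : I ⥤ Sp S} (p : ∀ i, FieldPt (D.obj i)) (hm : ∀ i, Mono (p i).toHom)
  (hr : ∀ i, Representable (p i).toHom)
  (hcomp : ∀ (i j : I) (φ : i ⟶ j), Points.map (D.map φ) (Points.mk (p i)) = Points.mk (p j))

/-- The system of monomorphic field valued points representing a compatible family of points. -/
noncomputable def ptSys : MonoSys D where
  W i := (p i).pt
  a i := (p i).toHom
  mono := hm
  exists_map {i j} φ := by
    obtain ⟨m, hm'⟩ := Groth.Agent.H52.exists_factor_of_mono (p j) ((p i).map (D.map φ)) (hm j)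
      (hr j) (hcomp i j φ)
    exact ⟨m, hm'.trans (FieldPt.toHom_map _ _)⟩

variable [IsCofiltered I]

instance ptSys_hasLimit : HasLimit (ptSys p hm hr hcomp).functor := by
  haveI : IsConnected I := IsCofiltered.isConnected _
  exact hasLimit_over_of_forall_isAffine _ fun i => inferInstanceAs (IsAffine (Spec _))

theorem ptSys_nonempty (L : Cone (ptSys p hm hr hcomp).functor) (hL : IsLimit L) :
    Nonempty ↥L.pt.left := by
  let W := (ptSys p hm hr hcomp).functor
  have hL' := isLimitOfPreserves (Over.forget S) hL
  haveI : ∀ j, IsAffine ((W ⋙ Over.forget S).obj j) := fun j =>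
    inferInstanceAs (IsAffine (Spec _))
  haveI : ∀ {j k : I} (f : j ⟶ k), IsAffineHom ((W ⋙ Over.forget S).map f) :=
    fun f => isAffineHom_of_isAffine _
  haveI : ∀ j, CompactSpace ((W ⋙ Over.forget S).obj j) := fun j => inferInstance
  haveI : ∀ j, Nonempty ((W ⋙ Over.forget S).obj j) := fun j =>
    inferInstanceAs (Nonempty (Spec (CommRingCat.of (p j).K)))
  exact Scheme.nonempty_of_isLimit (W ⋙ Over.forget S) _ hL'

theorem ptSys_subsingleton (L : Cone (ptSys p hm hr hcomp).functor) (hL : IsLimit L) :
    Subsingleton ↥L.pt.left := by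
  let W := (ptSys p hm hr hcomp).functor
  have hL' := isLimitOfPreserves (Over.forget S) hL
  haveI : ∀ j, IsAffine ((W ⋙ Over.forget S).obj j) := fun j =>
    inferInstanceAs (IsAffine (Spec _))
  haveI : ∀ {j k : I} (f : j ⟶ k), IsAffineHom ((W ⋙ Over.forget S).map f) :=
    fun f => isAffineHom_of_isAffine _
  haveI : ∀ j, Subsingleton ((W ⋙ Over.forget S).obj j) := fun j =>
    inferInstanceAs (Subsingleton (Spec (CommRingCat.of (p j).K)))
  refine ⟨fun x y => ?_⟩
  exact Groth.Agent.H24.ext_point (W ⋙ Over.forget S) _ hL' fun i => Subsingleton.elim _ _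

variable (c : Cone D) (hc : IsLimit c)

omit [IsCofiltered I] in
/-- The point of the limit defined by the system projects to the given points. -/
theorem ptSys_map_ofPt (L : Cone (ptSys p hm hr hcomp).functor) (l : ↥L.pt.left) (i : I) :
    Points.map (c.π.app i) (Points.ofPt ((ptSys p hm hr hcomp).limMap c hc L) l) =
      Points.mk (p i) := by
  rw [Points.map_ofPt, MonoSys.limMap_π, Groth.Agent.H51.ofPt_map_comp]
  exact Points.ofPt_toHom (p i) _

/-- A point of the limit projecting to the given points is the point defined by the system. -/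
theorem eq_ofPt_of_forall_map_eq (L : Cone (ptSys p hm hr hcomp).functor) (hL : IsLimit L)
    (l : ↥L.pt.left) (x : Points c.pt)
    (hx : ∀ i, Points.map (c.π.app i) x = Points.mk (p i)) :
    x = Points.ofPt ((ptSys p hm hr hcomp).limMap c hc L) l := by
  induction x using Points.ind with
  | h q =>
    have h : ∀ j, ∃ m : q.pt ⟶ (ptSys p hm hr hcomp).W j,
        (yon S).map m ≫ (ptSys p hm hr hcomp).a j = q.toHom ≫ c.π.app j := by
      intro j
      obtain ⟨m, hm'⟩ := Groth.Agent.H52.exists_factor_of_mono (p j) (q.map (c.π.app j)) (hm j)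
        (hr j) (hx j)
      exact ⟨m, hm'.trans (FieldPt.toHom_map _ _)⟩
    obtain ⟨n, hn⟩ := (ptSys p hm hr hcomp).exists_lift c hc L hL q.toHom h
    haveI := ptSys_subsingleton p hm hr hcomp L hL
    rw [← Points.ofPt_toHom q (IsLocalRing.closedPoint q.K), ← hn,
      Groth.Agent.H51.ofPt_map_comp]
    congr 1
    exact Subsingleton.elim _ _

end PtSys

section Main

variable [IsCofiltered I] {D : I ⥤ Sp S} (c : Cone D) (hc : IsLimit c)
  (hdec : ∀ i, IsDecent (D.obj i))

include hc hdec in
/-- Every compatible family of points of a cofiltered system of decent sheaves comes from a unique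
point of the limit. -/
theorem exists_unique_point_of_isLimit (s : ∀ i, Points (D.obj i))
    (hs : ∀ (i j : I) (φ : i ⟶ j), Points.map (D.map φ) (s i) = s j) :
    ∃ x : Points c.pt, (∀ i, Points.map (c.π.app i) x = s i) ∧
      ∀ y : Points c.pt, (∀ i, Points.map (c.π.app i) y = s i) → y = x := by
  choose p hp hm hq using fun i => hdec i (s i)
  have hr : ∀ i, Representable (p i).toHom := fun i => (hq i).1
  have hcomp : ∀ (i j : I) (φ : i ⟶ j),
      Points.map (D.map φ) (Points.mk (p i)) = Points.mk (p j) := by
    intro i j φ
    rw [hp, hp, hs]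
  let L := limit.cone (ptSys p hm hr hcomp).functor
  have hL : IsLimit L := limit.isLimit _
  obtain ⟨l⟩ := ptSys_nonempty p hm hr hcomp L hL
  refine ⟨Points.ofPt ((ptSys p hm hr hcomp).limMap c hc L) l, fun i => ?_, fun y hy => ?_⟩
  · rw [ptSys_map_ofPt, hp]
  · exact eq_ofPt_of_forall_map_eq p hm hr hcomp c hc L hL l y fun i => by rw [hy, hp]

end Main

end Groth.Agent.H50
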