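import Groth.Agent.H50.LimAffineMain
import Groth.Agent.H50.LimOpen
import Groth.Agent.H50.LimDescSurj
import Groth.Agent.H50.LimAffineP
import Groth.Agent.H50.PbDiag
import Groth.Agent.H50.ImmFactor
import Groth.Agent.H51.SpSchLocus

set_option autoImplicit false
set_option backward.isDefEq.respectTransparency false
set_option linter.style.haveILetI false
universe u
open CategoryTheory CategoryTheory.Limits AlgebraicGeometry Opposite Topology

namespace Groth.Agent.H50

open AlgSp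

variable {S : Scheme.{u}}

/-- A subsheaf of a quasi-separated sheaf is quasi-separated. -/
theorem isQuasiSeparatedSp_of_mono {X Y : Sp S} (f : X ⟶ Y) [Mono f]
    (hY : IsQuasiSeparatedSp Y) : IsQuasiSeparatedSp X := by
  have : IsIso (pullback.diagonal f) := (pullback.isIso_diagonal_iff f).2 inferInstance
  have hqs : RepWith @QuasiCompact (pullback.diagonal f) :=
    MorphismProperty.of_isIso (RepWith @QuasiCompact) _
  unfold IsQuasiSeparatedSp at hY ⊢
  rw [Groth.Agent.H49.diag_iff_diagonal_terminal (RepWith @QuasiCompact)] at hY ⊢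
  rw [← terminal.comp_from f]
  exact MorphismProperty.comp_mem _ _ _ hqs hY

section

variable {I : Type u} [SmallCategory I] [IsCofiltered I] (D : I ⥤ Sp S)
  (hD : ∀ i, IsAlgSpace (D.obj i))
  (hDa : ∀ (i j : I) (φ : i ⟶ j), IsAffineMor (D.map φ)) (c : Cone D) (hc : IsLimit c)
  [QuasiSeparatedSpace ↥S]

include hD hDa hc in
/-- An affine open subscheme of the limit comes from an affine open subscheme of a stage. -/
theorem exists_affine_open_stage (hqs : ∀ i, IsQuasiSeparatedSp (D.obj i)) (W : Over S)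
    (hW : IsAffine W.left) (j : (yon S).obj W ⟶ c.pt) (hj : RepWith @IsOpenImmersion j) :
    ∃ (i : I) (T' : Over S) (ι : (yon S).obj T' ⟶ D.obj i), IsAffine T'.left ∧
      RepWith @IsOpenImmersion ι ∧
      Set.range (Points.map j) ⊆ Points.map (c.π.app i) ⁻¹' Set.range (Points.map ι) := by
  haveI : CompactSpace ↥W.left := by infer_instance
  have hWqc : IsQuasiCompactSp ((yon S).obj W) := Groth.Agent.H49.isQuasiCompactSp_yon W
  obtain ⟨i₁, U, ι₁, q, hι₁, hUqc, sq⟩ :=
    exists_open_descends_of_isLimit D hD hDa c hc _ j hj hWqc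
  have hUa : IsAlgSpace U := Groth.Agent.H49.isAlgSpace_of_representable_to ι₁ hι₁.rep (hD i₁)
  haveI : Mono ι₁ :=
    Groth.Agent.H49.mono_of_repWith_mono Groth.Agent.H51.isOpenImmersion_le_mono ι₁ hι₁
  have hUqs : IsQuasiSeparatedSp U := isQuasiSeparatedSp_of_mono ι₁ (hqs i₁)
  let G := pbDiagram D i₁ ι₁
  let cG := pbCone D c i₁ ι₁
  have hcG : IsLimit cG := pbConeIsLimit D c i₁ ι₁ hc
  have hGa : ∀ (φ ψ : Over i₁) (f : φ ⟶ ψ), IsAffineMor (G.map f) := fun φ ψ f =>
    isAffineMor_of_isPullback (isPullback_pbDiagram_map D i₁ ι₁ f).flip (hDa _ _ f.left)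
  have hsndA : ∀ φ : Over i₁, IsAffineMor (pullback.snd (D.map φ.hom) ι₁) := fun φ =>
    isAffineMor_of_isPullback (IsPullback.of_hasPullback (D.map φ.hom) ι₁) (hDa _ _ φ.hom)
  have hG : ∀ φ, IsAlgSpace (G.obj φ) := fun φ =>
    Groth.Agent.H49.isAlgSpace_of_isPullback (IsPullback.of_hasPullback (D.map φ.hom) ι₁)
      (hD i₁).diag (hD φ.left) hUa
  have hGqc : ∀ φ, IsQuasiCompactSp (G.obj φ) := fun φ =>
    isQuasiCompactSp_of_isAffineMor _ (hsndA φ) hUa hUqc
  have hGqs : ∀ φ, IsQuasiSeparatedSp (G.obj φ) := fun φ =>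
    isQuasiSeparatedSp_of_isAffineMor _ (hsndA φ) hUqs
  obtain ⟨ψ, T', hT', ⟨e'⟩⟩ :=
    exists_affine_of_limit_affine G hGa cG hcG hG hGqc hGqs W hW sq.isoPullback
  refine ⟨ψ.left, T', e'.hom ≫ pullback.fst (D.map ψ.hom) ι₁, hT', ?_, ?_⟩
  · exact MorphismProperty.RespectsIso.precomp _ _ _
      ((RepWith @IsOpenImmersion).of_isPullback
        (IsPullback.of_hasPullback (D.map ψ.hom) ι₁).flip hι₁)
  · rintro _ ⟨w, rfl⟩
    have h1 : Points.map (D.map ψ.hom) (Points.map (c.π.app ψ.left) (Points.map j w)) =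
        Points.map ι₁ (Points.map q w) := by
      rw [← Points.map_comp, c.w, ← Points.map_comp, sq.w, Points.map_comp]
    obtain ⟨z, hz, -⟩ :=
      points_exists_of_isPullback (IsPullback.of_hasPullback (D.map ψ.hom) ι₁) _ _ h1
    refine ⟨Points.map e'.inv z, ?_⟩
    rw [Points.map_comp, ← Points.map_comp e'.inv, e'.inv_hom_id, Points.map_id]
    exact hz

include hD hDa hc in
/-- If the limit of a cofiltered system of quasi-compact and quasi-separated algebraic spaces with
affine transition maps is a scheme, then so is some member of the system. -/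
theorem exists_isRepresentable_of_isLimit (hqc : ∀ i, IsQuasiCompactSp (D.obj i))
    (hqs : ∀ i, IsQuasiSeparatedSp (D.obj i)) (hX : c.pt.obj.IsRepresentable) :
    ∃ i, (D.obj i).obj.IsRepresentable := by
  classical
  obtain ⟨T, ⟨e⟩⟩ := Groth.Agent.H51.exists_iso_of_isRepresentable hX
  have hXa : IsAlgSpace c.pt := isAlgSpace_of_isLimit D hDa c hc hD
  obtain ⟨i₁⟩ := IsCofiltered.nonempty (C := I)
  have hXqc : IsQuasiCompactSp c.pt :=
    isQuasiCompactSp_of_isAffineMor (c.π.app i₁) (isAffineMor_π_of_isLimit D hDa c hc i₁) (hD i₁)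
      (hqc i₁)
  -- `T` is quasi-compact
  haveI : CompactSpace (Points c.pt) := (Groth.Agent.H51.isQuasiCompactSp_iff hXa).1 hXqc
  have hsurj : Function.Surjective (Points.map e.inv) := fun x =>
    ⟨Points.map e.hom x, by rw [← Points.map_comp, e.hom_inv_id, Points.map_id]⟩
  haveI : CompactSpace (Points ((yon S).obj T)) :=
    hsurj.compactSpace (Points.continuous_map e.inv)
  haveI : CompactSpace ↥T.left := (Points.schemeHomeo T).symm.compactSpace
  obtain ⟨s, hs, hcov⟩ := isCompact_iff_finite_and_eq_biUnion_affineOpens.mp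
    (show IsCompact ((⊤ : T.left.Opens) : Set T.left) from isCompact_univ)
  haveI : Finite ↥s := hs
  haveI := Fintype.ofFinite ↥s
  -- the affine opens of the limit
  let Wκ : ↥s → Over S := fun κ => Groth.Agent.H51.overOpen T κ.1.1
  let jκ : ∀ κ : ↥s, (yon S).obj (Wκ κ) ⟶ c.pt := fun κ =>
    (yon S).map (Groth.Agent.H51.overOpenι T κ.1.1) ≫ e.hom
  have hjκ : ∀ κ, RepWith @IsOpenImmersion (jκ κ) := fun κ =>
    MorphismProperty.RespectsIso.postcomp _ _ _
      ((repWith_yon_map_iff @IsOpenImmersion _).2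
        (inferInstance : IsOpenImmersion (κ.1.1 : T.left.Opens).ι))
  have hWκ : ∀ κ, IsAffine (Wκ κ).left := fun κ => κ.1.2
  have hcovX : ∀ x : Points c.pt, ∃ κ : ↥s, x ∈ Set.range (Points.map (jκ κ)) := by
    intro x
    let t : ↥T.left := (Points.schemeHomeo T).symm (Points.map e.inv x)
    have ht : t ∈ (⊤ : T.left.Opens) := trivial
    rw [hcov] at ht
    simp only [TopologicalSpace.Opens.mem_iSup] at ht
    obtain ⟨V, hVs, htV⟩ := ht
    refine ⟨⟨V, hVs⟩, Points.schemeHomeo (Wκ ⟨V, hVs⟩) ⟨t, htV⟩, ?_⟩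
    change Points.map ((yon S).map (Groth.Agent.H51.overOpenι T V.1) ≫ e.hom) _ = x
    rw [Points.map_comp, Points.map_yon_map_apply]
    have h2 : (Groth.Agent.H51.overOpenι T V.1).left ⟨t, htV⟩ = t := rfl
    rw [h2, Homeomorph.apply_symm_apply, ← Points.map_comp, e.inv_hom_id, Points.map_id]
  -- descend each of them to an affine open of a stage
  choose iκ Tκ ικ hTκ hικ hrκ using fun κ : ↥s =>
    exists_affine_open_stage D hD hDa c hc hqs (Wκ κ) (hWκ κ) (jκ κ) (hjκ κ)
  obtain ⟨i₀, hi₀⟩ := IsCofiltered.inf_objs_exists (Finset.univ.image iκ)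
  have hφ : ∀ κ : ↥s, Nonempty (i₀ ⟶ iκ κ) := fun κ =>
    hi₀ (Finset.mem_image_of_mem _ (Finset.mem_univ κ))
  let φ : ∀ κ : ↥s, i₀ ⟶ iκ κ := fun κ => (hφ κ).some
  -- the union of the opens at the stage `i₀`
  let V : Set (Points (D.obj i₀)) :=
    ⋃ κ : ↥s, Points.map (D.map (φ κ)) ⁻¹' Set.range (Points.map (ικ κ))
  have hro : ∀ κ, IsOpen (Set.range (Points.map (ικ κ))) := fun κ =>
    Groth.Agent.H51.isOpen_range_map_of_isOpenImmersion (ικ κ) (hικ κ)
  have hrc : ∀ κ, IsCompact (Set.range (Points.map (ικ κ))) := fun κ => by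
    haveI : IsAffine (Tκ κ).left := hTκ κ
    haveI : CompactSpace ↥(Tκ κ).left := inferInstance
    haveI : CompactSpace (Points ((yon S).obj (Tκ κ))) :=
      (Points.schemeHomeo (Tκ κ)).compactSpace
    exact isCompact_range (Points.continuous_map _)
  have hVo : IsOpen V := isOpen_iUnion fun κ => (hro κ).preimage (Points.continuous_map _)
  have hVc : IsCompact V := isCompact_iUnion fun κ =>
    Groth.Agent.H49.isCompact_preimage_of_isQuasiCompactMor (hD _) (hD _) (D.map (φ κ))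
      (isQuasiCompactMor_of_isAffineMor _ (hDa _ _ _)) _ (hro κ) (hrc κ)
  have hVtop : ∀ y : Points c.pt, Points.map (c.π.app i₀) y ∈ V := by
    intro y
    obtain ⟨κ, hκ⟩ := hcovX y
    refine Set.mem_iUnion.2 ⟨κ, ?_⟩
    change Points.map (D.map (φ κ)) (Points.map (c.π.app i₀) y) ∈ Set.range (Points.map (ικ κ))
    rw [← Points.map_comp, c.w]
    exact hrκ κ hκ
  -- the open subspace and descent of surjectivity
  let f₀ := Groth.Agent.H51.openSubι (D.obj i₀) V
  have hf₀o : RepWith @IsOpenImmersion f₀ :=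
    Groth.Agent.H51.repWith_isOpenImmersion_openSubι V hVo
  have hrf₀ : Set.range (Points.map f₀) = V := Groth.Agent.H51.range_map_openSubι V
  have hf₀ : LocP @LocallyOfFinitePresentation f₀ :=
    goodClass_lfp.locP_of_repWith_etale _
      (Groth.Agent.H49.repWith_of_le Groth.Agent.H51.isOpenImmersion_le_etale hf₀o)
  have hsurjL : IsSurjectiveMor (pullback.snd f₀ (c.π.app i₀)) := by
    intro y
    have hy := hVtop y
    rw [← hrf₀] at hy
    obtain ⟨u, hu⟩ := hy
    obtain ⟨z, -, hz⟩ :=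
      points_exists_of_isPullback (IsPullback.of_hasPullback f₀ (c.π.app i₀)) u y hu
    exact ⟨z, hz⟩
  obtain ⟨k, μ, hk⟩ := descend_surjective_of_isLimit D hDa c hc i₀ (hD i₀) f₀ (𝟙 _)
    (isQuasiCompactSp_openSubSp (hD i₀) V hVo hVc) (hqc i₀) (hqs i₀)
    (pullback f₀ (c.π.app i₀)) c.pt (pullback.snd f₀ (c.π.app i₀)) (c.π.app i₀) (𝟙 _)
    (IsPullback.of_vert_isIso ⟨by simp⟩) (pullback.fst f₀ (c.π.app i₀))
    (IsPullback.of_hasPullback f₀ (c.π.app i₀)) hsurjL hf₀
  have hsurjk : IsSurjectiveMor (pullback.snd f₀ (D.map μ)) :=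
    hk (pullback f₀ (D.map μ)) (D.obj k) (pullback.snd f₀ (D.map μ)) (D.map μ) (𝟙 _)
      (IsPullback.of_vert_isIso ⟨by simp⟩) (pullback.fst f₀ (D.map μ))
      (IsPullback.of_hasPullback f₀ (D.map μ))
  have hVk : ∀ x : Points (D.obj k), Points.map (D.map μ) x ∈ V := by
    intro x
    obtain ⟨z, rfl⟩ := hsurjk x
    rw [← Points.map_comp, ← pullback.condition, Points.map_comp]
    exact hrf₀.subset ⟨_, rfl⟩
  -- the stage `k` is a scheme
  refine ⟨k, ?_⟩
  obtain ⟨A, a, -, has⟩ := (hD k).atlas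
  obtain ⟨G, ⟨eG⟩⟩ := Groth.Agent.H51.exists_iso_yon_of_forall_point a has (fun u => by
    obtain ⟨κ, hκ⟩ := Set.mem_iUnion.1 (hVk (Points.ofPt a u))
    obtain ⟨u', hu'⟩ := hκ
    have hν : Points.map (D.map (μ ≫ φ κ)) (Points.ofPt a u) = Points.map (ικ κ) u' := by
      rw [D.map_comp, Points.map_comp]
      exact hu'.symm
    obtain ⟨W', r, fst, sqW, -⟩ := hDa _ _ (μ ≫ φ κ) (hTκ κ) (ικ κ)
    refine ⟨W', fst, (RepWith @IsOpenImmersion).of_isPullback sqW.flip (hικ κ), ?_⟩
    obtain ⟨z, hz, -⟩ := points_exists_of_isPullback sqW _ _ hν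
    exact ⟨z, hz⟩)
  exact Groth.Agent.H51.isRepresentable_of_iso eG

end

end Groth.Agent.H50
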