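import Groth.Agent.H50.LimAff

set_option autoImplicit false
set_option backward.isDefEq.respectTransparency false
set_option linter.style.haveILetI false
universe u
open CategoryTheory CategoryTheory.Limits AlgebraicGeometry Opposite Topology

namespace Groth.Agent.H50

open AlgSp

variable {S : Scheme.{u}} {J : Type u} [SmallCategory J] {DX DY : J ⥤ Sp S}

/-- A system of representing objects for the fibre products of a scheme with the members of a
morphism of diagrams of sheaves. -/
structure PbSys (τ : DX ⟶ DY) (Z : Over S) (γ : ∀ j, (yon S).obj Z ⟶ DY.obj j) where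
  /-- the schemes -/
  W : J → Over S
  /-- the structure morphisms -/
  ι : ∀ j, W j ⟶ Z
  /-- the projections -/
  fst : ∀ j, (yon S).obj (W j) ⟶ DX.obj j
  sq : ∀ j, IsPullback (fst j) ((yon S).map (ι j)) (τ.app j) (γ j)

namespace PbSys

variable {τ : DX ⟶ DY} {Z : Over S} {γ : ∀ j, (yon S).obj Z ⟶ DY.obj j} (P : PbSys τ Z γ)
  (hγ : ∀ {i j : J} (φ : i ⟶ j), γ i ≫ DY.map φ = γ j)

include hγ in
theorem comm {j k : J} (φ : j ⟶ k) :
    (P.fst j ≫ DX.map φ) ≫ τ.app k = (yon S).map (P.ι j) ≫ γ k := by
  rw [Category.assoc, τ.naturality, ← Category.assoc, (P.sq j).w, Category.assoc, hγ]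

/-- The transition morphisms. -/
noncomputable def map {j k : J} (φ : j ⟶ k) : P.W j ⟶ P.W k :=
  (yon S).preimage ((P.sq k).lift (P.fst j ≫ DX.map φ) ((yon S).map (P.ι j)) (P.comm hγ φ))

theorem map_fst {j k : J} (φ : j ⟶ k) :
    (yon S).map (P.map hγ φ) ≫ P.fst k = P.fst j ≫ DX.map φ := by
  unfold map
  rw [Functor.map_preimage, IsPullback.lift_fst]

theorem map_ι {j k : J} (φ : j ⟶ k) : P.map hγ φ ≫ P.ι k = P.ι j := by
  apply (yon S).map_injective
  unfold map
  rw [Functor.map_comp, Functor.map_preimage, IsPullback.lift_snd]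

theorem hom_ext {T : Over S} {k : J} (a b : T ⟶ P.W k)
    (h1 : (yon S).map a ≫ P.fst k = (yon S).map b ≫ P.fst k)
    (h2 : a ≫ P.ι k = b ≫ P.ι k) : a = b := by
  apply (yon S).map_injective
  apply (P.sq k).hom_ext h1
  rw [← Functor.map_comp, ← Functor.map_comp, h2]

/-- The system as a functor. -/
noncomputable def functor : J ⥤ Over S where
  obj := P.W
  map φ := P.map hγ φ
  map_id j := by
    apply P.hom_ext
    · rw [map_fst, CategoryTheory.Functor.map_id, Category.comp_id, CategoryTheory.Functor.map_id,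
        Category.id_comp]
    · rw [map_ι, Category.id_comp]
  map_comp φ ψ := by
    apply P.hom_ext
    · rw [map_fst, DX.map_comp, Functor.map_comp, Category.assoc, map_fst, ← Category.assoc,
        ← Category.assoc, map_fst]
    · rw [map_ι, Category.assoc, map_ι, map_ι]

section Limit

variable [IsCofiltered J] (cX : Cone DX) (hcX : IsLimit cX) (cY : Cone DY) (hcY : IsLimit cY)
  (g : cX.pt ⟶ cY.pt) (hg : ∀ i, g ≫ cY.π.app i = cX.π.app i ≫ τ.app i)
  (ζ : (yon S).obj Z ⟶ cY.pt) (hζ : ∀ j, ζ ≫ cY.π.app j = γ j)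

omit [IsCofiltered J] in
theorem hasLimit_of_isAffine [IsConnected J] (hW : ∀ j, IsAffine (P.W j).left) :
    HasLimit (P.functor hγ) :=
  hasLimit_over_of_forall_isAffine _ hW

/-- All the structure morphisms from the limit to `Z` agree. -/
theorem π_ι (L : Cone (P.functor hγ)) (i j : J) :
    L.π.app i ≫ P.ι i = L.π.app j ≫ P.ι j := by
  have h1 : L.π.app (IsCofiltered.min i j) ≫ (P.functor hγ).map (IsCofiltered.minToLeft i j) =
      L.π.app i := L.w _
  have h2 : L.π.app (IsCofiltered.min i j) ≫ (P.functor hγ).map (IsCofiltered.minToRight i j) =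
      L.π.app j := L.w _
  rw [← h1, ← h2, Category.assoc, Category.assoc]
  congr 1
  exact (P.map_ι hγ _).trans (P.map_ι hγ _).symm

omit [IsCofiltered J] in
/-- The cone over `DX` with vertex the limit of the system. -/
noncomputable def cone (L : Cone (P.functor hγ)) : Cone DX where
  pt := (yon S).obj L.pt
  π :=
    { app := fun j => (yon S).map (L.π.app j) ≫ P.fst j
      naturality := by
        intro j k φ
        change 𝟙 _ ≫ _ = (_ ≫ _) ≫ DX.map φ
        rw [Category.id_comp, Category.assoc, ← P.map_fst hγ, ← Category.assoc, ← Functor.map_comp]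
        congr 2
        exact (L.w φ).symm }

omit [IsCofiltered J] in
/-- The projection from the limit of the system to the limit of `DX`. -/
noncomputable def limFst (L : Cone (P.functor hγ)) : (yon S).obj L.pt ⟶ cX.pt :=
  hcX.lift (P.cone hγ L)

omit [IsCofiltered J] in
theorem limFst_π (L : Cone (P.functor hγ)) (j : J) :
    P.limFst hγ cX hcX L ≫ cX.π.app j = (yon S).map (L.π.app j) ≫ P.fst j :=
  hcX.fac (P.cone hγ L) j

include hcY hg hζ in
/-- The limit of the system represents the fibre product of `Z` with the limit. -/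
theorem isPullback_limit (L : Cone (P.functor hγ)) (hL : IsLimit L) (j₀ : J) :
    IsPullback (P.limFst hγ cX hcX L) ((yon S).map (L.π.app j₀ ≫ P.ι j₀)) g ζ := by
  have hw : P.limFst hγ cX hcX L ≫ g = (yon S).map (L.π.app j₀ ≫ P.ι j₀) ≫ ζ := by
    apply hcY.hom_ext
    intro j
    rw [Category.assoc, hg, ← Category.assoc, limFst_π, Category.assoc, (P.sq j).w,
      ← Category.assoc, ← Functor.map_comp, P.π_ι hγ L j j₀, Category.assoc, hζ]
  apply Groth.Agent.H51.isPullback_of_forall_yon hw
  intro T a b hab
  obtain ⟨b, rfl⟩ := (yon S).map_surjective b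
  have hcomm : ∀ j : J, (a ≫ cX.π.app j) ≫ τ.app j = (yon S).map b ≫ γ j := by
    intro j
    rw [Category.assoc, ← hg, ← Category.assoc, hab, Category.assoc, hζ]
  let m : ∀ j : J, T ⟶ P.W j := fun j =>
    (yon S).preimage ((P.sq j).lift (a ≫ cX.π.app j) ((yon S).map b) (hcomm j))
  have hm1 : ∀ j, (yon S).map (m j) ≫ P.fst j = a ≫ cX.π.app j := by
    intro j
    rw [Functor.map_preimage, IsPullback.lift_fst]
  have hm2 : ∀ j, m j ≫ P.ι j = b := by
    intro j
    apply (yon S).map_injective
    rw [Functor.map_comp, Functor.map_preimage, IsPullback.lift_snd]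
  let cT : Cone (P.functor hγ) :=
    { pt := T
      π :=
        { app := m
          naturality := by
            intro j k φ
            change 𝟙 _ ≫ m k = m j ≫ P.map hγ φ
            rw [Category.id_comp]
            apply P.hom_ext
            · rw [hm1, Functor.map_comp, Category.assoc, P.map_fst hγ, ← Category.assoc, hm1,
                Category.assoc, cX.w]
            · rw [hm2, Category.assoc, P.map_ι hγ, hm2] } }
  refine ⟨(yon S).map (hL.lift cT), ⟨?_, ?_⟩, ?_⟩
  · apply hcX.hom_ext
    intro j
    rw [Category.assoc, limFst_π, ← Category.assoc, ← Functor.map_comp, hL.fac]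
    exact hm1 j
  · rw [← Functor.map_comp, ← Category.assoc, hL.fac]
    congr 1
    exact hm2 _
  · rintro p ⟨hp1, hp2⟩
    obtain ⟨p, rfl⟩ := (yon S).map_surjective p
    congr 1
    apply hL.uniq cT
    intro j
    apply P.hom_ext
    · change _ = (yon S).map (m j) ≫ _
      rw [hm1, Functor.map_comp, Category.assoc, ← P.limFst_π hγ cX hcX L j, ← Category.assoc, hp1]
    · change _ = m j ≫ _
      rw [hm2, Category.assoc, P.π_ι hγ L j j₀]
      apply (yon S).map_injective
      rw [← hp2, Functor.map_comp]

end Limit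

end PbSys

end Groth.Agent.H50
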