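import Groth.Agent.H50.LimSysY
import Groth.Agent.H50.LimAffineY

set_option autoImplicit false
set_option backward.isDefEq.respectTransparency false
set_option linter.style.haveILetI false
universe u
open CategoryTheory CategoryTheory.Limits AlgebraicGeometry Opposite Topology

namespace Groth.Agent.H50

open AlgSp

variable {S : Scheme.{u}}

/-- The scheme-level input: for a cofiltered system of affine schemes locally of finite type over
an affine scheme `V` with transition maps in `Pr`, if the limit is `Pri` over `V` then some stage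
is `Pr` over `V`. -/
def SysCore (Pr Pri : MorphismProperty Scheme.{u}) : Prop :=
  ∀ {J : Type u} [SmallCategory J] [IsCofiltered J] {V : Scheme.{u}} [IsAffine V]
    (D' : J ⥤ Scheme.{u}) (t' : D' ⟶ (Functor.const J).obj V) (c' : Cone D') (_ : IsLimit c'),
    (∀ {i j : J} (f : i ⟶ j), Pr (D'.map f)) → (∀ j, IsAffine (D'.obj j)) →
    (∀ j, LocallyOfFiniteType (t'.app j)) → ∀ j₀ : J, Pri (c'.π.app j₀ ≫ t'.app j₀) →
    ∃ j : J, Pr (t'.app j)

section

variable {I : Type u} [SmallCategory I] [IsCofiltered I] (D : I ⥤ Sp S) (c : Cone D)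
  (hc : IsLimit c) [QuasiSeparatedSpace ↥S]

include hc in
theorem eventually_repWith_of_limit_over (Pr Pri : MorphismProperty Scheme.{u})
    [Pr.IsStableUnderBaseChange] [Pr.IsStableUnderComposition] [Pri.IsStableUnderBaseChange]
    [IsZariskiLocalAtTarget Pr] [Pr.DescendsAlong (@Surjective ⊓ @Flat ⊓ @QuasiCompact)]
    (hPra : ∀ {A B : Scheme.{u}} (g : A ⟶ B), Pr g → IsAffineHom g)
    (hcore : SysCore Pr Pri)
    (hD : ∀ i, IsAlgSpace (D.obj i)) {Y : Sp S} (hYa : IsAlgSpace Y)
    (t : D ⟶ (Functor.const I).obj Y)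
    (hDp : ∀ (i j : I) (φ : i ⟶ j), RepWith Pr (D.map φ))
    (g : c.pt ⟶ Y) (hg : ∀ i, c.π.app i ≫ t.app i = g)
    (hqc : ∀ i, IsQuasiCompactSp (D.obj i)) (hqs : ∀ i, IsQuasiSeparatedSp (D.obj i))
    (hYqc : IsQuasiCompactSp Y) (hYqs : IsQuasiSeparatedSp Y)
    (hft : ∀ i, LocP @LocallyOfFiniteType (t.app i)) (hX : RepWith Pri g)
    (hXa : IsAffineMor g) :
    ∃ i₀ : I, ∀ (i : I) (_ : i ⟶ i₀), RepWith Pr (t.app i) := by
  have hDa : ∀ (i j : I) (φ : i ⟶ j), IsAffineMor (D.map φ) := fun i j φ =>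
    isAffineMor_of_repWith_isAffineHom _
      (Groth.Agent.H49.repWith_of_le (fun _ _ k hk => hPra k hk) (hDp i j φ))
  obtain ⟨i₁, h₁⟩ := eventually_isAffineMor_of_limit D hDa c hc hD hYa t g hg hqc hqs hYqc hYqs hXa
  -- restrict to `Over i₁`
  haveI : IsConnected (Over i₁) := IsCofiltered.isConnected _
  let DX : Over i₁ ⥤ Sp S := Over.forget i₁ ⋙ D
  let t' : DX ⟶ (Functor.const (Over i₁)).obj Y :=
    { app := fun j => t.app j.left
      naturality := fun j k φ => t.naturality φ.left }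
  have ht' : ∀ j : Over i₁, IsAffineMor (t'.app j) := fun j => h₁ j.left j.hom
  let cX : Cone DX := c.whisker (Over.forget i₁)
  have hcX : IsLimit cX := isLimitWhiskerOver D i₁ c hc
  obtain ⟨V, v, hV, hv, hvs⟩ :=
    (Groth.Agent.H51.isQuasiCompactSp_iff_exists_affine_atlas).1 hYqc
  let P := sysY DX t' ht' hV v
  have hγ : ∀ {i j : Over i₁} (φ : i ⟶ j), v ≫ ((Functor.const (Over i₁)).obj Y).map φ = v :=
    fun φ => sysY_hγ v φ
  have hW : ∀ j, IsAffine (P.W j).left := sysY_isAffine DX t' ht' hV v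
  haveI := P.hasLimit_of_isAffine hγ hW
  let L := limit.cone (P.functor hγ)
  have hL : IsLimit L := limit.isLimit _
  let j₀ : Over i₁ := Over.mk (𝟙 i₁)
  have sqL : IsPullback (P.limFst hγ cX hcX L) ((yon S).map (L.π.app j₀ ≫ P.ι j₀)) g v :=
    P.isPullback_limit hγ cX hcX (constCone (Over i₁) Y) (isLimitConstCone (Over i₁) Y) g
      (fun j => by
        change g ≫ 𝟙 _ = c.π.app j.left ≫ t.app j.left
        rw [Category.comp_id, hg])
      v (fun j => Category.comp_id _) L hL j₀
  -- the scheme level system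
  let D' : Over i₁ ⥤ Scheme.{u} := P.functor hγ ⋙ Over.forget S
  let tS : D' ⟶ (Functor.const (Over i₁)).obj V.left :=
    { app := fun j => (P.ι j).left
      naturality := fun j k φ => by
        change (P.map hγ φ).left ≫ (P.ι k).left = (P.ι j).left ≫ 𝟙 _
        rw [Category.comp_id, ← Over.comp_left, P.map_ι hγ φ] }
  have hcS := isLimitOfPreserves (Over.forget S) hL
  haveI : IsAffine V.left := hV
  obtain ⟨j, hj⟩ := hcore D' tS ((Over.forget S).mapCone L) hcS
    (fun {j k} φ => (hDp _ _ _).2 _ _ _ (sysY_isPullback_map DX t' ht' hV v φ))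
    hW
    (fun j => hft j.left (P.fst j) v (P.ι j)
      (MorphismProperty.of_isPullback (P.sq j).flip hv) hv (P.sq j).w)
    j₀ (hX.2 v _ _ sqL)
  have hPj : RepWith Pr (t.app j.left) :=
    repWith_of_etale_cover Pr hPra (t.app j.left) v hv hvs (P.fst j) ((yon S).map (P.ι j)) (P.sq j)
      ((repWith_yon_map_iff Pr _).2 hj)
  refine ⟨j.left, fun i φ => ?_⟩
  have hti : D.map φ ≫ t.app j.left = t.app i := by
    have := t.naturality φ
    rw [this]
    exact Category.comp_id _
  rw [← hti]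
  exact (RepWith Pr).comp_mem _ _ (hDp _ _ φ) hPj

end

end Groth.Agent.H50
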