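import Groth.Agent.H50.LimSysY2
import Groth.Agent.H24.LimitFiniteBase
import Groth.Agent.H1.Descent

set_option autoImplicit false
set_option backward.isDefEq.respectTransparency false
set_option linter.style.haveILetI false
universe u
open CategoryTheory CategoryTheory.Limits AlgebraicGeometry Opposite Topology

namespace Groth.Agent.H50

open AlgSp

variable {S : Scheme.{u}}

theorem sysCore_isClosedImmersion : SysCore @IsClosedImmersion.{u} @IsClosedImmersion.{u} := by
  intro J _ _ V _ D' t' c' hc' h1 h2 h3 j₀ h4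
  haveI : ∀ {i j : J} (f : i ⟶ j), IsClosedImmersion (D'.map f) := fun f => h1 f
  haveI : ∀ j, IsAffine (D'.obj j) := h2
  haveI : ∀ j, LocallyOfFiniteType (Groth.Agent.H24.strMap D' t' j) := h3
  haveI : IsClosedImmersion (c'.π.app j₀ ≫ Groth.Agent.H24.strMap D' t' j₀) := h4
  exact Groth.Agent.H24.exists_isClosedImmersion_app D' t' c' hc' j₀

theorem sysCore_isFinite : SysCore @IsFinite.{u} @IsIntegralHom.{u} := by
  intro J _ _ V _ D' t' c' hc' h1 h2 h3 j₀ h4
  haveI : ∀ {i j : J} (f : i ⟶ j), IsFinite (D'.map f) := fun f => h1 f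
  haveI : ∀ j, IsAffine (D'.obj j) := h2
  haveI : ∀ j, LocallyOfFiniteType (Groth.Agent.H24.strMap D' t' j) := h3
  haveI : IsIntegralHom (c'.π.app j₀ ≫ Groth.Agent.H24.strMap D' t' j₀) := h4
  exact Groth.Agent.H24.exists_isFinite_app D' t' c' hc' j₀

section

variable {I : Type u} [SmallCategory I] [IsCofiltered I] (D : I ⥤ Sp S) (c : Cone D)
  (hc : IsLimit c) [QuasiSeparatedSpace ↥S]

include hc in
/-- If the limit of a system over `Y` with closed immersions as transition maps is a closed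
subspace of `Y`, then so are the members of the system from some stage on. -/
theorem eventually_isClosedImmersion_of_limit_over (hD : ∀ i, IsAlgSpace (D.obj i)) {Y : Sp S}
    (hYa : IsAlgSpace Y) (t : D ⟶ (Functor.const I).obj Y)
    (hDc : ∀ (i j : I) (φ : i ⟶ j), RepWith @IsClosedImmersion (D.map φ))
    (g : c.pt ⟶ Y) (hg : ∀ i, c.π.app i ≫ t.app i = g)
    (hqc : ∀ i, IsQuasiCompactSp (D.obj i)) (hqs : ∀ i, IsQuasiSeparatedSp (D.obj i))
    (hYqc : IsQuasiCompactSp Y) (hYqs : IsQuasiSeparatedSp Y)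
    (hft : ∀ i, LocP @LocallyOfFiniteType (t.app i)) (hX : RepWith @IsClosedImmersion g) :
    ∃ i₀ : I, ∀ (i : I) (_ : i ⟶ i₀), RepWith @IsClosedImmersion (t.app i) := by
  have := Groth.Agent.H1.isClosedImmersion_descendsAlong_fpqc.{u}
  exact eventually_repWith_of_limit_over D c hc @IsClosedImmersion @IsClosedImmersion
    (fun g hg => inferInstance) sysCore_isClosedImmersion hD hYa t hDc g hg hqc hqs hYqc hYqs hft
    hX (isAffineMor_of_repWith_isClosedImmersion hX)

include hc in
/-- If the limit of a system over `Y` with finite transition maps is integral over `Y`, then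
the members of the system are finite over `Y` from some stage on. -/
theorem eventually_isFiniteMor_of_limit_over (hD : ∀ i, IsAlgSpace (D.obj i)) {Y : Sp S}
    (hYa : IsAlgSpace Y) (t : D ⟶ (Functor.const I).obj Y)
    (hDf : ∀ (i j : I) (φ : i ⟶ j), IsFiniteMor (D.map φ))
    (g : c.pt ⟶ Y) (hg : ∀ i, c.π.app i ≫ t.app i = g)
    (hqc : ∀ i, IsQuasiCompactSp (D.obj i)) (hqs : ∀ i, IsQuasiSeparatedSp (D.obj i))
    (hYqc : IsQuasiCompactSp Y) (hYqs : IsQuasiSeparatedSp Y)
    (hft : ∀ i, LocP @LocallyOfFiniteType (t.app i)) (hX : IsIntegralMor g) :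
    ∃ i₀ : I, ∀ (i : I) (_ : i ⟶ i₀), IsFiniteMor (t.app i) := by
  have := Groth.Agent.H1.isFinite_descendsAlong_fpqc.{u}
  have hfa : ∀ {A B : Scheme.{u}} (g : A ⟶ B), IsFinite g → IsAffineHom g :=
    fun g hg => inferInstance
  have hia : ∀ {A B : Scheme.{u}} (g : A ⟶ B), IsIntegralHom g → IsAffineHom g :=
    fun g hg => inferInstance
  have hXa : IsAffineMor g := fun Z hZ ζ => by
    obtain ⟨W, i, fst, sq, hW, -⟩ := hX hZ ζ
    exact ⟨W, i, fst, sq, hW⟩
  obtain ⟨i₀, h⟩ := eventually_repWith_of_limit_over D c hc @IsFinite @IsIntegralHom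
    hfa sysCore_isFinite hD hYa t
    (fun i j φ => (Groth.Agent.H51.affine_test_iff_repWith @IsFinite hfa _).1 (hDf i j φ))
    g hg hqc hqs hYqc hYqs hft
    ((Groth.Agent.H51.affine_test_iff_repWith @IsIntegralHom hia _).1 hX) hXa
  exact ⟨i₀, fun i φ => (Groth.Agent.H51.affine_test_iff_repWith @IsFinite hfa _).2 (h i φ)⟩

end

end Groth.Agent.H50
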