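import Groth.Agent.H50.LimAff2
import Groth.Agent.H50.Points
import Groth.Agent.H53.Charts

set_option autoImplicit false
set_option backward.isDefEq.respectTransparency false
set_option linter.style.haveILetI false
universe u
open CategoryTheory CategoryTheory.Limits AlgebraicGeometry Opposite Topology

namespace Groth.Agent.H50

open AlgSp

variable {S : Scheme.{u}}

/-- Through every point of an algebraic space there is an affine etale chart. -/
theorem exists_affine_chart_through_pt {F : Sp S} (hF : IsAlgSpace F) (x : Points F) :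
    ∃ (Z : Over S) (g : (yon S).obj Z ⟶ F) (z : ↥Z.left),
      IsAffine Z.left ∧ RepWith @Etale g ∧ Points.ofPt g z = x := by
  obtain ⟨W₀, c₀, hc₀e, hc₀s⟩ := hF.atlas
  obtain ⟨w₀, hw₀⟩ := Groth.Agent.H51.surjective_ofPt_of_surjective c₀ hc₀s x
  obtain ⟨w, hw⟩ := W₀.left.affineCover.covers w₀
  let W' : Over S := Over.mk (W₀.left.affineCover.f (W₀.left.affineCover.idx w₀) ≫ W₀.hom)
  let ι : W' ⟶ W₀ := Over.homMk (W₀.left.affineCover.f (W₀.left.affineCover.idx w₀)) rfl
  refine ⟨W', (yon S).map ι ≫ c₀, w, ?_, ?_, ?_⟩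
  · change IsAffine (W₀.left.affineCover.X _)
    infer_instance
  · exact Groth.Agent.H53.repWith_etale_map_comp ι
      (by change Etale (W₀.left.affineCover.f _); infer_instance) c₀ hc₀e
  · rw [Groth.Agent.H51.ofPt_map_comp]
    change Points.ofPt c₀ (W₀.left.affineCover.f _ w) = x
    rw [hw, hw₀]

/-- A point of `h_T` over a point of the sheaf through a pullback square, as a point of the
scheme. -/
theorem exists_pt_of_isPullback_ofPt {T U : Over S} {F G : Sp S} {fst : (yon S).obj T ⟶ F}
    {φ : T ⟶ U} {f : F ⟶ G} {g : (yon S).obj U ⟶ G}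
    (sq : IsPullback fst ((yon S).map φ) f g) (x : Points F) (u : ↥U.left)
    (h : Points.map f x = Points.ofPt g u) :
    ∃ t : ↥T.left, Points.ofPt fst t = x ∧ φ.left t = u := by
  rw [Points.ofPt_eq_map_ofScheme] at h
  obtain ⟨l, hl1, hl2⟩ := points_exists_of_isPullback sq x (Points.ofScheme U u) h
  refine ⟨Points.toScheme T l, ?_, ?_⟩
  · rw [Points.ofPt_eq_map_ofScheme, Points.ofScheme_toScheme, hl1]
  · have := congrArg (Points.toScheme U) hl2
    rw [Points.toScheme_ofScheme, ← Points.ofScheme_toScheme T l] at this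
    rw [← this]
    exact (Points.toScheme_ofPt φ _).symm

variable {I : Type u} [SmallCategory I] [IsCofiltered I] (D : I ⥤ Sp S)
  (hD : ∀ i, IsAlgSpace (D.obj i))
  (hDa : ∀ (i j : I) (φ : i ⟶ j), IsAffineMor (D.map φ))

include hD hDa in
/-- The space of points of a cofiltered limit of algebraic spaces with affine transition maps
carries the initial topology for the projections. -/
theorem points_topology_eq_iInf (c : Cone D) (hc : IsLimit c) :
    Points.topologicalSpace c.pt =
      ⨅ i, TopologicalSpace.induced (Points.map (c.π.app i))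
        (Points.topologicalSpace (D.obj i)) := by
  refine le_antisymm
    (le_iInf fun i => continuous_iff_le_induced.1 (Points.continuous_map (c.π.app i))) ?_
  intro U hU
  rw [@isOpen_iff_forall_mem_open]
  intro x hx
  obtain ⟨i₀⟩ := IsCofiltered.nonempty (C := I)
  obtain ⟨Z, g, z, hZ, hg, hz⟩ :=
    exists_affine_chart_through_pt (hD i₀) (Points.map (c.π.app i₀) x)
  haveI : IsConnected (Over i₀) := IsCofiltered.isConnected _
  haveI := affSys_hasLimit D hDa i₀ hZ g
  let W := affSys D hDa i₀ hZ g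
  let L := limit.cone W
  have hL : IsLimit L := limit.isLimit W
  have sqL := affSys_isPullback_limit D hDa i₀ hZ g c hc L hL
  -- the squares over each stage
  have sqJ : ∀ j : Over i₀, IsPullback (affSysLimFst D hDa i₀ hZ g c hc L)
      ((yon S).map (L.π.app j)) (c.π.app j.left) (affSysFst D hDa i₀ hZ g j) := by
    intro j
    refine IsPullback.of_bot ?_ (affSysLimFst_π D hDa i₀ hZ g c hc L j)
      (affSys_isPullback D hDa i₀ hZ g j)
    rw [← Functor.map_comp, affSys_π_ι, c.w]
    exact sqL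
  have hfstJ : ∀ j : Over i₀, RepWith @Etale (affSysFst D hDa i₀ hZ g j) := fun j =>
    MorphismProperty.of_isPullback (affSys_isPullback D hDa i₀ hZ g j).flip hg
  -- a point of the limit chart over `x`
  obtain ⟨l, hl, -⟩ := exists_pt_of_isPullback_ofPt sqL x z hz.symm
  -- the preimage of `U`
  have hU' : IsOpen (Points.ofPt (affSysLimFst D hDa i₀ hZ g c hc L) ⁻¹' U) :=
    (Points.continuous_ofPt _).isOpen_preimage U hU
  have hlU : l ∈ Points.ofPt (affSysLimFst D hDa i₀ hZ g c hc L) ⁻¹' U := by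
    change Points.ofPt _ l ∈ U
    rw [hl]; exact hx
  have hL' := isLimitOfPreserves (Over.forget S) hL
  haveI : ∀ j, IsAffine ((W ⋙ Over.forget S).obj j) := affSys_isAffine D hDa i₀ hZ g
  haveI : ∀ {j k : Over i₀} (f : j ⟶ k), IsAffineHom ((W ⋙ Over.forget S).map f) :=
    fun f => isAffineHom_of_isAffine _
  obtain ⟨_, ⟨_, ⟨j, V', -, rfl⟩, rfl⟩, hlV, hVU⟩ :=
    (isBasis_preimage_isAffineOpen (W ⋙ Over.forget S) _ hL').exists_subset_of_mem_open hlU hU'
  let V₀ : Set ↥(affSysObj D hDa i₀ hZ g j).left := V'.carrier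
  have hV₀ : IsOpen V₀ := V'.2
  have hopen : IsOpen (Points.ofPt (affSysFst D hDa i₀ hZ g j) '' V₀) :=
    Groth.Agent.H51.isOpenMap_ofPt_of_etale _ (hfstJ j) V₀ hV₀
  refine ⟨Points.map (c.π.app j.left) ⁻¹' (Points.ofPt (affSysFst D hDa i₀ hZ g j) '' V₀),
    ?_, ?_, ?_⟩
  · rintro y ⟨w, hw, hwy⟩
    obtain ⟨l₂, hl₂, hl₂w⟩ := exists_pt_of_isPullback_ofPt (sqJ j) y w hwy.symm
    rw [← hl₂]
    apply hVU
    rw [← hl₂w] at hw
    exact hw
  · exact IsOpen.mono (t₂ := TopologicalSpace.induced (Points.map (c.π.app j.left))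
      (Points.topologicalSpace (D.obj j.left))) ⟨_, hopen, rfl⟩ (iInf_le _ j.left)
  · refine ⟨(L.π.app j).left l, hlV, ?_⟩
    have h4 : Points.ofPt ((yon S).map (L.π.app j) ≫ affSysFst D hDa i₀ hZ g j) l =
        Points.ofPt (affSysFst D hDa i₀ hZ g j) ((L.π.app j).left l) :=
      Groth.Agent.H51.ofPt_map_comp _ _ _
    rw [← affSysLimFst_π] at h4
    exact h4.symm.trans (by rw [← Points.map_ofPt, hl])

end Groth.Agent.H50
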