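import Groth.Prelude.Def_CurvBase
import Mathlib.AlgebraicGeometry.Morphisms.Affine
import Mathlib.AlgebraicGeometry.IdealSheaf.Basic

set_option autoImplicit false
set_option backward.isDefEq.respectTransparency false
universe u
open CategoryTheory CategoryTheory.Limits AlgebraicGeometry TopologicalSpace

namespace Groth.Agent.H50

/-- The open complement of a locally principal closed subscheme is an affine open immersion. -/
theorem isAffineHom_compl_of_isLocPrincipal {S : Scheme.{u}} (D : S.IdealSheafData)
    (hD : Curv2.IsLocPrincipal D) : IsAffineHom (Scheme.Opens.ι (X := S) D.support.compl) := by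
  set W : S.Opens := D.support.compl with hW
  have key : ∀ (U : S.affineOpens) (f : Γ(S, U.1)), D.ideal U = Ideal.span {f} →
      W ⊓ U.1 = S.basicOpen f := by
    intro U f hf
    ext x
    simp only [Opens.coe_inf, Set.mem_inter_iff, SetLike.mem_coe]
    constructor
    · rintro ⟨hxW, hxU⟩
      have h1 : x ∉ D.support := hxW
      rw [Scheme.IdealSheafData.mem_support_iff_of_mem hxU, hf, Scheme.zeroLocus_span,
        Scheme.zeroLocus_singleton] at h1
      simpa using h1
    · intro hx
      have hxU : x ∈ U.1 := S.basicOpen_le f hx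
      refine ⟨?_, hxU⟩
      change x ∉ D.support
      rw [Scheme.IdealSheafData.mem_support_iff_of_mem hxU, hf, Scheme.zeroLocus_span,
        Scheme.zeroLocus_singleton]
      simpa using hx
  have himg : ∀ U : S.Opens, W.ι ''ᵁ (W.ι ⁻¹ᵁ U) = W ⊓ U := by
    intro U
    rw [Scheme.Hom.image_preimage_eq_opensRange_inf, Scheme.Opens.opensRange_ι]
  apply isAffineHom_of_forall_exists_isAffineOpen
  intro x
  by_cases hx : x ∈ D.support
  · obtain ⟨U, hxU, f, hf⟩ := hD x hx
    have hU : IsAffineOpen U.1 := U.2
    refine ⟨U.1, hxU, hU, ?_⟩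
    rw [← W.ι.isAffineOpen_iff_of_isOpenImmersion, himg, key U f hf]
    exact hU.basicOpen f
  · have hxW : x ∈ W := hx
    obtain ⟨U, hU, hxU, hUW⟩ := S.isBasis_affineOpens.exists_subset_of_mem_open hxW W.isOpen
    obtain ⟨U', hU'a, rfl⟩ := hU
    refine ⟨U', hxU, hU'a, ?_⟩
    have hle : U' ≤ W := hUW
    rw [← W.ι.isAffineOpen_iff_of_isOpenImmersion, himg, inf_eq_right.2 hle]
    exact hU'a

end Groth.Agent.H50
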