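import Groth.Agent.H50.EffCartierCompl
import Groth.Agent.H50.LocPrincipalCompl
import Groth.Prelude.Def_W4stk3spdivLocPr

set_option autoImplicit false
set_option backward.isDefEq.respectTransparency false
universe u
open CategoryTheory CategoryTheory.Limits AlgebraicGeometry Opposite Topology

namespace Groth.Agent.H50

open AlgSp

variable {S : Scheme.{u}}

/-- The complement of a locally principal closed subspace of an algebraic space is an affine
morphism. -/
theorem isAffineMor_compl_of_isLocPrincipalSub {X Z U : Sp S} (i : Z ⟶ X)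
    (hZ : IsLocPrincipalSub i) (j : U ⟶ X) (hj : RepWith @IsOpenImmersion j)
    (hU : Set.range (Points.map j) = (Set.range (Points.map i))ᶜ) :
    IsAffineMor j := by
  obtain ⟨hi, V, φ, I, fst₀, hφ1, hφ2, sq₀, hI⟩ := hZ
  obtain ⟨W, fstW, sqW, hW⟩ := exists_opens_isPullback j hj V φ
  have hWI : W = I.support.compl := by
    apply TopologicalSpace.Opens.ext
    rw [hW, hU, Set.preimage_compl, preimage_range_points_of_isPullback i φ _ _ sq₀]
    change (Set.range I.subschemeι)ᶜ = (I.support : Set V.left)ᶜ
    rw [Scheme.IdealSheafData.range_subschemeι]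
  have haff := isAffineHom_compl_of_isLocPrincipal I hI
  rw [← hWI] at haff
  have := Groth.Agent.H1.isAffineHom_descendsAlong_fpqc.{u}
  have hrep : RepWith @IsAffineHom j :=
    Groth.Agent.H52.repWith_of_atlas @IsAffineHom j hj.rep φ hφ1 hφ2 fstW _ sqW haff
  intro T hT g
  have sqT := hrep.rep.isPullback g
  have haffT : IsAffineHom (hrep.rep.snd g).left := hrep.property_snd g
  refine ⟨hrep.rep.pullback g, hrep.rep.snd g, hrep.rep.fst g, sqT, ?_⟩
  have : IsAffine T.left := hT
  exact isAffine_of_isAffineHom (hrep.rep.snd g).left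

end Groth.Agent.H50
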