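import Groth.Agent.H50.LqfFibre

set_option autoImplicit false
set_option backward.isDefEq.respectTransparency false
universe u
open CategoryTheory CategoryTheory.Limits AlgebraicGeometry Opposite Topology

namespace Groth.Agent.H50

open AlgSp

variable {S : Scheme.{u}}

/-- A scheme locally quasi-finite over the spectrum of a field has the discrete topology. -/
theorem discreteTopology_of_lqf_field {W : Scheme.{u}} (k : Type u) [Field k]
    (f : W ⟶ Spec (CommRingCat.of k)) [LocallyQuasiFinite f] : DiscreteTopology ↥W := by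
  have h := f.isDiscrete_preimage_singleton (IsLocalRing.closedPoint k)
  have huniv : f ⁻¹' {IsLocalRing.closedPoint k} = Set.univ := by
    ext w
    simp only [Set.mem_preimage, Set.mem_singleton_iff, Set.mem_univ, iff_true]
    exact Subsingleton.elim _ _
  rw [huniv] at h
  exact isDiscrete_univ_iff.mp h

/-- The fibres of a locally quasi-finite morphism of algebraic spaces over field-valued points
have discrete spaces of points. -/
theorem discrete_fibre_of_locP_lqf {X Y : Sp S} (hX : IsAlgSpace X) (hY : IsAlgSpace Y)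
    (f : X ⟶ Y) (hlqf : LocP (@LocallyQuasiFinite ⊓ @LocallyOfFiniteType) f)
    (k : Type u) [Field k] (str : Spec (CommRingCat.of k) ⟶ S)
    (y : (yon S).obj (Over.mk str) ⟶ Y) (P : Sp S) (fst : P ⟶ X)
    (snd : P ⟶ (yon S).obj (Over.mk str)) (sq : IsPullback fst snd f y) :
    DiscreteTopology (Points P) := by
  have hV : IsAlgSpace ((yon S).obj (Over.mk str)) := IsAlgSpace.yon_obj _
  have hP : IsAlgSpace P := Groth.Agent.H49.isAlgSpace_of_isPullback sq hY.diag hX hV
  have hsnd : LocP (@LocallyQuasiFinite ⊓ @LocallyOfFiniteType) snd :=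
    goodClass_lqf.locP_of_isPullback hX hY hV f y fst snd sq hlqf
  obtain ⟨W, c, hc1, hc2⟩ := hP.atlas
  obtain ⟨g, hg⟩ := (yon S).map_surjective (c ≫ snd)
  have hgl : (@LocallyQuasiFinite ⊓ @LocallyOfFiniteType) g.left :=
    hsnd c (𝟙 _) g hc1 (repWith_id _ _) (by rw [Category.comp_id, hg])
  have hgq : LocallyQuasiFinite (g.left : W.left ⟶ Spec (CommRingCat.of k)) := hgl.1
  have hW : DiscreteTopology ↥W.left := discreteTopology_of_lqf_field k g.left
  rw [discreteTopology_iff_isOpen_singleton]
  intro p
  obtain ⟨u, rfl⟩ := Groth.Agent.H53.exists_ofPt_eq_of_repWith_surjective c hc2 p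
  have := Groth.Agent.H51.isOpenMap_ofPt_of_etale c hc1 {u} (isOpen_discrete _)
  rwa [Set.image_singleton] at this

/-- A morphism locally of finite type between algebraic spaces, all of whose fibres over
field-valued points have discrete spaces of points, is locally quasi-finite. -/
theorem locP_lqf_of_discrete_fibres {X Y : Sp S} (hX : IsAlgSpace X) (hY : IsAlgSpace Y)
    (f : X ⟶ Y) (hf : LocP @LocallyOfFiniteType f)
    (H : ∀ (k : Type u) [Field k] (str : Spec (CommRingCat.of k) ⟶ S)
      (y : (yon S).obj (Over.mk str) ⟶ Y) (P : Sp S) (fst : P ⟶ X)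
      (snd : P ⟶ (yon S).obj (Over.mk str)),
      IsPullback fst snd f y → DiscreteTopology (Points P)) :
    LocP (@LocallyQuasiFinite ⊓ @LocallyOfFiniteType) f := by
  obtain ⟨V, b, hb1, hb2⟩ := hY.atlas
  have sqV := IsPullback.of_hasPullback f b
  have hXV : IsAlgSpace (pullback f b) :=
    Groth.Agent.H49.isAlgSpace_of_isPullback sqV hY.diag hX (IsAlgSpace.yon_obj V)
  obtain ⟨U, c, hc1, hc2⟩ := hXV.atlas
  have hfst1 : RepWith @Etale (pullback.fst f b) := MorphismProperty.of_isPullback sqV.flip hb1
  have hfst2 : RepWith @Surjective (pullback.fst f b) :=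
    MorphismProperty.of_isPullback sqV.flip hb2
  have ha1 : RepWith @Etale (c ≫ pullback.fst f b) := (RepWith @Etale).comp_mem _ _ hc1 hfst1
  have ha2 : RepWith @Surjective (c ≫ pullback.fst f b) :=
    (RepWith @Surjective).comp_mem _ _ hc2 hfst2
  obtain ⟨h, hh⟩ := (yon S).map_surjective (c ≫ pullback.snd f b)
  have comm : (c ≫ pullback.fst f b) ≫ f = (yon S).map h ≫ b := by
    rw [Category.assoc, pullback.condition, ← Category.assoc, hh]
  have hlft : LocallyOfFiniteType h.left := hf _ b h ha1 hb1 comm
  refine goodClass_lqf.locP_of_one_chart f _ b h ha1 ha2 hb1 comm ⟨?_, hlft⟩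
  rw [locallyQuasiFinite_iff_isDiscrete_preimage_singleton]
  intro v
  -- the fibre over `v`
  let ιv := V.left.fromSpecResidueField v
  let σ : Spec (CommRingCat.of (V.left.residueField v)) ⟶ S := ιv ≫ V.hom
  let yv : Over.mk σ ⟶ V := Over.homMk ιv rfl
  let W : Over S := Over.mk (h.left.fiberι v ≫ U.hom)
  let p : W ⟶ U := Over.homMk (h.left.fiberι v) rfl
  let q : W ⟶ Over.mk σ := Over.homMk (h.left.fiberToSpecResidueField v) (by
    change h.left.fiberToSpecResidueField v ≫ ιv ≫ V.hom = h.left.fiberι v ≫ U.hom
    rw [← Category.assoc, ← Scheme.Hom.fiber_fac, Category.assoc, Over.w h])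
  have sqW : IsPullback p q h yv := by
    refine IsPullback.of_map (Over.forget S) ?_ ?_
    · ext
      exact Scheme.Hom.fiber_fac h.left v
    · exact IsPullback.of_hasPullback h.left ιv
  have sqW' : IsPullback ((yon S).map p) ((yon S).map q) ((yon S).map h) ((yon S).map yv) :=
    sqW.map (yon S)
  have sqP := IsPullback.of_hasPullback (pullback.snd f b) ((yon S).map yv)
  have big : IsPullback (pullback.fst (pullback.snd f b) ((yon S).map yv) ≫ pullback.fst f b)
      (pullback.snd (pullback.snd f b) ((yon S).map yv)) f ((yon S).map yv ≫ b) :=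
    IsPullback.paste_horiz sqP sqV
  have hPdisc : DiscreteTopology (Points (pullback (pullback.snd f b) ((yon S).map yv))) :=
    H (V.left.residueField v) σ ((yon S).map yv ≫ b) _ _ _ big
  have comm' : ((yon S).map p ≫ c) ≫ pullback.snd f b = (yon S).map q ≫ (yon S).map yv := by
    rw [Category.assoc, ← hh]; exact sqW'.w
  let e : (yon S).obj W ⟶ pullback (pullback.snd f b) ((yon S).map yv) :=
    pullback.lift ((yon S).map p ≫ c) ((yon S).map q) comm'
  have he_fst : e ≫ pullback.fst _ _ = (yon S).map p ≫ c := pullback.lift_fst _ _ _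
  have he_snd : e ≫ pullback.snd _ _ = (yon S).map q := pullback.lift_snd _ _ _
  have sqe : IsPullback e ((yon S).map p) (pullback.fst _ _) c := by
    refine IsPullback.of_right ?_ he_fst sqP.flip
    rw [he_snd, ← hh]
    exact sqW'.flip
  have he : RepWith @Etale e := MorphismProperty.of_isPullback sqe.flip hc1
  have hqlft : LocallyOfFiniteType q.left := by
    change LocallyOfFiniteType (pullback.snd h.left ιv)
    infer_instance
  have hdisc : DiscreteTopology ↥W.left :=
    discreteTopology_of_etale_chart_of_discrete (V.left.residueField v) σ (pullback.snd _ _) e he q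
      he_snd.symm hqlft hPdisc
  have hdisc' : DiscreteTopology ↥(h.left.fiber v) := hdisc
  rw [isDiscrete_iff_discreteTopology]
  exact (h.left.fiberHomeo v).symm.isEmbedding.discreteTopology

end Groth.Agent.H50
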