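import Groth.Agent.H50.FinPt
import Groth.Agent.H50.FTPoint2

set_option autoImplicit false
set_option backward.isDefEq.respectTransparency false
universe u
open CategoryTheory CategoryTheory.Limits AlgebraicGeometry Opposite Topology

namespace Groth.Agent.H50

open AlgSp

variable {S : Scheme.{u}}

/-- Let `W` be a scheme locally of finite type over a field `κ`, étale over a sheaf `P` over `κ`,
such that all points of `W` have the same image in `|P|`. Then `W` is discrete. -/
theorem discreteTopology_of_etale_chart_of_one_point {P : Sp S} (κ : Type u) [Field κ]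
    (σ : Spec (CommRingCat.of κ) ⟶ S) (π : P ⟶ (yon S).obj (Over.mk σ)) {W : Over S}
    (e : (yon S).obj W ⟶ P) (he : RepWith @Etale e) (g' : W ⟶ Over.mk σ)
    (hg' : (yon S).map g' = e ≫ π) (hlft : LocallyOfFiniteType g'.left)
    (hone : ∀ w w' : W.left, Points.ofPt e w = Points.ofPt e w') : DiscreteTopology ↥W.left := by
  by_cases hne : Nonempty ↥W.left
  swap
  · have : IsEmpty ↥W.left := not_nonempty_iff.mp hne
    exact Subsingleton.discreteTopology
  have hg : LocallyOfFiniteType (g'.left : W.left ⟶ Spec (CommRingCat.of κ)) := hlft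
  obtain ⟨w₀, hw₀⟩ := exists_finPt (g'.left : W.left ⟶ Spec (CommRingCat.of κ))
  obtain ⟨R, s, t, sq⟩ := Groth.Agent.H53.exists_pullback_yon e e he.rep
  have ht : Etale t.left := Groth.Agent.H53.prop_of_isPullback_yon sq.flip he
  have htq : LocallyQuasiFinite t.left := locallyQuasiFinite_of_etale t.left
  have hst : s ≫ g' = t ≫ g' := by
    apply (yon S).map_injective
    rw [Functor.map_comp, Functor.map_comp, hg', ← Category.assoc, sq.w, Category.assoc]
  have hst' : s.left ≫ (g'.left : W.left ⟶ Spec (CommRingCat.of κ)) = t.left ≫ g'.left :=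
    congrArg CommaMorphism.left hst
  refine discreteTopology_of_forall_finPt (g'.left : W.left ⟶ Spec (CommRingCat.of κ)) fun w => ?_
  have h1 := hone w w₀
  rw [Points.ofPt_eq_map_ofScheme, Points.ofPt_eq_map_ofScheme e] at h1
  obtain ⟨z, hz1, hz2⟩ := Groth.Agent.H53.exists_point_of_isPullback sq _ _ h1
  obtain ⟨r, rfl⟩ := (Points.schemeEquiv R).surjective z
  have e1 : Points.map ((yon S).map s) (Points.ofScheme R r) = Points.ofScheme W (s.left r) :=
    Points.map_yon_map_apply s r
  have e2 : Points.map ((yon S).map t) (Points.ofScheme R r) = Points.ofScheme W (t.left r) :=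
    Points.map_yon_map_apply t r
  have hs : s.left r = w := (Points.schemeEquiv W).injective (e1.symm.trans hz1)
  have ht' : t.left r = w₀ := (Points.schemeEquiv W).injective (e2.symm.trans hz2)
  rw [← hs]
  exact FinPt.of_rel _ s.left t.left hst' r (by rw [ht']; exact hw₀)

/-- Let `W` be a scheme locally of finite type over a field `κ`, étale over a sheaf `P` over `κ`
whose space of points is discrete. Then `W` is discrete. -/
theorem discreteTopology_of_etale_chart_of_discrete {P : Sp S} (κ : Type u) [Field κ]
    (σ : Spec (CommRingCat.of κ) ⟶ S) (π : P ⟶ (yon S).obj (Over.mk σ)) {W : Over S}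
    (e : (yon S).obj W ⟶ P) (he : RepWith @Etale e) (g' : W ⟶ Over.mk σ)
    (hg' : (yon S).map g' = e ≫ π) (hlft : LocallyOfFiniteType g'.left)
    (hP : DiscreteTopology (Points P)) : DiscreteTopology ↥W.left := by
  rw [discreteTopology_iff_isOpen_singleton]
  intro w
  have hO : IsOpen (Points.ofPt e ⁻¹' {Points.ofPt e w}) :=
    (isOpen_discrete _).preimage (Points.continuous_ofPt e)
  let O' : W.left.Opens := ⟨_, hO⟩
  have hlft' : LocallyOfFiniteType (Groth.Agent.H51.overOpenι W O' ≫ g').left := by
    have : LocallyOfFiniteType g'.left := hlft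
    change LocallyOfFiniteType (O'.ι ≫ g'.left)
    infer_instance
  have hdisc : DiscreteTopology ↥(Groth.Agent.H51.overOpen W O').left :=
    discreteTopology_of_etale_chart_of_one_point κ σ π
      ((yon S).map (Groth.Agent.H51.overOpenι W O') ≫ e)
      (Groth.Agent.H51.repWith_etale_restrict e he O') (Groth.Agent.H51.overOpenι W O' ≫ g')
      (by rw [Functor.map_comp, hg', Category.assoc]) hlft'
      (by
        intro w₁ w₂
        rw [Groth.Agent.H51.ofPt_restrict, Groth.Agent.H51.ofPt_restrict]
        exact w₁.2.trans w₂.2.symm)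
  have hw : w ∈ O' := rfl
  have hdisc' : DiscreteTopology ↥O' := hdisc
  have h1 : IsOpen ({⟨w, hw⟩} : Set ↥O') := isOpen_discrete _
  have h2 := O'.2.isOpenMap_subtype_val _ h1
  simpa using h2

end Groth.Agent.H50
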