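import Groth.Agent.H50.UnivInjRing
import Groth.Agent.H50.Mor
import Groth.Agent.H52.Epi
import Mathlib.AlgebraicGeometry.Morphisms.Flat
import Mathlib.AlgebraicGeometry.Morphisms.Etale

set_option autoImplicit false
set_option backward.isDefEq.respectTransparency false
universe u
open CategoryTheory CategoryTheory.Limits AlgebraicGeometry Opposite Topology
open scoped TensorProduct

namespace Groth.Agent.H50

open AlgSp

variable {S : Scheme.{u}}

/-- A flat surjective morphism of schemes is injective on global sections. -/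
theorem injective_appTop_of_flat_of_surjective {X Y : Scheme.{u}} (f : X ⟶ Y) [Flat f]
    [Surjective f] : Function.Injective f.appTop.hom := by
  have h1 : Epi f := Flat.epi_of_flat_of_surjective f
  have h2 : Epi (Scheme.Γ.rightOp.map f) := by
    have := ΓSpec.adjunction.isLeftAdjoint
    infer_instance
  have h3 : Mono (Scheme.Γ.map f.op) := by
    have : Mono (Scheme.Γ.rightOp.map f).unop := unop_mono_of_epi _
    exact this
  exact (ConcreteCategory.mono_iff_injective_of_preservesPullback (Scheme.Γ.map f.op)).1 h3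


section chart

variable (A B : Type u) [CommRing A] [CommRing B] [Algebra A B]
  (s : Spec (CommRingCat.of A) ⟶ S)

/-- `Spec A` over `S`. -/
noncomputable abbrev specT : Over S := Over.mk s

/-- `Spec B` over `S`, through `Spec A`. -/
noncomputable abbrev specU : Over S := Over.mk (Spec.map (CommRingCat.ofHom (algebraMap A B)) ≫ s)

/-- `Spec B ⟶ Spec A` over `S`. -/
noncomputable abbrev specQ : specU A B s ⟶ specT A s :=
  Over.homMk (Spec.map (CommRingCat.ofHom (algebraMap A B))) rfl

/-- The hypothesis "universally injective on functions" for a morphism `snd : P ⟶ h_T`. -/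
def UnivInjFun {P : Sp S} {T : Over S} (snd : P ⟶ (yon S).obj T) : Prop :=
  ∀ (T' : Over S) (c : T' ⟶ T) (P' : Sp S) (fst' : P' ⟶ P) (snd' : P' ⟶ (yon S).obj T'),
    IsPullback fst' snd' snd ((yon S).map c) → ∀ t : Γ(T'.left, ⊤),
      (∀ (W : Over S) (a : (yon S).obj W ⟶ P') (c' : W ⟶ T'),
        a ≫ snd' = (yon S).map c' → c'.left.appTop t = 0) → t = 0

variable {A B s}

theorem injective_includeLeft_of_univInjFun {P : Sp S} (snd : P ⟶ (yon S).obj (specT A s))
    (p : (yon S).obj (specU A B s) ⟶ P) (hp1 : RepWith @Etale p) (hp2 : RepWith @Surjective p)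
    (hp : p ≫ snd = (yon S).map (specQ A B s)) (hinj : UnivInjFun snd)
    (A' : Type u) [CommRing A'] [Algebra A A'] :
    Function.Injective (Algebra.TensorProduct.includeLeft : A' →ₐ[A] A' ⊗[A] B) := by
  rw [injective_iff_map_eq_zero]
  intro a' ha'
  -- the schemes
  let T' : Over S := Over.mk (Spec.map (CommRingCat.ofHom (algebraMap A A')) ≫ s)
  let c : T' ⟶ specT A s := Over.homMk (Spec.map (CommRingCat.ofHom (algebraMap A A'))) rfl
  let iL : CommRingCat.of A' ⟶ CommRingCat.of (A' ⊗[A] B) :=
    CommRingCat.ofHom Algebra.TensorProduct.includeLeftRingHom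
  let iR : CommRingCat.of B ⟶ CommRingCat.of (A' ⊗[A] B) :=
    CommRingCat.ofHom (Algebra.TensorProduct.includeRight (R := A) (A := A') (B := B)).toRingHom
  have hpo := CommRingCat.isPushout_tensorProduct A A' B
  have sqSch : IsPullback (Spec.map iL) (Spec.map iR)
      (Spec.map (CommRingCat.ofHom (algebraMap A A'))) (Spec.map (CommRingCat.ofHom (algebraMap A B))) :=
    isPullback_SpecMap_of_isPushout _ _ _ _ hpo
  let U' : Over S := Over.mk (Spec.map iL ≫ T'.hom)
  let u₂ : U' ⟶ T' := Over.homMk (Spec.map iL) rfl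
  let u₁ : U' ⟶ specU A B s := Over.homMk (Spec.map iR) (by
    change Spec.map iR ≫ Spec.map (CommRingCat.ofHom (algebraMap A B)) ≫ s =
      Spec.map iL ≫ Spec.map (CommRingCat.ofHom (algebraMap A A')) ≫ s
    rw [← Category.assoc, ← Category.assoc, sqSch.w])
  have sqS : IsPullback u₂ u₁ c (specQ A B s) := by
    refine IsPullback.of_map (Over.forget S) ?_ sqSch
    ext
    exact sqSch.w
  -- the pullback of `snd` along `c`
  let P' : Sp S := pullback snd ((yon S).map c)
  let fst' : P' ⟶ P := pullback.fst _ _
  let snd' : P' ⟶ (yon S).obj T' := pullback.snd _ _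
  have sqP : IsPullback fst' snd' snd ((yon S).map c) := IsPullback.of_hasPullback _ _
  let p'' : (yon S).obj U' ⟶ P' := pullback.lift ((yon S).map u₁ ≫ p) ((yon S).map u₂) (by
    rw [Category.assoc, hp, ← Functor.map_comp, ← Functor.map_comp, sqS.w])
  have hp''1 : p'' ≫ fst' = (yon S).map u₁ ≫ p := pullback.lift_fst _ _ _
  have hp''2 : p'' ≫ snd' = (yon S).map u₂ := pullback.lift_snd _ _ _
  have outer : IsPullback (p'' ≫ snd') ((yon S).map u₁) ((yon S).map c) (p ≫ snd) := by
    rw [hp''2, hp]
    exact sqS.map (yon S)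
  have leftsq : IsPullback p'' ((yon S).map u₁) fst' p := IsPullback.of_right outer hp''1 sqP.flip
  have hp''e : RepWith @Etale p'' := MorphismProperty.of_isPullback leftsq.flip hp1
  have hp''s : RepWith @Surjective p'' := MorphismProperty.of_isPullback leftsq.flip hp2
  -- the section
  let t : Γ(T'.left, ⊤) := (Scheme.ΓSpecIso (CommRingCat.of A')).inv.hom a'
  have ht : t = 0 := by
    refine hinj T' c P' fst' snd' sqP t ?_
    intro W a c' hac
    have sqW := hp''e.rep.isPullback a
    have he1 : Etale (hp''e.rep.snd a).left := hp''e.property _ _ _ sqW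
    have he2 : Surjective (hp''e.rep.snd a).left := hp''s.property _ _ _ sqW
    obtain ⟨k, hk⟩ := (yon S).map_surjective (hp''e.rep.fst a)
    have hcomm : hp''e.rep.snd a ≫ c' = k ≫ u₂ := by
      apply (yon S).map_injective
      rw [Functor.map_comp, Functor.map_comp, ← hac, ← Category.assoc, ← sqW.w, hk, Category.assoc,
        hp''2]
    have hcomm' : (hp''e.rep.snd a).left ≫ c'.left = k.left ≫ Spec.map iL :=
      congrArg CommaMorphism.left hcomm
    have h0 : (Spec.map iL).appTop.hom t = 0 := by
      have hnat := Scheme.ΓSpecIso_inv_naturality iL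
      have : (Spec.map iL).appTop.hom t = (Scheme.ΓSpecIso (CommRingCat.of (A' ⊗[A] B))).inv.hom
          (iL.hom a') := by
        change ((Scheme.ΓSpecIso (CommRingCat.of A')).inv ≫ (Spec.map iL).appTop).hom a' = _
        rw [← hnat]
        rfl
      rw [this]
      have : iL.hom a' = 0 := ha'
      rw [this, map_zero]
    have h1 : (hp''e.rep.snd a).left.appTop.hom (c'.left.appTop.hom t) = 0 := by
      change ((c'.left.appTop) ≫ (hp''e.rep.snd a).left.appTop).hom t = 0
      rw [← Scheme.Hom.comp_appTop, hcomm', Scheme.Hom.comp_appTop]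
      change k.left.appTop.hom ((Spec.map iL).appTop.hom t) = 0
      rw [h0, map_zero]
    have : Flat (hp''e.rep.snd a).left := inferInstance
    exact injective_appTop_of_flat_of_surjective (hp''e.rep.snd a).left (by rw [h1, map_zero])
  have := congrArg (Scheme.ΓSpecIso (CommRingCat.of A')).hom.hom ht
  rw [map_zero] at this
  rw [← this]
  change a' = ((Scheme.ΓSpecIso (CommRingCat.of A')).inv ≫ (Scheme.ΓSpecIso (CommRingCat.of A')).hom).hom a'
  rw [Iso.inv_hom_id]
  rfl


theorem etale_tensor_of_mono {P : Sp S} (snd : P ⟶ (yon S).obj (specT A s)) [Mono snd]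
    (p : (yon S).obj (specU A B s) ⟶ P) (hp1 : RepWith @Etale p)
    (hp : p ≫ snd = (yon S).map (specQ A B s)) :
    Algebra.Etale B (B ⊗[A] B) := by
  let iL : CommRingCat.of B ⟶ CommRingCat.of (B ⊗[A] B) :=
    CommRingCat.ofHom Algebra.TensorProduct.includeLeftRingHom
  let iR : CommRingCat.of B ⟶ CommRingCat.of (B ⊗[A] B) :=
    CommRingCat.ofHom (Algebra.TensorProduct.includeRight (R := A) (A := B) (B := B)).toRingHom
  have hpo := CommRingCat.isPushout_tensorProduct A B B
  have sqSch : IsPullback (Spec.map iL) (Spec.map iR)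
      (Spec.map (CommRingCat.ofHom (algebraMap A B))) (Spec.map (CommRingCat.ofHom (algebraMap A B))) :=
    isPullback_SpecMap_of_isPushout _ _ _ _ hpo
  let V : Over S := Over.mk (Spec.map iL ≫ (specU A B s).hom)
  let v₁ : V ⟶ specU A B s := Over.homMk (Spec.map iL) rfl
  let v₂ : V ⟶ specU A B s := Over.homMk (Spec.map iR) (by
    change Spec.map iR ≫ Spec.map (CommRingCat.ofHom (algebraMap A B)) ≫ s =
      Spec.map iL ≫ Spec.map (CommRingCat.ofHom (algebraMap A B)) ≫ s
    rw [← Category.assoc, ← Category.assoc, sqSch.w])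
  have sqS : IsPullback v₁ v₂ (specQ A B s) (specQ A B s) := by
    refine IsPullback.of_map (Over.forget S) ?_ sqSch
    ext
    exact sqSch.w
  have k1 : IsKernelPair (p ≫ snd) ((yon S).map v₁) ((yon S).map v₂) := by
    rw [hp]
    exact sqS.map (yon S)
  have k2 : IsKernelPair p ((yon S).map v₁) ((yon S).map v₂) := k1.cancel_right_of_mono
  have k3 : IsPullback ((yon S).map v₂) ((yon S).map v₁) p p := IsPullback.flip k2
  have he : Etale (Spec.map iL) := hp1.property _ _ _ k3
  have he' : iL.hom.Etale := (HasRingHomProperty.Spec_iff (P := @Etale)).1 he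
  have : algebraMap B (B ⊗[A] B) = iL.hom := rfl
  rw [← RingHom.etale_algebraMap, this]
  exact he'


/-- Key lemma: a monomorphism `snd : P ⟶ h_{Spec A}` which has an affine etale chart `Spec B` and is
universally injective on functions is an isomorphism. -/
theorem isIso_of_mono_of_univInjFun {P : Sp S} (snd : P ⟶ (yon S).obj (specT A s)) [Mono snd]
    (p : (yon S).obj (specU A B s) ⟶ P) (hp1 : RepWith @Etale p) (hp2 : RepWith @Surjective p)
    (hp : p ≫ snd = (yon S).map (specQ A B s)) (hinj : UnivInjFun snd) : IsIso snd := by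
  have h1 := injective_includeLeft_of_univInjFun snd p hp1 hp2 hp hinj
  have h2 : Pi1.UnivInjective A B := univInjective_of_forall_algebra A B h1
  have h3 : Algebra.Etale B (B ⊗[A] B) := etale_tensor_of_mono snd p hp1 hp
  have h4 : Algebra.Etale A B := Groth.Agent.H2.UnivInjective.etale_of_tensor h2 B
  have h5 : Etale (Spec.map (CommRingCat.ofHom (algebraMap A B))) := by
    rw [HasRingHomProperty.Spec_iff (P := @Etale)]
    exact RingHom.etale_algebraMap.2 h4
  have h6 : Surjective (Spec.map (CommRingCat.ofHom (algebraMap A B))) := by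
    rw [surjective_iff]
    exact comap_surjective_of_forall_algebra A B h1
  have h7 : Epi ((yon S).map (specQ A B s)) :=
    Groth.Agent.H52.epi_yon_map_of_fppf (specQ A B s) (inferInstanceAs (Flat (Spec.map _)))
      (inferInstanceAs (LocallyOfFinitePresentation (Spec.map _))) h6
  have h8 : Epi snd := by
    rw [← hp] at h7
    exact epi_of_epi p snd
  exact isIso_of_mono_of_epi snd

end chart

end Groth.Agent.H50
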