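import Groth.Agent.H50.MonoIso
import Groth.Agent.H50.QCMor
import Groth.Agent.H53.Glue

set_option autoImplicit false
set_option backward.isDefEq.respectTransparency false
universe u
open CategoryTheory CategoryTheory.Limits AlgebraicGeometry Opposite Topology
open scoped TensorProduct

namespace Groth.Agent.H50

open AlgSp

variable {S : Scheme.{u}}

/-- The hypothesis of S10606: universal injectivity of functions along `f`. -/
def UnivInjFunMor {X Y : Sp S} (f : X ⟶ Y) : Prop :=
  ∀ (T : Over S) (g : (yon S).obj T ⟶ Y) (P : Sp S) (fst : P ⟶ X) (snd : P ⟶ (yon S).obj T),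
    IsPullback fst snd f g → ∀ s : Γ(T.left, ⊤),
      (∀ (W : Over S) (a : (yon S).obj W ⟶ P) (c : W ⟶ T),
        a ≫ snd = (yon S).map c → c.left.appTop s = 0) → s = 0

theorem exists_lift_of_affine {X Y : Sp S} (f : X ⟶ Y) (hqc : IsQuasiCompactMor f) [Mono f]
    (hinj : UnivInjFunMor f) (A : CommRingCat.{u}) (s : Spec A ⟶ S)
    (g : (yon S).obj (Over.mk s) ⟶ Y) :
    ∃ l : (yon S).obj (Over.mk s) ⟶ X, l ≫ f = g := by
  let T : Over S := Over.mk s
  let P : Sp S := pullback f g
  let fst : P ⟶ X := pullback.fst f g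
  let snd : P ⟶ (yon S).obj T := pullback.snd f g
  have sqP : IsPullback fst snd f g := IsPullback.of_hasPullback f g
  have : CompactSpace ↥T.left := inferInstanceAs (CompactSpace ↥(Spec A))
  have hP : IsQuasiCompactSp P := hqc (IsAlgSpace.yon_obj T) (isQuasiCompactSp_yon T) g fst snd sqP
  obtain ⟨W, p₀, hp₀e, hp₀s, hW⟩ := hP
  have : CompactSpace ↥W.left := hW
  let 𝒰 := W.left.affineCover.finiteSubcover
  let Ũ : Scheme.{u} := ∐ (fun i : 𝒰.I₀ => 𝒰.X i)
  let π : Ũ ⟶ W.left := Sigma.desc (fun i => 𝒰.f i)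
  have hπe : Etale π := IsZariskiLocalAtSource.sigmaDesc (fun i => inferInstance)
  have hπs : Surjective π := inferInstance
  have : IsAffine Ũ := inferInstance
  let B : Type u := Γ(Ũ, ⊤)
  let m : Spec (CommRingCat.of B) ⟶ W.left := Ũ.isoSpec.inv ≫ π
  have hme : Etale m := inferInstanceAs (Etale (Ũ.isoSpec.inv ≫ π))
  have hms : Surjective m := inferInstanceAs (Surjective (Ũ.isoSpec.inv ≫ π))
  obtain ⟨w, hw⟩ := (yon S).map_surjective (p₀ ≫ snd)
  obtain ⟨φ, hφ⟩ := Spec.map_surjective (m ≫ w.left)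
  let _ : Algebra A B := φ.hom.toAlgebra
  have hφ' : Spec.map (CommRingCat.ofHom (algebraMap A B)) = m ≫ w.left := hφ
  let mO : specU A B s ⟶ W := Over.homMk m (by
    change m ≫ W.hom = Spec.map (CommRingCat.ofHom (algebraMap A B)) ≫ s
    rw [hφ', Category.assoc]
    exact congrArg (m ≫ ·) (Over.w w).symm)
  let p : (yon S).obj (specU A B s) ⟶ P := (yon S).map mO ≫ p₀
  have hp1 : RepWith @Etale p :=
    (RepWith @Etale).comp_mem _ _ ((repWith_yon_map_iff _ _).2 hme) hp₀e
  have hp2 : RepWith @Surjective p :=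
    (RepWith @Surjective).comp_mem _ _ ((repWith_yon_map_iff _ _).2 hms) hp₀s
  have hp : p ≫ snd = (yon S).map (specQ A B s) := by
    rw [Category.assoc, ← hw, ← Functor.map_comp]
    congr 1
    ext
    exact hφ'.symm
  have hinj' : UnivInjFun snd := by
    intro T' c P' fst' snd' sq' t H
    exact hinj T' ((yon S).map c ≫ g) P' (fst' ≫ fst) snd' (sq'.paste_horiz sqP) t H
  have hiso : IsIso snd := isIso_of_mono_of_univInjFun snd p hp1 hp2 hp hinj'
  exact ⟨inv snd ≫ fst, by rw [Category.assoc, sqP.w, IsIso.inv_hom_id_assoc]⟩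


/-- A quasi-compact monomorphism into an algebraic space which is universally injective on functions
is an isomorphism. -/
theorem isIso_of_quasiCompact_mono_of_univInjFun {X Y : Sp S} (hY : IsAlgSpace Y) (f : X ⟶ Y)
    (hqc : IsQuasiCompactMor f) [Mono f] (hinj : UnivInjFunMor f) : IsIso f := by
  obtain ⟨U, c, hc1, hc2⟩ := hY.atlas
  have : Epi c := Groth.Agent.H52.epi_of_repWith_etale_surjective c hc1 hc2
  let 𝒰 := U.left.affineCover
  have : Epi f := by
    refine Groth.Agent.H52.epi_of_exists_local_lift f fun T x => ?_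
    obtain ⟨R, hR, hl⟩ := Groth.Agent.H53.cover_of_atlas c 𝒰 T x
    refine ⟨R, hR, fun T' g hg => ?_⟩
    obtain ⟨i, g', hg'⟩ := hl g hg
    obtain ⟨l, hl'⟩ := exists_lift_of_affine f hqc hinj _ (𝒰.f i ≫ U.hom)
      ((yon S).map (Groth.Agent.H53.overHom U (𝒰.f i)) ≫ c)
    exact ⟨(yon S).map g' ≫ l, by rw [Category.assoc, hl', hg']⟩
  exact isIso_of_mono_of_epi f

end Groth.Agent.H50
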