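import Mathlib

/-!
# Curves over a Nagata base, algebra I (helper50)

* `NC.eq_of_forall_mem_of_le`: in a Noetherian domain, if every nonzero prime below a prime `𝔪`
  contains a fixed nonzero element, then every nonzero prime below `𝔪` equals `𝔪`
  (a consequence of Krull's principal ideal theorem and prime avoidance).
* `NC.exists_prime_covBy_not_mem`: in a Noetherian ring, given primes `𝔭₀ ≤ 𝔪` and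
  `h ∈ 𝔪 ∖ 𝔭₀`, there is a prime `𝔭₀ ≤ 𝔭 ≤ 𝔪` avoiding `h` with no prime strictly between
  `𝔭` and `𝔪`.
-/

set_option autoImplicit false
set_option linter.style.haveILetI false

namespace Groth.Agent.H50.NC

theorem eq_of_forall_mem_of_le {O : Type*} [CommRing O] [IsDomain O] [IsNoetherianRing O]
    (𝔪 : Ideal O) [h𝔪 : 𝔪.IsPrime] (h : O) (h0 : h ≠ 0)
    (H : ∀ 𝔮 : Ideal O, 𝔮.IsPrime → 𝔮 ≠ ⊥ → 𝔮 ≤ 𝔪 → h ∈ 𝔮)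
    (𝔮 : Ideal O) [h𝔮 : 𝔮.IsPrime] (hq0 : 𝔮 ≠ ⊥) (hq : 𝔮 ≤ 𝔪) : 𝔮 = 𝔪 := by
  classical
  have hm0 : 𝔪 ≠ ⊥ := fun e => hq0 (le_bot_iff.mp (e ▸ hq))
  have hhm : h ∈ 𝔪 := H 𝔪 h𝔪 hm0 le_rfl
  set I : Ideal O := Ideal.span {h} with hI
  have hIm : I ≤ 𝔪 := (Ideal.span_singleton_le_iff_mem _).mpr hhm
  -- key: a nonzero prime of height ≤ 1 contains no other nonzero prime
  have key : ∀ (𝔞 𝔟 : Ideal O), 𝔞.IsPrime → 𝔟.IsPrime → 𝔞 ≠ ⊥ → 𝔞 ≤ 𝔟 → 𝔟.height ≤ 1 →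
      𝔞 = 𝔟 := by
    intro 𝔞 𝔟 ha hb ha0 hab hb1
    by_contra hne
    have hlt : 𝔞 < 𝔟 := lt_of_le_of_ne hab hne
    have h1 : 𝔞.height < 𝔟.height := Ideal.height_strict_mono_of_isPrime hlt
    have h2 : 𝔞.height = 0 := by
      have : 𝔞.height < 1 := lt_of_lt_of_le h1 hb1
      exact Order.lt_one_iff.mp this
    exact ha0 (Ideal.height_eq_zero_iff_eq_bot.mp h2)
  -- `𝔪` is a minimal prime over `(h)`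
  have hmin : 𝔪 ∈ I.minimalPrimes := by
    by_contra hnm
    have hfin : (I.minimalPrimes).Finite := Ideal.finite_minimalPrimes_of_isNoetherianRing O I
    have hnle : ∀ 𝔭 ∈ I.minimalPrimes, ¬ 𝔪 ≤ 𝔭 := by
      intro 𝔭 h𝔭 hle
      have : 𝔭 ≤ 𝔪 := h𝔭.2 ⟨h𝔪, hIm⟩ hle
      exact hnm (le_antisymm hle this ▸ h𝔭)
    have havoid : ¬ ((𝔪 : Set O) ⊆ ⋃ 𝔭 ∈ (hfin.toFinset : Set (Ideal O)), (𝔭 : Set O)) := by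
      rw [Ideal.subset_union_prime (R := O) (s := hfin.toFinset) (f := fun 𝔭 => 𝔭) ⊥ ⊥
        (fun 𝔭 h𝔭 _ _ => (hfin.mem_toFinset.mp h𝔭).1.1)]
      rintro ⟨𝔭, h𝔭, hle⟩
      exact hnle 𝔭 (hfin.mem_toFinset.mp h𝔭) hle
    rw [Set.not_subset] at havoid
    obtain ⟨t, ht𝔪, htn⟩ := havoid
    have htn' : ∀ 𝔭 ∈ I.minimalPrimes, t ∉ 𝔭 := by
      intro 𝔭 h𝔭 ht
      apply htn
      simp only [Set.mem_iUnion]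
      exact ⟨𝔭, by simpa using h𝔭, ht⟩
    obtain ⟨𝔭₁, h𝔭₁, -⟩ := Ideal.exists_minimalPrimes_le hIm
    have ht0 : t ≠ 0 := fun e => htn' 𝔭₁ h𝔭₁ (e ▸ 𝔭₁.zero_mem)
    have hJm : Ideal.span {t} ≤ 𝔪 := (Ideal.span_singleton_le_iff_mem _).mpr ht𝔪
    obtain ⟨𝔮', h𝔮', h𝔮'm⟩ := Ideal.exists_minimalPrimes_le hJm
    have h𝔮'p : 𝔮'.IsPrime := h𝔮'.1.1
    have ht𝔮' : t ∈ 𝔮' := h𝔮'.1.2 (Ideal.mem_span_singleton_self t)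
    have h𝔮'0 : 𝔮' ≠ ⊥ := fun e => ht0 (by simpa [e] using ht𝔮')
    have h𝔮'1 : 𝔮'.height ≤ 1 :=
      Ideal.height_le_one_of_isPrincipal_of_mem_minimalPrimes (Ideal.span {t}) 𝔮' h𝔮'
    have hh𝔮' : h ∈ 𝔮' := H 𝔮' h𝔮'p h𝔮'0 h𝔮'm
    have hI𝔮' : I ≤ 𝔮' := (Ideal.span_singleton_le_iff_mem _).mpr hh𝔮'
    obtain ⟨𝔭₂, h𝔭₂, h𝔭₂le⟩ := Ideal.exists_minimalPrimes_le hI𝔮'
    have h𝔭₂0 : 𝔭₂ ≠ ⊥ := fun e =>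
      h0 (by simpa [e] using h𝔭₂.1.2 (Ideal.mem_span_singleton_self h))
    have := key 𝔭₂ 𝔮' h𝔭₂.1.1 h𝔮'p h𝔭₂0 h𝔭₂le h𝔮'1
    exact htn' 𝔭₂ h𝔭₂ (this ▸ ht𝔮')
  have hm1 : 𝔪.height ≤ 1 :=
    Ideal.height_le_one_of_isPrincipal_of_mem_minimalPrimes I 𝔪 hmin
  exact key 𝔮 𝔪 h𝔮 h𝔪 hq0 hq hm1

theorem exists_prime_covBy_not_mem {R : Type*} [CommRing R] [IsNoetherianRing R]
    (𝔭₀ 𝔪 : Ideal R) [h𝔭₀ : 𝔭₀.IsPrime] [h𝔪 : 𝔪.IsPrime] (hle : 𝔭₀ ≤ 𝔪) (h : R)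
    (hp : h ∉ 𝔭₀) :
    ∃ 𝔭 : Ideal R, 𝔭.IsPrime ∧ 𝔭₀ ≤ 𝔭 ∧ 𝔭 ≤ 𝔪 ∧ h ∉ 𝔭 ∧
      ∀ 𝔮 : Ideal R, 𝔮.IsPrime → 𝔭 ≤ 𝔮 → 𝔮 ≤ 𝔪 → 𝔮 = 𝔭 ∨ 𝔮 = 𝔪 := by
  classical
  let Sg : Set (Ideal R) := {𝔭 | 𝔭.IsPrime ∧ 𝔭₀ ≤ 𝔭 ∧ 𝔭 ≤ 𝔪 ∧ h ∉ 𝔭}
  have hne : Sg.Nonempty := ⟨𝔭₀, h𝔭₀, le_rfl, hle, hp⟩
  obtain ⟨𝔭, h𝔭Sg, hmax⟩ := set_has_maximal_iff_noetherian.mpr (inferInstance : IsNoetherian R R)
    Sg hne
  obtain ⟨h𝔭, h0𝔭, h𝔭𝔪, hh𝔭⟩ := h𝔭Sg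
  refine ⟨𝔭, h𝔭, h0𝔭, h𝔭𝔪, hh𝔭, ?_⟩
  intro 𝔮 h𝔮 h𝔭𝔮 h𝔮𝔪
  by_cases he : 𝔮 = 𝔭
  · exact Or.inl he
  right
  have hlt : 𝔭 < 𝔮 := lt_of_le_of_ne h𝔭𝔮 (Ne.symm he)
  -- every prime strictly between contains `h`
  have Hmem : ∀ 𝔯 : Ideal R, 𝔯.IsPrime → 𝔭 < 𝔯 → 𝔯 ≤ 𝔪 → h ∈ 𝔯 := by
    intro 𝔯 h𝔯 h1 h2
    by_contra hn
    exact hmax 𝔯 ⟨h𝔯, h0𝔭.trans h1.le, h2, hn⟩ h1
  let O := R ⧸ 𝔭
  let mk : R →+* O := Ideal.Quotient.mk 𝔭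
  have hmk : Function.Surjective mk := Ideal.Quotient.mk_surjective
  have hker : RingHom.ker mk = 𝔭 := Ideal.mk_ker
  have hcm : ∀ 𝔞 : Ideal R, 𝔭 ≤ 𝔞 → (𝔞.map mk).comap mk = 𝔞 := by
    intro 𝔞 h𝔞
    rw [Ideal.comap_map_of_surjective mk hmk, ← RingHom.ker_eq_comap_bot, hker]
    exact sup_eq_left.mpr h𝔞
  have hmp : ∀ 𝔞 : Ideal R, 𝔞.IsPrime → 𝔭 ≤ 𝔞 → (𝔞.map mk).IsPrime := by
    intro 𝔞 h𝔞 hle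
    exact Ideal.map_isPrime_of_surjective hmk (by rw [hker]; exact hle)
  have h𝔪' : (𝔪.map mk).IsPrime := hmp 𝔪 h𝔪 h𝔭𝔪
  have h𝔮' : (𝔮.map mk).IsPrime := hmp 𝔮 h𝔮 h𝔭𝔮
  have hh0 : mk h ≠ 0 := by
    intro e
    exact hh𝔭 (Ideal.Quotient.eq_zero_iff_mem.mp e)
  have H' : ∀ 𝔯 : Ideal O, 𝔯.IsPrime → 𝔯 ≠ ⊥ → 𝔯 ≤ 𝔪.map mk → mk h ∈ 𝔯 := by
    intro 𝔯 h𝔯 h𝔯0 h𝔯𝔪
    have h1 : (𝔯.comap mk).IsPrime := Ideal.comap_isPrime mk 𝔯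
    have h2 : 𝔭 ≤ 𝔯.comap mk := by
      have : RingHom.ker mk ≤ 𝔯.comap mk := by
        rw [RingHom.ker_eq_comap_bot]
        exact Ideal.comap_mono bot_le
      rwa [hker] at this
    have h3 : 𝔯.comap mk ≠ 𝔭 := by
      intro e
      apply h𝔯0
      rw [← Ideal.map_comap_of_surjective mk hmk 𝔯, e]
      exact Ideal.map_quotient_self 𝔭
    have h4 : 𝔯.comap mk ≤ 𝔪 := by
      rw [← hcm 𝔪 h𝔭𝔪]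
      exact Ideal.comap_mono h𝔯𝔪
    exact Hmem _ h1 (lt_of_le_of_ne h2 (Ne.symm h3)) h4
  have hq0 : 𝔮.map mk ≠ ⊥ := by
    intro e
    have : 𝔮 ≤ 𝔭 := by
      have h1 := (Ideal.map_eq_bot_iff_le_ker mk).mp e
      rwa [hker] at h1
    exact he (le_antisymm this h𝔭𝔮)
  have hfin := eq_of_forall_mem_of_le (𝔪.map mk) (mk h) hh0 H' (𝔮.map mk) hq0
    (Ideal.map_mono h𝔮𝔪)
  rw [← hcm 𝔮 h𝔭𝔮, hfin, hcm 𝔪 h𝔭𝔪]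

open PrimeSpectrum in
/-- A constructible subset of the spectrum of a Noetherian ring which is not stable under
specialization fails to be so along a "one-dimensional" specialization `y₁ ⤳ y₂` whose endpoint
`y₂` is a closed point of a basic open `D(f₀)`. -/
theorem exists_good_specialization {R : Type*} [CommRing R] [IsNoetherianRing R]
    (E : Set (PrimeSpectrum R)) (hE : Topology.IsConstructible E) (y y₀ : PrimeSpectrum R)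
    (hy : y ∈ E) (hle : y ≤ y₀) (hy₀ : y₀ ∉ E) :
    ∃ (f₀ : R) (y₁ y₂ : PrimeSpectrum R), y₁ ∈ E ∧ y₂ ∉ E ∧ y ≤ y₁ ∧ y₁ ≤ y₂ ∧ y₁ ≠ y₂ ∧
      f₀ ∉ y₂.asIdeal ∧
      (∀ z : PrimeSpectrum R, y₂ ≤ z → f₀ ∉ z.asIdeal → z = y₂) ∧
      (∀ z : PrimeSpectrum R, y₁ ≤ z → z ≤ y₂ → z = y₁ ∨ z = y₂) := by
  classical
  -- a basic piece of `E` around `y`
  obtain ⟨S, hS⟩ := exists_constructibleSetData_iff.mpr hE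
  obtain ⟨S', hS'⟩ := exists_constructibleSetData_iff.mpr hE.compl
  have hyS : y ∈ S.toSet := hS ▸ hy
  have hy₀S : y₀ ∈ S'.toSet := by rw [hS']; exact hy₀
  simp only [ConstructibleSetData.toSet, Set.mem_iUnion, exists_prop] at hyS hy₀S
  obtain ⟨C, hCS, hyC⟩ := hyS
  obtain ⟨C', hCS', hyC'⟩ := hy₀S
  have hEmem : ∀ z : PrimeSpectrum R, y ≤ z → C.f ∉ z.asIdeal → z ∈ E := by
    intro z hz hf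
    rw [← hS]
    simp only [ConstructibleSetData.toSet, Set.mem_iUnion, exists_prop]
    refine ⟨C, hCS, ?_, ?_⟩
    · intro r hr
      exact hz (hyC.1 hr)
    · intro hzf
      exact hf (hzf (Set.mem_singleton _))
  have hEcmem : ∀ z : PrimeSpectrum R, y₀ ≤ z → C'.f ∉ z.asIdeal → z ∉ E := by
    intro z hz hf
    have : z ∈ Eᶜ := by
      rw [← hS']
      simp only [ConstructibleSetData.toSet, Set.mem_iUnion, exists_prop]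
      refine ⟨C', hCS', ?_, ?_⟩
      · intro r hr
        exact hz (hyC'.1 hr)
      · intro hzf
        exact hf (hzf (Set.mem_singleton _))
    exact this
  have hf₀y₀ : C'.f ∉ y₀.asIdeal := fun h => hyC'.2 (by
    intro r hr
    rw [Set.mem_singleton_iff.mp hr]
    exact h)
  have hfy : C.f ∉ y.asIdeal := fun h => hyC.2 (by
    intro r hr
    rw [Set.mem_singleton_iff.mp hr]
    exact h)
  -- a closed point of `D(f₀)` above `y₀`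
  let Sg : Set (Ideal R) := {𝔭 | 𝔭.IsPrime ∧ y₀.asIdeal ≤ 𝔭 ∧ C'.f ∉ 𝔭}
  have hne : Sg.Nonempty := ⟨y₀.asIdeal, y₀.2, le_rfl, hf₀y₀⟩
  obtain ⟨𝔫, h𝔫Sg, hmax⟩ := set_has_maximal_iff_noetherian.mpr (inferInstance : IsNoetherian R R)
    Sg hne
  obtain ⟨h𝔫, hy₀𝔫, hf𝔫⟩ := h𝔫Sg
  let y₂ : PrimeSpectrum R := ⟨𝔫, h𝔫⟩
  have hy₂E : y₂ ∉ E := hEcmem y₂ hy₀𝔫 hf𝔫
  have hyy₂ : y ≤ y₂ := hle.trans hy₀𝔫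
  have hCf𝔫 : C.f ∈ 𝔫 := by
    by_contra hn
    exact hy₂E (hEmem y₂ hyy₂ hn)
  haveI := y.2
  obtain ⟨𝔭, h𝔭, hy𝔭, h𝔭𝔫, hf𝔭, hcov⟩ :=
    exists_prime_covBy_not_mem y.asIdeal 𝔫 hyy₂ C.f hfy
  let y₁ : PrimeSpectrum R := ⟨𝔭, h𝔭⟩
  refine ⟨C'.f, y₁, y₂, hEmem y₁ hy𝔭 hf𝔭, hy₂E, hy𝔭, h𝔭𝔫, ?_, hf𝔫, ?_, ?_⟩
  · intro e
    apply hf𝔭
    have : 𝔭 = 𝔫 := congrArg PrimeSpectrum.asIdeal e
    rw [this]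
    exact hCf𝔫
  · intro z hz hfz
    have hzSg : z.asIdeal ∈ Sg := ⟨z.2, hy₀𝔫.trans hz, hfz⟩
    have hnlt := hmax z.asIdeal hzSg
    have : 𝔫 = z.asIdeal := by
      by_contra hne'
      exact hnlt (lt_of_le_of_ne hz hne')
    exact PrimeSpectrum.ext this.symm
  · intro z hz1 hz2
    rcases hcov z.asIdeal z.2 hz1 hz2 with h | h
    · exact Or.inl (PrimeSpectrum.ext h)
    · exact Or.inr (PrimeSpectrum.ext h)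

end Groth.Agent.H50.NC
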