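import Mathlib

/-!
# Curves over a Nagata base, algebra II (helper50)

`NC.exists_field_hom_finite`: for a finite type algebra `R → B` and a prime `𝔮` of `B` over the
prime `𝔭` of `R` there is a ring homomorphism `φ : B → K` into a field `K` finite over the
fraction field of `R ⧸ 𝔭`, compatible with `R → R ⧸ 𝔭 → K`, and killing `𝔮` (a closed point of
the fibre over `𝔭` in the closure of `𝔮`).
-/

set_option autoImplicit false
set_option linter.style.haveILetI false
universe u

open TensorProduct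

namespace Groth.Agent.H50.NC

theorem exists_field_hom_finite {R B : Type u} [CommRing R] [CommRing B] [Algebra R B]
    [Algebra.FiniteType R B] (𝔭 : Ideal R) [𝔭.IsPrime] (𝔮 : Ideal B) [𝔮.IsPrime]
    (h : 𝔮.comap (algebraMap R B) = 𝔭) :
    ∃ (K : Type u) (_ : Field K) (_ : Algebra (R ⧸ 𝔭) K) (_ : Algebra (FractionRing (R ⧸ 𝔭)) K)
      (_ : IsScalarTower (R ⧸ 𝔭) (FractionRing (R ⧸ 𝔭)) K)
      (_ : FiniteDimensional (FractionRing (R ⧸ 𝔭)) K) (φ : B →+* K),
      𝔮 ≤ RingHom.ker φ ∧
        ∀ r : R, φ (algebraMap R B r) = algebraMap (R ⧸ 𝔭) K (Ideal.Quotient.mk 𝔭 r) := by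
  classical
  haveI : 𝔮.LiesOver 𝔭 := ⟨h.symm⟩
  let D₁ := R ⧸ 𝔭
  let κ := FractionRing D₁
  let B' := B ⧸ 𝔮
  haveI : Algebra.FiniteType R B' :=
    Algebra.FiniteType.of_surjective (Ideal.Quotient.mkₐ R 𝔮) Ideal.Quotient.mk_surjective
  haveI : Algebra.FiniteType D₁ B' := Algebra.FiniteType.of_restrictScalars_finiteType R D₁ B'
  let F := κ ⊗[D₁] B'
  haveI : Algebra.FiniteType κ F := inferInstance
  -- `F` is nontrivial: it maps to the fraction field of `B'`
  have hinj : Function.Injective (algebraMap D₁ B') :=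
    FaithfulSMul.algebraMap_injective D₁ B'
  let L := FractionRing B'
  have hinjL : Function.Injective ((algebraMap B' L).comp (algebraMap D₁ B')) :=
    (IsFractionRing.injective B' L).comp hinj
  let ι : κ →+* L := IsFractionRing.lift (A := D₁) (K := κ) (g := (algebraMap B' L).comp
    (algebraMap D₁ B')) hinjL
  let ιa : κ →ₐ[D₁] L :=
    { ι with
      commutes' := fun r => IsFractionRing.lift_algebraMap hinjL r }
  let ψ : F →ₐ[D₁] L := Algebra.TensorProduct.lift ιa (IsScalarTower.toAlgHom D₁ B' L)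
    (fun _ _ => Commute.all _ _)
  haveI : Nontrivial F := ψ.toRingHom.domain_nontrivial
  obtain ⟨𝔐, h𝔐⟩ := Ideal.exists_maximal F
  let K := F ⧸ 𝔐
  letI : Field K := Ideal.Quotient.field 𝔐
  haveI : Algebra.FiniteType κ K :=
    Algebra.FiniteType.of_surjective (Ideal.Quotient.mkₐ κ 𝔐) Ideal.Quotient.mk_surjective
  haveI : Module.Finite κ K := finite_of_finite_type_of_isJacobsonRing κ K
  haveI : IsScalarTower D₁ κ K := inferInstance
  let φ : B →+* K := (Ideal.Quotient.mk 𝔐).comp
    ((Algebra.TensorProduct.includeRight (R := D₁) (A := κ) (B := B')).toRingHom.comp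
      (Ideal.Quotient.mk 𝔮))
  refine ⟨K, inferInstance, inferInstance, inferInstance, inferInstance, inferInstance, φ, ?_, ?_⟩
  · intro b hb
    rw [RingHom.mem_ker]
    change (Ideal.Quotient.mk 𝔐) (Algebra.TensorProduct.includeRight (Ideal.Quotient.mk 𝔮 b)) = 0
    rw [Ideal.Quotient.eq_zero_iff_mem.mpr hb, map_zero, map_zero]
  · intro r
    change (Ideal.Quotient.mk 𝔐) ((1 : κ) ⊗ₜ[D₁] (Ideal.Quotient.mk 𝔮 (algebraMap R B r))) =
      (Ideal.Quotient.mk 𝔐) (algebraMap κ F (algebraMap D₁ κ (Ideal.Quotient.mk 𝔭 r)))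
    congr 1
    rw [Algebra.TensorProduct.algebraMap_apply, Algebra.algebraMap_self, RingHom.id_apply]
    have : Ideal.Quotient.mk 𝔮 (algebraMap R B r) =
        (Ideal.Quotient.mk 𝔭 r : D₁) • (1 : B') := by
      rw [Algebra.smul_def, mul_one]
      rfl
    rw [this, ← TensorProduct.smul_tmul, Algebra.smul_def, mul_one]

end Groth.Agent.H50.NC
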