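import Mathlib

/-!
# Curves over a Nagata base, algebra III (helper50)

Going-up bookkeeping (`NC.exists_prime_over_dimOne`), shrinking a neighbourhood of a height one
point so that a given nonzero function only vanishes there (`NC.exists_shrink`), and the behaviour
of the relevant conditions under localization away from an element (`NC.away_*`).
-/

set_option autoImplicit false
set_option linter.style.haveILetI false
set_option linter.unusedSectionVars false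
universe u

namespace Groth.Agent.H50.NC

/-- Lying over for a "height one, closed in `D(f₀)`" prime along an injective integral
extension of domains. -/
theorem exists_prime_over_dimOne {D₁ D' : Type*} [CommRing D₁] [IsDomain D₁] [CommRing D']
    [IsDomain D'] [Algebra D₁ D'] [Algebra.IsIntegral D₁ D']
    (hinj : Function.Injective (algebraMap D₁ D'))
    (𝔫₁ : Ideal D₁) [h𝔫₁ : 𝔫₁.IsPrime] (h0 : 𝔫₁ ≠ ⊥)
    (hdim : ∀ 𝔯 : Ideal D₁, 𝔯.IsPrime → 𝔯 ≤ 𝔫₁ → 𝔯 = ⊥ ∨ 𝔯 = 𝔫₁)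
    (f₀ : D₁) (hf₀ : f₀ ∉ 𝔫₁)
    (hmax : ∀ 𝔯 : Ideal D₁, 𝔯.IsPrime → 𝔫₁ ≤ 𝔯 → f₀ ∉ 𝔯 → 𝔯 = 𝔫₁) :
    ∃ 𝔫' : Ideal D', 𝔫'.IsPrime ∧ 𝔫'.comap (algebraMap D₁ D') = 𝔫₁ ∧ 𝔫' ≠ ⊥ ∧
      (∀ 𝔯 : Ideal D', 𝔯.IsPrime → 𝔯 ≤ 𝔫' → 𝔯 = ⊥ ∨ 𝔯 = 𝔫') ∧
      algebraMap D₁ D' f₀ ∉ 𝔫' ∧
      (∀ 𝔯 : Ideal D', 𝔯.IsPrime → 𝔫' ≤ 𝔯 → algebraMap D₁ D' f₀ ∉ 𝔯 → 𝔯 = 𝔫') := by
  obtain ⟨𝔫', -, h𝔫', hcomap⟩ := Ideal.exists_ideal_over_prime_of_isIntegral 𝔫₁ (⊥ : Ideal D')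
    (by
      rw [Ideal.comap_bot_of_injective _ hinj]
      exact bot_le)
  have hker : RingHom.ker (algebraMap D₁ D') = ⊥ := (RingHom.injective_iff_ker_eq_bot _).mp hinj
  -- incomparability
  have hincomp : ∀ 𝔞 𝔟 : Ideal D', 𝔞.IsPrime → 𝔞 ≤ 𝔟 →
      𝔞.comap (algebraMap D₁ D') = 𝔟.comap (algebraMap D₁ D') → 𝔞 = 𝔟 := by
    intro 𝔞 𝔟 ha hab he
    by_contra hne
    have hlt : 𝔞 < 𝔟 := lt_of_le_of_ne hab hne
    have := Ideal.IsIntegral.comap_lt_comap (R := D₁) hlt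
    exact (ne_of_lt this) he
  refine ⟨𝔫', h𝔫', hcomap, ?_, ?_, ?_, ?_⟩
  · rintro rfl
    apply h0
    rw [← hcomap, Ideal.comap_bot_of_injective _ hinj]
  · intro 𝔯 h𝔯 hle
    have h1 : (𝔯.comap (algebraMap D₁ D')).IsPrime := Ideal.comap_isPrime _ 𝔯
    have h2 : 𝔯.comap (algebraMap D₁ D') ≤ 𝔫₁ := hcomap ▸ Ideal.comap_mono hle
    rcases hdim _ h1 h2 with h | h
    · left
      exact Ideal.eq_bot_of_comap_eq_bot h
    · right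
      exact hincomp 𝔯 𝔫' h𝔯 hle (h.trans hcomap.symm)
  · intro hmem
    apply hf₀
    rw [← hcomap]
    exact hmem
  · intro 𝔯 h𝔯 hle hf
    have h1 : (𝔯.comap (algebraMap D₁ D')).IsPrime := Ideal.comap_isPrime _ 𝔯
    have h2 : 𝔫₁ ≤ 𝔯.comap (algebraMap D₁ D') := hcomap ▸ Ideal.comap_mono hle
    have h3 := hmax _ h1 h2 hf
    exact (hincomp 𝔫' 𝔯 h𝔫' hle (hcomap.trans h3.symm)).symm

/-- Around a height one prime `𝔫'` of a Noetherian domain, a nonzero element `s' ∈ 𝔫'` vanishes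
only at `𝔫'` (and its specializations) after inverting a suitable `t ∉ 𝔫'`. -/
theorem exists_shrink {D' : Type*} [CommRing D'] [IsDomain D'] [IsNoetherianRing D']
    (𝔫' : Ideal D') [h𝔫' : 𝔫'.IsPrime]
    (hdim : ∀ 𝔯 : Ideal D', 𝔯.IsPrime → 𝔯 ≤ 𝔫' → 𝔯 = ⊥ ∨ 𝔯 = 𝔫')
    (s' : D') (hs'0 : s' ≠ 0) :
    ∃ t : D', t ∉ 𝔫' ∧ ∀ 𝔯 : Ideal D', 𝔯.IsPrime → s' ∈ 𝔯 → t ∉ 𝔯 → 𝔫' ≤ 𝔯 := by
  classical
  set I : Ideal D' := Ideal.span {s'} with hI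
  have hfin : (I.minimalPrimes).Finite := Ideal.finite_minimalPrimes_of_isNoetherianRing D' I
  -- for each minimal prime other than `𝔫'` choose an element outside `𝔫'`
  have hchoose : ∀ 𝔯 ∈ I.minimalPrimes, ∃ a : D', a ∉ 𝔫' ∧ (𝔯 = 𝔫' ∨ a ∈ 𝔯) := by
    intro 𝔯 h𝔯
    by_cases he : 𝔯 = 𝔫'
    · exact ⟨1, fun h => h𝔫'.ne_top ((Ideal.eq_top_iff_one _).mpr h), Or.inl he⟩
    · have hnle : ¬ 𝔯 ≤ 𝔫' := by
        intro hle
        rcases hdim 𝔯 h𝔯.1.1 hle with h | h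
        · apply hs'0
          have : s' ∈ 𝔯 := h𝔯.1.2 (Ideal.mem_span_singleton_self s')
          rw [h] at this
          exact this
        · exact he h
      obtain ⟨a, ha𝔯, han⟩ := Set.not_subset.mp hnle
      exact ⟨a, han, Or.inr ha𝔯⟩
  choose! a ha using hchoose
  refine ⟨∏ 𝔯 ∈ hfin.toFinset, a 𝔯, ?_, ?_⟩
  · intro hmem
    obtain ⟨𝔯, h𝔯, h⟩ := (Ideal.IsPrime.prod_mem_iff).mp hmem
    exact (ha 𝔯 (hfin.mem_toFinset.mp h𝔯)).1 h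
  · intro 𝔯 h𝔯 hs't ht
    have hI𝔯 : I ≤ 𝔯 := (Ideal.span_singleton_le_iff_mem _).mpr hs't
    obtain ⟨𝔭, h𝔭, h𝔭𝔯⟩ := Ideal.exists_minimalPrimes_le hI𝔯
    rcases (ha 𝔭 h𝔭).2 with h | h
    · exact h ▸ h𝔭𝔯
    · exfalso
      apply ht
      apply h𝔭𝔯
      have hdvd : a 𝔭 ∣ ∏ 𝔯 ∈ hfin.toFinset, a 𝔯 :=
        Finset.dvd_prod_of_mem a (hfin.mem_toFinset.mpr h𝔭)
      exact Ideal.mem_of_dvd _ hdvd h

section Away

variable {D' D : Type*} [CommRing D'] [IsDomain D'] [CommRing D] [Algebra D' D] (w : D')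
  [IsLocalization.Away w D] (𝔫' : Ideal D') [h𝔫' : 𝔫'.IsPrime] (hw : w ∉ 𝔫')

include hw in
theorem away_disjoint : Disjoint ((Submonoid.powers w : Submonoid D') : Set D') (𝔫' : Set D') := by
  rw [Set.disjoint_left]
  rintro _ ⟨n, rfl⟩ hn
  exact hw (h𝔫'.mem_of_pow_mem n hn)

include hw in
theorem away_map_isPrime : (𝔫'.map (algebraMap D' D)).IsPrime :=
  IsLocalization.isPrime_of_isPrime_disjoint (Submonoid.powers w) D 𝔫' h𝔫' (away_disjoint w 𝔫' hw)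

include hw in
theorem away_comap_map : (𝔫'.map (algebraMap D' D)).comap (algebraMap D' D) = 𝔫' :=
  IsLocalization.under_map_of_isPrime_disjoint (Submonoid.powers w) D h𝔫' (away_disjoint w 𝔫' hw)

omit [IsDomain D'] [IsLocalization.Away w D] in
theorem away_map_comap (w : D') [IsLocalization.Away w D] (J : Ideal D) :
    (J.comap (algebraMap D' D)).map (algebraMap D' D) = J :=
  IsLocalization.map_under (Submonoid.powers w) D J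

theorem away_not_mem_comap (J : Ideal D) [hJ : J.IsPrime] : w ∉ J.comap (algebraMap D' D) := by
  intro h
  apply hJ.ne_top
  exact J.eq_top_of_isUnit_mem h (IsLocalization.Away.algebraMap_isUnit w)

include hw in
/-- If `𝔫'` is maximal among the primes not containing `w`, then `𝔫' D[1/w]` is maximal. -/
theorem away_map_isMaximal
    (hmax : ∀ 𝔯 : Ideal D', 𝔯.IsPrime → 𝔫' ≤ 𝔯 → w ∉ 𝔯 → 𝔯 = 𝔫') :
    (𝔫'.map (algebraMap D' D)).IsMaximal := by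
  have hp := away_map_isPrime (D := D) w 𝔫' hw
  obtain ⟨𝔐, h𝔐, hle⟩ := Ideal.exists_le_maximal _ hp.ne_top
  have h1 : 𝔫' ≤ 𝔐.comap (algebraMap D' D) := by
    rw [← away_comap_map (D := D) w 𝔫' hw]
    exact Ideal.comap_mono hle
  haveI := h𝔐.isPrime
  have h2 := hmax _ (Ideal.comap_isPrime _ 𝔐) h1 (away_not_mem_comap w 𝔐)
  have h3 : 𝔐 = 𝔫'.map (algebraMap D' D) := by
    rw [← away_map_comap (D' := D') w 𝔐, h2]
  exact h3 ▸ h𝔐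

include hw in
theorem away_dimOne
    (hdim : ∀ 𝔯 : Ideal D', 𝔯.IsPrime → 𝔯 ≤ 𝔫' → 𝔯 = ⊥ ∨ 𝔯 = 𝔫')
    (𝔯 : Ideal D) (h𝔯 : 𝔯.IsPrime) (hle : 𝔯 ≤ 𝔫'.map (algebraMap D' D)) :
    𝔯 = ⊥ ∨ 𝔯 = 𝔫'.map (algebraMap D' D) := by
  have h1 : 𝔯.comap (algebraMap D' D) ≤ 𝔫' := by
    rw [← away_comap_map (D := D) w 𝔫' hw]
    exact Ideal.comap_mono hle
  rcases hdim _ (Ideal.comap_isPrime _ 𝔯) h1 with h | h
  · left
    rw [← away_map_comap (D' := D') w 𝔯, h, Ideal.map_bot]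
  · right
    rw [← away_map_comap (D' := D') w 𝔯, h]

include hw in
theorem away_vanishing
    (hmax : ∀ 𝔯 : Ideal D', 𝔯.IsPrime → 𝔫' ≤ 𝔯 → w ∉ 𝔯 → 𝔯 = 𝔫')
    (s' : D') (hs'n : s' ∈ 𝔫')
    (hs' : ∀ 𝔯 : Ideal D', 𝔯.IsPrime → s' ∈ 𝔯 → w ∉ 𝔯 → 𝔫' ≤ 𝔯)
    (𝔯 : Ideal D) (h𝔯 : 𝔯.IsPrime) :
    algebraMap D' D s' ∈ 𝔯 ↔ 𝔯 = 𝔫'.map (algebraMap D' D) := by
  constructor
  · intro hs
    have h1 := hs' _ (Ideal.comap_isPrime _ 𝔯) hs (away_not_mem_comap w 𝔯)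
    have h2 := hmax _ (Ideal.comap_isPrime _ 𝔯) h1 (away_not_mem_comap w 𝔯)
    rw [← away_map_comap (D' := D') w 𝔯, h2]
  · rintro rfl
    exact Ideal.mem_map_of_mem _ hs'n

end Away

end Groth.Agent.H50.NC
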