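import Mathlib
import Groth.Prelude.Def_Found
import Groth.Agent.H50.NCAlg2
import Groth.Agent.H50.NCAlg3

/-!
# Curves over a Nagata base, algebra IV (helper50)

`NC.exists_normal_model`: the normal one-dimensional model (finite normalization by N-2, then
shrinking).  `NC.exists_curve_package`: the ring-level "curve" through a one-dimensional
specialization `𝔭₁ ⤳ 𝔫` in a Nagata ring `R`, together with a map from a finite type `R`-algebra
`B` to the punctured curve.
-/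

set_option autoImplicit false
set_option linter.style.haveILetI false
set_option linter.unusedSectionVars false
universe u

namespace Groth.Agent.H50.NC

set_option maxHeartbeats 800000 in
theorem exists_normal_model {D₁ K : Type u} [CommRing D₁] [IsDomain D₁] [IsNoetherianRing D₁]
    [Field K] [Algebra D₁ K] [Algebra (FractionRing D₁) K] [IsScalarTower D₁ (FractionRing D₁) K]
    [FiniteDimensional (FractionRing D₁) K] (hN2 : CAlg.IsN2 D₁)
    (𝔫₁ : Ideal D₁) [h𝔫₁ : 𝔫₁.IsPrime] (h0 : 𝔫₁ ≠ ⊥)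
    (hdim : ∀ 𝔯 : Ideal D₁, 𝔯.IsPrime → 𝔯 ≤ 𝔫₁ → 𝔯 = ⊥ ∨ 𝔯 = 𝔫₁)
    (f₀ : D₁) (hf₀ : f₀ ∉ 𝔫₁)
    (hmax : ∀ 𝔯 : Ideal D₁, 𝔯.IsPrime → 𝔫₁ ≤ 𝔯 → f₀ ∉ 𝔯 → 𝔯 = 𝔫₁)
    (T : Finset K) :
    ∃ (D : Type u) (_ : CommRing D) (_ : IsDomain D) (_ : IsIntegrallyClosed D)
      (_ : Algebra D₁ D) (_ : Algebra D K) (_ : IsScalarTower D₁ D K) (𝔪 : Ideal D)
      (_ : 𝔪.IsMaximal) (s : D),
      Algebra.FiniteType D₁ D ∧ Function.Injective (algebraMap D K) ∧
      𝔪.comap (algebraMap D₁ D) = 𝔫₁ ∧ 𝔪 ≠ ⊥ ∧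
      (∀ 𝔯 : Ideal D, 𝔯.IsPrime → 𝔯 ≤ 𝔪 → 𝔯 = ⊥ ∨ 𝔯 = 𝔪) ∧
      (∀ 𝔯 : Ideal D, 𝔯.IsPrime → (s ∈ 𝔯 ↔ 𝔯 = 𝔪)) ∧
      (∀ x ∈ T, ∃ d : D, x * algebraMap D K s = algebraMap D K d) := by
  classical
  let κ := FractionRing D₁
  have hfin : Module.Finite D₁ (integralClosure D₁ K) := hN2 K inferInstance
  let D' := integralClosure D₁ K
  haveI : IsIntegrallyClosed D' := integralClosure.isIntegrallyClosedOfFiniteExtension κ
  haveI : IsFractionRing D' K := integralClosure.isFractionRing_of_finite_extension κ K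
  haveI : IsNoetherianRing D' := IsNoetherianRing.of_finite D₁ D'
  have hinjK : Function.Injective (algebraMap D₁ K) := by
    rw [IsScalarTower.algebraMap_eq D₁ κ K]
    exact (algebraMap κ K).injective.comp (IsFractionRing.injective D₁ κ)
  have hinj : Function.Injective (algebraMap D₁ D') := by
    intro x y hxy
    apply hinjK
    have := congrArg (algebraMap D' K) hxy
    rwa [← IsScalarTower.algebraMap_apply, ← IsScalarTower.algebraMap_apply] at this
  have hinjD'K : Function.Injective (algebraMap D' K) := Subtype.val_injective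
  obtain ⟨𝔫', h𝔫', hcomap, h𝔫'0, hdim', hf₀', hmax'⟩ :=
    exists_prime_over_dimOne hinj 𝔫₁ h0 hdim f₀ hf₀ hmax
  -- clear denominators
  obtain ⟨b, hb⟩ := IsLocalization.exist_integer_multiples_of_finset (nonZeroDivisors D') T
  obtain ⟨π, hπ, hπ0⟩ := Submodule.exists_mem_ne_zero_of_ne_bot h𝔫'0
  have hb0 : (b : D') ≠ 0 := nonZeroDivisors.ne_zero b.2
  set s' : D' := (b : D') * π with hs'
  have hs'n : s' ∈ 𝔫' := Ideal.mul_mem_left _ _ hπ
  have hs'0 : s' ≠ 0 := mul_ne_zero hb0 hπ0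
  obtain ⟨t, ht, hshrink⟩ := exists_shrink 𝔫' hdim' s' hs'0
  set w : D' := t * algebraMap D₁ D' f₀ with hw
  have hwn : w ∉ 𝔫' := by
    intro h
    rcases h𝔫'.mem_or_mem h with h | h
    · exact ht h
    · exact hf₀' h
  have hw0 : w ≠ 0 := fun e => hwn (e ▸ 𝔫'.zero_mem)
  have hmaxw : ∀ 𝔯 : Ideal D', 𝔯.IsPrime → 𝔫' ≤ 𝔯 → w ∉ 𝔯 → 𝔯 = 𝔫' := by
    intro 𝔯 h𝔯 hle hwr
    exact hmax' 𝔯 h𝔯 hle (fun h => hwr (Ideal.mul_mem_left _ _ h))
  have hs'w : ∀ 𝔯 : Ideal D', 𝔯.IsPrime → s' ∈ 𝔯 → w ∉ 𝔯 → 𝔫' ≤ 𝔯 := by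
    intro 𝔯 h𝔯 hs hwr
    exact hshrink 𝔯 h𝔯 hs (fun h => hwr (Ideal.mul_mem_right _ _ h))
  let D := Localization.Away w
  have hle : Submonoid.powers w ≤ nonZeroDivisors D' :=
    powers_le_nonZeroDivisors_of_noZeroDivisors hw0
  haveI : IsDomain D := IsLocalization.isDomain_of_le_nonZeroDivisors D hle
  haveI : IsIntegrallyClosed D := isIntegrallyClosed_of_isLocalization D (Submonoid.powers w) hle
  have hunit : IsUnit (algebraMap D' K w) :=
    IsUnit.mk0 _ (fun e => hw0 (hinjD'K (e.trans (map_zero _).symm)))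
  let lift : D →+* K := IsLocalization.Away.lift w hunit
  letI : Algebra D K := lift.toAlgebra
  haveI : IsScalarTower D' D K := IsScalarTower.of_algebraMap_eq (fun x => by
    change algebraMap D' K x = lift (algebraMap D' D x)
    rw [IsLocalization.Away.lift_eq])
  haveI : IsScalarTower D₁ D K := IsScalarTower.of_algebraMap_eq (fun x => by
    rw [IsScalarTower.algebraMap_apply D₁ D' D, ← IsScalarTower.algebraMap_apply D' D K,
      ← IsScalarTower.algebraMap_apply D₁ D' K])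
  have hinjDK : Function.Injective (algebraMap D K) := by
    change Function.Injective (IsLocalization.Away.lift (S := D) w hunit)
    unfold IsLocalization.Away.lift
    rw [IsLocalization.lift_injective_iff]
    intro x y
    rw [(IsLocalization.injective D hle).eq_iff, hinjD'K.eq_iff]
  let 𝔪 : Ideal D := 𝔫'.map (algebraMap D' D)
  have h𝔪max : 𝔪.IsMaximal := away_map_isMaximal w 𝔫' hwn hmaxw
  have hft : Algebra.FiniteType D₁ D := by
    have h1 : Algebra.FiniteType D₁ D' := inferInstance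
    have h2 : Algebra.FiniteType D' D := IsLocalization.finiteType_of_monoid_fg (Submonoid.powers w) D
    exact Algebra.FiniteType.trans (S := D') h1 h2
  refine ⟨D, inferInstance, inferInstance, inferInstance, inferInstance, inferInstance,
    inferInstance, 𝔪, h𝔪max, algebraMap D' D s', hft, hinjDK, ?_, ?_, ?_, ?_, ?_⟩
  · rw [IsScalarTower.algebraMap_eq D₁ D' D, ← Ideal.comap_comap,
      away_comap_map w 𝔫' hwn, hcomap]
  · intro e
    apply hs'0
    have h1 : algebraMap D' D s' ∈ 𝔪 := Ideal.mem_map_of_mem _ hs'n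
    rw [e, Ideal.mem_bot] at h1
    exact IsLocalization.injective D hle (h1.trans (map_zero _).symm)
  · exact fun 𝔯 h𝔯 hle => away_dimOne w 𝔫' hwn hdim' 𝔯 h𝔯 hle
  · exact fun 𝔯 h𝔯 => away_vanishing w 𝔫' hwn hmaxw s' hs'n hs'w 𝔯 h𝔯
  · intro x hx
    obtain ⟨d', hd'⟩ := hb x hx
    refine ⟨algebraMap D' D (d' * π), ?_⟩
    rw [← IsScalarTower.algebraMap_apply D' D K, ← IsScalarTower.algebraMap_apply D' D K, hs',
      map_mul, map_mul, hd', Algebra.smul_def]
    ring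

end Groth.Agent.H50.NC
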