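import Mathlib
import Groth.Prelude.Def_Found
import Groth.Agent.H50.NCAlg4

/-!
# Curves over a Nagata base, algebra V (helper50)

`NC.exists_curve_package`: the ring-level "curve" through a one-dimensional specialization
`𝔭₁ ⤳ 𝔫` in a Nagata ring `R` (with `𝔫` a closed point of `D(f₀)`), together with a map from a
finite type `R`-algebra `B` to the punctured curve whose kernel contains a given prime `𝔮` over
`𝔭₁`.
-/

set_option autoImplicit false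
set_option linter.style.haveILetI false
set_option linter.unusedSectionVars false
universe u

namespace Groth.Agent.H50.NC

set_option maxHeartbeats 1600000 in
theorem exists_curve_package {R B : Type u} [CommRing R] [CommRing B] [Algebra R B]
    [Algebra.FiniteType R B] (hR : CAlg.IsNagata R) (f₀ : R) (𝔭₁ 𝔫 : Ideal R)
    [h𝔭₁ : 𝔭₁.IsPrime] [h𝔫 : 𝔫.IsPrime] (hle : 𝔭₁ ≤ 𝔫) (hne : 𝔭₁ ≠ 𝔫) (hf₀ : f₀ ∉ 𝔫)
    (hmax : ∀ 𝔯 : Ideal R, 𝔯.IsPrime → 𝔫 ≤ 𝔯 → f₀ ∉ 𝔯 → 𝔯 = 𝔫)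
    (hcov : ∀ 𝔯 : Ideal R, 𝔯.IsPrime → 𝔭₁ ≤ 𝔯 → 𝔯 ≤ 𝔫 → 𝔯 = 𝔭₁ ∨ 𝔯 = 𝔫)
    (𝔮 : Ideal B) [h𝔮 : 𝔮.IsPrime] (h𝔮𝔭 : 𝔮.comap (algebraMap R B) = 𝔭₁) :
    ∃ (D : Type u) (_ : CommRing D) (_ : IsDomain D) (_ : IsIntegrallyClosed D) (γ : R →+* D)
      (𝔪 : Ideal D) (_ : 𝔪.IsMaximal) (s : D) (β : B →+* Localization.Away s),
      γ.FiniteType ∧ 𝔪.comap γ = 𝔫 ∧ 𝔪 ≠ ⊥ ∧
      (∀ 𝔯 : Ideal D, 𝔯.IsPrime → 𝔯 ≤ 𝔪 → 𝔯 = ⊥ ∨ 𝔯 = 𝔪) ∧
      (∀ 𝔯 : Ideal D, 𝔯.IsPrime → (s ∈ 𝔯 ↔ 𝔯 = 𝔪)) ∧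
      β.comp (algebraMap R B) = (algebraMap D (Localization.Away s)).comp γ ∧
      𝔮 ≤ RingHom.ker β := by
  classical
  haveI : IsNoetherianRing R := hR.1
  let D₁ := R ⧸ 𝔭₁
  let mk : R →+* D₁ := Ideal.Quotient.mk 𝔭₁
  have hmk : Function.Surjective mk := Ideal.Quotient.mk_surjective
  have hker : RingHom.ker mk = 𝔭₁ := Ideal.mk_ker
  have hN2 : CAlg.IsN2 D₁ := hR.2 𝔭₁
  obtain ⟨K, iK1, iK2, iK3, iK4, iK5, φ, hφker, hφc⟩ := exists_field_hom_finite 𝔭₁ 𝔮 h𝔮𝔭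
  letI := iK1
  letI := iK2
  letI := iK3
  haveI := iK4
  haveI := iK5
  -- the prime `𝔫₁ = 𝔫 / 𝔭₁`
  have hcm : ∀ 𝔞 : Ideal R, 𝔭₁ ≤ 𝔞 → (𝔞.map mk).comap mk = 𝔞 := by
    intro 𝔞 h𝔞
    rw [Ideal.comap_map_of_surjective mk hmk, ← RingHom.ker_eq_comap_bot, hker]
    exact sup_eq_left.mpr h𝔞
  have hmc : ∀ 𝔞 : Ideal D₁, (𝔞.comap mk).map mk = 𝔞 :=
    fun 𝔞 => Ideal.map_comap_of_surjective mk hmk 𝔞
  have hle_comap : ∀ 𝔞 : Ideal D₁, 𝔭₁ ≤ 𝔞.comap mk := by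
    intro 𝔞
    have : RingHom.ker mk ≤ 𝔞.comap mk := by
      rw [RingHom.ker_eq_comap_bot]
      exact Ideal.comap_mono bot_le
    rwa [hker] at this
  let 𝔫₁ : Ideal D₁ := 𝔫.map mk
  have h𝔫₁ : 𝔫₁.IsPrime := Ideal.map_isPrime_of_surjective hmk (by rw [hker]; exact hle)
  have h𝔫₁c : 𝔫₁.comap mk = 𝔫 := hcm 𝔫 hle
  have h𝔫₁0 : 𝔫₁ ≠ ⊥ := by
    intro e
    apply hne
    have h1 := (Ideal.map_eq_bot_iff_le_ker mk).mp e
    rw [hker] at h1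
    exact le_antisymm hle h1
  have hdim₁ : ∀ 𝔯 : Ideal D₁, 𝔯.IsPrime → 𝔯 ≤ 𝔫₁ → 𝔯 = ⊥ ∨ 𝔯 = 𝔫₁ := by
    intro 𝔯 h𝔯 h𝔯le
    have h1 : 𝔯.comap mk ≤ 𝔫 := h𝔫₁c ▸ Ideal.comap_mono h𝔯le
    rcases hcov _ (Ideal.comap_isPrime mk 𝔯) (hle_comap 𝔯) h1 with h | h
    · left
      rw [← hmc 𝔯, h]
      exact Ideal.map_quotient_self 𝔭₁
    · right
      rw [← hmc 𝔯, h]
  have hf₀₁ : mk f₀ ∉ 𝔫₁ := by
    intro h
    apply hf₀
    rw [← h𝔫₁c]
    exact h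
  have hmax₁ : ∀ 𝔯 : Ideal D₁, 𝔯.IsPrime → 𝔫₁ ≤ 𝔯 → mk f₀ ∉ 𝔯 → 𝔯 = 𝔫₁ := by
    intro 𝔯 h𝔯 h𝔯le hf
    have h1 : 𝔫 ≤ 𝔯.comap mk := h𝔫₁c ▸ Ideal.comap_mono h𝔯le
    have h2 := hmax _ (Ideal.comap_isPrime mk 𝔯) h1 hf
    rw [← hmc 𝔯, h2]
  -- generators of `B`
  obtain ⟨G, hG⟩ := (Algebra.FiniteType.out : (⊤ : Subalgebra R B).FG)
  let T : Finset K := G.image φ
  obtain ⟨D, iD1, iD2, iD3, iD4, iD5, iD6, 𝔪, h𝔪, s, hft, hinjDK, hcomap, h𝔪0, hdim, hvan, hT⟩ :=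
    exists_normal_model hN2 𝔫₁ h𝔫₁0 hdim₁ (mk f₀) hf₀₁ hmax₁ T
  letI := iD1
  haveI := iD2
  haveI := iD3
  letI := iD4
  letI := iD5
  haveI := iD6
  let γ : R →+* D := (algebraMap D₁ D).comp mk
  have hs0 : s ≠ 0 := by
    intro e
    apply h𝔪0
    have := (hvan ⊥ Ideal.isPrime_bot).mp (e ▸ (⊥ : Ideal D).zero_mem)
    exact this.symm
  let Ds := Localization.Away s
  have hles : Submonoid.powers s ≤ nonZeroDivisors D :=
    powers_le_nonZeroDivisors_of_noZeroDivisors hs0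
  have hinjDs : Function.Injective (algebraMap D Ds) := IsLocalization.injective Ds hles
  have hsK0 : algebraMap D K s ≠ 0 := fun e => hs0 (hinjDK (e.trans (map_zero _).symm))
  have hunit : IsUnit (algebraMap D K s) := IsUnit.mk0 _ hsK0
  let ι : Ds →+* K := IsLocalization.Away.lift s hunit
  have hιalg : ∀ d : D, ι (algebraMap D Ds d) = algebraMap D K d :=
    fun d => IsLocalization.Away.lift_eq s hunit d
  have hιinj : Function.Injective ι := by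
    change Function.Injective (IsLocalization.Away.lift (S := Ds) s hunit)
    unfold IsLocalization.Away.lift
    rw [IsLocalization.lift_injective_iff]
    intro x y
    rw [hinjDs.eq_iff, hinjDK.eq_iff]
  -- `φ` lands in the range of `ι`
  have hφr : ∀ r : R, φ (algebraMap R B r) = ι (algebraMap D Ds (γ r)) := by
    intro r
    rw [hφc r, hιalg]
    exact IsScalarTower.algebraMap_apply D₁ D K (mk r)
  have hrange : ∀ b : B, φ b ∈ ι.range := by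
    intro b
    have hb : b ∈ Algebra.adjoin R (G : Set B) := hG ▸ Algebra.mem_top
    induction hb using Algebra.adjoin_induction with
    | mem x hx =>
      obtain ⟨d, hd⟩ := hT (φ x) (Finset.mem_image_of_mem φ hx)
      refine ⟨IsLocalization.mk' Ds d (⟨s, Submonoid.mem_powers s⟩ : Submonoid.powers s), ?_⟩
      have h1 : ι (IsLocalization.mk' Ds d (⟨s, Submonoid.mem_powers s⟩ : Submonoid.powers s)) *
          algebraMap D K s = algebraMap D K d := by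
        rw [← hιalg s, ← map_mul, ← hιalg d]
        congr 1
        exact IsLocalization.mk'_spec Ds d ⟨s, Submonoid.mem_powers s⟩
      exact mul_right_cancel₀ hsK0 (h1.trans hd.symm)
    | algebraMap r => exact ⟨_, (hφr r).symm⟩
    | add x y _ _ hx hy => rw [map_add]; exact Subring.add_mem _ hx hy
    | mul x y _ _ hx hy => rw [map_mul]; exact Subring.mul_mem _ hx hy
  let e : Ds ≃+* ι.range := RingEquiv.ofBijective ι.rangeRestrict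
    ⟨fun x y hxy => hιinj (congrArg Subtype.val hxy), ι.rangeRestrict_surjective⟩
  let β : B →+* Ds := (e.symm : ι.range →+* Ds).comp (φ.codRestrict ι.range hrange)
  have hιβ : ∀ b : B, ι (β b) = φ b := by
    intro b
    have h1 : e (β b) = φ.codRestrict ι.range hrange b := e.apply_symm_apply _
    exact congrArg Subtype.val h1
  refine ⟨D, inferInstance, inferInstance, inferInstance, γ, 𝔪, h𝔪, s, β, ?_, ?_, h𝔪0, hdim, hvan,
    ?_, ?_⟩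
  · exact (RingHom.finiteType_algebraMap.mpr hft).comp (RingHom.FiniteType.of_surjective mk hmk)
  · change (𝔪.comap (algebraMap D₁ D)).comap mk = 𝔫
    rw [hcomap, h𝔫₁c]
  · ext r
    apply hιinj
    rw [RingHom.comp_apply, hιβ, hφr]
    rfl
  · intro b hb
    rw [RingHom.mem_ker]
    apply hιinj
    rw [hιβ, map_zero]
    exact hφker hb

end Groth.Agent.H50.NC
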