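import Mathlib
import Groth.Prelude.Def_Found
import Groth.Agent.H13.NagataFT
import Groth.Agent.H50.NCAlg1
import Groth.Agent.H50.NCAlg5

/-!
# Curves over a Nagata base, geometry I (helper50)

`NC.CurveDatum f q`: an affine normal "curve" `Spec D` of finite type over an affine open of `S`
with a closed point `𝔪` of height one, a morphism `g : Spec D ⟶ Y` and a morphism
`u : Spec D[1/s] ⟶ X` from the punctured curve (`V(s) = {𝔪}`) over `g`.

`NC.isClosedMap_of_forall_hasSpec`: over a Nagata base, a quasi-compact morphism `f : X ⟶ Y`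
locally of finite type, with `Y` locally of finite type over `S`, is a closed map as soon as for
every curve datum the point `g(𝔪)` lifts to a point of `X` in the closure of the image of `u`.
-/

set_option autoImplicit false
set_option linter.style.haveILetI false
set_option linter.unusedSectionVars false
universe u

open CategoryTheory CategoryTheory.Limits AlgebraicGeometry Opposite Topology

namespace Groth.Agent.H50.NC

/-- A curve datum for `f : X ⟶ Y` over `q : Y ⟶ S`. -/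
structure CurveDatum {S X Y : Scheme.{u}} (f : X ⟶ Y) (q : Y ⟶ S) where
  D : Type u
  [commRing : CommRing D]
  [isDomain : IsDomain D]
  [isIntegrallyClosed : IsIntegrallyClosed D]
  U₀ : S.Opens
  hU₀ : IsAffineOpen U₀
  φ : Γ(S, U₀) ⟶ CommRingCat.of D
  hφ : φ.hom.FiniteType
  𝔪 : Ideal D
  [isMaximal : 𝔪.IsMaximal]
  h𝔪0 : 𝔪 ≠ ⊥
  hdim : ∀ 𝔯 : Ideal D, 𝔯.IsPrime → 𝔯 ≤ 𝔪 → 𝔯 = ⊥ ∨ 𝔯 = 𝔪
  s : D
  hs : ∀ 𝔯 : Ideal D, 𝔯.IsPrime → (s ∈ 𝔯 ↔ 𝔯 = 𝔪)
  g : Spec (CommRingCat.of D) ⟶ Y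
  hg : g ≫ q = Spec.map φ ≫ hU₀.fromSpec
  u : Spec (CommRingCat.of (Localization.Away s)) ⟶ X
  hu : u ≫ f = Spec.map (CommRingCat.ofHom (algebraMap D (Localization.Away s))) ≫ g

attribute [instance] CurveDatum.commRing CurveDatum.isDomain CurveDatum.isIntegrallyClosed
  CurveDatum.isMaximal

variable {S X Y : Scheme.{u}} {f : X ⟶ Y} {q : Y ⟶ S}

/-- The closed point of the curve. -/
def CurveDatum.closedPt (𝒟 : CurveDatum f q) : Spec (CommRingCat.of 𝒟.D) :=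
  (⟨𝒟.𝔪, 𝒟.isMaximal.isPrime⟩ : PrimeSpectrum 𝒟.D)

/-- The image of the closed point of the curve lifts to a specialization of the punctured curve. -/
def CurveDatum.HasSpec (𝒟 : CurveDatum f q) : Prop :=
  ∃ x₀ : X, f.base x₀ = 𝒟.g.base 𝒟.closedPt ∧ x₀ ∈ closure (Set.range 𝒟.u.base)

/-- In a locally Noetherian scheme closed subsets are locally constructible. -/
theorem isLocallyConstructible_of_isClosed {X : Scheme.{u}} [IsLocallyNoetherian X] (T : Set X)
    (hT : IsClosed T) : IsLocallyConstructible T := by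
  intro x
  obtain ⟨W, hW, hxW, -⟩ := exists_isAffineOpen_mem_and_subset (x := x) (U := ⊤) trivial
  refine ⟨W, W.2.mem_nhds hxW, W.2, ?_⟩
  haveI : IsNoetherianRing Γ(X, W) := IsLocallyNoetherian.component_noetherian ⟨W, hW⟩
  haveI : TopologicalSpace.NoetherianSpace (W : Set X) := noetherianSpace_of_isAffineOpen W hW
  have hcl : IsClosed ((Subtype.val : W → X) ⁻¹' T) := hT.preimage continuous_subtype_val
  have hop : IsOpen ((Subtype.val : W → X) ⁻¹' T)ᶜ := hcl.isOpen_compl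
  have hret : IsRetrocompact ((Subtype.val : W → X) ⁻¹' T)ᶜ :=
    fun V _ _ => TopologicalSpace.NoetherianSpace.isCompact _
  have := (hret.isConstructible hop).compl
  rwa [compl_compl] at this

set_option maxHeartbeats 1600000 in
theorem isClosedMap_of_forall_hasSpec (hS : ∀ W : S.affineOpens, CAlg.IsNagata Γ(S, W))
    (f : X ⟶ Y) (q : Y ⟶ S) [LocallyOfFiniteType q] [LocallyOfFiniteType f] [QuasiCompact f]
    (H : ∀ 𝒟 : CurveDatum f q, 𝒟.HasSpec) : IsClosedMap f.base := by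
  classical
  haveI : IsLocallyNoetherian S := ⟨fun W => (hS W).1⟩
  haveI : IsLocallyNoetherian Y := LocallyOfFiniteType.isLocallyNoetherian q
  haveI : IsLocallyNoetherian X := LocallyOfFiniteType.isLocallyNoetherian f
  rw [isClosedMap_iff_specializingMap]
  intro x y₀ hxy₀
  by_contra hcon
  push Not at hcon
  -- hcon : ∀ x₀, x ⤳ x₀ → f x₀ ≠ y₀
  let T : Set X := closure {x}
  have hTcl : IsClosed T := isClosed_closure
  let E : Set Y := f.base '' T
  have hEloc : IsLocallyConstructible E :=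
    f.isLocallyConstructible_image (isLocallyConstructible_of_isClosed T hTcl)
  have hyE : f.base x ∈ E := ⟨x, subset_closure rfl, rfl⟩
  have hy₀E : y₀ ∉ E := by
    rintro ⟨x₀, hx₀T, hx₀⟩
    exact hcon x₀ (specializes_iff_mem_closure.mpr hx₀T) hx₀
  -- affine opens
  obtain ⟨U₀, hU₀, hqU₀, -⟩ := exists_isAffineOpen_mem_and_subset (x := q.base y₀) (U := ⊤) trivial
  obtain ⟨W₀, hW₀, hyW₀, hW₀U₀⟩ := exists_isAffineOpen_mem_and_subset
    (x := y₀) (U := q ⁻¹ᵁ U₀) hqU₀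
  have hyW₀' : f.base x ∈ W₀ := hxy₀.mem_open W₀.2 hyW₀
  let R := Γ(Y, W₀)
  haveI : IsNoetherianRing R := IsLocallyNoetherian.component_noetherian ⟨W₀, hW₀⟩
  let E_R : Set (PrimeSpectrum R) := hW₀.fromSpec.base ⁻¹' E
  have hE_R : IsConstructible E_R :=
    (hEloc.preimage_of_isOpenEmbedding hW₀.fromSpec.isOpenEmbedding).isConstructible
  let py : PrimeSpectrum R := hW₀.primeIdealOf ⟨f.base x, hyW₀'⟩
  let py₀ : PrimeSpectrum R := hW₀.primeIdealOf ⟨y₀, hyW₀⟩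
  have hpy : hW₀.fromSpec.base py = f.base x := hW₀.fromSpec_primeIdealOf ⟨f.base x, hyW₀'⟩
  have hpy₀ : hW₀.fromSpec.base py₀ = y₀ := hW₀.fromSpec_primeIdealOf ⟨y₀, hyW₀⟩
  have hle : py ≤ py₀ := by
    rw [PrimeSpectrum.le_iff_specializes]
    have := (hW₀.fromSpec.isOpenEmbedding.isInducing.specializes_iff (x := py) (y := py₀)).mp
      (by rw [hpy, hpy₀]; exact hxy₀)
    exact this
  obtain ⟨f₀, y₁, y₂, hy₁E, hy₂E, hpy₁, hy₁₂, hne₁₂, hf₀y₂, hmax, hcov⟩ :=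
    exists_good_specialization E_R hE_R py py₀ (by change _ ∈ E; rw [hpy]; exact hyE) hle
      (by change _ ∉ E; rw [hpy₀]; exact hy₀E)
  -- a point of `T` over `y₁`
  obtain ⟨x', hx'T, hx'⟩ : ∃ x' ∈ T, f.base x' = hW₀.fromSpec.base y₁ := hy₁E
  have hx'W₀ : f.base x' ∈ W₀ := by
    rw [hx']
    have : hW₀.fromSpec.base y₁ ∈ Set.range hW₀.fromSpec.base := ⟨y₁, rfl⟩
    rwa [hW₀.range_fromSpec] at this
  obtain ⟨V, hV, hx'V, hVW₀⟩ := exists_isAffineOpen_mem_and_subset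
    (x := x') (U := f ⁻¹ᵁ W₀) hx'W₀
  let B := Γ(X, V)
  let ρ : R ⟶ B := f.appLE W₀ V hVW₀
  have hρ : ρ.hom.FiniteType := f.finiteType_appLE hW₀ hV hVW₀
  let 𝔮 : PrimeSpectrum B := hV.primeIdealOf ⟨x', hx'V⟩
  have h𝔮 : 𝔮.comap ρ.hom = y₁ := by
    have h1 := IsAffineOpen.comap_primeIdealOf_appLE (f := f) W₀ hW₀ V hV hVW₀ hx'V
    rw [h1]
    apply hW₀.fromSpec.isOpenEmbedding.injective
    rw [hW₀.fromSpec_primeIdealOf]
    exact hx'
  -- rings
  let ψ : Γ(S, U₀) ⟶ R := q.appLE U₀ W₀ hW₀U₀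
  have hψ : ψ.hom.FiniteType := q.finiteType_appLE hU₀ hW₀ hW₀U₀
  have hR : CAlg.IsNagata R := by
    letI := ψ.hom.toAlgebra
    haveI : Algebra.FiniteType Γ(S, U₀) R := hψ
    exact Groth.Agent.H13.NagataFT.isNagata_of_finiteType Γ(S, U₀) (hS ⟨U₀, hU₀⟩) R
  letI : Algebra R B := ρ.hom.toAlgebra
  haveI : Algebra.FiniteType R B := hρ
  haveI := y₁.2
  haveI := y₂.2
  haveI := 𝔮.2
  obtain ⟨D, iD1, iD2, iD3, γ, 𝔪, h𝔪, s, β, hγ, hγ𝔪, h𝔪0, hdim, hvan, hβ, hβker⟩ :=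
    exists_curve_package hR f₀ y₁.asIdeal y₂.asIdeal hy₁₂
      (fun e => hne₁₂ (PrimeSpectrum.ext e)) hf₀y₂
      (fun 𝔯 h𝔯 hle hf => congrArg PrimeSpectrum.asIdeal (hmax ⟨𝔯, h𝔯⟩ hle hf))
      (fun 𝔯 h𝔯 h1 h2 => (hcov ⟨𝔯, h𝔯⟩ h1 h2).imp (congrArg PrimeSpectrum.asIdeal)
        (congrArg PrimeSpectrum.asIdeal))
      𝔮.asIdeal (congrArg PrimeSpectrum.asIdeal h𝔮)
  letI := iD1
  haveI := iD2
  haveI := iD3
  let 𝒟 : CurveDatum f q :=
    { D := D
      U₀ := U₀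
      hU₀ := hU₀
      φ := ψ ≫ CommRingCat.ofHom γ
      hφ := hγ.comp hψ
      𝔪 := 𝔪
      h𝔪0 := h𝔪0
      hdim := hdim
      s := s
      hs := hvan
      g := Spec.map (CommRingCat.ofHom γ) ≫ hW₀.fromSpec
      hg := by
        rw [Category.assoc, ← IsAffineOpen.SpecMap_appLE_fromSpec q hU₀ hW₀ hW₀U₀,
          ← Category.assoc, ← Spec.map_comp]
      u := Spec.map (CommRingCat.ofHom β) ≫ hV.fromSpec
      hu := by
        rw [Category.assoc, ← IsAffineOpen.SpecMap_appLE_fromSpec f hW₀ hV hVW₀,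
          ← Category.assoc, ← Spec.map_comp, ← Category.assoc, ← Spec.map_comp]
        congr 2
        ext r
        exact congrArg (fun h => h r) hβ }
  obtain ⟨x₀, hx₀f, hx₀cl⟩ := H 𝒟
  apply hy₂E
  change hW₀.fromSpec.base y₂ ∈ E
  have hgc : 𝒟.g.base 𝒟.closedPt = hW₀.fromSpec.base y₂ := by
    change hW₀.fromSpec.base ((Spec.map (CommRingCat.ofHom γ)).base 𝒟.closedPt) = _
    congr 1
    apply PrimeSpectrum.ext
    exact hγ𝔪
  rw [← hgc, ← hx₀f]
  refine ⟨x₀, ?_, rfl⟩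
  -- `x₀ ∈ T`
  have hrange : Set.range 𝒟.u.base ⊆ T := by
    rintro _ ⟨z, rfl⟩
    change hV.fromSpec.base ((Spec.map (CommRingCat.ofHom β)).base z) ∈ T
    have h1 : 𝔮 ⤳ (Spec.map (CommRingCat.ofHom β)).base z := by
      refine (PrimeSpectrum.le_iff_specializes 𝔮 _).mp ?_
      intro b hb
      have : β b = 0 := hβker hb
      change β b ∈ z.asIdeal
      rw [this]
      exact z.asIdeal.zero_mem
    have h2 := h1.map hV.fromSpec.base.hom.continuous
    have h3 : hV.fromSpec.base 𝔮 = x' := hV.fromSpec_primeIdealOf ⟨x', hx'V⟩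
    rw [h3] at h2
    exact h2.mem_closed hTcl hx'T
  exact closure_minimal hrange hTcl hx₀cl

end Groth.Agent.H50.NC
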