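import Mathlib
import Groth.Prelude.Def_Found
import Groth.Agent.H50.NCGeom1

/-!
# Curves over a Nagata base, geometry II (helper50)

`NC.CurveExist f q`: the existence part of the valuative criterion tested on curves over `S`.
`NC.hasSpec_of_curveExist`: it implies the specialization property for all curve data.
-/

set_option autoImplicit false
set_option linter.style.haveILetI false
set_option linter.unusedSectionVars false
universe u

open CategoryTheory CategoryTheory.Limits AlgebraicGeometry Opposite Topology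

namespace Groth.Agent.H50.NC

/-- The existence part of the valuative criterion tested on (punctured) normal curves of finite
type over the base. -/
def CurveExist {S X Y : Scheme.{u}} (f : X ⟶ Y) (q : Y ⟶ S) : Prop :=
  ∀ (C : Scheme.{u}) (r : C ⟶ S) [IsIntegral C] [LocallyOfFiniteType r] [QuasiCompact r],
    (∀ x : C, IsIntegrallyClosed (C.presheaf.stalk x)) →
    ∀ (c : C), IsClosed ({c} : Set C) → ringKrullDim (C.presheaf.stalk c) = 1 →
    ∀ (U : C.Opens), (U : Set C) = {c}ᶜ →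
    ∀ (u : (U : Scheme.{u}) ⟶ X) (g : C ⟶ Y), g ≫ q = r → u ≫ f = U.ι ≫ g →
    ∀ (k : Spec (CommRingCat.of (FractionRing (C.presheaf.stalk c))) ⟶ (U : Scheme.{u})),
      k ≫ U.ι = Spec.map (CommRingCat.ofHom (algebraMap (C.presheaf.stalk c)
        (FractionRing (C.presheaf.stalk c)))) ≫ C.fromSpecStalk c →
    ∃ l : Spec (C.presheaf.stalk c) ⟶ X, l ≫ f = C.fromSpecStalk c ≫ g ∧
      Spec.map (CommRingCat.ofHom (algebraMap (C.presheaf.stalk c)
        (FractionRing (C.presheaf.stalk c)))) ≫ l = k ≫ u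

theorem height_eq_one_of_dimOne {D : Type*} [CommRing D] [IsDomain D] (𝔪 : Ideal D) [𝔪.IsPrime]
    (h0 : 𝔪 ≠ ⊥) (hdim : ∀ 𝔯 : Ideal D, 𝔯.IsPrime → 𝔯 ≤ 𝔪 → 𝔯 = ⊥ ∨ 𝔯 = 𝔪) : 𝔪.height = 1 := by
  apply le_antisymm
  · have : 𝔪.height ≤ ((1 : ℕ) : ℕ∞) := by
      rw [Ideal.height_le_iff]
      intro 𝔯 h𝔯 hlt
      rcases hdim 𝔯 h𝔯 hlt.le with h | h
      · rw [h, Ideal.height_bot]
        exact zero_lt_one
      · exact absurd h hlt.ne
    exact_mod_cast this
  · rw [Order.one_le_iff_pos, pos_iff_ne_zero, Ne, Ideal.height_eq_zero_iff_eq_bot]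
    exact h0

variable {S X Y : Scheme.{u}} {f : X ⟶ Y} {q : Y ⟶ S}

/-- Stalks of the spectrum of a normal domain are integrally closed. -/
theorem isIntegrallyClosed_stalk_Spec (D : Type u) [CommRing D] [IsDomain D] [IsIntegrallyClosed D]
    (x : Spec (CommRingCat.of D)) :
    IsIntegrallyClosed ((Spec (CommRingCat.of D)).presheaf.stalk x) := by
  let p : PrimeSpectrum D := x
  letI k : Algebra D ((Spec (CommRingCat.of D)).presheaf.stalk x) :=
    StructureSheaf.stalkAlgebra D p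
  haveI : IsLocalization.AtPrime ((Spec (CommRingCat.of D)).presheaf.stalk x) p.asIdeal :=
    StructureSheaf.IsLocalization.to_stalk D p
  exact isIntegrallyClosed_of_isLocalization _ p.asIdeal.primeCompl
    p.asIdeal.primeCompl_le_nonZeroDivisors

theorem CurveDatum.s_ne_zero (𝒟 : CurveDatum f q) : 𝒟.s ≠ 0 := by
  intro e
  apply 𝒟.h𝔪0
  have := (𝒟.hs ⊥ Ideal.isPrime_bot).mp (e ▸ (⊥ : Ideal 𝒟.D).zero_mem)
  exact this.symm

set_option maxHeartbeats 1600000 in
theorem hasSpec_of_curveExist [IsLocallyNoetherian S] [LocallyOfFiniteType q]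
    (H : CurveExist f q) (𝒟 : CurveDatum f q) : 𝒟.HasSpec := by
  classical
  let C : Scheme.{u} := Spec (CommRingCat.of 𝒟.D)
  let r : C ⟶ S := 𝒟.g ≫ q
  haveI : LocallyOfFiniteType (Spec.map 𝒟.φ) :=
    (HasRingHomProperty.Spec_iff (P := @LocallyOfFiniteType)).mpr 𝒟.hφ
  haveI : LocallyOfFiniteType r := by
    change LocallyOfFiniteType (𝒟.g ≫ q)
    rw [𝒟.hg]
    infer_instance
  haveI : QuasiCompact r := inferInstance
  let c : C := 𝒟.closedPt
  have hcl : IsClosed ({c} : Set C) :=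
    (PrimeSpectrum.isClosed_singleton_iff_isMaximal _).mpr 𝒟.isMaximal
  let A := C.presheaf.stalk c
  letI kalg : Algebra 𝒟.D A := StructureSheaf.stalkAlgebra 𝒟.D 𝒟.closedPt
  haveI hloc : IsLocalization.AtPrime A 𝒟.𝔪 :=
    StructureSheaf.IsLocalization.to_stalk 𝒟.D 𝒟.closedPt
  have hdimc : ringKrullDim A = 1 := by
    rw [IsLocalization.AtPrime.ringKrullDim_eq_height 𝒟.𝔪 A,
      height_eq_one_of_dimOne 𝒟.𝔪 𝒟.h𝔪0 𝒟.hdim]
    rfl
  let U : C.Opens := PrimeSpectrum.basicOpen 𝒟.s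
  have hU : (U : Set C) = {c}ᶜ := by
    ext z
    change 𝒟.s ∉ (z : PrimeSpectrum 𝒟.D).asIdeal ↔ z ∉ ({c} : Set C)
    rw [not_iff_not, Set.mem_singleton_iff, 𝒟.hs _ (z : PrimeSpectrum 𝒟.D).2]
    constructor
    · intro h
      exact PrimeSpectrum.ext h
    · intro h
      rw [h]
      rfl
  let e := basicOpenIsoSpecAway (R := CommRingCat.of 𝒟.D) 𝒟.s
  let u : (U : Scheme.{u}) ⟶ X := e.hom ≫ 𝒟.u
  have hu : u ≫ f = U.ι ≫ 𝒟.g := by
    rw [Category.assoc, 𝒟.hu, ← Category.assoc]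
    congr 1
    exact basicOpenIsoSpecAway_hom_SpecMap (R := CommRingCat.of 𝒟.D) 𝒟.s
  let a : A ⟶ CommRingCat.of (FractionRing A) :=
    CommRingCat.ofHom (algebraMap A (FractionRing A))
  have hinjA : Function.Injective (algebraMap 𝒟.D A) :=
    IsLocalization.injective A 𝒟.𝔪.primeCompl_le_nonZeroDivisors
  have hrange : Set.range (Spec.map a ≫ C.fromSpecStalk c).base ⊆ Set.range U.ι.base := by
    rintro _ ⟨η, rfl⟩
    rw [Scheme.Opens.range_ι]
    change 𝒟.s ∉ (((Spec.map a ≫ C.fromSpecStalk c).base η : C) : PrimeSpectrum 𝒟.D).asIdeal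
    rw [Spec.fromSpecStalk_eq' (CommRingCat.of 𝒟.D) c]
    intro hs
    change (algebraMap A (FractionRing A)) (algebraMap 𝒟.D A 𝒟.s) ∈
      (η : PrimeSpectrum (FractionRing A)).asIdeal at hs
    haveI := (η : PrimeSpectrum (FractionRing A)).2
    rw [Ideal.eq_bot_of_prime (η : PrimeSpectrum (FractionRing A)).asIdeal, Ideal.mem_bot] at hs
    have h1 := IsFractionRing.injective A (FractionRing A) (hs.trans (map_zero _).symm)
    exact 𝒟.s_ne_zero (hinjA (h1.trans (map_zero _).symm))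
  let kk := IsOpenImmersion.lift U.ι (Spec.map a ≫ C.fromSpecStalk c) hrange
  have hkk : kk ≫ U.ι = Spec.map a ≫ C.fromSpecStalk c := IsOpenImmersion.lift_fac _ _ _
  obtain ⟨l, hl1, hl2⟩ :=
    H C r (isIntegrallyClosed_stalk_Spec 𝒟.D) c hcl hdimc U hU u 𝒟.g rfl hu kk hkk
  refine ⟨l.base (IsLocalRing.closedPoint A), ?_, ?_⟩
  · have h1 := congrArg (fun φ => φ.base (IsLocalRing.closedPoint A)) hl1
    have h2 : (C.fromSpecStalk c).base (IsLocalRing.closedPoint A) = c :=
      Scheme.fromSpecStalk_closedPoint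
    change f.base (l.base _) = 𝒟.g.base ((C.fromSpecStalk c).base _) at h1
    rw [h2] at h1
    exact h1
  · let η : Spec (CommRingCat.of (FractionRing A)) := IsLocalRing.closedPoint (FractionRing A)
    have h1 : (Spec.map a).base η ⤳ IsLocalRing.closedPoint A :=
      IsLocalRing.specializes_closedPoint _
    have h2 := h1.map l.base.hom.continuous
    have h3 : l.base ((Spec.map a).base η) = 𝒟.u.base (e.hom.base (kk.base η)) :=
      congrArg (fun φ => φ.base η) hl2
    rw [h3] at h2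
    exact h2.mem_closed isClosed_closure (subset_closure ⟨_, rfl⟩)

end Groth.Agent.H50.NC
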