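import Mathlib
import Groth.Prelude.Def_Found
import Groth.Agent.H22.UCAn
import Groth.Agent.H50.NCGeom2

/-!
# Curves over a Nagata base, geometry III (helper50)

The valuative criteria over a Nagata base tested on curves:
`NC.universallyClosed_iff_curveExist`, `NC.isSeparated_iff_curveUniq`.
-/

set_option autoImplicit false
set_option linter.style.haveILetI false
set_option linter.unusedSectionVars false
universe u

open CategoryTheory CategoryTheory.Limits AlgebraicGeometry Opposite Topology

namespace Groth.Agent.H50.NC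

/-- A one-dimensional Noetherian normal local domain is a discrete valuation ring. -/
theorem isDiscreteValuationRing_of_dim_one (A : Type*) [CommRing A] [IsDomain A]
    [IsNoetherianRing A] [IsLocalRing A] [IsIntegrallyClosed A] (h : ringKrullDim A = 1) :
    IsDiscreteValuationRing A := by
  have hht : (IsLocalRing.maximalIdeal A).height = 1 := by
    have := IsLocalRing.maximalIdeal_height_eq_ringKrullDim (R := A)
    rw [h] at this
    exact_mod_cast this
  have h4 : IsIntegrallyClosed A ∧
      ∀ P : Ideal A, P ≠ ⊥ → P.IsPrime → P = IsLocalRing.maximalIdeal A := by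
    refine ⟨inferInstance, fun P hP0 hP => ?_⟩
    by_contra hne
    have hlt : P < IsLocalRing.maximalIdeal A :=
      lt_of_le_of_ne (IsLocalRing.le_maximalIdeal hP.ne_top) hne
    have h1 : P.height < 1 := hht ▸ Ideal.height_strict_mono_of_isPrime hlt
    have h2 : P.height = 0 := Order.lt_one_iff.mp h1
    exact hP0 (Ideal.height_eq_zero_iff_eq_bot.mp h2)
  have hPID : IsPrincipalIdealRing A :=
    ((tfae_of_isNoetherianRing_of_isLocalRing_of_isDomain (R := A)).out 3 0).mp h4
  refine { not_a_field' := ?_ }
  intro e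
  rw [e, Ideal.height_bot] at hht
  exact zero_ne_one hht

variable {S X Y : Scheme.{u}} {f : X ⟶ Y} {q : Y ⟶ S}

theorem CurveExist.baseChange (H : CurveExist f q) {Y' : Scheme.{u}} (h : Y' ⟶ Y) :
    CurveExist (pullback.snd f h) (h ≫ q) := by
  intro C r _ _ _ hnorm c hc hdim U hU u' g' hg' hu' k hk
  obtain ⟨l, hl1, hl2⟩ := H C r hnorm c hc hdim U hU (u' ≫ pullback.fst f h) (g' ≫ h)
    (by rw [Category.assoc, hg'])
    (by rw [Category.assoc, pullback.condition, ← Category.assoc, hu', Category.assoc]) k hk
  refine ⟨pullback.lift l (C.fromSpecStalk c ≫ g') (by rw [hl1, Category.assoc]),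
    pullback.lift_snd _ _ _, ?_⟩
  apply pullback.hom_ext
  · rw [Category.assoc, pullback.lift_fst, hl2, Category.assoc]
  · rw [Category.assoc, pullback.lift_snd, Category.assoc, hu', ← Category.assoc k, hk,
      Category.assoc]

theorem universallyClosed_of_curveExist (hS : ∀ W : S.affineOpens, CAlg.IsNagata Γ(S, W))
    (f : X ⟶ Y) (q : Y ⟶ S) [LocallyOfFiniteType q] [LocallyOfFiniteType f] [QuasiCompact f]
    (H : CurveExist f q) : UniversallyClosed f := by
  haveI : IsLocallyNoetherian S := ⟨fun W => (hS W).1⟩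
  apply Groth.Agent.H22.UCAn.universallyClosed_of_affineSpace
  intro n
  exact isClosedMap_of_forall_hasSpec hS (pullback.snd f (𝔸(ULift.{u} (Fin n); Y) ↘ Y))
    ((𝔸(ULift.{u} (Fin n); Y) ↘ Y) ≫ q) (fun 𝒟 => hasSpec_of_curveExist (H.baseChange _) 𝒟)

theorem curveExist_of_universallyClosed [IsLocallyNoetherian S] (f : X ⟶ Y) (q : Y ⟶ S)
    [UniversallyClosed f] : CurveExist f q := by
  intro C r _ _ _ hnorm c hc hdim U hU u g hg hu k hk
  haveI : IsLocallyNoetherian C := LocallyOfFiniteType.isLocallyNoetherian r
  haveI : IsIntegrallyClosed (C.presheaf.stalk c) := hnorm c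
  haveI : IsDomain (C.presheaf.stalk c) := inferInstance
  haveI : IsNoetherianRing (C.presheaf.stalk c) := inferInstance
  haveI : IsDiscreteValuationRing (C.presheaf.stalk c) :=
    isDiscreteValuationRing_of_dim_one (C.presheaf.stalk c) hdim
  have hE : ValuativeCriterion.Existence f := by
    have := UniversallyClosed.eq_valuativeCriterion
    have h2 : (ValuativeCriterion.Existence ⊓ @QuasiCompact) f := by
      rw [← this]; infer_instance
    exact h2.1
  let Sq : ValuativeCommSq f :=
    { R := C.presheaf.stalk c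
      commRing := inferInstance
      domain := inferInstance
      valuationRing := inferInstance
      K := FractionRing (C.presheaf.stalk c)
      i₁ := k ≫ u
      i₂ := C.fromSpecStalk c ≫ g
      commSq := ⟨by rw [Category.assoc, hu, ← Category.assoc, hk, Category.assoc]⟩ }
  obtain ⟨⟨l, h1, h2⟩⟩ := hE Sq
  exact ⟨l, h2, h1⟩

/-- **Valuative criterion of universal closedness over a Nagata base, tested on curves.** -/
theorem universallyClosed_iff_curveExist (hS : ∀ W : S.affineOpens, CAlg.IsNagata Γ(S, W))
    (p : X ⟶ S) (q : Y ⟶ S) [LocallyOfFiniteType p] [LocallyOfFiniteType q] (f : X ⟶ Y)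
    (hf : f ≫ q = p) [QuasiCompact f] : UniversallyClosed f ↔ CurveExist f q := by
  haveI : IsLocallyNoetherian S := ⟨fun W => (hS W).1⟩
  haveI : LocallyOfFiniteType (f ≫ q) := hf ▸ inferInstance
  haveI : LocallyOfFiniteType f := locallyOfFiniteType_of_comp f q
  exact ⟨fun _ => curveExist_of_universallyClosed f q,
    fun H => universallyClosed_of_curveExist hS f q H⟩

/-- The uniqueness part of the valuative criterion tested on (punctured) normal curves of finite
type over the base. -/
def CurveUniq (f : X ⟶ Y) (q : Y ⟶ S) : Prop :=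
  ∀ (C : Scheme.{u}) (r : C ⟶ S) [IsIntegral C] [LocallyOfFiniteType r] [QuasiCompact r],
    (∀ x : C, IsIntegrallyClosed (C.presheaf.stalk x)) →
    ∀ (c : C), IsClosed ({c} : Set C) → ringKrullDim (C.presheaf.stalk c) = 1 →
    ∀ (U : C.Opens), (U : Set C) = {c}ᶜ →
    ∀ (u : (U : Scheme.{u}) ⟶ X) (g : C ⟶ Y), g ≫ q = r → u ≫ f = U.ι ≫ g →
    ∀ (k : Spec (CommRingCat.of (FractionRing (C.presheaf.stalk c))) ⟶ (U : Scheme.{u})),
      k ≫ U.ι = Spec.map (CommRingCat.ofHom (algebraMap (C.presheaf.stalk c)
        (FractionRing (C.presheaf.stalk c)))) ≫ C.fromSpecStalk c →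
    ∀ l l' : Spec (C.presheaf.stalk c) ⟶ X,
      l ≫ f = C.fromSpecStalk c ≫ g →
      Spec.map (CommRingCat.ofHom (algebraMap (C.presheaf.stalk c)
        (FractionRing (C.presheaf.stalk c)))) ≫ l = k ≫ u →
      l' ≫ f = C.fromSpecStalk c ≫ g →
      Spec.map (CommRingCat.ofHom (algebraMap (C.presheaf.stalk c)
        (FractionRing (C.presheaf.stalk c)))) ≫ l' = k ≫ u → l = l'

theorem curveExist_diagonal_of_curveUniq (H : CurveUniq f q) :
    CurveExist (pullback.diagonal f) (pullback.fst f f ≫ f ≫ q) := by
  intro C r _ _ _ hnorm c hc hdim U hU u g hg hu k hk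
  let a := C.fromSpecStalk c ≫ g ≫ pullback.fst f f
  let b := C.fromSpecStalk c ≫ g ≫ pullback.snd f f
  have hu' : u ≫ f = U.ι ≫ g ≫ pullback.fst f f ≫ f := by
    rw [← Category.assoc U.ι, ← hu, Category.assoc, ← Category.assoc (pullback.diagonal f),
      pullback.diagonal_fst, Category.id_comp]
  have ha2 : Spec.map (CommRingCat.ofHom (algebraMap (C.presheaf.stalk c)
      (FractionRing (C.presheaf.stalk c)))) ≫ a = k ≫ u := by
    change _ ≫ C.fromSpecStalk c ≫ g ≫ pullback.fst f f = _
    rw [← Category.assoc, ← hk, Category.assoc, ← Category.assoc U.ι, ← hu, Category.assoc,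
      pullback.diagonal_fst, Category.comp_id]
  have hb2 : Spec.map (CommRingCat.ofHom (algebraMap (C.presheaf.stalk c)
      (FractionRing (C.presheaf.stalk c)))) ≫ b = k ≫ u := by
    change _ ≫ C.fromSpecStalk c ≫ g ≫ pullback.snd f f = _
    rw [← Category.assoc, ← hk, Category.assoc, ← Category.assoc U.ι, ← hu, Category.assoc,
      pullback.diagonal_snd, Category.comp_id]
  have hab : a = b := H C r hnorm c hc hdim U hU u (g ≫ pullback.fst f f ≫ f)
    (by rw [Category.assoc, Category.assoc]; exact hg) hu' k hk a b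
    (by simp only [a, Category.assoc]) ha2
    (by simp only [b, Category.assoc, pullback.condition]) hb2
  refine ⟨a, ?_, ha2⟩
  apply pullback.hom_ext
  · rw [Category.assoc, pullback.diagonal_fst, Category.comp_id, Category.assoc]
  · rw [Category.assoc, pullback.diagonal_snd, Category.comp_id, Category.assoc, hab]

theorem isSeparated_of_curveUniq (hS : ∀ W : S.affineOpens, CAlg.IsNagata Γ(S, W))
    (f : X ⟶ Y) (q : Y ⟶ S) [LocallyOfFiniteType q] [LocallyOfFiniteType f]
    (H : CurveUniq f q) : IsSeparated f := by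
  haveI : IsLocallyNoetherian S := ⟨fun W => (hS W).1⟩
  haveI : IsLocallyNoetherian Y := LocallyOfFiniteType.isLocallyNoetherian q
  haveI : IsLocallyNoetherian X := LocallyOfFiniteType.isLocallyNoetherian f
  have hqs : QuasiSeparated f := inferInstance
  haveI hqc : QuasiCompact (pullback.diagonal f) := hqs.1
  haveI hlft : LocallyOfFiniteType (pullback.diagonal f) := by
    have : LocallyOfFiniteType (pullback.diagonal f ≫ pullback.fst f f) := by
      rw [pullback.diagonal_fst]; infer_instance
    exact locallyOfFiniteType_of_comp (pullback.diagonal f) (pullback.fst f f)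
  have hclosed : IsClosedMap (pullback.diagonal f).base :=
    isClosedMap_of_forall_hasSpec hS (pullback.diagonal f) (pullback.fst f f ≫ f ≫ q)
      (fun 𝒟 => hasSpec_of_curveExist (curveExist_diagonal_of_curveUniq H) 𝒟)
  exact ⟨.of_isPreimmersion _ hclosed.isClosed_range⟩

theorem curveUniq_of_isSeparated [IsLocallyNoetherian S] (f : X ⟶ Y) (q : Y ⟶ S)
    [IsSeparated f] : CurveUniq f q := by
  intro C r _ _ _ hnorm c hc hdim U hU u g hg hu k hk l l' hl1 hl2 hl1' hl2'
  haveI : IsLocallyNoetherian C := LocallyOfFiniteType.isLocallyNoetherian r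
  haveI : IsIntegrallyClosed (C.presheaf.stalk c) := hnorm c
  haveI : IsDomain (C.presheaf.stalk c) := inferInstance
  haveI : IsNoetherianRing (C.presheaf.stalk c) := inferInstance
  haveI : IsDiscreteValuationRing (C.presheaf.stalk c) :=
    isDiscreteValuationRing_of_dim_one (C.presheaf.stalk c) hdim
  have hUq : ValuativeCriterion.Uniqueness f := IsSeparated.valuativeCriterion f
  let Sq : ValuativeCommSq f :=
    { R := C.presheaf.stalk c
      commRing := inferInstance
      domain := inferInstance
      valuationRing := inferInstance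
      K := FractionRing (C.presheaf.stalk c)
      i₁ := k ≫ u
      i₂ := C.fromSpecStalk c ≫ g
      commSq := ⟨by rw [Category.assoc, hu, ← Category.assoc, hk, Category.assoc]⟩ }
  have hsub := hUq Sq
  let s1 : Sq.commSq.LiftStruct := ⟨l, hl2, hl1⟩
  let s2 : Sq.commSq.LiftStruct := ⟨l', hl2', hl1'⟩
  exact congrArg (fun s => s.l) (Subsingleton.elim s1 s2)

/-- **Valuative criterion of separatedness over a Nagata base, tested on curves.** -/
theorem isSeparated_iff_curveUniq (hS : ∀ W : S.affineOpens, CAlg.IsNagata Γ(S, W))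
    (p : X ⟶ S) (q : Y ⟶ S) [LocallyOfFiniteType p] [LocallyOfFiniteType q] (f : X ⟶ Y)
    (hf : f ≫ q = p) : IsSeparated f ↔ CurveUniq f q := by
  haveI : IsLocallyNoetherian S := ⟨fun W => (hS W).1⟩
  haveI : LocallyOfFiniteType (f ≫ q) := hf ▸ inferInstance
  haveI : LocallyOfFiniteType f := locallyOfFiniteType_of_comp f q
  exact ⟨fun _ => curveUniq_of_isSeparated f q, fun H => isSeparated_of_curveUniq hS f q H⟩

end Groth.Agent.H50.NC
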