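import Mathlib
import Groth.Prelude.Def_Found
import Groth.Agent.H50.NCGeom3

/-!
# Curves over a Nagata base, geometry IV (helper50)

Valuative criteria over a Nagata base tested on discrete valuation rings essentially of finite
type over the base: `NC.EFTExist`, `NC.EFTUniq`, `NC.universallyClosed_of_eftExist`,
`NC.isSeparated_of_eftUniq`.
-/

set_option autoImplicit false
set_option linter.style.haveILetI false
set_option linter.unusedSectionVars false
universe u

open CategoryTheory CategoryTheory.Limits AlgebraicGeometry Opposite Topology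

namespace Groth.Agent.H50.NC

variable {S X Y : Scheme.{u}} {f : X ⟶ Y} {q : Y ⟶ S}

/-- The valuation ring of a valuative square is essentially of finite type over the base. -/
def EFTHyp (f : X ⟶ Y) (q : Y ⟶ S) (sq : ValuativeCommSq f) : Prop :=
  ∃ (U : S.affineOpens) (φ : Γ(S, U.1) ⟶ CommRingCat.of sq.R),
    Spec.map φ ≫ U.2.fromSpec = sq.i₂ ≫ q ∧ φ.hom.EssFiniteType

/-- Existence part of the valuative criterion for DVRs essentially of finite type over `S`. -/
def EFTExist (f : X ⟶ Y) (q : Y ⟶ S) : Prop :=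
  ∀ sq : ValuativeCommSq f, IsDiscreteValuationRing sq.R → EFTHyp f q sq → sq.commSq.HasLift

/-- Uniqueness part of the valuative criterion for DVRs essentially of finite type over `S`. -/
def EFTUniq (f : X ⟶ Y) (q : Y ⟶ S) : Prop :=
  ∀ sq : ValuativeCommSq f, IsDiscreteValuationRing sq.R → EFTHyp f q sq →
    Subsingleton sq.commSq.LiftStruct

/-- The local ring of the curve at its closed point. -/
abbrev CurveDatum.locRing (𝒟 : CurveDatum f q) : Type u := Localization.AtPrime 𝒟.𝔪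

/-- The function field of the curve. -/
abbrev CurveDatum.fracField (𝒟 : CurveDatum f q) : Type u := FractionRing 𝒟.D

set_option maxHeartbeats 1600000 in
theorem hasSpec_of_eftExist [IsLocallyNoetherian S] (H : EFTExist f q) (𝒟 : CurveDatum f q) :
    𝒟.HasSpec := by
  classical
  let A₀ := Γ(S, 𝒟.U₀)
  haveI : IsNoetherianRing A₀ := IsLocallyNoetherian.component_noetherian ⟨𝒟.U₀, 𝒟.hU₀⟩
  letI : Algebra A₀ 𝒟.D := 𝒟.φ.hom.toAlgebra
  haveI hft : Algebra.FiniteType A₀ 𝒟.D := 𝒟.hφ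
  haveI : IsNoetherianRing 𝒟.D := Algebra.FiniteType.isNoetherianRing A₀ 𝒟.D
  have hle : 𝒟.𝔪.primeCompl ≤ nonZeroDivisors 𝒟.D := 𝒟.𝔪.primeCompl_le_nonZeroDivisors
  haveI : IsDomain 𝒟.locRing := IsLocalization.isDomain_localization hle
  haveI : IsNoetherianRing 𝒟.locRing := IsLocalization.isNoetherianRing 𝒟.𝔪.primeCompl 𝒟.locRing inferInstance
  haveI : IsIntegrallyClosed 𝒟.locRing := isIntegrallyClosed_of_isLocalization 𝒟.locRing 𝒟.𝔪.primeCompl hle
  have hdimR : ringKrullDim 𝒟.locRing = 1 := by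
    rw [IsLocalization.AtPrime.ringKrullDim_eq_height 𝒟.𝔪 𝒟.locRing,
      height_eq_one_of_dimOne 𝒟.𝔪 𝒟.h𝔪0 𝒟.hdim]
    rfl
  haveI hDVR : IsDiscreteValuationRing 𝒟.locRing := isDiscreteValuationRing_of_dim_one 𝒟.locRing hdimR
  have hinjDR : Function.Injective (algebraMap 𝒟.D 𝒟.locRing) := IsLocalization.injective 𝒟.locRing hle
  have hinjRK : Function.Injective (algebraMap 𝒟.locRing 𝒟.fracField) := IsFractionRing.injective 𝒟.locRing 𝒟.fracField
  have hsK : algebraMap 𝒟.D 𝒟.fracField 𝒟.s ≠ 0 := by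
    rw [IsScalarTower.algebraMap_apply 𝒟.D 𝒟.locRing 𝒟.fracField]
    intro e
    exact 𝒟.s_ne_zero (hinjDR (hinjRK (e.trans (map_zero _).symm) |>.trans (map_zero _).symm))
  have hunit : IsUnit (algebraMap 𝒟.D 𝒟.fracField 𝒟.s) := IsUnit.mk0 _ hsK
  let ι₁ : Localization.Away 𝒟.s →+* 𝒟.fracField := IsLocalization.Away.lift 𝒟.s hunit
  have hι₁ : ι₁.comp (algebraMap 𝒟.D (Localization.Away 𝒟.s)) =
      (algebraMap 𝒟.locRing 𝒟.fracField).comp (algebraMap 𝒟.D 𝒟.locRing) := by
    ext d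
    rw [RingHom.comp_apply, IsLocalization.Away.lift_eq, RingHom.comp_apply,
      ← IsScalarTower.algebraMap_apply]
  let sq : ValuativeCommSq f :=
    { R := 𝒟.locRing
      K := 𝒟.fracField
      i₁ := Spec.map (CommRingCat.ofHom ι₁) ≫ 𝒟.u
      i₂ := Spec.map (CommRingCat.ofHom (algebraMap 𝒟.D 𝒟.locRing)) ≫ 𝒟.g
      commSq := ⟨by
        rw [Category.assoc, 𝒟.hu, ← Category.assoc, ← Spec.map_comp, ← Category.assoc,
          ← Spec.map_comp, ← CommRingCat.ofHom_comp, ← CommRingCat.ofHom_comp, hι₁]⟩ }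
  have hEFT : EFTHyp f q sq := by
    refine ⟨⟨𝒟.U₀, 𝒟.hU₀⟩, 𝒟.φ ≫ CommRingCat.ofHom (algebraMap 𝒟.D 𝒟.locRing), ?_, ?_⟩
    · change Spec.map (𝒟.φ ≫ CommRingCat.ofHom (algebraMap 𝒟.D 𝒟.locRing)) ≫ 𝒟.hU₀.fromSpec =
        (Spec.map (CommRingCat.ofHom (algebraMap 𝒟.D 𝒟.locRing)) ≫ 𝒟.g) ≫ q
      rw [Spec.map_comp, Category.assoc, Category.assoc, 𝒟.hg]
    · have h1 : Algebra.EssFiniteType A₀ 𝒟.locRing := inferInstance
      have h2 := RingHom.essFiniteType_algebraMap.mpr h1
      have h3 : algebraMap A₀ 𝒟.locRing = (algebraMap 𝒟.D 𝒟.locRing).comp 𝒟.φ.hom :=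
        IsScalarTower.algebraMap_eq A₀ 𝒟.D 𝒟.locRing
      rw [h3] at h2
      exact h2
  obtain ⟨⟨l, h1, h2⟩⟩ := (H sq hDVR hEFT).exists_lift
  refine ⟨l.base (IsLocalRing.closedPoint 𝒟.locRing), ?_, ?_⟩
  · have h3 := congrArg (fun φ => φ.base (IsLocalRing.closedPoint 𝒟.locRing)) h2
    change f.base (l.base _) = 𝒟.g.base ((Spec.map (CommRingCat.ofHom (algebraMap 𝒟.D 𝒟.locRing))).base _)
      at h3
    rw [h3]
    congr 1
    apply PrimeSpectrum.ext
    exact Localization.AtPrime.under_maximalIdeal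
  · let η : Spec (CommRingCat.of 𝒟.fracField) := IsLocalRing.closedPoint 𝒟.fracField
    have h3 : (Spec.map (CommRingCat.ofHom (algebraMap 𝒟.locRing 𝒟.fracField))).base η ⤳ IsLocalRing.closedPoint 𝒟.locRing :=
      IsLocalRing.specializes_closedPoint _
    have h4 := h3.map l.base.hom.continuous
    have h5 : l.base ((Spec.map (CommRingCat.ofHom (algebraMap 𝒟.locRing 𝒟.fracField))).base η) =
        𝒟.u.base ((Spec.map (CommRingCat.ofHom ι₁)).base η) :=
      congrArg (fun φ => φ.base η) h1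
    rw [h5] at h4
    exact h4.mem_closed isClosed_closure (subset_closure ⟨_, rfl⟩)

theorem EFTExist.baseChange (H : EFTExist f q) {Y' : Scheme.{u}} (h : Y' ⟶ Y) :
    EFTExist (pullback.snd f h) (h ≫ q) := by
  rintro sq' hDVR ⟨U, φ, hφ1, hφ2⟩
  let sq : ValuativeCommSq f :=
    { R := sq'.R
      K := sq'.K
      i₁ := sq'.i₁ ≫ pullback.fst f h
      i₂ := sq'.i₂ ≫ h
      commSq := ⟨by
        rw [Category.assoc, pullback.condition, ← Category.assoc, sq'.commSq.w, Category.assoc]⟩ }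
  have hl : sq.commSq.HasLift := H sq hDVR ⟨U, φ, by rw [hφ1, Category.assoc], hφ2⟩
  obtain ⟨⟨l, h1, h2⟩⟩ := hl.exists_lift
  refine ⟨⟨⟨pullback.lift l sq'.i₂ h2, ?_, pullback.lift_snd _ _ _⟩⟩⟩
  apply pullback.hom_ext
  · rw [Category.assoc, pullback.lift_fst]
    exact h1
  · rw [Category.assoc, pullback.lift_snd]
    exact sq'.commSq.w.symm

theorem universallyClosed_of_eftExist (hS : ∀ W : S.affineOpens, CAlg.IsNagata Γ(S, W))
    (f : X ⟶ Y) (q : Y ⟶ S) [LocallyOfFiniteType q] [LocallyOfFiniteType f] [QuasiCompact f]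
    (H : EFTExist f q) : UniversallyClosed f := by
  haveI : IsLocallyNoetherian S := ⟨fun W => (hS W).1⟩
  apply Groth.Agent.H22.UCAn.universallyClosed_of_affineSpace
  intro n
  exact isClosedMap_of_forall_hasSpec hS (pullback.snd f (𝔸(ULift.{u} (Fin n); Y) ↘ Y))
    ((𝔸(ULift.{u} (Fin n); Y) ↘ Y) ≫ q) (fun 𝒟 => hasSpec_of_eftExist (H.baseChange _) 𝒟)

theorem eftExist_diagonal_of_eftUniq (H : EFTUniq f q) :
    EFTExist (pullback.diagonal f) (pullback.fst f f ≫ f ≫ q) := by
  rintro sq hDVR ⟨U, φ, hφ1, hφ2⟩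
  have hw : sq.i₁ ≫ pullback.diagonal f =
      Spec.map (CommRingCat.ofHom (algebraMap sq.R sq.K)) ≫ sq.i₂ := sq.commSq.w
  let sqf : ValuativeCommSq f :=
    { R := sq.R
      K := sq.K
      i₁ := sq.i₁
      i₂ := sq.i₂ ≫ pullback.fst f f ≫ f
      commSq := ⟨by
        rw [← Category.assoc, ← hw, Category.assoc, ← Category.assoc (pullback.diagonal f),
          pullback.diagonal_fst, Category.id_comp]⟩ }
  haveI : Subsingleton sqf.commSq.LiftStruct :=
    H sqf hDVR ⟨U, φ, by rw [hφ1]; simp only [sqf, Category.assoc], hφ2⟩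
  let a : sqf.commSq.LiftStruct :=
    ⟨sq.i₂ ≫ pullback.fst f f, by
      rw [← Category.assoc, ← hw, Category.assoc, pullback.diagonal_fst, Category.comp_id],
      by rw [Category.assoc]⟩
  let b : sqf.commSq.LiftStruct :=
    ⟨sq.i₂ ≫ pullback.snd f f, by
      rw [← Category.assoc, ← hw, Category.assoc, pullback.diagonal_snd, Category.comp_id],
      by rw [Category.assoc, ← pullback.condition]⟩
  have hab : sq.i₂ ≫ pullback.fst f f = sq.i₂ ≫ pullback.snd f f :=
    congrArg (fun s => s.l) (Subsingleton.elim a b)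
  refine ⟨⟨⟨sq.i₂ ≫ pullback.fst f f, ?_, ?_⟩⟩⟩
  · rw [← Category.assoc, ← hw, Category.assoc, pullback.diagonal_fst, Category.comp_id]
  · apply pullback.hom_ext
    · rw [Category.assoc, pullback.diagonal_fst, Category.comp_id]
    · rw [Category.assoc, pullback.diagonal_snd, Category.comp_id, hab]

theorem isSeparated_of_eftUniq (hS : ∀ W : S.affineOpens, CAlg.IsNagata Γ(S, W))
    (f : X ⟶ Y) (q : Y ⟶ S) [LocallyOfFiniteType q] [LocallyOfFiniteType f]
    (H : EFTUniq f q) : IsSeparated f := by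
  haveI : IsLocallyNoetherian S := ⟨fun W => (hS W).1⟩
  haveI : IsLocallyNoetherian Y := LocallyOfFiniteType.isLocallyNoetherian q
  haveI : IsLocallyNoetherian X := LocallyOfFiniteType.isLocallyNoetherian f
  have hqs : QuasiSeparated f := inferInstance
  haveI hqc : QuasiCompact (pullback.diagonal f) := hqs.1
  haveI hlft : LocallyOfFiniteType (pullback.diagonal f) := by
    have : LocallyOfFiniteType (pullback.diagonal f ≫ pullback.fst f f) := by
      rw [pullback.diagonal_fst]; infer_instance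
    exact locallyOfFiniteType_of_comp (pullback.diagonal f) (pullback.fst f f)
  have hclosed : IsClosedMap (pullback.diagonal f).base :=
    isClosedMap_of_forall_hasSpec hS (pullback.diagonal f) (pullback.fst f f ≫ f ≫ q)
      (fun 𝒟 => hasSpec_of_eftExist (eftExist_diagonal_of_eftUniq H) 𝒟)
  exact ⟨.of_isPreimmersion _ hclosed.isClosed_range⟩

end Groth.Agent.H50.NC
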