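import Mathlib

/-!
# Base change of a diagram over `Y` along a morphism `A ⟶ Y` (generic category)

For `D : I ⥤ C` with a cocone-like structure map `t : D ⟶ const Y` and `a : A ⟶ Y`, the diagram
`i ↦ A ×_Y D_i`; if `I` is cofiltered and `c` is a limit cone of `D` then `A ×_Y c.pt` is the limit.
-/

set_option autoImplicit false
universe u
open CategoryTheory CategoryTheory.Limits

namespace Groth.Agent.H50

variable {C : Type*} [Category C] [HasPullbacks C] {I : Type*} [Category I] (D : I ⥤ C) {Y : C}
  (t : D ⟶ (Functor.const I).obj Y) {A : C} (a : A ⟶ Y)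

omit [HasPullbacks C] in
theorem pbOver_naturality {i j : I} (φ : i ⟶ j) : D.map φ ≫ t.app j = t.app i := by
  have := t.naturality φ
  simp only [Functor.const_obj_obj, Functor.const_obj_map, Category.comp_id] at this
  exact this

set_option backward.isDefEq.respectTransparency false in
/-- The diagram `i ↦ A ×_Y D_i`. -/
noncomputable def pbOver : I ⥤ C where
  obj i := pullback a (t.app i)
  map {i j} φ := pullback.map a (t.app i) a (t.app j) (𝟙 A) (D.map φ) (𝟙 Y) (by simp)
    (by rw [Category.comp_id, pbOver_naturality])
  map_id i := by
    apply pullback.hom_ext <;> simp [pullback.map]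
  map_comp f f' := by
    apply pullback.hom_ext <;> simp [pullback.map]

set_option backward.isDefEq.respectTransparency false in
@[reassoc]
theorem pbOver_map_fst {i j : I} (φ : i ⟶ j) :
    (pbOver D t a).map φ ≫ pullback.fst a (t.app j) = pullback.fst a (t.app i) := by
  simp [pbOver, pullback.map]

set_option backward.isDefEq.respectTransparency false in
@[reassoc]
theorem pbOver_map_snd {i j : I} (φ : i ⟶ j) :
    (pbOver D t a).map φ ≫ pullback.snd a (t.app j) = pullback.snd a (t.app i) ≫ D.map φ := by
  simp [pbOver, pullback.map]

set_option backward.isDefEq.respectTransparency false in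
/-- The transition maps of `pbOver` are base changes of those of `D`. -/
theorem isPullback_pbOver_map {i j : I} (φ : i ⟶ j) :
    IsPullback ((pbOver D t a).map φ) (pullback.snd a (t.app i)) (pullback.snd a (t.app j))
      (D.map φ) := by
  refine IsPullback.of_right ?_ (pbOver_map_snd D t a φ)
    (IsPullback.of_hasPullback a (t.app j))
  rw [pbOver_map_fst, pbOver_naturality]
  exact IsPullback.of_hasPullback a (t.app i)

variable (c : Cone D) (g : c.pt ⟶ Y) (hg : ∀ i, c.π.app i ≫ t.app i = g)

set_option backward.isDefEq.respectTransparency false in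
/-- The cone with point `A ×_Y c.pt`. -/
noncomputable def pbOverCone : Cone (pbOver D t a) where
  pt := pullback a g
  π :=
    { app := fun i => pullback.map a g a (t.app i) (𝟙 A) (c.π.app i) (𝟙 Y) (by simp)
        (by rw [Category.comp_id, hg])
      naturality := fun i j φ => by
        apply pullback.hom_ext <;> simp [pbOver, pullback.map] }

set_option backward.isDefEq.respectTransparency false in
@[reassoc]
theorem pbOverCone_π_fst (i : I) :
    (pbOverCone D t a c g hg).π.app i ≫ pullback.fst a (t.app i) = pullback.fst a g := by
  simp [pbOverCone, pullback.map]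

set_option backward.isDefEq.respectTransparency false in
@[reassoc]
theorem pbOverCone_π_snd (i : I) :
    (pbOverCone D t a c g hg).π.app i ≫ pullback.snd a (t.app i) =
      pullback.snd a g ≫ c.π.app i := by
  simp [pbOverCone, pullback.map]

set_option backward.isDefEq.respectTransparency false in
/-- `A ×_Y c.pt` is the limit of the `A ×_Y D_i`. -/
noncomputable def pbOverConeIsLimit [IsCofiltered I] (hc : IsLimit c) :
    IsLimit (pbOverCone D t a c g hg) := by
  have key : ∀ (s : Cone (pbOver D t a)) {i j : I} (φ : i ⟶ j),
      s.π.app i ≫ pullback.fst a (t.app i) = s.π.app j ≫ pullback.fst a (t.app j) := by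
    intro s i j φ
    rw [← s.w φ, Category.assoc, pbOver_map_fst]
  have hfst : ∀ (s : Cone (pbOver D t a)) (i j : I),
      s.π.app i ≫ pullback.fst a (t.app i) = s.π.app j ≫ pullback.fst a (t.app j) := by
    intro s i j
    rw [← key s (IsCofiltered.minToLeft i j), key s (IsCofiltered.minToRight i j)]
  haveI : Nonempty I := IsCofiltered.nonempty
  let i₀ : I := Classical.arbitrary I
  let sc : Cone (pbOver D t a) → Cone D := fun s =>
    { pt := s.pt
      π :=
        { app := fun i => s.π.app i ≫ pullback.snd a (t.app i)
          naturality := fun i j φ => by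
            simp only [Functor.const_obj_obj, Functor.const_obj_map, Category.id_comp,
              Category.assoc]
            rw [← pbOver_map_snd, ← Category.assoc, s.w φ] } }
  refine
    { lift := fun s => pullback.lift (s.π.app i₀ ≫ pullback.fst a (t.app i₀)) (hc.lift (sc s)) ?_
      fac := ?_
      uniq := ?_ }
  · rw [← hg i₀, ← Category.assoc (hc.lift (sc s)), hc.fac]
    simp [sc, pullback.condition]
  · intro s i
    apply pullback.hom_ext
    · rw [Category.assoc, pbOverCone_π_fst, pullback.lift_fst]
      exact hfst s i₀ i
    · rw [Category.assoc, pbOverCone_π_snd, pullback.lift_snd_assoc, hc.fac]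
  · intro s m hm
    apply pullback.hom_ext
    · rw [pullback.lift_fst, ← hm i₀, Category.assoc, pbOverCone_π_fst]
    · rw [pullback.lift_snd]
      apply hc.hom_ext
      intro i
      rw [hc.fac, Category.assoc, ← pbOverCone_π_snd D t a c g hg i, ← Category.assoc, hm i]

set_option backward.isDefEq.respectTransparency false in
/-- The graph square. -/
theorem isPullback_graph {X X' : C} (π : X ⟶ X') (t' : X' ⟶ Y) (g' : X ⟶ Y) (h : π ≫ t' = g') :
    IsPullback π (pullback.lift (𝟙 X) π (by rw [Category.id_comp, h]))
      (pullback.diagonal t')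
      (pullback.map g' t' t' t' π (𝟙 X') (𝟙 Y) (by rw [Category.comp_id, h]) (by simp)) := by
  subst h
  exact pullback_lift_diagonal_isPullback π t'

set_option backward.isDefEq.respectTransparency false in
/-- `X ×_Y X' = X ×_{X'} (X' ×_Y X')`. -/
theorem isPullback_map_fst_fst {X X' : C} (π : X ⟶ X') (t' : X' ⟶ Y) (g' : X ⟶ Y)
    (h : π ≫ t' = g') :
    IsPullback
      (pullback.map g' t' t' t' π (𝟙 X') (𝟙 Y) (by rw [Category.comp_id, h]) (by simp))
      (pullback.fst g' t') (pullback.fst t' t') π := by
  have h1 : IsPullback (pullback.fst g' t')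
      (pullback.map g' t' t' t' π (𝟙 X') (𝟙 Y) (by rw [Category.comp_id, h]) (by simp))
      π (pullback.fst t' t') := by
    refine IsPullback.of_bot ?_ (by simp [pullback.map]) (IsPullback.of_hasPullback t' t')
    have h2 : pullback.map g' t' t' t' π (𝟙 X') (𝟙 Y) (by rw [Category.comp_id, h]) (by simp) ≫
        pullback.snd t' t' = pullback.snd g' t' := by simp [pullback.map]
    rw [h2, h]
    exact IsPullback.of_hasPullback g' t'
  exact h1.flip

end Groth.Agent.H50
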