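import Groth.Agent.H50.DVRSp3

set_option autoImplicit false
set_option backward.isDefEq.respectTransparency false
set_option linter.style.haveILetI false
set_option linter.unusedSectionVars false
universe u
open CategoryTheory CategoryTheory.Limits AlgebraicGeometry Opposite Topology

namespace Groth.Agent.H50
open AlgSp Groth.Agent.H49

variable {S : Scheme.{u}}

namespace PropDVR

/-- The global sections map of `Spec.map φ` is injective when `φ` is. -/
theorem appTop_specMap_injective {R R' : Type u} [CommRing R] [CommRing R'] (ρ : R →+* R')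
    (hρ : Function.Injective ρ) :
    Function.Injective (Spec.map (CommRingCat.ofHom ρ)).appTop := by
  have h := Scheme.ΓSpecIso_naturality (CommRingCat.ofHom ρ)
  have h1 : Function.Injective ((Spec.map (CommRingCat.ofHom ρ)).appTop ≫
      (Scheme.ΓSpecIso (CommRingCat.of R')).hom) := by
    rw [h]
    change Function.Injective (ρ ∘ (Scheme.ΓSpecIso (CommRingCat.of R)).hom)
    exact hρ.comp (ConcreteCategory.bijective_of_isIso _).1
  intro a b hab
  apply h1
  change (Scheme.ΓSpecIso (CommRingCat.of R')).hom ((Spec.map (CommRingCat.ofHom ρ)).appTop a) =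
    (Scheme.ΓSpecIso (CommRingCat.of R')).hom ((Spec.map (CommRingCat.ofHom ρ)).appTop b)
  rw [hab]

/-- **Equality on a schematically dense piece**: two morphisms from an affine scheme `W` to a
sheaf separated over a scheme `T`, lying over the same morphism to `T`, which agree after
restriction along `r : W' ⟶ W` inducing an injection on global functions, are equal. -/
theorem eq_of_isSeparatedMor_of_injective {X' : Sp S} {T : Over S} (π : X' ⟶ (yon S).obj T)
    (hsep : IsSeparatedMor π) {W W' : Over S} [IsAffine W.left] (r : W' ⟶ W)
    (hρ : Function.Injective r.left.appTop)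
    (a₁ a₂ : (yon S).obj W ⟶ X') (hπ : a₁ ≫ π = a₂ ≫ π)
    (hr : (yon S).map r ≫ a₁ = (yon S).map r ≫ a₂) : a₁ = a₂ := by
  let d : (yon S).obj W ⟶ pullback π π := pullback.lift a₁ a₂ hπ
  obtain ⟨E, e, fst, sqE⟩ := hsep.rep d
  haveI hcl : IsClosedImmersion e.left := hsep.property d fst e sqE
  have h1 : fst = (yon S).map e ≫ a₁ := by
    have := sqE.w =≫ pullback.fst π π
    simpa [d] using this
  have h2 : fst = (yon S).map e ≫ a₂ := by
    have := sqE.w =≫ pullback.snd π π
    simpa [d] using this
  -- `r` factors through `e`
  have hw : ((yon S).map r ≫ a₁) ≫ pullback.diagonal π = (yon S).map r ≫ d := by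
    apply pullback.hom_ext
    · simp [d]
    · simp [d, hr]
  obtain ⟨t, -, ht⟩ := sqE.exists_lift _ _ hw
  obtain ⟨t₀, rfl⟩ := (yon S).map_surjective t
  rw [← Functor.map_comp] at ht
  have ht' : t₀ ≫ e = r := (yon S).map_injective ht
  have htl : t₀.left ≫ e.left = r.left := congrArg (fun φ => φ.left) ht'
  -- `e.left` is an isomorphism
  have hinj : Function.Injective e.left.appTop := by
    have h3 : Function.Injective (e.left.appTop ≫ t₀.left.appTop) := by
      rw [← Scheme.Hom.comp_appTop, htl]
      exact hρ
    intro x y hxy
    apply h3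
    change t₀.left.appTop (e.left.appTop x) = t₀.left.appTop (e.left.appTop y)
    rw [hxy]
  haveI : IsIso e.left := IsClosedImmersion.isIso_of_injective_of_isAffine hinj
  haveI : IsIso e := by
    have : IsIso ((Over.forget S).map e) := ‹IsIso e.left›
    exact isIso_of_reflects_iso e (Over.forget S)
  haveI : IsIso ((yon S).map e) := inferInstance
  rw [← cancel_epi ((yon S).map e), ← h1, ← h2]

end PropDVR

end Groth.Agent.H50
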