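import Groth.Agent.H50.PropDVR8
import Groth.Agent.H51.SpUnivClosedVC

set_option autoImplicit false
set_option backward.isDefEq.respectTransparency false
set_option linter.style.haveILetI false
set_option linter.unusedSectionVars false
universe u
open CategoryTheory CategoryTheory.Limits AlgebraicGeometry Opposite Topology

namespace Groth.Agent.H50
open AlgSp Groth.Agent.H49

variable {S : Scheme.{u}}

namespace PropDVR

set_option maxHeartbeats 800000 in
/-- **Lift after a finite separable extension from a generization in a chart**: if in an étale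
chart `c : Spec B ⟶ X_A` of the base change of `f` to the valuation ring, a point `u₁` over the
`K`-point specializes to a point `u₀` over the closed point of `Spec A`, then the valuative square
has a lift after a finite separable extension of the fraction field. -/
theorem exists_ext_lift_of_generization {F G : Sp S} (f : F ⟶ G) (sq : ValSq f) {X' : Sp S}
    (fst : X' ⟶ F) (π : X' ⟶ (yon S).obj sq.ptA) (sqX : IsPullback fst π f sq.bot)
    (x : (yon S).obj sq.ptK ⟶ X') (hx1 : x ≫ fst = sq.top) (hx2 : x ≫ π = (yon S).map sq.j)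
    {B : Type u} [CommRing B] (strU : Spec (.of B) ⟶ S)
    (c : (yon S).obj (Over.mk strU) ⟶ X') (hce : RepWith @Etale c) (u₀ u₁ : ↥(Spec (.of B)))
    (hsp : u₁ ⤳ u₀) (hu₁ : Points.ofPt c u₁ = Points.ofPt x (IsLocalRing.closedPoint sq.K))
    (hu₀ : Points.map π (Points.ofPt c u₀) =
      Points.ofScheme sq.ptA (IsLocalRing.closedPoint sq.A)) :
    ∃ e : sq.DomExt,
      (letI := e.ψ.toAlgebra; Module.Finite sq.K e.K' ∧ Algebra.IsSeparable sq.K e.K') ∧
        e.HasLift := by
  classical
  obtain ⟨gU, hgU⟩ := (yon S).map_surjective (c ≫ π)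
  have hugU : gU.left.base u₀ = IsLocalRing.closedPoint sq.A := by
    have h1 := hu₀
    rw [Points.map_ofPt, ← hgU] at h1
    have h2 := congrArg (Points.toScheme sq.ptA) h1
    rw [Points.toScheme_ofPt, Points.toScheme_ofScheme] at h2
    exact h2
  -- the fibre product of the chart with the `K`-point
  obtain ⟨Φ, ψ₀, fst₀, sq₀⟩ := hce.rep x
  obtain ⟨θ, rfl⟩ := (yon S).map_surjective fst₀
  haveI hψ₀e : Etale ψ₀.left := hce.property x _ ψ₀ sq₀
  have hnx : Points.map c (Points.ofScheme _ u₁) =
      Points.map x (Points.ofScheme _ (IsLocalRing.closedPoint sq.K)) := by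
    rw [← Points.ofPt_eq_map_ofScheme, ← Points.ofPt_eq_map_ofScheme, hu₁]
  obtain ⟨z, hz1, -⟩ := Groth.Agent.H53.exists_point_of_isPullback sq₀ _ _ hnx
  obtain ⟨φ, rfl⟩ := (Points.schemeEquiv Φ).surjective z
  have hθφ : θ.left.base φ = u₁ := by
    have := congrArg (Points.toScheme (Over.mk strU)) hz1
    rw [Points.toScheme_ofScheme] at this
    rw [← this]
    change _ = Points.toScheme _ (Points.map _ (Points.ofScheme _ φ))
    rw [← Points.ofPt_eq_map_ofScheme, Points.toScheme_ofPt]
  have hθg : θ ≫ gU = ψ₀ ≫ sq.j := by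
    apply (yon S).map_injective
    rw [Functor.map_comp, Functor.map_comp, hgU, ← Category.assoc, sq₀.w, Category.assoc, hx2]
  have hθg' : θ.left ≫ gU.left = ψ₀.left ≫ Spec.map (CommRingCat.ofHom (algebraMap sq.A sq.K)) :=
    congrArg (fun k => k.left) hθg
  -- the valuation ring
  obtain ⟨V, m, hcl, hgen⟩ := Groth.Agent.H51.exists_valuationSubring_of_specializes
    (N := Spec (.of B)) (n := θ.left.base φ) (n' := u₀) (by rw [hθφ]; exact hsp)
    (Ω := Φ.left.residueField φ)
    (θ.left.residueFieldMap φ : _ ⟶ CommRingCat.of (Φ.left.residueField φ))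
  have hgen' : Spec.map (CommRingCat.ofHom (algebraMap V (Φ.left.residueField φ))) ≫ m =
      Φ.left.fromSpecResidueField φ ≫ θ.left := by
    rw [hgen]
    exact Scheme.Hom.SpecMap_residueFieldMap_fromSpecResidueField θ.left φ
  -- the extension
  let φr : sq.A →+* V := (Spec.preimage (m ≫ gU.left)).hom
  have hφr : Spec.map (CommRingCat.ofHom φr) = m ≫ gU.left := Spec.map_preimage _
  let ψr : sq.K →+* Φ.left.residueField φ :=
    (Spec.preimage (Φ.left.fromSpecResidueField φ ≫ ψ₀.left)).hom
  have hψr : Spec.map (CommRingCat.ofHom ψr) = Φ.left.fromSpecResidueField φ ≫ ψ₀.left :=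
    Spec.map_preimage _
  have hcomm : (algebraMap V (Φ.left.residueField φ)).comp φr =
      ψr.comp (algebraMap sq.A sq.K) := by
    have : CommRingCat.ofHom φr ≫ CommRingCat.ofHom (algebraMap V (Φ.left.residueField φ)) =
        CommRingCat.ofHom (algebraMap sq.A sq.K) ≫ CommRingCat.ofHom ψr := by
      apply Spec.map_injective
      rw [Spec.map_comp, Spec.map_comp, hφr, hψr, ← Category.assoc, hgen', Category.assoc, hθg',
        Category.assoc]
    exact congrArg (fun k => k.hom) this
  have hloc : IsLocalHom φr := by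
    refine ((IsLocalRing.local_hom_TFAE φr).out 0 4).2 ?_
    have h1 : (Spec.map (CommRingCat.ofHom φr)).base (IsLocalRing.closedPoint V) =
        IsLocalRing.closedPoint sq.A := by
      rw [hφr]
      change gU.left.base (m.base (IsLocalRing.closedPoint V)) = _
      rw [hcl]
      exact hugU
    exact congrArg PrimeSpectrum.asIdeal h1
  let e : sq.DomExt :=
    { A' := V
      K' := Φ.left.residueField φ
      φ := φr
      ψ := ψr
      comm := hcomm
      isLocalHom := hloc }
  refine ⟨e, finite_separable_of_etale_over_field ψ₀.left φ ψr hψr, ?_⟩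
  -- the lift
  have hmO : m ≫ strU = Spec.map (CommRingCat.ofHom φr) ≫ sq.str := by
    rw [hφr, Category.assoc]
    congr 1
    exact (Over.w gU).symm
  let mO : e.ptA' ⟶ Over.mk strU := Over.homMk m hmO
  let jK' : e.ptK' ⟶ e.ptA' :=
    Over.homMk (Spec.map (CommRingCat.ofHom (algebraMap V (Φ.left.residueField φ)))) rfl
  let ιA : e.ptA' ⟶ sq.ptA := Over.homMk (Spec.map (CommRingCat.ofHom φr)) rfl
  have hιΦ : Φ.left.fromSpecResidueField φ ≫ Φ.hom =
      Spec.map (CommRingCat.ofHom (algebraMap V (Φ.left.residueField φ))) ≫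
        Spec.map (CommRingCat.ofHom φr) ≫ sq.str := by
    have h1 : Φ.hom = θ.left ≫ strU := (Over.w θ).symm
    rw [h1, ← Category.assoc, ← hgen', Category.assoc, hmO]
  let ιΦ : e.ptK' ⟶ Φ := Over.homMk (Φ.left.fromSpecResidueField φ) hιΦ
  have hθ1 : jK' ≫ mO = ιΦ ≫ θ := by
    apply Over.OverMorphism.ext
    exact hgen'
  have hθ2 : (Over.homMk (Spec.map (CommRingCat.ofHom e.ψ)) (by
        change Spec.map _ ≫ Spec.map _ ≫ _ = Spec.map _ ≫ Spec.map _ ≫ _
        rw [← Spec.map_comp_assoc, ← Spec.map_comp_assoc, ← CommRingCat.ofHom_comp,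
          ← CommRingCat.ofHom_comp, e.comm]) : e.ptK' ⟶ sq.ptK) = ιΦ ≫ ψ₀ := by
    apply Over.OverMorphism.ext
    exact hψr
  refine ⟨(yon S).map mO ≫ c ≫ fst, ?_, ?_⟩
  · rw [hθ2]
    change (yon S).map jK' ≫ (yon S).map mO ≫ c ≫ fst = _
    rw [← Category.assoc, ← Functor.map_comp, hθ1, Functor.map_comp, Category.assoc,
      ← Category.assoc ((yon S).map θ), sq₀.w, Category.assoc, hx1, Functor.map_comp,
      Category.assoc]
  · change ((yon S).map mO ≫ c ≫ fst) ≫ f = (yon S).map ιA ≫ sq.bot
    have h1 : mO ≫ gU = ιA := by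
      apply Over.OverMorphism.ext
      exact hφr.symm
    rw [Category.assoc, Category.assoc, sqX.w, ← Category.assoc c, ← hgU, ← Category.assoc,
      ← Functor.map_comp, h1]

end PropDVR

end Groth.Agent.H50
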