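import Groth.Agent.H50.PropDVR3
import Groth.Agent.H50.LocPBase
import Groth.Agent.H51.SpVC2

set_option autoImplicit false
set_option backward.isDefEq.respectTransparency false
set_option linter.style.haveILetI false
set_option linter.unusedSectionVars false
universe u
open CategoryTheory CategoryTheory.Limits AlgebraicGeometry Opposite Topology TensorProduct

namespace Groth.Agent.H50
open AlgSp Groth.Agent.H49 UCSp

variable {S : Scheme.{u}}

namespace PropDVR

/-- Replace an affine étale chart by one of the form `Spec B`. -/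
theorem exists_spec_chart {X' : Sp S} {U : Over S} [IsAffine U.left]
    (c : (yon S).obj U ⟶ X') (hce : RepWith @Etale c) (u : ↥U.left) :
    ∃ (B : Type u) (_ : CommRing B) (strU : Spec (.of B) ⟶ S)
      (c' : (yon S).obj (Over.mk strU) ⟶ X') (u' : ↥(Spec (.of B))),
      RepWith @Etale c' ∧ Points.ofPt c' u' = Points.ofPt c u := by
  let ω : Over.mk (U.left.isoSpec.inv ≫ U.hom) ⟶ U := Over.homMk U.left.isoSpec.inv rfl
  haveI : IsIso ω.left := inferInstanceAs (IsIso U.left.isoSpec.inv)
  haveI : Etale ω.left := inferInstance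
  refine ⟨Γ(U.left, ⊤), inferInstance, U.left.isoSpec.inv ≫ U.hom, (yon S).map ω ≫ c,
    U.left.isoSpec.hom.base u, repWith_etale_yon_map_comp ω c hce, ?_⟩
  rw [Groth.Agent.H52.ofPt_yon_map_comp]
  congr 1
  change (U.left.isoSpec.hom ≫ U.left.isoSpec.inv).base u = u
  rw [Iso.hom_inv_id]
  rfl

/-- A point of an algebraic space lies in a chart of the form `Spec B`. -/
theorem exists_spec_chart_of_point {X' : Sp S} (hX' : IsAlgSpace X') (x₀ : Points X') :
    ∃ (B : Type u) (_ : CommRing B) (strU : Spec (.of B) ⟶ S)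
      (c : (yon S).obj (Over.mk strU) ⟶ X') (u : ↥(Spec (.of B))),
      RepWith @Etale c ∧ Points.ofPt c u = x₀ := by
  obtain ⟨V, p, hpe, hps⟩ := hX'.atlas
  obtain ⟨v, hv⟩ := Groth.Agent.H52.ofPt_surjective_of_repWith_surjective p hps x₀
  obtain ⟨w, hw⟩ := V.left.affineCover.covers v
  let V' : Over S := Over.mk (V.left.affineCover.f (V.left.affineCover.idx v) ≫ V.hom)
  let ω : V' ⟶ V := Over.homMk (V.left.affineCover.f (V.left.affineCover.idx v)) rfl
  haveI : IsOpenImmersion ω.left :=
    inferInstanceAs (IsOpenImmersion (V.left.affineCover.f (V.left.affineCover.idx v)))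
  haveI : Etale ω.left := inferInstance
  haveI : IsAffine V'.left := by
    change IsAffine (V.left.affineCover.X _)
    infer_instance
  obtain ⟨B, iB, strU, c', u', hc', hu'⟩ := exists_spec_chart (U := V') ((yon S).map ω ≫ p)
    (repWith_etale_yon_map_comp ω p hpe) w
  refine ⟨B, iB, strU, c', u', hc', ?_⟩
  rw [hu', Groth.Agent.H52.ofPt_yon_map_comp]
  change Points.ofPt p ((V.left.affineCover.f (V.left.affineCover.idx v)) w) = x₀
  rw [hw, hv]

/-- **Existence half of the DVR valuative criterion** (strict form) for a separated, locally of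
finite type, universally closed morphism of algebraic spaces. -/
theorem hasLift_of_proper {F G : Sp S} (hF : IsAlgSpace F) (hG : IsAlgSpace G) (f : F ⟶ G)
    (hsep : IsSeparatedMor f) (hlft : LocP @LocallyOfFiniteType f) (huc : IsUnivClosedMor f)
    (sq : ValSq f) (hdvr : IsDiscreteValuationRing sq.A) : sq.HasLift := by
  haveI := hdvr
  have hA : IsAlgSpace ((yon S).obj sq.ptA) := IsAlgSpace.yon_obj _
  have hKsp : IsAlgSpace ((yon S).obj sq.ptK) := IsAlgSpace.yon_obj _
  -- the base change to `Spec A`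
  have sqP : IsPullback (pullback.fst f sq.bot) (pullback.snd f sq.bot) f sq.bot :=
    IsPullback.of_hasPullback f sq.bot
  obtain ⟨X', fst, π, sqX⟩ : ∃ (X' : Sp S) (fst : X' ⟶ F) (π : X' ⟶ (yon S).obj sq.ptA),
      IsPullback fst π f sq.bot := ⟨_, _, _, sqP⟩
  have hX' : IsAlgSpace X' := isAlgSpace_of_isPullback sqX hG.diag hF hA
  have hπsep : IsSeparatedMor π :=
    MorphismProperty.of_isPullback (P := RepWith @IsClosedImmersion)
      (Groth.Agent.H53.isPullback_diagonal_of_isPullback sqX) hsep
  have hπlft : LocP @LocallyOfFiniteType π :=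
    goodClass_lft.locP_of_isPullback hF hG hA f sq.bot fst π sqX hlft
  have hπcl : IsClosedMap (Points.map π) := huc hA sq.bot fst π sqX
  -- the `K`-point
  obtain ⟨x, hx1, hx2⟩ : ∃ x : (yon S).obj sq.ptK ⟶ X', x ≫ fst = sq.top ∧
      x ≫ π = (yon S).map sq.j := by
    obtain ⟨x, h1, h2⟩ := sqX.exists_lift sq.top ((yon S).map sq.j) sq.comm
    exact ⟨x, h1, h2⟩
  obtain ⟨x₀, hx₀cl, hx₀π⟩ := exists_specialization_over_closedPoint sq.str π hπcl x hx2
  -- a chart around `x₀`
  obtain ⟨B, iB, strU, c, u, hce, hu⟩ := exists_spec_chart_of_point hX' x₀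
  -- `x` is quasi-compact
  have hπqs : IsQuasiSeparatedMor π :=
    repWith_of_le (fun _ _ g hg => by haveI : IsClosedImmersion g := hg; infer_instance) hπsep
  have hjqc : IsQuasiCompactMor (x ≫ π) := by
    rw [hx2]
    refine isQuasiCompactMor_of_repWith le_rfl _ ?_
    rw [repWith_yon_map_iff]
    change QuasiCompact (Spec.map _)
    infer_instance
  have hxqc : IsQuasiCompactMor x :=
    isQuasiCompactMor_of_comp_of_isQuasiSeparatedMor hKsp hX' hA x π hjqc hπqs
  haveI : IsAffine (Over.mk strU).left := by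
    change IsAffine (Spec (.of B))
    infer_instance
  obtain ⟨L, iL, strL, lam, kap, hlk, hsp⟩ :=
    exists_chart_generization (U := Over.mk strU) x hxqc (IsLocalRing.closedPoint sq.K) c hce u
      (by rw [hu]; exact hx₀cl)
  obtain ⟨gU, hgU⟩ := (yon S).map_surjective (c ≫ π)
  have hugU : gU.left.base u = IsLocalRing.closedPoint sq.A := by
    have h1 : Points.map π (Points.ofPt c u) =
        Points.ofScheme sq.ptA (IsLocalRing.closedPoint sq.A) := by rw [hu, hx₀π]
    rw [Points.map_ofPt, ← hgU] at h1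
    have h2 := congrArg (Points.toScheme sq.ptA) h1
    rw [Points.toScheme_ofPt, Points.toScheme_ofScheme] at h2
    exact h2
  obtain ⟨a, ha1, ha2⟩ := exists_section_of_chart (str := sq.str) (K := sq.K) π hπsep hπlft x hx2
    strU c hce u gU hgU hugU strL lam kap hlk hsp
  refine ⟨a ≫ fst, ?_, ?_⟩
  · rw [← Category.assoc]
    exact (congrArg (· ≫ fst) ha2).trans hx1
  · rw [Category.assoc, sqX.w, ← Category.assoc, ha1, Category.id_comp]

end PropDVR

end Groth.Agent.H50
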