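import Groth.Agent.H50.PropDVR10
import Groth.Agent.H50.PropDVR4

set_option autoImplicit false
set_option backward.isDefEq.respectTransparency false
set_option linter.style.haveILetI false
set_option linter.unusedSectionVars false
universe u
open CategoryTheory CategoryTheory.Limits AlgebraicGeometry Opposite Topology

namespace Groth.Agent.H50
open AlgSp Groth.Agent.H49

variable {S : Scheme.{u}}

namespace PropDVR

set_option maxHeartbeats 800000 in
/-- **Stacks, Morphisms of Spaces**: in the existence part of the valuative criterion one may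
restrict to finite separable extensions of the fraction field. -/
theorem exists_finite_separable_lift_of_existVC {F G : Sp S} (hF : IsAlgSpace F)
    (hG : IsAlgSpace G) (f : F ⟶ G) (hf : ExistVC f) (sq : ValSq f) :
    ∃ e : sq.DomExt,
      (letI := e.ψ.toAlgebra; Module.Finite sq.K e.K' ∧ Algebra.IsSeparable sq.K e.K') ∧
        e.HasLift := by
  classical
  have hA : IsAlgSpace ((yon S).obj sq.ptA) := IsAlgSpace.yon_obj _
  have sqP : IsPullback (pullback.fst f sq.bot) (pullback.snd f sq.bot) f sq.bot :=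
    IsPullback.of_hasPullback f sq.bot
  obtain ⟨X', fst, π, sqX⟩ : ∃ (X' : Sp S) (fst : X' ⟶ F) (π : X' ⟶ (yon S).obj sq.ptA),
      IsPullback fst π f sq.bot := ⟨_, _, _, sqP⟩
  have hX' : IsAlgSpace X' := isAlgSpace_of_isPullback sqX hG.diag hF hA
  obtain ⟨x, hx1, hx2⟩ : ∃ x : (yon S).obj sq.ptK ⟶ X', x ≫ fst = sq.top ∧
      x ≫ π = (yon S).map sq.j := by
    obtain ⟨x, h1, h2⟩ := sqX.exists_lift sq.top ((yon S).map sq.j) sq.comm
    exact ⟨x, h1, h2⟩
  obtain ⟨e₀, l, hl1, hl2⟩ := hf sq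
  haveI : IsLocalHom e₀.φ := e₀.isLocalHom
  let ιA : e₀.ptA' ⟶ sq.ptA := Over.homMk (Spec.map (CommRingCat.ofHom e₀.φ)) rfl
  let jK' : e₀.ptK' ⟶ e₀.ptA' :=
    Over.homMk (Spec.map (CommRingCat.ofHom (algebraMap e₀.A' e₀.K'))) rfl
  let ψo : e₀.ptK' ⟶ sq.ptK := Over.homMk (Spec.map (CommRingCat.ofHom e₀.ψ)) (by
    change Spec.map _ ≫ Spec.map _ ≫ _ = Spec.map _ ≫ Spec.map _ ≫ _
    rw [← Spec.map_comp_assoc, ← Spec.map_comp_assoc, ← CommRingCat.ofHom_comp,
      ← CommRingCat.ofHom_comp, e₀.comm])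
  have hl1' : (yon S).map jK' ≫ l = (yon S).map ψo ≫ sq.top := hl1
  have hl2' : l ≫ f = (yon S).map ιA ≫ sq.bot := hl2
  obtain ⟨a', ha'1, ha'2⟩ := sqX.exists_lift l ((yon S).map ιA) hl2'
  have hjι : jK' ≫ ιA = ψo ≫ sq.j := by
    apply Over.OverMorphism.ext
    change Spec.map _ ≫ Spec.map _ = Spec.map _ ≫ Spec.map _
    rw [← Spec.map_comp, ← Spec.map_comp, ← CommRingCat.ofHom_comp, ← CommRingCat.ofHom_comp,
      e₀.comm]
  have ha'x : (yon S).map jK' ≫ a' = (yon S).map ψo ≫ x := by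
    apply sqX.hom_ext
    · rw [Category.assoc, ha'1, Category.assoc, hx1, hl1']
    · rw [Category.assoc, ha'2, Category.assoc, hx2, ← Functor.map_comp, ← Functor.map_comp, hjι]
  -- the chart
  obtain ⟨B, iB, strU, c, u₀, hce, hu₀⟩ :=
    exists_spec_chart_of_point hX' (Points.ofPt a' (IsLocalRing.closedPoint e₀.A'))
  obtain ⟨E, pE, fst₀, sqE⟩ := hce.rep a'
  obtain ⟨θ, rfl⟩ := (yon S).map_surjective fst₀
  haveI hpEe : Etale pE.left := hce.property a' _ pE sqE
  have h1 : Points.map c (Points.ofScheme _ u₀) =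
      Points.map a' (Points.ofScheme _ (IsLocalRing.closedPoint e₀.A')) := by
    rw [← Points.ofPt_eq_map_ofScheme, ← Points.ofPt_eq_map_ofScheme, hu₀]
  obtain ⟨z, hz1, hz2⟩ := Groth.Agent.H53.exists_point_of_isPullback sqE _ _ h1
  obtain ⟨ε₀, rfl⟩ := (Points.schemeEquiv E).surjective z
  have hθε₀ : θ.left.base ε₀ = u₀ := by
    have := congrArg (Points.toScheme (Over.mk strU)) hz1
    rw [Points.toScheme_ofScheme] at this
    rw [← this]
    change _ = Points.toScheme _ (Points.map _ (Points.ofScheme _ ε₀))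
    rw [← Points.ofPt_eq_map_ofScheme, Points.toScheme_ofPt]
  have hpε₀ : pE.left.base ε₀ = IsLocalRing.closedPoint e₀.A' := by
    have := congrArg (Points.toScheme e₀.ptA') hz2
    rw [Points.toScheme_ofScheme] at this
    rw [← this]
    change _ = Points.toScheme _ (Points.map _ (Points.ofScheme _ ε₀))
    rw [← Points.ofPt_eq_map_ofScheme, Points.toScheme_ofPt]
  -- generization
  have hgsp : jK'.left.base (IsLocalRing.closedPoint e₀.K') ⤳ pE.left.base ε₀ := by
    rw [hpε₀]
    exact generic_specializes_closedPoint (A := e₀.A') (K := e₀.K')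
  obtain ⟨ε₁, hε₁, hpε₁⟩ := (Flat.generalizingMap (f := pE.left)) hgsp
  have hsp : θ.left.base ε₁ ⤳ u₀ := by
    rw [← hθε₀]
    exact hε₁.map θ.left.continuous
  have hu₁ : Points.ofPt c (θ.left.base ε₁) =
      Points.ofPt x (IsLocalRing.closedPoint sq.K) := by
    rw [← Groth.Agent.H52.ofPt_yon_map_comp, sqE.w, Groth.Agent.H52.ofPt_yon_map_comp, hpε₁,
      ← Groth.Agent.H52.ofPt_yon_map_comp, ha'x, Groth.Agent.H52.ofPt_yon_map_comp]
    congr 1
    have hss : ∀ t : ↥(Spec (CommRingCat.of sq.K)), t = IsLocalRing.closedPoint sq.K :=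
      fun t => Subsingleton.elim _ _
    exact hss _
  have hu₀' : Points.map π (Points.ofPt c u₀) =
      Points.ofScheme sq.ptA (IsLocalRing.closedPoint sq.A) := by
    rw [hu₀, Points.map_ofPt, ha'2]
    rw [← Points.ofScheme_toScheme sq.ptA (Points.ofPt _ _), Points.toScheme_ofPt]
    congr 1
    exact IsLocalRing.comap_closedPoint e₀.φ
  exact exists_ext_lift_of_generization f sq fst π sqX x hx1 hx2 strU c hce u₀ (θ.left.base ε₁)
    hsp hu₁ hu₀'

end PropDVR

end Groth.Agent.H50
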