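import Groth.Agent.H50.PropDVR1
import Groth.Agent.H50.Mor

set_option autoImplicit false
set_option backward.isDefEq.respectTransparency false
set_option linter.style.haveILetI false
set_option linter.unusedSectionVars false
universe u
open CategoryTheory CategoryTheory.Limits AlgebraicGeometry Opposite Topology

namespace Groth.Agent.H50
open AlgSp Groth.Agent.H49

variable {S : Scheme.{u}}

namespace PropDVR

section

variable {A K : Type u} [CommRing A] [IsDomain A] [IsLocalRing A] [Field K] [Algebra A K]
  [IsFractionRing A K] (str : Spec (.of A) ⟶ S)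

/-- The image of the point of `Spec K` in `Spec A` specializes to the closed point. -/
theorem generic_specializes_closedPoint :
    (Spec.map (CommRingCat.ofHom (algebraMap A K))).base (IsLocalRing.closedPoint K) ⤳
      IsLocalRing.closedPoint A := by
  rw [← PrimeSpectrum.le_iff_specializes]
  intro a ha
  have h0 : algebraMap A K a = 0 := by
    have : algebraMap A K a ∈ (IsLocalRing.closedPoint K).asIdeal := ha
    have hbot : (IsLocalRing.closedPoint K).asIdeal = ⊥ := by
      change IsLocalRing.maximalIdeal K = ⊥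
      exact IsLocalRing.maximalIdeal_eq_bot
    rw [hbot] at this
    exact this
  have : a = 0 := (IsFractionRing.injective A K) (by rw [h0, map_zero])
  rw [this]
  exact Ideal.zero_mem _

/-- If `π : X' ⟶ Spec A` is closed on points and `x` is a `K`-point of `X'` over the generic point,
some point of the closure of `x` lies over the closed point. -/
theorem exists_specialization_over_closedPoint {X' : Sp S} (π : X' ⟶ (yon S).obj (Over.mk str))
    (hcl : IsClosedMap (Points.map π))
    (x : (yon S).obj (Over.mk (Spec.map (CommRingCat.ofHom (algebraMap A K)) ≫ str)) ⟶ X')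
    (hx : x ≫ π = (yon S).map (Over.homMk (Spec.map (CommRingCat.ofHom (algebraMap A K))) rfl :
      Over.mk (Spec.map (CommRingCat.ofHom (algebraMap A K)) ≫ str) ⟶ Over.mk str)) :
    ∃ x₀ ∈ closure {Points.ofPt x (IsLocalRing.closedPoint K)},
      Points.map π x₀ = Points.ofScheme (Over.mk str) (IsLocalRing.closedPoint A) := by
  set xη := Points.ofPt x (IsLocalRing.closedPoint K) with hxη
  have hC : IsClosed (Points.map π '' closure {xη}) := hcl _ isClosed_closure
  have hC' : IsClosed ((Points.schemeHomeo (Over.mk str)) ⁻¹' (Points.map π '' closure {xη})) :=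
    hC.preimage (Points.schemeHomeo (Over.mk str)).continuous
  have hη : (Spec.map (CommRingCat.ofHom (algebraMap A K))).base (IsLocalRing.closedPoint K) ∈
      (Points.schemeHomeo (Over.mk str)) ⁻¹' (Points.map π '' closure {xη}) := by
    refine ⟨xη, subset_closure rfl, ?_⟩
    rw [hxη, Points.map_ofPt, hx]
    change _ = Points.ofScheme _ _
    rw [← Points.ofScheme_toScheme (Over.mk str) (Points.ofPt _ _), Points.toScheme_ofPt]
    rfl
  have hs := (generic_specializes_closedPoint (A := A) (K := K)).mem_closed hC' hη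
  obtain ⟨x₀, hx₀, hx₀s⟩ := hs
  exact ⟨x₀, hx₀, hx₀s⟩

end

/-- Lifting a specialization to an étale chart: if `x₀` lies in the closure of the point of a
quasi-compact morphism `x : Spec K ⟶ X'` and `c : U ⟶ X'` is an étale chart with `U` affine and
`c(u) = x₀`, then there are a field `L` and a point `Spec L ⟶ U ×_{X'} Spec K` whose image in `U`
specializes to `u`. -/
theorem exists_chart_generization {X' : Sp S} {TK U : Over S} [IsAffine U.left]
    (x : (yon S).obj TK ⟶ X') (hxqc : IsQuasiCompactMor x) (pt : ↥TK.left)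
    (c : (yon S).obj U ⟶ X') (hce : RepWith @Etale c) (u : ↥U.left)
    (hu : Points.ofPt c u ∈ closure {Points.ofPt x pt}) :
    ∃ (L : Type u) (_ : Field L) (strL : Spec (.of L) ⟶ S) (lam : Over.mk strL ⟶ U)
      (kap : Over.mk strL ⟶ TK),
      (yon S).map lam ≫ c = (yon S).map kap ≫ x ∧
        lam.left.base (IsLocalRing.closedPoint L) ⤳ u := by
  obtain ⟨Φ, ψ, fst₀, sq₀⟩ := hce.rep x
  obtain ⟨θ, rfl⟩ := (yon S).map_surjective fst₀
  -- `Φ` is quasi-compact
  haveI : CompactSpace ↥U.left := inferInstance
  have hΦqc : IsQuasiCompactSp ((yon S).obj Φ) :=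
    hxqc (IsAlgSpace.yon_obj U) (isQuasiCompactSp_yon U) c _ _ sq₀.flip
  haveI : CompactSpace ↥Φ.left := compactSpace_of_isQuasiCompactSp_yon Φ hΦqc
  haveI : QuasiCompact θ.left :=
    (HasAffineProperty.iff_of_isAffine (P := @QuasiCompact)).mpr ‹CompactSpace ↥Φ.left›
  -- `u` lies in the closure of the image of `θ`
  have hucl : u ∈ closure (Set.range θ.left.base) := by
    rw [mem_closure_iff]
    intro O hO huO
    have hopen : IsOpen (Points.ofPt c '' O) :=
      Groth.Agent.H52.isOpenMap_ofPt_of_repWith_etale c hce O hO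
    obtain ⟨_, ⟨u', hu'O, rfl⟩, hu'x⟩ :=
      mem_closure_iff.mp hu _ hopen ⟨u, huO, rfl⟩
    have hu'x' : Points.ofPt c u' = Points.ofPt x pt := hu'x
    rw [Points.ofPt_eq_map_ofScheme, Points.ofPt_eq_map_ofScheme x] at hu'x'
    obtain ⟨z, hz1, -⟩ := Groth.Agent.H53.exists_point_of_isPullback sq₀ _ _ hu'x'
    obtain ⟨φ, rfl⟩ := (Points.schemeEquiv Φ).surjective z
    refine ⟨u', hu'O, φ, ?_⟩
    have := congrArg (Points.toScheme U) hz1
    rw [Points.toScheme_ofScheme] at this
    rw [← this]
    change _ = Points.toScheme _ (Points.map _ (Points.ofScheme _ φ))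
    rw [← Points.ofPt_eq_map_ofScheme, Points.toScheme_ofPt]
  obtain ⟨φ, hφ⟩ := DVRSp.exists_specializes_of_mem_closure θ.left u hucl
  let ι : Over.mk (Φ.left.fromSpecResidueField φ ≫ Φ.hom) ⟶ Φ :=
    Over.homMk (Φ.left.fromSpecResidueField φ) rfl
  refine ⟨Φ.left.residueField φ, inferInstance, Φ.left.fromSpecResidueField φ ≫ Φ.hom,
    ι ≫ θ, ι ≫ ψ, ?_, ?_⟩
  · rw [Functor.map_comp, Functor.map_comp, Category.assoc, Category.assoc, sq₀.w]
  · change θ.left.base ((Φ.left.fromSpecResidueField φ).base _) ⤳ u
    rw [Scheme.fromSpecResidueField_apply]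
    exact hφ

end PropDVR

end Groth.Agent.H50
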