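import Groth.Agent.H50.UCSp1
import Groth.Agent.H22.UCCore

set_option autoImplicit false
set_option backward.isDefEq.respectTransparency false
set_option linter.style.haveILetI false
set_option linter.unusedSectionVars false
universe u
open CategoryTheory CategoryTheory.Limits AlgebraicGeometry Opposite Topology

namespace Groth.Agent.H50
open AlgSp

variable {S : Scheme.{u}}

namespace UCSp

variable {A : Type u} [CommRing A] (str : Spec (.of A) ⟶ S)

/-- `Spec C` over `S` for an `A`-algebra `C`. -/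
noncomputable abbrev TC (C : Type u) [CommRing C] [Algebra A C] : Over S :=
  Over.mk (Spec.map (CommRingCat.ofHom (algebraMap A C)) ≫ str)

/-- The structure morphism `Spec C ⟶ Spec A` over `S`. -/
noncomputable abbrev γC (C : Type u) [CommRing C] [Algebra A C] : TC str C ⟶ Over.mk str :=
  Over.homMk (Spec.map (CommRingCat.ofHom (algebraMap A C))) rfl

/-- The morphism `Spec C ⟶ Spec C₁` over `S` induced by an `A`-algebra map `C₁ → C`. -/
noncomputable def τC {C C₁ : Type u} [CommRing C] [CommRing C₁] [Algebra A C] [Algebra A C₁]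
    (ι : C₁ →ₐ[A] C) : TC str C ⟶ TC str C₁ :=
  Over.homMk (Spec.map (CommRingCat.ofHom ι.toRingHom)) (by
    change Spec.map _ ≫ Spec.map _ ≫ str = Spec.map _ ≫ str
    rw [← Category.assoc, ← Spec.map_comp, ← CommRingCat.ofHom_comp]
    congr 3
    ext a
    simp)

theorem τC_γC {C C₁ : Type u} [CommRing C] [CommRing C₁] [Algebra A C] [Algebra A C₁]
    (ι : C₁ →ₐ[A] C) : τC str ι ≫ γC str C₁ = γC str C := by
  apply Over.OverMorphism.ext
  change Spec.map _ ≫ Spec.map _ = Spec.map _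
  rw [← Spec.map_comp, ← CommRingCat.ofHom_comp]
  congr 2
  ext a
  simp

variable {str} {F : Sp S} (φ : F ⟶ (yon S).obj (Over.mk str))

/-- The base change of `F` to `Spec C`. -/
noncomputable abbrev FT (C : Type u) [CommRing C] [Algebra A C] : Sp S :=
  pullback φ ((yon S).map (γC str C))

/-- The transition map `F_C ⟶ F_{C₁}`. -/
noncomputable def ρF {C C₁ : Type u} [CommRing C] [CommRing C₁] [Algebra A C] [Algebra A C₁]
    (ι : C₁ →ₐ[A] C) : FT φ C ⟶ FT φ C₁ :=
  pullback.lift (pullback.fst _ _) (pullback.snd _ _ ≫ (yon S).map (τC str ι)) (by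
    rw [Category.assoc, ← Functor.map_comp, τC_γC, pullback.condition])

theorem ρF_fst {C C₁ : Type u} [CommRing C] [CommRing C₁] [Algebra A C] [Algebra A C₁]
    (ι : C₁ →ₐ[A] C) : ρF φ ι ≫ pullback.fst _ _ = pullback.fst _ _ := pullback.lift_fst _ _ _

theorem ρF_snd {C C₁ : Type u} [CommRing C] [CommRing C₁] [Algebra A C] [Algebra A C₁]
    (ι : C₁ →ₐ[A] C) :
    ρF φ ι ≫ pullback.snd _ _ = pullback.snd _ _ ≫ (yon S).map (τC str ι) :=
  pullback.lift_snd _ _ _

variable {U : Over S} (g₀ : U ⟶ Over.mk str)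

/-- The scheme `U ×_{Spec A} Spec C` over `S`. -/
noncomputable abbrev UT (C : Type u) [CommRing C] [Algebra A C] : Over S :=
  Over.mk (pullback.snd g₀.left (Spec.map (CommRingCat.ofHom (algebraMap A C))) ≫ (TC str C).hom)

noncomputable def prU (C : Type u) [CommRing C] [Algebra A C] : UT g₀ C ⟶ U :=
  Over.homMk (pullback.fst g₀.left (Spec.map (CommRingCat.ofHom (algebraMap A C)))) (by
    have hw : g₀.left ≫ str = U.hom := Over.w g₀
    change pullback.fst _ _ ≫ U.hom = pullback.snd _ _ ≫ Spec.map _ ≫ str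
    rw [← hw, ← Category.assoc, pullback.condition, Category.assoc])

noncomputable def prT (C : Type u) [CommRing C] [Algebra A C] : UT g₀ C ⟶ TC str C :=
  Over.homMk (pullback.snd g₀.left (Spec.map (CommRingCat.ofHom (algebraMap A C)))) rfl

theorem sqU (C : Type u) [CommRing C] [Algebra A C] :
    IsPullback (prU g₀ C) (prT g₀ C) g₀ (γC str C) := by
  refine IsPullback.of_map (Over.forget S) ?_ ?_
  · apply Over.OverMorphism.ext
    exact pullback.condition
  · exact IsPullback.of_hasPullback g₀.left (Spec.map (CommRingCat.ofHom (algebraMap A C)))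

/-- The transition map `U_C ⟶ U_{C₁}`. -/
noncomputable def ρU {C C₁ : Type u} [CommRing C] [CommRing C₁] [Algebra A C] [Algebra A C₁]
    (ι : C₁ →ₐ[A] C) : UT g₀ C ⟶ UT g₀ C₁ :=
  Over.homMk (Groth.Agent.H22.UCCore.rho g₀.left ι) (by
    change _ ≫ pullback.snd _ _ ≫ (TC str C₁).hom = pullback.snd _ _ ≫ (TC str C).hom
    rw [← Category.assoc, Groth.Agent.H22.UCCore.rho_snd, Category.assoc]
    congr 1
    exact Over.w (τC str ι))

theorem ρU_prU {C C₁ : Type u} [CommRing C] [CommRing C₁] [Algebra A C] [Algebra A C₁]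
    (ι : C₁ →ₐ[A] C) : ρU g₀ ι ≫ prU g₀ C₁ = prU g₀ C := by
  apply Over.OverMorphism.ext
  exact Groth.Agent.H22.UCCore.rho_fst g₀.left ι

theorem ρU_prT {C C₁ : Type u} [CommRing C] [CommRing C₁] [Algebra A C] [Algebra A C₁]
    (ι : C₁ →ₐ[A] C) : ρU g₀ ι ≫ prT g₀ C₁ = prT g₀ C ≫ τC str ι := by
  apply Over.OverMorphism.ext
  exact Groth.Agent.H22.UCCore.rho_snd g₀.left ι

variable (u : (yon S).obj U ⟶ F) (hu : u ≫ φ = (yon S).map g₀)

/-- The chart `U_C ⟶ F_C`. -/
noncomputable def uT (C : Type u) [CommRing C] [Algebra A C] :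
    (yon S).obj (UT g₀ C) ⟶ FT φ C :=
  pullback.lift ((yon S).map (prU g₀ C) ≫ u) ((yon S).map (prT g₀ C)) (by
    rw [Category.assoc, hu, ← Functor.map_comp, ← Functor.map_comp, (sqU g₀ C).w])

theorem uT_fst (C : Type u) [CommRing C] [Algebra A C] :
    uT φ g₀ u hu C ≫ pullback.fst _ _ = (yon S).map (prU g₀ C) ≫ u := pullback.lift_fst _ _ _

theorem uT_snd (C : Type u) [CommRing C] [Algebra A C] :
    uT φ g₀ u hu C ≫ pullback.snd _ _ = (yon S).map (prT g₀ C) := pullback.lift_snd _ _ _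

theorem sq_uT (C : Type u) [CommRing C] [Algebra A C] :
    IsPullback (uT φ g₀ u hu C) ((yon S).map (prU g₀ C)) (pullback.fst _ _) u := by
  refine isPullback_chart_of_comp (IsPullback.of_hasPullback φ ((yon S).map (γC str C))) ?_
    (uT_fst φ g₀ u hu C) (uT_snd φ g₀ u hu C)
  rw [hu]
  exact (sqU g₀ C).map (yon S)

theorem uT_ρF {C C₁ : Type u} [CommRing C] [CommRing C₁] [Algebra A C] [Algebra A C₁]
    (ι : C₁ →ₐ[A] C) :
    uT φ g₀ u hu C ≫ ρF φ ι = (yon S).map (ρU g₀ ι) ≫ uT φ g₀ u hu C₁ := by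
  apply pullback.hom_ext
  · rw [Category.assoc, ρF_fst, uT_fst, Category.assoc, uT_fst, ← Category.assoc,
      ← Functor.map_comp, ρU_prU]
  · rw [Category.assoc, ρF_snd, ← Category.assoc, uT_snd, Category.assoc, uT_snd,
      ← Functor.map_comp, ← Functor.map_comp, ρU_prT]

theorem sq_trans {C C₁ : Type u} [CommRing C] [CommRing C₁] [Algebra A C] [Algebra A C₁]
    (ι : C₁ →ₐ[A] C) :
    IsPullback (uT φ g₀ u hu C) ((yon S).map (ρU g₀ ι)) (ρF φ ι) (uT φ g₀ u hu C₁) := by
  have sqUC : IsPullback ((yon S).map (prU g₀ C)) ((yon S).map (prT g₀ C)) (u ≫ φ)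
      ((yon S).map (γC str C)) := by
    rw [hu]; exact (sqU g₀ C).map (yon S)
  have sqUC₁ : IsPullback ((yon S).map (prU g₀ C₁)) ((yon S).map (prT g₀ C₁)) (u ≫ φ)
      ((yon S).map (γC str C₁)) := by
    rw [hu]; exact (sqU g₀ C₁).map (yon S)
  refine isPullback_chart_trans (τ := (yon S).map (τC str ι)) ?_
    (IsPullback.of_hasPullback φ ((yon S).map (γC str C)))
    (IsPullback.of_hasPullback φ ((yon S).map (γC str C₁))) sqUC sqUC₁
    (ρF_fst φ ι) (ρF_snd φ ι) ?_ ?_ (uT_snd φ g₀ u hu C) (uT_snd φ g₀ u hu C₁)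
    (uT_ρF φ g₀ u hu ι)
  · rw [← Functor.map_comp, τC_γC]
  · rw [← Functor.map_comp, ρU_prU]
  · rw [← Functor.map_comp, ← Functor.map_comp, ρU_prT]

end UCSp

end Groth.Agent.H50
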