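import Groth.Agent.H50.PropDVR2
import Groth.Agent.H50.UCSp2
import Groth.Agent.H50.LPGlue
import Mathlib.RingTheory.Flat.TorsionFree
import Mathlib.RingTheory.FinitePresentation

set_option autoImplicit false
set_option backward.isDefEq.respectTransparency false
set_option linter.style.haveILetI false
set_option linter.unusedSectionVars false
universe u
open CategoryTheory CategoryTheory.Limits AlgebraicGeometry Opposite Topology TensorProduct

namespace Groth.Agent.H50
open AlgSp Groth.Agent.H49 UCSp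

variable {S : Scheme.{u}}

namespace PropDVR

section TC

variable {A : Type u} [CommRing A] (str : Spec (.of A) ⟶ S)

theorem τC_comp {C C₁ C₂ : Type u} [CommRing C] [CommRing C₁] [CommRing C₂] [Algebra A C]
    [Algebra A C₁] [Algebra A C₂] (ι₁ : C₁ →ₐ[A] C) (ι₂ : C₂ →ₐ[A] C₁) :
    τC str (ι₁.comp ι₂) = τC str ι₁ ≫ τC str ι₂ := by
  apply Over.OverMorphism.ext
  change Spec.map _ = Spec.map _ ≫ Spec.map _
  rw [← Spec.map_comp, ← CommRingCat.ofHom_comp]
  rfl

instance isAffine_TC (C : Type u) [CommRing C] [Algebra A C] : IsAffine (TC str C).left := by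
  change IsAffine (Spec (.of C))
  infer_instance

/-- The universal property of `Spec (C ⊗ C)` among schemes over `S`. -/
theorem exists_lift_tensor (C : Type u) [CommRing C] [Algebra A C] {W : Over S}
    (g₁ g₂ : W ⟶ TC str C) (h : g₁ ≫ γC str C = g₂ ≫ γC str C) :
    ∃ g : W ⟶ TC str (C ⊗[A] C),
      g ≫ τC str (Algebra.TensorProduct.includeLeft : C →ₐ[A] C ⊗[A] C) = g₁ ∧
      g ≫ τC str (Algebra.TensorProduct.includeRight : C →ₐ[A] C ⊗[A] C) = g₂ := by
  have hl : g₁.left ≫ Spec.map (CommRingCat.ofHom (algebraMap A C)) =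
      g₂.left ≫ Spec.map (CommRingCat.ofHom (algebraMap A C)) :=
    congrArg (fun φ => φ.left) h
  obtain ⟨g₀, hg₀⟩ : ∃ g₀ : W.left ⟶ Spec (.of (C ⊗[A] C)),
      g₀ = pullback.lift g₁.left g₂.left hl ≫ (pullbackSpecIso A C C).hom := ⟨_, rfl⟩
  have h1 : g₀ ≫ Spec.map (CommRingCat.ofHom
      (Algebra.TensorProduct.includeLeftRingHom : C →+* C ⊗[A] C)) = g₁.left := by
    rw [hg₀, Category.assoc, pullbackSpecIso_hom_fst, pullback.lift_fst]
  have h2 : g₀ ≫ Spec.map (CommRingCat.ofHom
      (Algebra.TensorProduct.includeRight : C →ₐ[A] C ⊗[A] C).toRingHom) = g₂.left := by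
    rw [hg₀, Category.assoc]
    exact (congrArg (pullback.lift g₁.left g₂.left hl ≫ ·)
      (pullbackSpecIso_hom_snd A C C)).trans (pullback.lift_snd _ _ _)
  have hw : g₀ ≫ (TC str (C ⊗[A] C)).hom = W.hom := by
    have e : Spec.map (CommRingCat.ofHom (algebraMap A (C ⊗[A] C))) =
        Spec.map (CommRingCat.ofHom
          (Algebra.TensorProduct.includeLeftRingHom : C →+* C ⊗[A] C)) ≫
        Spec.map (CommRingCat.ofHom (algebraMap A C)) := by
      rw [← Spec.map_comp, ← CommRingCat.ofHom_comp]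
      congr 2
    change g₀ ≫ Spec.map _ ≫ str = W.hom
    rw [e, Category.assoc, ← Category.assoc g₀, h1]
    exact Over.w g₁
  refine ⟨Over.homMk g₀ hw, ?_, ?_⟩
  · apply Over.OverMorphism.ext
    exact h1
  · apply Over.OverMorphism.ext
    exact h2

end TC

section Main

variable {A K : Type u} [CommRing A] [IsDomain A] [IsDiscreteValuationRing A] [Field K]
  [Algebra A K] [IsFractionRing A K] {str : Spec (.of A) ⟶ S}

set_option maxHeartbeats 1600000 in
/-- **Strict lift from a chart**: fppf descent of a section through a chart of a separated,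
locally of finite type algebraic space over a DVR. -/
theorem exists_section_of_chart {X' : Sp S} (π : X' ⟶ (yon S).obj (Over.mk str))
    (hsep : IsSeparatedMor π) (hlft : LocP @LocallyOfFiniteType π)
    (x : (yon S).obj (TC str K) ⟶ X') (hx : x ≫ π = (yon S).map (γC str K))
    {B : Type u} [CommRing B] (strU : Spec (.of B) ⟶ S)
    (c : (yon S).obj (Over.mk strU) ⟶ X') (hce : RepWith @Etale c) (u : ↥(Spec (.of B)))
    (gU : Over.mk strU ⟶ Over.mk str) (hgU : (yon S).map gU = c ≫ π)
    (hu : gU.left.base u = IsLocalRing.closedPoint A)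
    {L : Type u} [Field L] (strL : Spec (.of L) ⟶ S) (lam : Over.mk strL ⟶ Over.mk strU)
    (kap : Over.mk strL ⟶ TC str K)
    (hlk : (yon S).map lam ≫ c = (yon S).map kap ≫ x)
    (hsp : lam.left.base (IsLocalRing.closedPoint L) ⤳ u) :
    ∃ a : (yon S).obj (Over.mk str) ⟶ X', a ≫ π = 𝟙 _ ∧ (yon S).map (γC str K) ≫ a = x := by
  classical
  -- ring maps
  let α : A →+* B := (Spec.preimage gU.left).hom
  letI : Algebra A B := α.toAlgebra
  have hα : Spec.map (CommRingCat.ofHom (algebraMap A B)) = gU.left := Spec.map_preimage gU.left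
  have hstrU : gU.left ≫ str = strU := Over.w gU
  let ℓ : B →+* L := (Spec.preimage lam.left).hom
  have hℓ : Spec.map (CommRingCat.ofHom ℓ) = lam.left := Spec.map_preimage lam.left
  let k : K →+* L := (Spec.preimage kap.left).hom
  have hk : Spec.map (CommRingCat.ofHom k) = kap.left := Spec.map_preimage kap.left
  have hstrL : lam.left ≫ strU = strL := Over.w lam
  -- compatibility over `A`
  have hcompO : lam ≫ gU = kap ≫ γC str K := by
    apply (yon S).map_injective
    rw [Functor.map_comp, Functor.map_comp, hgU, ← Category.assoc, hlk, Category.assoc, hx]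
  have hcomp : ℓ.comp (algebraMap A B) = k.comp (algebraMap A K) := by
    have h1 : lam.left ≫ gU.left = kap.left ≫ Spec.map (CommRingCat.ofHom (algebraMap A K)) :=
      congrArg (fun φ => φ.left) hcompO
    rw [← hℓ, ← hk, ← hα, ← Spec.map_comp, ← Spec.map_comp] at h1
    have h2 := Spec.map_injective h1
    have h3 := congrArg CommRingCat.Hom.hom h2
    exact h3
  -- the prime `𝔭'` and the quotient `B₁`
  let 𝔭' : Ideal B := RingHom.ker ℓ
  haveI h𝔭' : 𝔭'.IsPrime := RingHom.ker_isPrime ℓ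
  have hu' : (lam.left.base (IsLocalRing.closedPoint L)).asIdeal = 𝔭' := by
    rw [← hℓ]
    change Ideal.comap ℓ (IsLocalRing.maximalIdeal L) = RingHom.ker ℓ
    rw [IsLocalRing.maximalIdeal_eq_bot]
    rfl
  have h𝔭'u : 𝔭' ≤ u.asIdeal := by
    rw [← hu']
    exact (PrimeSpectrum.le_iff_specializes _ _).mpr hsp
  let B₁ : Type u := B ⧸ 𝔭'
  let ℓ₁ : B₁ →+* L := RingHom.kerLift ℓ
  have hℓ₁inj : Function.Injective ℓ₁ := RingHom.kerLift_injective ℓ
  have hℓ₁mk : ℓ₁.comp (Ideal.Quotient.mk 𝔭') = ℓ := by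
    ext b; rfl
  have hA₁inj : Function.Injective (algebraMap A B₁) := by
    have h1 : ℓ₁.comp (algebraMap A B₁) = k.comp (algebraMap A K) := by
      rw [← hcomp, ← hℓ₁mk]; rfl
    have h2 : Function.Injective (ℓ₁.comp (algebraMap A B₁)) := by
      rw [h1]
      exact k.injective.comp (IsFractionRing.injective A K)
    have h3 : Function.Injective (ℓ₁ ∘ algebraMap A B₁) := h2
    exact Function.Injective.of_comp h3
  haveI : Module.IsTorsionFree A B₁ := Module.isTorsionFree_iff_algebraMap_injective.mpr hA₁inj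
  haveI hB₁flat : Module.Flat A B₁ := inferInstance
  -- the cover `V₁ = Spec B₁ ⟶ Spec A`
  let κ₁ : TC str B₁ ⟶ Over.mk strU :=
    Over.homMk (Spec.map (CommRingCat.ofHom (Ideal.Quotient.mk 𝔭'))) (by
      change Spec.map _ ≫ strU = Spec.map _ ≫ str
      rw [← hstrU, ← hα, ← Category.assoc, ← Spec.map_comp, ← CommRingCat.ofHom_comp]
      rfl)
  have hκ₁ : κ₁ ≫ gU = γC str B₁ := by
    apply Over.OverMorphism.ext
    change Spec.map _ ≫ gU.left = Spec.map _
    rw [← hα, ← Spec.map_comp, ← CommRingCat.ofHom_comp]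
    rfl
  obtain ⟨m₁, hm₁⟩ : ∃ m₁ : (yon S).obj (TC str B₁) ⟶ X', m₁ = (yon S).map κ₁ ≫ c := ⟨_, rfl⟩
  have hm₁π : m₁ ≫ π = (yon S).map (γC str B₁) := by
    rw [hm₁, Category.assoc, ← hgU, ← Functor.map_comp, hκ₁]
  -- finite type
  haveI hgUlft : LocallyOfFiniteType gU.left := by
    refine hlft c (𝟙 _) gU hce (repWith_id @Etale _) ?_
    rw [Category.comp_id, hgU]
  have hαft : RingHom.FiniteType (algebraMap A B) := by
    have := hgUlft
    rw [← hα] at this
    exact (HasRingHomProperty.Spec_iff (P := @LocallyOfFiniteType)).mp this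
  haveI hBft : Algebra.FiniteType A B := RingHom.finiteType_algebraMap.mp hαft
  haveI hB₁ft : Algebra.FiniteType A B₁ :=
    Algebra.FiniteType.of_surjective (Ideal.Quotient.mkₐ A 𝔭') Ideal.Quotient.mk_surjective
  haveI hB₁fp : Algebra.FinitePresentation A B₁ :=
    Algebra.FinitePresentation.of_finiteType.mp hB₁ft
  have hv₁flat : Flat (γC str B₁).left := by
    change Flat (Spec.map (CommRingCat.ofHom (algebraMap A B₁)))
    rw [HasRingHomProperty.Spec_iff (P := @Flat)]
    exact RingHom.flat_algebraMap_iff.mpr hB₁flat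
  have hv₁fp : LocallyOfFinitePresentation (γC str B₁).left := by
    change LocallyOfFinitePresentation (Spec.map (CommRingCat.ofHom (algebraMap A B₁)))
    rw [HasRingHomProperty.Spec_iff (P := @LocallyOfFinitePresentation)]
    exact RingHom.finitePresentation_algebraMap.mpr hB₁fp
  -- surjectivity of the cover
  have hv₁surj : ∀ b : ↥(Over.mk str).left, ∃ _ : Unit, b ∈ Set.range (γC str B₁).left.base := by
    intro b
    refine ⟨(), ?_⟩
    change b ∈ Set.range (Spec.map (CommRingCat.ofHom (algebraMap A B₁))).base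
    by_cases hb : b.asIdeal = ⊥
    · refine ⟨⟨⊥, Ideal.isPrime_bot⟩, ?_⟩
      apply PrimeSpectrum.ext
      change Ideal.comap (algebraMap A B₁) ⊥ = b.asIdeal
      rw [hb, ← RingHom.ker_eq_comap_bot]
      exact (RingHom.injective_iff_ker_eq_bot _).mp hA₁inj
    · have hbmax : b.asIdeal = IsLocalRing.maximalIdeal A := by
        have hmax : b.asIdeal.IsMaximal := b.2.isMaximal hb
        exact IsLocalRing.eq_maximalIdeal hmax
      have hb' : b = IsLocalRing.closedPoint A := PrimeSpectrum.ext hbmax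
      let 𝔮 : Ideal B₁ := u.asIdeal.map (Ideal.Quotient.mk 𝔭')
      have h𝔮comap : 𝔮.comap (Ideal.Quotient.mk 𝔭') = u.asIdeal := by
        rw [Ideal.comap_map_of_surjective _ Ideal.Quotient.mk_surjective]
        rw [← RingHom.ker_eq_comap_bot, Ideal.mk_ker]
        exact sup_eq_left.mpr h𝔭'u
      haveI h𝔮 : 𝔮.IsPrime := by
        refine Ideal.map_isPrime_of_surjective Ideal.Quotient.mk_surjective ?_
        rw [Ideal.mk_ker]; exact h𝔭'u
      refine ⟨⟨𝔮, h𝔮⟩, ?_⟩
      rw [hb', ← hu, ← hα]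
      apply PrimeSpectrum.ext
      change Ideal.comap (algebraMap A B₁) 𝔮 = Ideal.comap (algebraMap A B) u.asIdeal
      rw [← h𝔮comap, Ideal.comap_comap]
      rfl
  -- the fraction field `F₁` of `B₁`
  haveI : IsDomain B₁ := Ideal.Quotient.isDomain 𝔭'
  let F₁ : Type u := FractionRing B₁
  have hAF₁inj : Function.Injective (Algebra.ofId A F₁) := by
    have e : (Algebra.ofId A F₁ : A → F₁) = algebraMap B₁ F₁ ∘ algebraMap A B₁ := by
      funext a
      exact IsScalarTower.algebraMap_apply A B₁ F₁ a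
    rw [e]
    exact (IsFractionRing.injective B₁ F₁).comp hA₁inj
  let kF : K →ₐ[A] F₁ := IsFractionRing.liftAlgHom (g := Algebra.ofId A F₁) hAF₁inj
  let βF : B₁ →ₐ[A] F₁ := IsScalarTower.toAlgHom A B₁ F₁
  let ℓF : F₁ →+* L := IsFractionRing.lift hℓ₁inj
  have hℓFβ : ℓF.comp (algebraMap B₁ F₁) = ℓ₁ := by
    ext b
    exact IsFractionRing.lift_algebraMap hℓ₁inj b
  have hℓFk : ℓF.comp kF.toRingHom = k := by
    apply IsLocalization.ringHom_ext (nonZeroDivisors A)
    ext a
    change ℓF (kF (algebraMap A K a)) = k (algebraMap A K a)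
    rw [kF.commutes, IsScalarTower.algebraMap_apply A B₁ F₁]
    have h1 : ℓF (algebraMap B₁ F₁ (algebraMap A B₁ a)) = ℓ₁ (algebraMap A B₁ a) :=
      IsFractionRing.lift_algebraMap hℓ₁inj _
    rw [h1]
    have h2 := congrArg (fun φ => φ a) hcomp
    exact h2
  -- `Spec L ⟶ Spec F₁` over `S`
  have hℓFA : ℓF.comp (algebraMap A F₁) = ℓ.comp (algebraMap A B) := by
    ext a
    change ℓF (algebraMap A F₁ a) = ℓ (algebraMap A B a)
    rw [IsScalarTower.algebraMap_apply A B₁ F₁]
    have h1 : ℓF (algebraMap B₁ F₁ (algebraMap A B₁ a)) = ℓ₁ (algebraMap A B₁ a) :=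
      IsFractionRing.lift_algebraMap hℓ₁inj _
    rw [h1]
    rfl
  have hrw : Spec.map (CommRingCat.ofHom ℓF) ≫
      Spec.map (CommRingCat.ofHom (algebraMap A F₁)) ≫ str = strL := by
    have e1 : Spec.map (CommRingCat.ofHom ℓF) ≫ Spec.map (CommRingCat.ofHom (algebraMap A F₁)) =
        lam.left ≫ gU.left := by
      rw [← hℓ, ← hα, ← Spec.map_comp, ← Spec.map_comp, ← CommRingCat.ofHom_comp,
        ← CommRingCat.ofHom_comp, hℓFA]
    calc Spec.map (CommRingCat.ofHom ℓF) ≫
          Spec.map (CommRingCat.ofHom (algebraMap A F₁)) ≫ str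
        = (lam.left ≫ gU.left) ≫ str := by rw [← e1, Category.assoc]
      _ = lam.left ≫ strU := by rw [Category.assoc, hstrU]
      _ = strL := hstrL
  let r : Over.mk strL ⟶ TC str F₁ := Over.homMk (Spec.map (CommRingCat.ofHom ℓF)) hrw
  have hrβκ : r ≫ τC str βF ≫ κ₁ = lam := by
    apply Over.OverMorphism.ext
    change Spec.map _ ≫ Spec.map _ ≫ Spec.map _ = lam.left
    rw [← hℓ, ← Spec.map_comp, ← Spec.map_comp, ← CommRingCat.ofHom_comp,
      ← CommRingCat.ofHom_comp]
    congr 2
    ext b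
    change ℓF (algebraMap B₁ F₁ (Ideal.Quotient.mk 𝔭' b)) = ℓ b
    have h1 : ℓF (algebraMap B₁ F₁ (Ideal.Quotient.mk 𝔭' b)) = ℓ₁ (Ideal.Quotient.mk 𝔭' b) :=
      IsFractionRing.lift_algebraMap hℓ₁inj _
    rw [h1]
    rfl
  have hrk : r ≫ τC str kF = kap := by
    apply Over.OverMorphism.ext
    change Spec.map _ ≫ Spec.map _ = kap.left
    rw [← hk, ← Spec.map_comp, ← CommRingCat.ofHom_comp]
    congr 2
  -- Claim C₀
  have hC₀ : (yon S).map (τC str βF) ≫ m₁ = (yon S).map (τC str kF) ≫ x := by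
    refine eq_of_isSeparatedMor_of_injective π hsep r
      (appTop_specMap_injective ℓF ℓF.injective) _ _ ?_ ?_
    · rw [Category.assoc, hm₁π, Category.assoc, hx, ← Functor.map_comp, ← Functor.map_comp,
        τC_γC, τC_γC]
    · have e1 : (yon S).map r ≫ (yon S).map (τC str βF) ≫ m₁ = (yon S).map lam ≫ c := by
        rw [← hrβκ, Functor.map_comp, Functor.map_comp, Category.assoc, Category.assoc, hm₁]
      have e2 : (yon S).map r ≫ (yon S).map (τC str kF) ≫ x = (yon S).map kap ≫ x := by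
        rw [← hrk, Functor.map_comp, Category.assoc]
      rw [e1, e2, hlk]
  -- the cocycle condition on `Spec (B₁ ⊗ B₁)`
  haveI : Module.IsTorsionFree A F₁ :=
    Module.isTorsionFree_iff_algebraMap_injective.mpr (by
      have e : (algebraMap A F₁ : A → F₁) = algebraMap B₁ F₁ ∘ algebraMap A B₁ := by
        funext a
        exact IsScalarTower.algebraMap_apply A B₁ F₁ a
      rw [e]
      exact (IsFractionRing.injective B₁ F₁).comp hA₁inj)
  haveI hF₁flat : Module.Flat A F₁ := inferInstance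
  let i₁ : B₁ →ₐ[A] B₁ ⊗[A] B₁ := Algebra.TensorProduct.includeLeft
  let i₂ : B₁ →ₐ[A] B₁ ⊗[A] B₁ := Algebra.TensorProduct.includeRight
  let iF₁ : F₁ →ₐ[A] F₁ ⊗[A] F₁ := Algebra.TensorProduct.includeLeft
  let iF₂ : F₁ →ₐ[A] F₁ ⊗[A] F₁ := Algebra.TensorProduct.includeRight
  let μ : B₁ ⊗[A] B₁ →ₐ[A] F₁ ⊗[A] F₁ := Algebra.TensorProduct.map βF βF
  have hμinj : Function.Injective μ := by
    have h1 : Function.Injective βF.toLinearMap := IsFractionRing.injective B₁ F₁
    exact TensorProduct.map_injective_of_flat_flat' βF.toLinearMap βF.toLinearMap h1 h1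
  have hμ₁ : μ.comp i₁ = iF₁.comp βF := by
    ext b; simp [μ, i₁, iF₁]
  have hμ₂ : μ.comp i₂ = iF₂.comp βF := by
    ext b; simp [μ, i₂, iF₂]
  have hkk : iF₁.comp kF = iF₂.comp kF :=
    (IsLocalization.algHom_subsingleton (nonZeroDivisors A) (S := K)).elim _ _
  have hcocycle : (yon S).map (τC str i₁) ≫ m₁ = (yon S).map (τC str i₂) ≫ m₁ := by
    refine eq_of_isSeparatedMor_of_injective π hsep (τC str μ)
      (appTop_specMap_injective μ.toRingHom hμinj) _ _ ?_ ?_
    · rw [Category.assoc, Category.assoc, hm₁π, ← Functor.map_comp, ← Functor.map_comp,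
        τC_γC, τC_γC]
    · have e1 : (yon S).map (τC str μ) ≫ (yon S).map (τC str i₁) ≫ m₁ =
          (yon S).map (τC str (iF₁.comp kF)) ≫ x := by
        rw [← Category.assoc, ← Functor.map_comp, ← τC_comp, hμ₁, τC_comp, Functor.map_comp,
          Category.assoc, hC₀, ← Category.assoc, ← Functor.map_comp, ← τC_comp]
      have e2 : (yon S).map (τC str μ) ≫ (yon S).map (τC str i₂) ≫ m₁ =
          (yon S).map (τC str (iF₂.comp kF)) ≫ x := by
        rw [← Category.assoc, ← Functor.map_comp, ← τC_comp, hμ₂, τC_comp, Functor.map_comp,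
          Category.assoc, hC₀, ← Category.assoc, ← Functor.map_comp, ← τC_comp]
      rw [e1, e2, hkk]
  -- descent
  obtain ⟨a, ha⟩ := exists_desc_of_cover (B := Over.mk str) (fun _ : Unit => TC str B₁)
    (fun _ => γC str B₁) (fun _ => ⟨hv₁flat, hv₁fp⟩) hv₁surj (fun _ => m₁) (by
      intro W _ _ g₁ g₂ h
      obtain ⟨g, hg1, hg2⟩ := exists_lift_tensor str B₁ g₁ g₂ h
      rw [← hg1, ← hg2, Functor.map_comp, Functor.map_comp, Category.assoc, Category.assoc,
        hcocycle])
  have ha' : (yon S).map (γC str B₁) ≫ a = m₁ := ha ()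
  refine ⟨a, ?_, ?_⟩
  · refine hom_ext_of_cover (B := Over.mk str) (fun _ : Unit => TC str B₁)
      (fun _ => γC str B₁) (fun _ => ⟨hv₁flat, hv₁fp⟩) hv₁surj _ _ ?_
    intro _
    rw [← Category.assoc, ha', hm₁π, Category.comp_id]
  · refine eq_of_isSeparatedMor_of_injective π hsep (τC str kF)
      (appTop_specMap_injective kF.toRingHom kF.toRingHom.injective) _ _ ?_ ?_
    · rw [Category.assoc, hx]
      have : a ≫ π = 𝟙 _ := by
        refine hom_ext_of_cover (B := Over.mk str) (fun _ : Unit => TC str B₁)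
          (fun _ => γC str B₁) (fun _ => ⟨hv₁flat, hv₁fp⟩) hv₁surj _ _ ?_
        intro _
        rw [← Category.assoc, ha', hm₁π, Category.comp_id]
      rw [this, Category.comp_id]
    · rw [← hC₀, ← ha', ← Category.assoc, ← Category.assoc, ← Functor.map_comp,
        ← Functor.map_comp, τC_γC, τC_γC]

end Main

end PropDVR

end Groth.Agent.H50
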