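import Groth.Agent.H50.PropDVR2
import Groth.Agent.H50.DVRSp2
import Groth.Agent.H50.LocPBase
import Mathlib.AlgebraicGeometry.IdealSheaf.Subscheme

set_option autoImplicit false
set_option backward.isDefEq.respectTransparency false
set_option linter.style.haveILetI false
set_option linter.unusedSectionVars false
universe u
open CategoryTheory CategoryTheory.Limits AlgebraicGeometry Opposite Topology

namespace Groth.Agent.H50
open AlgSp Groth.Agent.H49

variable {S : Scheme.{u}}

namespace PropDVR

/-- The strict DVR lifting property is stable under base change. -/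
theorem hasLift_of_isPullback {X Y Y' X' : Sp S} {f : X ⟶ Y} {g : Y' ⟶ Y} {fst : X' ⟶ X}
    {f' : X' ⟶ Y'} (sqP : IsPullback fst f' f g)
    (hl : ∀ sq : ValSq f, IsDiscreteValuationRing sq.A → sq.HasLift) :
    ∀ sq : ValSq f', IsDiscreteValuationRing sq.A → sq.HasLift := by
  intro sq hdvr
  let sq₀ : ValSq f :=
    { A := sq.A, K := sq.K, str := sq.str, top := sq.top ≫ fst, bot := sq.bot ≫ g
      comm := by
        rw [Category.assoc, sqP.w, ← Category.assoc, sq.comm, Category.assoc] }
  obtain ⟨l, hl1, hl2⟩ := hl sq₀ hdvr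
  have hl1' : (yon S).map sq.j ≫ l = sq.top ≫ fst := hl1
  have hl2' : l ≫ f = sq.bot ≫ g := hl2
  obtain ⟨l', h1, h2⟩ := sqP.exists_lift l sq.bot hl2'
  refine ⟨l', ?_, h2⟩
  apply sqP.hom_ext
  · rw [Category.assoc, h1, hl1']
  · rw [Category.assoc, h2, sq.comm]

/-- **Closedness on points from strict DVR lifts**, over a Noetherian affine base. -/
theorem isClosedMap_of_dvr_lift_affine {Q : Sp S} (W : Over S) [IsAffine W.left]
    [IsLocallyNoetherian W.left] (c : Q ⟶ (yon S).obj W) (hqc : IsQuasiCompactMor c)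
    (hlft : LocP @LocallyOfFiniteType c)
    (hl : ∀ sq : ValSq c, IsDiscreteValuationRing sq.A → sq.HasLift) :
    IsClosedMap (Points.map c) := by
  haveI : CompactSpace ↥W.left := inferInstance
  have hQqc : IsQuasiCompactSp Q :=
    hqc (IsAlgSpace.yon_obj W) (isQuasiCompactSp_yon W) (𝟙 _) (𝟙 Q) c (IsPullback.id_horiz c)
  obtain ⟨U, a, hae, has, hUc⟩ := hQqc
  haveI : CompactSpace ↥U.left := hUc
  obtain ⟨g₀, hg₀⟩ := (yon S).map_surjective (a ≫ c)
  haveI hglft : LocallyOfFiniteType g₀.left :=
    hlft a (𝟙 _) g₀ hae (repWith_id @Etale _) (by rw [Category.comp_id, hg₀])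
  haveI hgqc : QuasiCompact g₀.left :=
    (HasAffineProperty.iff_of_isAffine (P := @QuasiCompact)).mpr hUc
  intro C hC
  have hC'cl : IsClosed (Points.ofPt a ⁻¹' C) := hC.preimage (Points.continuous_ofPt a)
  rw [← (Points.schemeHomeo W).isClosed_preimage, ← closure_subset_iff_isClosed]
  intro w hw
  -- the reduced closed subscheme on the preimage of `C`
  let Zc : TopologicalSpace.Closeds ↥U.left := ⟨Points.ofPt a ⁻¹' C, hC'cl⟩
  let I := Scheme.IdealSheafData.vanishingIdeal Zc
  have hrange : Set.range I.subschemeι = Points.ofPt a ⁻¹' C := by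
    rw [Scheme.IdealSheafData.range_subschemeι, Scheme.IdealSheafData.coe_support_vanishingIdeal]
    rfl
  have hsub : (Points.schemeHomeo W) ⁻¹' (Points.map c '' C) ⊆
      Set.range (I.subschemeι ≫ g₀.left).base := by
    rintro w' ⟨q, hqC, hq⟩
    obtain ⟨u', rfl⟩ := Groth.Agent.H52.ofPt_surjective_of_repWith_surjective a has q
    have hu' : u' ∈ Set.range I.subschemeι := by rw [hrange]; exact hqC
    obtain ⟨z, rfl⟩ := hu'
    refine ⟨z, ?_⟩
    rw [Points.map_ofPt, ← hg₀] at hq
    have h2 := congrArg (Points.toScheme W) hq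
    rw [Points.toScheme_ofPt] at h2
    change g₀.left.base (I.subschemeι.base z) = w'
    rw [h2]
    exact Points.toScheme_ofScheme W w'
  have hw' : w ∈ closure (Set.range (I.subschemeι ≫ g₀.left).base) := closure_mono hsub hw
  obtain ⟨z, hz⟩ := DVRSp.exists_specializes_of_mem_closure (I.subschemeι ≫ g₀.left) w hw'
  have hz' : g₀.left.base (I.subschemeι.base z) ⤳ w := hz
  have hzC : Points.ofPt a (I.subschemeι.base z) ∈ C := by
    have : I.subschemeι.base z ∈ Set.range I.subschemeι := ⟨z, rfl⟩
    rw [hrange] at this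
    exact this
  obtain ⟨A, i1, i2, i3, h, ξ, h1, h2, h3⟩ :=
    DVRSp.exists_dvr_of_specializes g₀.left (I.subschemeι.base z) w hz'
  -- the valuative square
  have hwU : g₀.left ≫ W.hom = U.hom := Over.w g₀
  let ho : Over.mk (h ≫ W.hom) ⟶ W := Over.homMk h rfl
  let ξo : Over.mk (Spec.map (CommRingCat.ofHom (algebraMap A (FractionRing A))) ≫ h ≫ W.hom) ⟶
      U := Over.homMk ξ (by
    change ξ ≫ U.hom = Spec.map _ ≫ h ≫ W.hom
    rw [← hwU, ← Category.assoc, h1, Category.assoc])
  let j : Over.mk (Spec.map (CommRingCat.ofHom (algebraMap A (FractionRing A))) ≫ h ≫ W.hom) ⟶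
      Over.mk (h ≫ W.hom) :=
    Over.homMk (Spec.map (CommRingCat.ofHom (algebraMap A (FractionRing A)))) rfl
  have hξj : ξo ≫ g₀ = j ≫ ho := by
    apply Over.OverMorphism.ext
    exact h1
  let vsq : ValSq c :=
    { A := A, K := FractionRing A, str := h ≫ W.hom, top := (yon S).map ξo ≫ a
      bot := (yon S).map ho
      comm := by
        rw [Category.assoc, ← hg₀, ← Functor.map_comp, hξj, Functor.map_comp] }
  have hdvr : IsDiscreteValuationRing vsq.A := i3
  obtain ⟨l, hl1, hl2⟩ := hl vsq hdvr
  have hl1' : (yon S).map j ≫ l = (yon S).map ξo ≫ a := hl1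
  have hl2' : l ≫ c = (yon S).map ho := hl2
  -- the closed point of the lift
  refine ⟨Points.ofPt l (IsLocalRing.closedPoint A), ?_, ?_⟩
  · have hsp : j.left.base (IsLocalRing.closedPoint (FractionRing A)) ⤳
        IsLocalRing.closedPoint A :=
      generic_specializes_closedPoint (A := A) (K := FractionRing A)
    have hsp' := hsp.map (Points.continuous_ofPt l)
    refine hsp'.mem_closed hC ?_
    rw [← Groth.Agent.H52.ofPt_yon_map_comp, hl1', Groth.Agent.H52.ofPt_yon_map_comp]
    change Points.ofPt a (ξ.base _) ∈ C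
    rw [h3]
    exact hzC
  · rw [Points.map_ofPt, hl2']
    change _ = Points.ofScheme W w
    rw [← Points.ofScheme_toScheme W (Points.ofPt _ _), Points.toScheme_ofPt]
    change Points.ofScheme W (h.base _) = _
    rw [h2]

end PropDVR

end Groth.Agent.H50
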