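import Groth.Agent.H50.UCSp4
import Groth.Agent.H50.LocPClass

set_option autoImplicit false
set_option backward.isDefEq.respectTransparency false
set_option linter.style.haveILetI false
set_option linter.unusedSectionVars false
universe u
open CategoryTheory CategoryTheory.Limits AlgebraicGeometry Opposite Topology

namespace Groth.Agent.H50
open AlgSp

variable {S : Scheme.{u}}

namespace UCSp

/-- Closedness of the base change to an affine scheme factoring through an affine (locally
closed) piece `Spec A` of `V`. -/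
theorem isClosedMap_snd_of_factor {V : Over S} {G : Sp S} (hG : IsAlgSpace G)
    (ψ : G ⟶ (yon S).obj V) (hqc : IsQuasiCompactMor ψ)
    (HV : ∀ n : ℕ, IsClosedMap (Points.map (pullback.snd ψ ((yon S).map (πn V n)))))
    {A : Type u} [CommRing A] (ω : Spec (.of A) ⟶ V.left) [IsImmersion ω]
    (T : Over S) [IsAffine T.left] (β : T ⟶ Over.mk (ω ≫ V.hom)) {P : Sp S} (fst : P ⟶ G)
    (snd : P ⟶ (yon S).obj T) (sq : IsPullback fst snd ψ ((yon S).map β ≫ (yon S).map (ωo ω))) :
    IsClosedMap (Points.map snd) := by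
  have hqci : IsQuasiCompactSp (pullback ψ ((yon S).map (ωo ω))) := by
    haveI : CompactSpace ↥(Over.mk (ω ≫ V.hom)).left := by
      change CompactSpace ↥(Spec (.of A))
      infer_instance
    exact hqc (IsAlgSpace.yon_obj _) (Groth.Agent.H49.isQuasiCompactSp_yon _)
      ((yon S).map (ωo ω)) _ _ (IsPullback.of_hasPullback _ _)
  have H := isClosedMap_snd_finiteType_of_affineSpace ψ ω hG HV
  have sqi := IsPullback.of_hasPullback ψ ((yon S).map (ωo ω))
  have hl : fst ≫ ψ = (snd ≫ (yon S).map β) ≫ (yon S).map (ωo ω) := by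
    rw [Category.assoc]; exact sq.w
  have left : IsPullback (sqi.lift _ _ hl) snd
      (pullback.snd ψ ((yon S).map (ωo ω))) ((yon S).map β) := by
    refine IsPullback.of_right ?_ (sqi.lift_snd _ _ hl) sqi
    rw [sqi.lift_fst]
    exact sq
  exact isClosedMap_snd_of_isAffine (pullback.snd ψ ((yon S).map (ωo ω))) hqci
    (fun C₁ _ _ hft => H C₁ hft) T β _ _ left

/-- **Stacks, Limits of Spaces, universally closed via affine spaces** (target a scheme): a
quasi-compact morphism from an algebraic space to a scheme `V` whose base changes to all `𝔸ⁿ_V` are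
closed on points is universally closed. -/
theorem isUnivClosedMor_of_affineSpace {V : Over S} {G : Sp S} (hG : IsAlgSpace G)
    (ψ : G ⟶ (yon S).obj V) (hqc : IsQuasiCompactMor ψ)
    (HV : ∀ n : ℕ, IsClosedMap (Points.map (pullback.snd ψ ((yon S).map (πn V n))))) :
    IsUnivClosedMor ψ := by
  apply Groth.Agent.H49.isUnivClosedMor_of_affine
  intro Z hZ g P fst snd sq
  obtain ⟨γ, rfl⟩ := (yon S).map_surjective g
  let 𝒱 := V.left.affineCover
  let Zi : 𝒱.I₀ → Scheme.{u} := fun i => pullback γ.left (𝒱.f i)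
  let m : ∀ ik : (Σ i : 𝒱.I₀, (Zi i).affineCover.I₀), (Zi ik.1).affineCover.X ik.2 ⟶ Z.left :=
    fun ik => (Zi ik.1).affineCover.f ik.2 ≫ pullback.fst γ.left (𝒱.f ik.1)
  have hm : ∀ ik, IsOpenImmersion (m ik) := fun ik => by
    change IsOpenImmersion (_ ≫ _)
    infer_instance
  let Wik : (Σ i : 𝒱.I₀, (Zi i).affineCover.I₀) → Over S := fun ik => Over.mk (m ik ≫ Z.hom)
  let a : ∀ ik, Wik ik ⟶ Z := fun ik => Over.homMk (m ik) rfl
  refine Groth.Agent.H49.isClosedMap_points_of_squares snd Wik
    (fun ik => pullback snd ((yon S).map (a ik))) (fun ik => (yon S).map (a ik))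
    (fun ik => pullback.fst _ _) (fun ik => pullback.snd _ _)
    (fun ik => IsPullback.of_hasPullback _ _) ?_ ?_ ?_
  · intro ik
    refine (repWith_yon_map_iff @Etale (a ik)).2 ?_
    change Etale (m ik)
    infer_instance
  · intro y
    obtain ⟨z, rfl⟩ := (Points.schemeHomeo Z).surjective y
    obtain ⟨v', hv'⟩ := 𝒱.covers (γ.left z)
    obtain ⟨p, hp1, hp2⟩ := Scheme.Pullback.exists_preimage_pullback z v' hv'.symm
    obtain ⟨q, hq⟩ := (Zi (𝒱.idx (γ.left z))).affineCover.covers p
    refine ⟨⟨𝒱.idx (γ.left z), (Zi (𝒱.idx (γ.left z))).affineCover.idx p⟩,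
      Points.schemeHomeo _ q, ?_⟩
    rw [Points.map_yon_map_apply]
    congr 1
    change (pullback.fst γ.left (𝒱.f _)) (((Zi _).affineCover.f _) q) = z
    rw [hq, hp1]
  · rintro ⟨i, k⟩
    haveI : IsImmersion (𝒱.f i) := inferInstance
    have hw : γ.left ≫ V.hom = Z.hom := Over.w γ
    have hβw : ((Zi i).affineCover.f k ≫ pullback.snd γ.left (𝒱.f i)) ≫ 𝒱.f i ≫ V.hom =
        ((Zi i).affineCover.f k ≫ pullback.fst γ.left (𝒱.f i)) ≫ Z.hom := by
      rw [← hw, Category.assoc, Category.assoc, pullback.condition_assoc]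
    let β : Wik ⟨i, k⟩ ⟶ Over.mk (𝒱.f i ≫ V.hom) :=
      Over.homMk ((Zi i).affineCover.f k ≫ pullback.snd γ.left (𝒱.f i)) hβw
    have hβ : a ⟨i, k⟩ ≫ γ = β ≫ Over.homMk (𝒱.f i) rfl := by
      apply Over.OverMorphism.ext
      change ((Zi i).affineCover.f k ≫ pullback.fst γ.left (𝒱.f i)) ≫ γ.left =
        ((Zi i).affineCover.f k ≫ pullback.snd γ.left (𝒱.f i)) ≫ 𝒱.f i
      rw [Category.assoc, Category.assoc, pullback.condition]
    have hWaff : IsAffine (Wik ⟨i, k⟩).left := by
      change IsAffine ((Zi i).affineCover.X k)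
      infer_instance
    have outer := (IsPullback.of_hasPullback snd ((yon S).map (a ⟨i, k⟩))).paste_horiz sq
    rw [← Functor.map_comp, hβ, Functor.map_comp] at outer
    exact isClosedMap_snd_of_factor hG ψ hqc HV (A := V.left.affineOpenCover.X i) (𝒱.f i)
      (Wik ⟨i, k⟩) β _ _ outer

/-- **Stacks, Limits of Spaces**: a quasi-compact morphism `f : X ⟶ Y` of algebraic spaces such
that for some étale surjective `V ⟶ Y` from a scheme, the base changes to all `𝔸ⁿ_V` are closed on
points, is universally closed. -/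
theorem isUnivClosedMor_of_affineSpace_chart {X Y : Sp S} (hX : IsAlgSpace X) (hY : IsAlgSpace Y)
    (f : X ⟶ Y) (hqc : IsQuasiCompactMor f) (V : Over S) (p : (yon S).obj V ⟶ Y)
    (hp : RepWith @Etale p) (hps : RepWith @Surjective p)
    (Hn : ∀ (n : ℕ) (P : Sp S) (fst : P ⟶ X) (snd : P ⟶ (yon S).obj (AnV V n)),
      IsPullback fst snd f ((yon S).map (πn V n) ≫ p) → IsClosedMap (Points.map snd)) :
    IsUnivClosedMor f := by
  have sq₀ := IsPullback.of_hasPullback f p
  have hG : IsAlgSpace (pullback f p) :=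
    Groth.Agent.H49.isAlgSpace_of_isPullback sq₀ hY.diag hX (IsAlgSpace.yon_obj V)
  have hqcψ : IsQuasiCompactMor (pullback.snd f p) :=
    Groth.Agent.H49.isQuasiCompactMor_of_isPullback sq₀ hqc
  refine Groth.Agent.H49.isUnivClosedMor_of_etale_cover f p hp hps _ _ sq₀ ?_
  refine isUnivClosedMor_of_affineSpace hG _ hqcψ fun n => ?_
  exact Hn n _ _ _ ((IsPullback.of_hasPullback (pullback.snd f p)
    ((yon S).map (πn V n))).paste_horiz sq₀)

end UCSp

end Groth.Agent.H50
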