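import Groth.Agent.H50.PropDVR4
import Groth.Agent.H50.PropDVR5
import Groth.Agent.H50.UCSp5
import Groth.Agent.H50.DVRSp3

set_option autoImplicit false
set_option backward.isDefEq.respectTransparency false
set_option linter.style.haveILetI false
set_option linter.unusedSectionVars false
universe u
open CategoryTheory CategoryTheory.Limits AlgebraicGeometry Opposite Topology

namespace Groth.Agent.H50
open AlgSp Groth.Agent.H49

variable {S : Scheme.{u}}

namespace PropDVR

/-- **Closedness on points from strict DVR lifts**, over a locally Noetherian scheme. -/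
theorem isClosedMap_of_dvr_lift {Q : Sp S} (hQ : IsAlgSpace Q) (T : Over S)
    [IsLocallyNoetherian T.left] (c : Q ⟶ (yon S).obj T) (hqc : IsQuasiCompactMor c)
    (hlft : LocP @LocallyOfFiniteType c)
    (hl : ∀ sq : ValSq c, IsDiscreteValuationRing sq.A → sq.HasLift) :
    IsClosedMap (Points.map c) := by
  let 𝒰 := T.left.affineCover
  let Wi : 𝒰.I₀ → Over S := fun i => Over.mk (𝒰.f i ≫ T.hom)
  let ωi : ∀ i, Wi i ⟶ T := fun i => Over.homMk (𝒰.f i) rfl
  refine isClosedMap_points_of_squares c Wi (fun i => pullback c ((yon S).map (ωi i)))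
    (fun i => (yon S).map (ωi i)) (fun i => pullback.fst _ _) (fun i => pullback.snd _ _)
    (fun i => IsPullback.of_hasPullback _ _) ?_ ?_ ?_
  · intro i
    rw [repWith_yon_map_iff]
    change Etale (𝒰.f i)
    infer_instance
  · intro y
    obtain ⟨t, rfl⟩ := (Points.schemeHomeo T).surjective y
    obtain ⟨w, hw⟩ := 𝒰.covers t
    refine ⟨𝒰.idx t, Points.schemeHomeo _ w, ?_⟩
    rw [Points.map_yon_map_apply]
    congr 1
  · intro i
    haveI : IsAffine (Wi i).left := by
      change IsAffine (𝒰.X i)
      infer_instance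
    haveI : IsLocallyNoetherian (Wi i).left := isLocallyNoetherian_of_isOpenImmersion (𝒰.f i)
    have sq := IsPullback.of_hasPullback c ((yon S).map (ωi i))
    exact isClosedMap_of_dvr_lift_affine (Wi i) _ (isQuasiCompactMor_of_isPullback sq hqc)
      (goodClass_lft.locP_of_isPullback hQ (IsAlgSpace.yon_obj T) (IsAlgSpace.yon_obj (Wi i)) c _
        _ _ sq hlft)
      (hasLift_of_isPullback sq hl)

/-- **DVR criterion for universal closedness** (strict form) over a locally Noetherian
algebraic space. -/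
theorem isUnivClosedMor_of_dvr_lift {X Y : Sp S} (hX : IsAlgSpace X) (hYa : IsAlgSpace Y)
    (f : X ⟶ Y) (hft : IsFiniteTypeMor f) (hY : IsLocNoethSp Y)
    (hl : ∀ sq : ValSq f, IsDiscreteValuationRing sq.A → sq.HasLift) : IsUnivClosedMor f := by
  obtain ⟨V, p, hpe, hps, hVN⟩ := hY
  refine UCSp.isUnivClosedMor_of_affineSpace_chart hX hYa f hft.2 V p hpe hps ?_
  intro n P fst snd sq
  haveI := hVN
  haveI : IsLocallyNoetherian (UCSp.AnV V n).left :=
    LocallyOfFiniteType.isLocallyNoetherian (𝔸(ULift.{u} (Fin n); V.left) ↘ V.left)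
  have hP : IsAlgSpace P := isAlgSpace_of_isPullback sq hYa.diag hX (IsAlgSpace.yon_obj _)
  exact isClosedMap_of_dvr_lift hP (UCSp.AnV V n) snd (isQuasiCompactMor_of_isPullback sq hft.2)
    (goodClass_lft.locP_of_isPullback hX hYa (IsAlgSpace.yon_obj _) f _ fst snd sq hft.1)
    (hasLift_of_isPullback sq hl)

/-- **Stacks, Decent Spaces / Morphisms of Spaces**: a quasi-separated morphism of finite type to
a locally Noetherian algebraic space is proper iff every DVR valuative square has exactly one
(strict) lift. -/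
theorem isProperMor_iff_dvr {X Y : Sp S} (hX : IsAlgSpace X) (hYa : IsAlgSpace Y)
    (f : X ⟶ Y) (hqs : IsQuasiSeparatedMor f) (hft : IsFiniteTypeMor f) (hY : IsLocNoethSp Y) :
    IsProperMor f ↔
      ∀ sq : ValSq f, IsDiscreteValuationRing sq.A → sq.HasLift ∧ sq.HasUniq := by
  constructor
  · rintro ⟨hsep, -, huc⟩ sq hdvr
    exact ⟨hasLift_of_proper hX hYa f hsep hft.1 huc sq hdvr,
      Groth.Agent.H51.uniqVC_of_isSeparatedMor f hsep sq⟩
  · intro h
    refine ⟨DVRSp.isSeparatedMor_of_dvr_uniq hX hYa f hqs hft.1 hY (fun sq hd => (h sq hd).2),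
      hft, isUnivClosedMor_of_dvr_lift hX hYa f hft hY (fun sq hd => (h sq hd).1)⟩

end PropDVR

end Groth.Agent.H50
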