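import Groth.Agent.H50.PropDVR5
import Groth.Agent.H50.UCSp5

set_option autoImplicit false
set_option backward.isDefEq.respectTransparency false
set_option linter.style.haveILetI false
set_option linter.unusedSectionVars false
universe u
open CategoryTheory CategoryTheory.Limits AlgebraicGeometry Opposite Topology

namespace Groth.Agent.H50
open AlgSp Groth.Agent.H49

variable {S : Scheme.{u}}

namespace PropDVR

/-- The DVR lifting property after a dominating extension is stable under base change. -/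
theorem hasLiftExt_of_isPullback {X Y Y' X' : Sp S} {f : X ⟶ Y} {g : Y' ⟶ Y} {fst : X' ⟶ X}
    {f' : X' ⟶ Y'} (sqP : IsPullback fst f' f g)
    (hl : ∀ sq : ValSq f, IsDiscreteValuationRing sq.A → sq.HasLiftExt) :
    ∀ sq : ValSq f', IsDiscreteValuationRing sq.A → sq.HasLiftExt := by
  intro sq hdvr
  let sq₀ : ValSq f :=
    { A := sq.A, K := sq.K, str := sq.str, top := sq.top ≫ fst, bot := sq.bot ≫ g
      comm := by
        rw [Category.assoc, sqP.w, ← Category.assoc, sq.comm, Category.assoc] }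
  obtain ⟨e, l, hl1, hl2⟩ := hl sq₀ hdvr
  let e' : sq.DomExt :=
    { A' := e.A', K' := e.K', φ := e.φ, ψ := e.ψ, comm := e.comm, isLocalHom := e.isLocalHom }
  refine ⟨e', ?_⟩
  have hl2' : l ≫ f = ((yon S).map (Over.homMk (Spec.map (CommRingCat.ofHom e'.φ)) rfl :
      e'.ptA' ⟶ sq.ptA) ≫ sq.bot) ≫ g := by
    rw [Category.assoc]
    exact hl2
  obtain ⟨l', h1, h2⟩ := sqP.exists_lift l _ hl2'
  refine ⟨l', ?_, h2⟩
  apply sqP.hom_ext
  · rw [Category.assoc, h1, Category.assoc]
    exact hl1
  · rw [Category.assoc, h2, Category.assoc, sq.comm, ← Category.assoc, ← Category.assoc,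
      ← Functor.map_comp, ← Functor.map_comp]
    congr 2
    apply Over.OverMorphism.ext
    change Spec.map _ ≫ Spec.map _ = Spec.map _ ≫ Spec.map _
    rw [← Spec.map_comp, ← Spec.map_comp, ← CommRingCat.ofHom_comp, ← CommRingCat.ofHom_comp,
      e.comm]

/-- **Closedness on points from DVR lifts after extension**, over a Noetherian affine base. -/
theorem isClosedMap_of_dvr_liftExt_affine {Q : Sp S} (W : Over S) [IsAffine W.left]
    [IsLocallyNoetherian W.left] (c : Q ⟶ (yon S).obj W) (hqc : IsQuasiCompactMor c)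
    (hlft : LocP @LocallyOfFiniteType c)
    (hl : ∀ sq : ValSq c, IsDiscreteValuationRing sq.A → sq.HasLiftExt) :
    IsClosedMap (Points.map c) := by
  haveI : CompactSpace ↥W.left := inferInstance
  have hQqc : IsQuasiCompactSp Q :=
    hqc (IsAlgSpace.yon_obj W) (isQuasiCompactSp_yon W) (𝟙 _) (𝟙 Q) c (IsPullback.id_horiz c)
  obtain ⟨U, a, hae, has, hUc⟩ := hQqc
  haveI : CompactSpace ↥U.left := hUc
  obtain ⟨g₀, hg₀⟩ := (yon S).map_surjective (a ≫ c)
  haveI hglft : LocallyOfFiniteType g₀.left :=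
    hlft a (𝟙 _) g₀ hae (repWith_id @Etale _) (by rw [Category.comp_id, hg₀])
  haveI hgqc : QuasiCompact g₀.left :=
    (HasAffineProperty.iff_of_isAffine (P := @QuasiCompact)).mpr hUc
  intro C hC
  have hC'cl : IsClosed (Points.ofPt a ⁻¹' C) := hC.preimage (Points.continuous_ofPt a)
  rw [← (Points.schemeHomeo W).isClosed_preimage, ← closure_subset_iff_isClosed]
  intro w hw
  let Zc : TopologicalSpace.Closeds ↥U.left := ⟨Points.ofPt a ⁻¹' C, hC'cl⟩
  let I := Scheme.IdealSheafData.vanishingIdeal Zc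
  have hrange : Set.range I.subschemeι = Points.ofPt a ⁻¹' C := by
    rw [Scheme.IdealSheafData.range_subschemeι, Scheme.IdealSheafData.coe_support_vanishingIdeal]
    rfl
  have hsub : (Points.schemeHomeo W) ⁻¹' (Points.map c '' C) ⊆
      Set.range (I.subschemeι ≫ g₀.left).base := by
    rintro w' ⟨q, hqC, hq⟩
    obtain ⟨u', rfl⟩ := Groth.Agent.H52.ofPt_surjective_of_repWith_surjective a has q
    have hu' : u' ∈ Set.range I.subschemeι := by rw [hrange]; exact hqC
    obtain ⟨z, rfl⟩ := hu'
    refine ⟨z, ?_⟩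
    rw [Points.map_ofPt, ← hg₀] at hq
    have h2 := congrArg (Points.toScheme W) hq
    rw [Points.toScheme_ofPt] at h2
    change g₀.left.base (I.subschemeι.base z) = w'
    rw [h2]
    exact Points.toScheme_ofScheme W w'
  have hw' : w ∈ closure (Set.range (I.subschemeι ≫ g₀.left).base) := closure_mono hsub hw
  obtain ⟨z, hz⟩ := DVRSp.exists_specializes_of_mem_closure (I.subschemeι ≫ g₀.left) w hw'
  have hz' : g₀.left.base (I.subschemeι.base z) ⤳ w := hz
  have hzC : Points.ofPt a (I.subschemeι.base z) ∈ C := by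
    have : I.subschemeι.base z ∈ Set.range I.subschemeι := ⟨z, rfl⟩
    rw [hrange] at this
    exact this
  obtain ⟨A, i1, i2, i3, h, ξ, h1, h2, h3⟩ :=
    DVRSp.exists_dvr_of_specializes g₀.left (I.subschemeι.base z) w hz'
  have hwU : g₀.left ≫ W.hom = U.hom := Over.w g₀
  let ho : Over.mk (h ≫ W.hom) ⟶ W := Over.homMk h rfl
  let ξo : Over.mk (Spec.map (CommRingCat.ofHom (algebraMap A (FractionRing A))) ≫ h ≫ W.hom) ⟶
      U := Over.homMk ξ (by
    change ξ ≫ U.hom = Spec.map _ ≫ h ≫ W.hom
    rw [← hwU, ← Category.assoc, h1, Category.assoc])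
  let j : Over.mk (Spec.map (CommRingCat.ofHom (algebraMap A (FractionRing A))) ≫ h ≫ W.hom) ⟶
      Over.mk (h ≫ W.hom) :=
    Over.homMk (Spec.map (CommRingCat.ofHom (algebraMap A (FractionRing A)))) rfl
  have hξj : ξo ≫ g₀ = j ≫ ho := by
    apply Over.OverMorphism.ext
    exact h1
  let vsq : ValSq c :=
    { A := A, K := FractionRing A, str := h ≫ W.hom, top := (yon S).map ξo ≫ a
      bot := (yon S).map ho
      comm := by
        rw [Category.assoc, ← hg₀, ← Functor.map_comp, hξj, Functor.map_comp] }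
  have hdvr : IsDiscreteValuationRing vsq.A := i3
  obtain ⟨e, l, hl1, hl2⟩ := hl vsq hdvr
  let jK' : e.ptK' ⟶ e.ptA' :=
    Over.homMk (Spec.map (CommRingCat.ofHom (algebraMap e.A' e.K'))) rfl
  let ιA : e.ptA' ⟶ vsq.ptA := Over.homMk (Spec.map (CommRingCat.ofHom e.φ)) rfl
  have hl2' : l ≫ c = (yon S).map ιA ≫ (yon S).map ho := hl2
  haveI : IsLocalHom e.φ := e.isLocalHom
  refine ⟨Points.ofPt l (IsLocalRing.closedPoint e.A'), ?_, ?_⟩
  · have hsp : jK'.left.base (IsLocalRing.closedPoint e.K') ⤳ IsLocalRing.closedPoint e.A' :=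
      generic_specializes_closedPoint (A := e.A') (K := e.K')
    have hsp' := hsp.map (Points.continuous_ofPt l)
    refine hsp'.mem_closed hC ?_
    rw [← Groth.Agent.H52.ofPt_yon_map_comp]
    have hl1' : (yon S).map jK' ≫ l = _ := hl1
    rw [hl1', Groth.Agent.H52.ofPt_yon_map_comp]
    change Points.ofPt ((yon S).map ξo ≫ a) _ ∈ C
    rw [Groth.Agent.H52.ofPt_yon_map_comp]
    have hss : ∀ t : ↥(Spec (CommRingCat.of (FractionRing A))),
        Points.ofPt a (ξ.base t) ∈ C := by
      intro t
      have ht : t = IsLocalRing.closedPoint (FractionRing A) := Subsingleton.elim _ _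
      rw [ht, h3]
      exact hzC
    exact hss _
  · rw [Points.map_ofPt, hl2', ← Functor.map_comp]
    change _ = Points.ofScheme W w
    rw [← Points.ofScheme_toScheme W (Points.ofPt _ _), Points.toScheme_ofPt]
    change Points.ofScheme W (h.base ((Spec.map (CommRingCat.ofHom e.φ)).base _)) = _
    have hcp : (Spec.map (CommRingCat.ofHom e.φ)).base (IsLocalRing.closedPoint e.A') =
        IsLocalRing.closedPoint A := IsLocalRing.comap_closedPoint e.φ
    rw [hcp, h2]

/-- **Closedness on points from DVR lifts after extension**, over a locally Noetherian scheme. -/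
theorem isClosedMap_of_dvr_liftExt {Q : Sp S} (hQ : IsAlgSpace Q) (T : Over S)
    [IsLocallyNoetherian T.left] (c : Q ⟶ (yon S).obj T) (hqc : IsQuasiCompactMor c)
    (hlft : LocP @LocallyOfFiniteType c)
    (hl : ∀ sq : ValSq c, IsDiscreteValuationRing sq.A → sq.HasLiftExt) :
    IsClosedMap (Points.map c) := by
  let 𝒰 := T.left.affineCover
  let Wi : 𝒰.I₀ → Over S := fun i => Over.mk (𝒰.f i ≫ T.hom)
  let ωi : ∀ i, Wi i ⟶ T := fun i => Over.homMk (𝒰.f i) rfl
  refine isClosedMap_points_of_squares c Wi (fun i => pullback c ((yon S).map (ωi i)))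
    (fun i => (yon S).map (ωi i)) (fun i => pullback.fst _ _) (fun i => pullback.snd _ _)
    (fun i => IsPullback.of_hasPullback _ _) ?_ ?_ ?_
  · intro i
    rw [repWith_yon_map_iff]
    change Etale (𝒰.f i)
    infer_instance
  · intro y
    obtain ⟨t, rfl⟩ := (Points.schemeHomeo T).surjective y
    obtain ⟨w, hw⟩ := 𝒰.covers t
    refine ⟨𝒰.idx t, Points.schemeHomeo _ w, ?_⟩
    rw [Points.map_yon_map_apply]
    congr 1
  · intro i
    haveI : IsAffine (Wi i).left := by
      change IsAffine (𝒰.X i)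
      infer_instance
    haveI : IsLocallyNoetherian (Wi i).left := isLocallyNoetherian_of_isOpenImmersion (𝒰.f i)
    have sq := IsPullback.of_hasPullback c ((yon S).map (ωi i))
    exact isClosedMap_of_dvr_liftExt_affine (Wi i) _ (isQuasiCompactMor_of_isPullback sq hqc)
      (goodClass_lft.locP_of_isPullback hQ (IsAlgSpace.yon_obj T) (IsAlgSpace.yon_obj (Wi i)) c _
        _ _ sq hlft)
      (hasLiftExt_of_isPullback sq hl)

/-- **DVR criterion for universal closedness** (lifts after extension) over a locally Noetherian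
algebraic space. -/
theorem isUnivClosedMor_of_dvr_liftExt {X Y : Sp S} (hX : IsAlgSpace X) (hYa : IsAlgSpace Y)
    (f : X ⟶ Y) (hft : IsFiniteTypeMor f) (hY : IsLocNoethSp Y)
    (hl : ∀ sq : ValSq f, IsDiscreteValuationRing sq.A → sq.HasLiftExt) : IsUnivClosedMor f := by
  obtain ⟨V, p, hpe, hps, hVN⟩ := hY
  refine UCSp.isUnivClosedMor_of_affineSpace_chart hX hYa f hft.2 V p hpe hps ?_
  intro n P fst snd sq
  haveI := hVN
  haveI : IsLocallyNoetherian (UCSp.AnV V n).left :=
    LocallyOfFiniteType.isLocallyNoetherian (𝔸(ULift.{u} (Fin n); V.left) ↘ V.left)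
  have hP : IsAlgSpace P := isAlgSpace_of_isPullback sq hYa.diag hX (IsAlgSpace.yon_obj _)
  exact isClosedMap_of_dvr_liftExt hP (UCSp.AnV V n) snd
    (isQuasiCompactMor_of_isPullback sq hft.2)
    (goodClass_lft.locP_of_isPullback hX hYa (IsAlgSpace.yon_obj _) f _ fst snd sq hft.1)
    (hasLiftExt_of_isPullback sq hl)

end PropDVR

end Groth.Agent.H50
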