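import Groth.Agent.H50.PropDVR4
import Groth.Agent.H52.Special
import Groth.Agent.H51.TopGenLift
import Groth.Agent.H22.DVRSpec

set_option autoImplicit false
set_option backward.isDefEq.respectTransparency false
set_option linter.style.haveILetI false
set_option linter.unusedSectionVars false
universe u
open CategoryTheory CategoryTheory.Limits AlgebraicGeometry Opposite Topology

namespace Groth.Agent.H50
open AlgSp Groth.Agent.H49

variable {S : Scheme.{u}}

namespace PropDVR

/-- The fraction field of a discrete valuation ring is a finitely generated algebra. -/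
theorem finiteType_fractionRing_of_dvr (A K : Type u) [CommRing A] [IsDomain A]
    [IsDiscreteValuationRing A] [Field K] [Algebra A K] [IsFractionRing A K] :
    Algebra.FiniteType A K := by
  obtain ⟨ϖ, hϖ⟩ := IsDiscreteValuationRing.exists_irreducible A
  refine ⟨⟨{(algebraMap A K ϖ)⁻¹}, ?_⟩⟩
  rw [eq_top_iff]
  rintro x -
  obtain ⟨a, b, hb, rfl⟩ := IsFractionRing.div_surjective A x
  have hb0 : b ≠ 0 := nonZeroDivisors.ne_zero hb
  obtain ⟨n, v, hv⟩ := IsDiscreteValuationRing.eq_unit_mul_pow_irreducible hb0 hϖ
  have hϖ0 : algebraMap A K ϖ ≠ 0 := by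
    intro h0
    apply hϖ.ne_zero
    exact (IsFractionRing.injective A K) (by rw [h0, map_zero])
  have hv0 : algebraMap A K (v : A) ≠ 0 := by
    intro h0
    have : (v : A) = 0 := (IsFractionRing.injective A K) (by rw [h0, map_zero])
    exact v.ne_zero this
  have hx : algebraMap A K a / algebraMap A K b =
      algebraMap A K (a * ((v⁻¹ : Aˣ) : A)) * ((algebraMap A K ϖ)⁻¹) ^ n := by
    have hvv : algebraMap A K ((v⁻¹ : Aˣ) : A) * algebraMap A K (v : A) = 1 := by
      rw [← map_mul, Units.inv_mul, map_one]
    rw [hv, map_mul, map_mul, map_pow, inv_pow]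
    field_simp
    linear_combination (-(algebraMap A K a)) * hvv
  rw [hx]
  refine Subalgebra.mul_mem _ (Subalgebra.algebraMap_mem _ _) (Subalgebra.pow_mem _ ?_ n)
  exact Algebra.subset_adjoin (by simp)

/-- Residue field extensions of a formally unramified morphism locally of finite type are
finite. -/
theorem finite_residueField_of_unramified {X Y : Scheme.{u}} (f : X ⟶ Y) [FormallyUnramified f]
    [LocallyOfFiniteType f] (x : X) :
    letI : Algebra (Y.residueField (f.base x)) (X.residueField x) :=
      (f.residueFieldMap x).hom.toAlgebra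
    Module.Finite (Y.residueField (f.base x)) (X.residueField x) := by
  algebraize [(f.stalkMap x).hom]
  have : IsLocalHom (algebraMap (Y.presheaf.stalk (f x)) (X.presheaf.stalk x)) :=
    inferInstanceAs <| IsLocalHom (f.stalkMap x).hom
  suffices h : Module.Finite
      (IsLocalRing.ResidueField <| Y.presheaf.stalk (f x))
      (IsLocalRing.ResidueField <| X.presheaf.stalk x) by
    convert! h
    have e : (f.residueFieldMap x).hom.toAlgebra =
        (inferInstance : Algebra (IsLocalRing.ResidueField (Y.presheaf.stalk (f x)))
          (IsLocalRing.ResidueField (X.presheaf.stalk x))) := by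
      refine Algebra.algebra_ext _ _ fun x ↦ ?_
      obtain ⟨x, rfl⟩ := IsLocalRing.residue_surjective x
      rfl
    exact congrArg (fun a => @Algebra.toModule _ _ _ _ a) e
  have : Algebra.EssFiniteType (Y.presheaf.stalk (f x)) (X.presheaf.stalk x) := by
    rw [← RingHom.essFiniteType_algebraMap, RingHom.algebraMap_toAlgebra]
    exact LocallyOfFiniteType.stalkMap f x
  have : Algebra.FormallyUnramified (Y.presheaf.stalk (f x)) (X.presheaf.stalk x) := by
    rw [← RingHom.formallyUnramified_algebraMap, RingHom.algebraMap_toAlgebra]
    exact FormallyUnramified.stalkMap f x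
  infer_instance

/-- The residue field of a point of a scheme étale over a field is a finite separable
extension. -/
theorem finite_separable_of_etale_over_field {K : Type u} [Field K] {Φ : Scheme.{u}}
    (ψ₀ : Φ ⟶ Spec (.of K)) [Etale ψ₀] (φ : Φ) (ψr : K →+* Φ.residueField φ)
    (hψr : Spec.map (CommRingCat.ofHom ψr) = Φ.fromSpecResidueField φ ≫ ψ₀) :
    letI := ψr.toAlgebra
    Module.Finite K (Φ.residueField φ) ∧ Algebra.IsSeparable K (Φ.residueField φ) := by
  let pt := ψ₀.base φ
  let ρ : (Spec (.of K)).residueField pt →+* Φ.residueField φ := (ψ₀.residueFieldMap φ).hom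
  let ev' : CommRingCat.of K ⟶ (Spec (.of K)).residueField pt :=
    Spec.preimage ((Spec (.of K)).fromSpecResidueField pt)
  have hev' : Spec.map ev' = (Spec (.of K)).fromSpecResidueField pt := Spec.map_preimage _
  let ev : K →+* (Spec (.of K)).residueField pt := ev'.hom
  have hcomp : ψr = ρ.comp ev := by
    have : CommRingCat.ofHom ψr = ev' ≫ ψ₀.residueFieldMap φ := by
      apply Spec.map_injective
      rw [hψr, Spec.map_comp, hev', Scheme.Hom.SpecMap_residueFieldMap_fromSpecResidueField]
    exact congrArg (fun k => k.hom) this
  have hevs : Function.Surjective ev := by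
    haveI : IsPreimmersion (Spec.map ev') := by rw [hev']; infer_instance
    have h1 := ((IsPreimmersion.SpecMap_iff ev').mp inferInstance).2
    exact RingHom.surjectiveOnStalks_iff_of_isLocalHom.mp h1
  letI a1 : Algebra K (Φ.residueField φ) := ψr.toAlgebra
  letI a2 : Algebra K ((Spec (.of K)).residueField pt) := ev.toAlgebra
  letI a3 : Algebra ((Spec (.of K)).residueField pt) (Φ.residueField φ) := ρ.toAlgebra
  haveI : IsScalarTower K ((Spec (.of K)).residueField pt) (Φ.residueField φ) :=
    IsScalarTower.of_algebraMap_eq (fun a => by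
      change ψr a = ρ (ev a)
      rw [hcomp]
      rfl)
  haveI : Module.Finite K ((Spec (.of K)).residueField pt) :=
    Module.Finite.of_surjective (Algebra.linearMap K _) hevs
  haveI : Algebra.IsSeparable K ((Spec (.of K)).residueField pt) :=
    ⟨fun x => by
      obtain ⟨a, rfl⟩ := hevs x
      exact isSeparable_algebraMap a⟩
  haveI : Module.Finite ((Spec (.of K)).residueField pt) (Φ.residueField φ) :=
    finite_residueField_of_unramified ψ₀ φ
  haveI : Algebra.IsSeparable ((Spec (.of K)).residueField pt) (Φ.residueField φ) :=
    inferInstance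
  exact ⟨Module.Finite.trans ((Spec (.of K)).residueField pt) _,
    Algebra.IsSeparable.trans K ((Spec (.of K)).residueField pt) _⟩

end PropDVR

end Groth.Agent.H50
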