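import Groth.Agent.H50.PropDVR8

set_option autoImplicit false
set_option backward.isDefEq.respectTransparency false
set_option linter.style.haveILetI false
set_option linter.unusedSectionVars false
universe u
open CategoryTheory CategoryTheory.Limits AlgebraicGeometry Opposite Topology

namespace Groth.Agent.H50
open AlgSp Groth.Agent.H49

variable {S : Scheme.{u}}

namespace PropDVR

set_option maxHeartbeats 800000 in
/-- **Existence part of the valuative criterion over a DVR, refined**: for a decent, universally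
closed morphism locally of finite type, every valuative square over a DVR has a lift after a
finite separable extension of the fraction field, with a DVR as new valuation ring. -/
theorem exists_dvr_ext_lift_of_decent {F G : Sp S} (hF : IsAlgSpace F) (hG : IsAlgSpace G)
    (f : F ⟶ G) (hlft : LocP @LocallyOfFiniteType f) (hdec : IsDecentMor f)
    (huc : IsUnivClosedMor f) (sq : ValSq f) (hdvr : IsDiscreteValuationRing sq.A) :
    ∃ e : sq.DomExt, IsDiscreteValuationRing e.A' ∧
      (letI := e.ψ.toAlgebra; Module.Finite sq.K e.K' ∧ Algebra.IsSeparable sq.K e.K') ∧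
        e.HasLift := by
  classical
  haveI := hdvr
  have hA : IsAlgSpace ((yon S).obj sq.ptA) := IsAlgSpace.yon_obj _
  -- the base change to `Spec A`
  have sqP : IsPullback (pullback.fst f sq.bot) (pullback.snd f sq.bot) f sq.bot :=
    IsPullback.of_hasPullback f sq.bot
  obtain ⟨X', fst, π, sqX⟩ : ∃ (X' : Sp S) (fst : X' ⟶ F) (π : X' ⟶ (yon S).obj sq.ptA),
      IsPullback fst π f sq.bot := ⟨_, _, _, sqP⟩
  have hX' : IsAlgSpace X' := isAlgSpace_of_isPullback sqX hG.diag hF hA
  have hX'dec : IsDecent X' := hdec sq.bot fst π sqX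
  have hπlft : LocP @LocallyOfFiniteType π :=
    goodClass_lft.locP_of_isPullback hF hG hA f sq.bot fst π sqX hlft
  have hπcl : IsClosedMap (Points.map π) := huc hA sq.bot fst π sqX
  obtain ⟨x, hx1, hx2⟩ : ∃ x : (yon S).obj sq.ptK ⟶ X', x ≫ fst = sq.top ∧
      x ≫ π = (yon S).map sq.j := by
    obtain ⟨x, h1, h2⟩ := sqX.exists_lift sq.top ((yon S).map sq.j) sq.comm
    exact ⟨x, h1, h2⟩
  obtain ⟨x₀, hx₀cl, hx₀π⟩ := exists_specialization_over_closedPoint sq.str π hπcl x hx2
  -- a chart around `x₀`
  obtain ⟨B, iB, strU, c, u₀, hce, hu₀⟩ := exists_spec_chart_of_point hX' x₀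
  haveI : IsAffine (Over.mk strU).left := by
    change IsAffine (Spec (.of B))
    infer_instance
  haveI : CompactSpace ↥(Over.mk strU).left := inferInstance
  obtain ⟨gU, hgU⟩ := (yon S).map_surjective (c ≫ π)
  have hugU : gU.left.base u₀ = IsLocalRing.closedPoint sq.A := by
    have h1 : Points.map π (Points.ofPt c u₀) =
        Points.ofScheme sq.ptA (IsLocalRing.closedPoint sq.A) := by rw [hu₀, hx₀π]
    rw [Points.map_ofPt, ← hgU] at h1
    have h2 := congrArg (Points.toScheme sq.ptA) h1
    rw [Points.toScheme_ofPt, Points.toScheme_ofScheme] at h2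
    exact h2
  haveI hgUlft : LocallyOfFiniteType gU.left := by
    refine hπlft c (𝟙 _) gU hce (repWith_id @Etale _) ?_
    rw [Category.comp_id, hgU]
  -- generization in the chart
  obtain ⟨xη, hxη⟩ : ∃ xη, xη = Points.ofPt x (IsLocalRing.closedPoint sq.K) := ⟨_, rfl⟩
  have hfin : (Points.ofPt c ⁻¹' {xη}).Finite := by
    obtain ⟨q, hq, -, hqqc⟩ := hX'dec xη
    rw [← hq]
    exact Groth.Agent.H52.finite_fibre_of_quasiCompact_point q hqqc c hce
  obtain ⟨n, hn, hnu⟩ := Groth.Agent.H51.exists_specializes_of_isOpenMap_of_finite (Points.ofPt c)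
    (Groth.Agent.H52.isOpenMap_ofPt_of_repWith_etale c hce) xη hfin u₀ (by
      rw [hu₀, specializes_iff_mem_closure, hxη]
      exact hx₀cl)
  -- the fibre product of the chart with the `K`-point
  obtain ⟨Φ, ψ₀, fst₀, sq₀⟩ := hce.rep x
  obtain ⟨θ, rfl⟩ := (yon S).map_surjective fst₀
  haveI hψ₀e : Etale ψ₀.left := hce.property x _ ψ₀ sq₀
  have hnx : Points.map c (Points.ofScheme _ n) =
      Points.map x (Points.ofScheme _ (IsLocalRing.closedPoint sq.K)) := by
    rw [← Points.ofPt_eq_map_ofScheme, ← Points.ofPt_eq_map_ofScheme, hn, hxη]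
  obtain ⟨z, hz1, -⟩ := Groth.Agent.H53.exists_point_of_isPullback sq₀ _ _ hnx
  obtain ⟨φ, rfl⟩ := (Points.schemeEquiv Φ).surjective z
  have hθφ : θ.left.base φ = n := by
    have := congrArg (Points.toScheme (Over.mk strU)) hz1
    rw [Points.toScheme_ofScheme] at this
    rw [← this]
    change _ = Points.toScheme _ (Points.map _ (Points.ofScheme _ φ))
    rw [← Points.ofPt_eq_map_ofScheme, Points.toScheme_ofPt]
  -- compatibility over `Spec A`
  have hθg : θ ≫ gU = ψ₀ ≫ sq.j := by
    apply (yon S).map_injective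
    rw [Functor.map_comp, Functor.map_comp, hgU, ← Category.assoc, sq₀.w, Category.assoc, hx2]
  have hθg' : θ.left ≫ gU.left = ψ₀.left ≫ Spec.map (CommRingCat.ofHom (algebraMap sq.A sq.K)) :=
    congrArg (fun k => k.left) hθg
  -- `θ` is locally of finite type and `U` is locally Noetherian
  haveI : LocallyOfFiniteType (Spec.map (CommRingCat.ofHom (algebraMap sq.A sq.K))) := by
    rw [HasRingHomProperty.Spec_iff (P := @LocallyOfFiniteType)]
    exact RingHom.finiteType_algebraMap.mpr (finiteType_fractionRing_of_dvr sq.A sq.K)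
  haveI : LocallyOfFiniteType θ.left := by
    haveI : LocallyOfFiniteType (θ.left ≫ gU.left) := by
      rw [hθg']
      infer_instance
    exact locallyOfFiniteType_of_comp θ.left gU.left
  haveI : IsLocallyNoetherian sq.ptA.left := by
    change IsLocallyNoetherian (Spec (CommRingCat.of sq.A))
    infer_instance
  haveI : IsLocallyNoetherian (Over.mk strU).left :=
    LocallyOfFiniteType.isLocallyNoetherian gU.left
  -- the DVR
  have hne : u₀ ≠ θ.left.base φ := by
    intro heq
    have h1 : gU.left.base (θ.left.base φ) = IsLocalRing.closedPoint sq.A := by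
      rw [← heq, hugU]
    have h2 : gU.left.base (θ.left.base φ) =
        (Spec.map (CommRingCat.ofHom (algebraMap sq.A sq.K))).base (ψ₀.left.base φ) := by
      change (θ.left ≫ gU.left).base φ = (ψ₀.left ≫ Spec.map _).base φ
      exact congrArg (fun k => k.base φ) hθg'
    rw [h2] at h1
    have h3 := congrArg PrimeSpectrum.asIdeal h1
    have h4 : ((Spec.map (CommRingCat.ofHom (algebraMap sq.A sq.K))).base (ψ₀.left.base φ)).asIdeal
        = ⊥ := by
      change Ideal.comap (algebraMap sq.A sq.K) (ψ₀.left.base φ).asIdeal = ⊥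
      have hb : (ψ₀.left.base φ).asIdeal = ⊥ := by
        have hmax : (ψ₀.left.base φ).asIdeal ≠ ⊤ := (ψ₀.left.base φ).2.ne_top
        exact (Ideal.eq_bot_or_top _).resolve_right hmax
      rw [hb, ← RingHom.ker_eq_comap_bot]
      exact (RingHom.injective_iff_ker_eq_bot _).mp (IsFractionRing.injective sq.A sq.K)
    rw [h4] at h3
    exact IsDiscreteValuationRing.not_a_field sq.A h3.symm
  obtain ⟨A', h, hA'dvr, hcl, hgen⟩ :=
    Groth.Agent.H22.DVRSpec.exists_dvr_through_specialization θ.left φ u₀
      (by rw [hθφ]; exact hnu) hne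
  -- the extension
  let φr : sq.A →+* A' := (Spec.preimage (h ≫ gU.left)).hom
  have hφr : Spec.map (CommRingCat.ofHom φr) = h ≫ gU.left := Spec.map_preimage _
  let ψr : sq.K →+* Φ.left.residueField φ :=
    (Spec.preimage (Φ.left.fromSpecResidueField φ ≫ ψ₀.left)).hom
  have hψr : Spec.map (CommRingCat.ofHom ψr) = Φ.left.fromSpecResidueField φ ≫ ψ₀.left :=
    Spec.map_preimage _
  have hgen' : Spec.map (CommRingCat.ofHom (algebraMap A' (Φ.left.residueField φ))) ≫ h =
      Φ.left.fromSpecResidueField φ ≫ θ.left := hgen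
  have hcomm : (algebraMap A' (Φ.left.residueField φ)).comp φr =
      ψr.comp (algebraMap sq.A sq.K) := by
    have : CommRingCat.ofHom φr ≫ CommRingCat.ofHom (algebraMap A' (Φ.left.residueField φ)) =
        CommRingCat.ofHom (algebraMap sq.A sq.K) ≫ CommRingCat.ofHom ψr := by
      apply Spec.map_injective
      rw [Spec.map_comp, Spec.map_comp, hφr, hψr, ← Category.assoc, hgen', Category.assoc, hθg',
        Category.assoc]
    exact congrArg (fun k => k.hom) this
  have hloc : IsLocalHom φr := by
    refine ((IsLocalRing.local_hom_TFAE φr).out 0 4).2 ?_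
    have h1 : (Spec.map (CommRingCat.ofHom φr)).base (IsLocalRing.closedPoint A') =
        IsLocalRing.closedPoint sq.A := by
      rw [hφr]
      change gU.left.base (h.base (IsLocalRing.closedPoint A')) = _
      rw [hcl]
      exact hugU
    exact congrArg PrimeSpectrum.asIdeal h1
  let e : sq.DomExt :=
    { A' := A'
      K' := Φ.left.residueField φ
      φ := φr
      ψ := ψr
      comm := hcomm
      isLocalHom := hloc }
  refine ⟨e, hA'dvr, finite_separable_of_etale_over_field ψ₀.left φ ψr hψr, ?_⟩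
  -- the lift
  have hmO : h ≫ strU = Spec.map (CommRingCat.ofHom φr) ≫ sq.str := by
    rw [hφr, Category.assoc]
    congr 1
    exact (Over.w gU).symm
  let mO : e.ptA' ⟶ Over.mk strU := Over.homMk h hmO
  let jK' : e.ptK' ⟶ e.ptA' :=
    Over.homMk (Spec.map (CommRingCat.ofHom (algebraMap A' (Φ.left.residueField φ)))) rfl
  let ιA : e.ptA' ⟶ sq.ptA := Over.homMk (Spec.map (CommRingCat.ofHom φr)) rfl
  have hιΦ : Φ.left.fromSpecResidueField φ ≫ Φ.hom =
      Spec.map (CommRingCat.ofHom (algebraMap A' (Φ.left.residueField φ))) ≫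
        Spec.map (CommRingCat.ofHom φr) ≫ sq.str := by
    have h1 : Φ.hom = θ.left ≫ strU := (Over.w θ).symm
    rw [h1, ← Category.assoc, ← hgen', Category.assoc, hmO]
  let ιΦ : e.ptK' ⟶ Φ := Over.homMk (Φ.left.fromSpecResidueField φ) hιΦ
  have hθ1 : jK' ≫ mO = ιΦ ≫ θ := by
    apply Over.OverMorphism.ext
    exact hgen'
  have hθ2 : (Over.homMk (Spec.map (CommRingCat.ofHom e.ψ)) (by
        change Spec.map _ ≫ Spec.map _ ≫ _ = Spec.map _ ≫ Spec.map _ ≫ _
        rw [← Spec.map_comp_assoc, ← Spec.map_comp_assoc, ← CommRingCat.ofHom_comp,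
          ← CommRingCat.ofHom_comp, e.comm]) : e.ptK' ⟶ sq.ptK) = ιΦ ≫ ψ₀ := by
    apply Over.OverMorphism.ext
    exact hψr
  refine ⟨(yon S).map mO ≫ c ≫ fst, ?_, ?_⟩
  · rw [hθ2]
    change (yon S).map jK' ≫ (yon S).map mO ≫ c ≫ fst = _
    rw [← Category.assoc, ← Functor.map_comp, hθ1, Functor.map_comp, Category.assoc,
      ← Category.assoc ((yon S).map θ), sq₀.w, Category.assoc, hx1, Functor.map_comp,
      Category.assoc]
  · change ((yon S).map mO ≫ c ≫ fst) ≫ f = (yon S).map ιA ≫ sq.bot
    have h1 : mO ≫ gU = ιA := by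
      apply Over.OverMorphism.ext
      exact hφr.symm
    rw [Category.assoc, Category.assoc, sqX.w, ← Category.assoc c, ← hgU, ← Category.assoc,
      ← Functor.map_comp, h1]

end PropDVR

end Groth.Agent.H50
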