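import Groth.Agent.H50.QCKer1
import Groth.Agent.H50.QCKer2
import Groth.Agent.H53.Charts
import Groth.Agent.H53.Epi

set_option autoImplicit false
set_option backward.isDefEq.respectTransparency false
set_option linter.style.haveILetI false
universe u
open CategoryTheory CategoryTheory.Limits AlgebraicGeometry Opposite Topology

namespace Groth.Agent.H50

open AlgSp

variable {S : Scheme.{u}}

/-- A quasi-compact atlas of the fibre product `X ×_Y W`, for `x : h_W ⟶ Y`: a scheme `U`
quasi-compact over `W` with an etale surjective map to the fibre product. -/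
structure QCAtlas {X Y : Sp S} (f : X ⟶ Y) {W : Over S} (x : (yon S).obj W ⟶ Y) where
  /-- the scheme -/
  U : Over S
  /-- the structure morphism -/
  g : U ⟶ W
  /-- the chart -/
  a : (yon S).obj U ⟶ X
  comm : a ≫ f = (yon S).map g ≫ x
  qc : QuasiCompact g.left
  etale : RepWith @Etale (pullback.lift a ((yon S).map g) comm : _ ⟶ pullback f x)
  surj : RepWith @Surjective (pullback.lift a ((yon S).map g) comm : _ ⟶ pullback f x)

namespace QCAtlas

variable {X Y : Sp S} {f : X ⟶ Y}

/-- The chart of the fibre product. -/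
noncomputable def u {W : Over S} {x : (yon S).obj W ⟶ Y} (A : QCAtlas f x) :
    (yon S).obj A.U ⟶ pullback f x := pullback.lift A.a ((yon S).map A.g) A.comm

theorem u_snd {W : Over S} {x : (yon S).obj W ⟶ Y} (A : QCAtlas f x) :
    A.u ≫ pullback.snd f x = (yon S).map A.g := pullback.lift_snd _ _ _

theorem u_fst {W : Over S} {x : (yon S).obj W ⟶ Y} (A : QCAtlas f x) :
    A.u ≫ pullback.fst f x = A.a := pullback.lift_fst _ _ _

/-- The kernel of a quasi-compact atlas does not depend on the atlas. -/
theorem ker_eq {W : Over S} {x x' : (yon S).obj W ⟶ Y} (h : x = x') (A : QCAtlas f x)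
    (A' : QCAtlas f x') : A.g.left.ker = A'.g.left.ker := by
  subst h
  obtain ⟨U'', p, q, sq⟩ := Groth.Agent.H53.exists_pullback_yon A.u A'.u A'.etale.rep
  haveI hp1 : Etale p.left := Groth.Agent.H53.prop_of_isPullback_yon sq A'.etale
  haveI hp2 : Surjective p.left := Groth.Agent.H53.prop_of_isPullback_yon sq A'.surj
  haveI hq1 : Etale q.left := Groth.Agent.H53.prop_of_isPullback_yon sq.flip A.etale
  haveI hq2 : Surjective q.left := Groth.Agent.H53.prop_of_isPullback_yon sq.flip A.surj
  have hpq : p ≫ A.g = q ≫ A'.g := by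
    apply (yon S).map_injective
    rw [Functor.map_comp, Functor.map_comp, ← A.u_snd, ← A'.u_snd, ← Category.assoc,
      ← Category.assoc, sq.w]
  have hpq' : p.left ≫ A.g.left = q.left ≫ A'.g.left := congrArg (fun m => m.left) hpq
  rw [← ker_comp_of_flat_of_surjective p.left A.g.left, hpq',
    ker_comp_of_flat_of_surjective q.left A'.g.left]

/-- Base change of a quasi-compact atlas. -/
theorem exists_baseChange {W W' : Over S} {x : (yon S).obj W ⟶ Y} (A : QCAtlas f x)
    (s : W' ⟶ W) :
    ∃ (A' : QCAtlas f ((yon S).map s ≫ x)) (pr : A'.U ⟶ A.U),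
      IsPullback pr.left A'.g.left A.g.left s.left := by
  obtain ⟨U', pr, g', sq⟩ := Groth.Agent.H53.exists_pullback_yon ((yon S).map A.g)
    ((yon S).map s) (representable_yon_map s)
  have sqO : IsPullback pr g' A.g s := by
    refine IsPullback.of_map (yon S) ?_ sq
    apply (yon S).map_injective
    rw [Functor.map_comp, Functor.map_comp, sq.w]
  have sqL : IsPullback pr.left g'.left A.g.left s.left := sqO.map (Over.forget S)
  have comm' : ((yon S).map pr ≫ A.a) ≫ f = (yon S).map g' ≫ (yon S).map s ≫ x := by
    rw [Category.assoc, A.comm, ← Category.assoc, sq.w, Category.assoc]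
  -- the comparison of fibre products
  let θ : pullback f ((yon S).map s ≫ x) ⟶ pullback f x :=
    pullback.lift (pullback.fst _ _) (pullback.snd _ _ ≫ (yon S).map s) (by
      rw [pullback.condition, Category.assoc])
  have sqθ : IsPullback θ (pullback.snd f ((yon S).map s ≫ x)) (pullback.snd f x)
      ((yon S).map s) := by
    refine IsPullback.of_right ?_ (pullback.lift_snd _ _ _) (IsPullback.of_hasPullback f x)
    have := IsPullback.of_hasPullback f ((yon S).map s ≫ x)
    rwa [← pullback.lift_fst (pullback.fst f ((yon S).map s ≫ x))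
      (pullback.snd f ((yon S).map s ≫ x) ≫ (yon S).map s) (by
        rw [pullback.condition, Category.assoc])] at this
  let u' : (yon S).obj U' ⟶ pullback f ((yon S).map s ≫ x) :=
    pullback.lift ((yon S).map pr ≫ A.a) ((yon S).map g') comm'
  have hu'θ : (yon S).map pr ≫ A.u = u' ≫ θ := by
    apply pullback.hom_ext
    · rw [Category.assoc, A.u_fst, Category.assoc, pullback.lift_fst, pullback.lift_fst]
    · rw [Category.assoc, A.u_snd, Category.assoc, pullback.lift_snd, ← Category.assoc,
        pullback.lift_snd, sq.w]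
  have sqtop : IsPullback ((yon S).map pr) u' A.u θ := by
    refine IsPullback.of_bot ?_ hu'θ sqθ
    rw [pullback.lift_snd, A.u_snd]
    exact sq
  refine ⟨⟨U', g', (yon S).map pr ≫ A.a, comm', ?_, ?_, ?_⟩, pr, sqL⟩
  · haveI := A.qc
    exact MorphismProperty.of_isPullback (P := @QuasiCompact) sqL inferInstance
  · exact MorphismProperty.of_isPullback sqtop A.etale
  · exact MorphismProperty.of_isPullback sqtop A.surj

/-- Compatibility of the kernels of quasi-compact atlases along flat morphisms of charts. -/
theorem ker_le_iff_of_flat {T T' W : Over S} {b : (yon S).obj T ⟶ Y} {b' : (yon S).obj T' ⟶ Y}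
    (A : QCAtlas f b) (A' : QCAtlas f b') (s : W ⟶ T) (s' : W ⟶ T') [Flat s.left] [Flat s'.left]
    (h : (yon S).map s ≫ b = (yon S).map s' ≫ b') {T₁ : Over S} (c : T₁ ⟶ W) :
    A.g.left.ker ≤ (c ≫ s).left.ker ↔ A'.g.left.ker ≤ (c ≫ s').left.ker := by
  obtain ⟨B, pr, sq⟩ := A.exists_baseChange s
  obtain ⟨B', pr', sq'⟩ := A'.exists_baseChange s'
  haveI := A.qc
  haveI := A'.qc
  rw [Over.comp_left, Over.comp_left, ← ker_snd_le_iff_of_flat A.g.left s.left pr.left B.g.left sq,
    ← ker_snd_le_iff_of_flat A'.g.left s'.left pr'.left B'.g.left sq', ker_eq h B B']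

/-- Existence of quasi-compact atlases over affine schemes for quasi-compact morphisms. -/
theorem exists_of_isQuasiCompactMor (hf : IsQuasiCompactMor f) {T : Over S} [IsAffine T.left]
    (x : (yon S).obj T ⟶ Y) : Nonempty (QCAtlas f x) := by
  have hT : IsQuasiCompactSp ((yon S).obj T) := by
    refine ⟨T, 𝟙 _, ?_, ?_, (inferInstance : CompactSpace T.left)⟩
    · rw [← (yon S).map_id]; exact (repWith_yon_map_iff _ _).2 (by dsimp; infer_instance)
    · rw [← (yon S).map_id]; exact (repWith_yon_map_iff _ _).2 (by dsimp; infer_instance)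
  obtain ⟨U, u, hu1, hu2, hU⟩ := hf (IsAlgSpace.yon_obj T) hT x (pullback.fst f x)
    (pullback.snd f x) (IsPullback.of_hasPullback f x)
  obtain ⟨g, hg⟩ := (yon S).map_surjective (u ≫ pullback.snd f x)
  have comm : (u ≫ pullback.fst f x) ≫ f = (yon S).map g ≫ x := by
    rw [hg, Category.assoc, Category.assoc, pullback.condition]
  have hlift : pullback.lift (u ≫ pullback.fst f x) ((yon S).map g) comm = u := by
    apply pullback.hom_ext
    · rw [pullback.lift_fst]
    · rw [pullback.lift_snd, hg]
  haveI : CompactSpace U.left := hU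
  refine ⟨⟨U, g, u ≫ pullback.fst f x, comm, ?_, ?_, ?_⟩⟩
  · exact HasAffineProperty.iff_of_isAffine.mpr (inferInstance : CompactSpace U.left)
  · rw [hlift]; exact hu1
  · rw [hlift]; exact hu2

end QCAtlas

end Groth.Agent.H50
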