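import Groth.Agent.H50.QCImage2
import Groth.Agent.H53.ReducedSm

set_option autoImplicit false
set_option backward.isDefEq.respectTransparency false
set_option linter.style.haveILetI false
universe u
open CategoryTheory CategoryTheory.Limits AlgebraicGeometry Opposite Topology

namespace Groth.Agent.H50

open AlgSp

variable {S : Scheme.{u}}

/-- Lifting a generalized element through a monomorphism can be checked on an open cover of an
etale chart. -/
theorem exists_lift_of_mono_of_chart_cover {X W'' : Sp S} (j : W'' ⟶ X) [Mono j] {A : Over S}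
    (pA : (yon S).obj A ⟶ X) (hp : RepWith @Etale pA) (hps : RepWith @Surjective pA)
    {σ : Type*} (O : σ → A.left.Opens) (hO : ⨆ k, O k = ⊤) {T₀ : Over S}
    (x' : (yon S).obj T₀ ⟶ X)
    (H : ∀ (k : σ) ⦃T₁ : Over S⦄ (t : T₁ ⟶ T₀) (s : T₁ ⟶ opensOv A (O k)),
      (yon S).map s ≫ (yon S).map (opensOvι A (O k)) ≫ pA = (yon S).map t ≫ x' →
      ∃ l : (yon S).obj T₁ ⟶ W'', l ≫ j = (yon S).map s ≫ (yon S).map (opensOvι A (O k)) ≫ pA) :
    ∃ l : (yon S).obj T₀ ⟶ W'', l ≫ j = x' := by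
  obtain ⟨P, q, r, sq⟩ := Groth.Agent.H53.exists_pullback_yon x' pA hp.rep
  haveI hq1 : Etale q.left := Groth.Agent.H53.prop_of_isPullback_yon sq hp
  haveI hq2 : Surjective q.left := Groth.Agent.H53.prop_of_isPullback_yon sq hps
  obtain ⟨l, hl⟩ : ∃ l : (yon S).obj P ⟶ W'', l ≫ j = (yon S).map q ≫ x' := by
    rw [sq.w]
    refine exists_lift_of_mono_of_openCover j _ (fun k : σ => r.left ⁻¹ᵁ O k) ?_ ?_
    · rw [← Scheme.Hom.preimage_iSup, hO]
      rfl
    · intro k
      have e : (yon S).map (opensOvι P (r.left ⁻¹ᵁ O k)) ≫ (yon S).map r ≫ pA =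
          (yon S).map (restrictOv r (O k)) ≫ (yon S).map (opensOvι A (O k)) ≫ pA := by
        rw [← Category.assoc, ← Functor.map_comp, ← restrictOv_ι, Functor.map_comp,
          Category.assoc]
      rw [e]
      refine H k (opensOvι P (r.left ⁻¹ᵁ O k) ≫ q) (restrictOv r (O k)) ?_
      rw [← e, ← sq.w, Functor.map_comp, Category.assoc]
  refine exists_lift_of_mono_of_locally j x' _ (generate_singleton_mem_J q) ?_
  rintro T' g ⟨Z, k, _, ⟨⟩, rfl⟩
  exact ⟨(yon S).map k ≫ l, by rw [Category.assoc, hl, Functor.map_comp, Category.assoc]⟩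

theorem QCAtlas.exists_of_eq {X Y : Sp S} {f : X ⟶ Y} {W : Over S} {x x' : (yon S).obj W ⟶ Y}
    (h : x = x') (A : QCAtlas f x) : ∃ A' : QCAtlas f x', A'.g.left.ker = A.g.left.ker := by
  subst h
  exact ⟨A, rfl⟩

/-- Transfer of a quasi-compact atlas to a base change of the morphism. -/
theorem QCAtlas.exists_transfer {V Y X VX : Sp S} {g : V ⟶ Y} {f : X ⟶ Y} {g₁ : VX ⟶ V}
    {gX : VX ⟶ X} (sqV : IsPullback g₁ gX g f) {T : Over S} (b : (yon S).obj T ⟶ X)
    (A : QCAtlas g (b ≫ f)) : ∃ A' : QCAtlas gX b, A'.g.left.ker = A.g.left.ker := by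
  have sqA : IsPullback (pullback.fst gX b ≫ g₁) (pullback.snd gX b) g (b ≫ f) :=
    (IsPullback.of_hasPullback gX b).paste_horiz sqV
  let φ : pullback g (b ≫ f) ≅ pullback gX b := sqA.isoPullback.symm
  have hφ : φ.hom ≫ pullback.snd gX b = pullback.snd g (b ≫ f) := by
    rw [Iso.symm_hom, Iso.inv_comp_eq, sqA.isoPullback_hom_snd]
  refine ⟨QCAtlas.ofIsPullback (IsPullback.of_hasPullback gX b) (A.u ≫ φ.hom) A.g
    (by rw [Category.assoc, hφ, A.u_snd]) A.qc
    (MorphismProperty.RespectsIso.postcomp _ _ _ A.etale)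
    (MorphismProperty.RespectsIso.postcomp _ _ _ A.surj), rfl⟩

/-- The scheme theoretic image of a quasi-compact morphism commutes with flat base change. -/
theorem isSchImage_of_isPullback_flat {X Y V Z VX ZX : Sp S} (hX : IsAlgSpace X)
    (hY : IsAlgSpace Y) (f : X ⟶ Y) (hf : LocP @Flat f) (g : V ⟶ Y) (hg : IsQuasiCompactMor g)
    (i : Z ⟶ Y) (hZ : IsSchImage g i) (g₁ : VX ⟶ V) (gX : VX ⟶ X)
    (sqV : IsPullback g₁ gX g f) (i₁ : ZX ⟶ Z) (iX : ZX ⟶ X) (sqZ : IsPullback i₁ iX i f) :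
    IsSchImage gX iX := by
  have hci : RepWith @IsClosedImmersion iX := MorphismProperty.of_isPullback sqZ hZ.1
  refine ⟨hci, ?_, ?_⟩
  · obtain ⟨g', hg'⟩ := hZ.2.1
    exact ⟨sqZ.lift (g₁ ≫ g') gX (by rw [Category.assoc, hg', sqV.w]), sqZ.lift_snd _ _ _⟩
  · rintro W'' j - hj ⟨gX'', hgX''⟩
    haveI : Mono j := Groth.Agent.H49.mono_of_repWith_mono isClosedImmersion_le_mono j hj
    apply exists_factor_of_mono_of_forall_yon
    intro T₀ x
    have hQ : (qcPred g).Q ((x ≫ iX) ≫ f) := by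
      rw [Category.assoc, ← sqZ.w, ← Category.assoc]
      exact qcPred_of_isSchImage hY hg i hZ (x ≫ i₁)
    obtain ⟨B, p, hp, hps⟩ := hY.atlas
    obtain ⟨A₀, a₀, ha₀, ha₀s⟩ := hX.atlas
    obtain ⟨A, q, r, sqA⟩ := Groth.Agent.H53.exists_pullback_yon (a₀ ≫ f) p hp.rep
    haveI hq1 : Etale q.left := Groth.Agent.H53.prop_of_isPullback_yon sqA hp
    haveI hq2 : Surjective q.left := Groth.Agent.H53.prop_of_isPullback_yon sqA hps
    have hpA : RepWith @Etale ((yon S).map q ≫ a₀) :=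
      Groth.Agent.H53.repWith_etale_map_comp q hq1 a₀ ha₀
    have hpAs : RepWith @Surjective ((yon S).map q ≫ a₀) :=
      Groth.Agent.H53.repWith_surjective_map_comp q hq2 a₀ ha₀s
    have hcomm : ((yon S).map q ≫ a₀) ≫ f = (yon S).map r ≫ p := by
      rw [Category.assoc]; exact sqA.w
    refine exists_lift_of_mono_of_chart_cover j ((yon S).map q ≫ a₀) hpA hpAs
      (fun k : {k : A.left.affineOpens × B.left.affineOpens // k.1.1 ≤ r.left ⁻¹ᵁ k.2.1} =>
        k.1.1.1) ?_ (x ≫ iX) ?_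
    · rw [eq_top_iff]
      intro α _
      obtain ⟨_, ⟨D, hD, rfl⟩, hαD, -⟩ := B.left.isBasis_affineOpens.exists_subset_of_mem_open
        (Set.mem_univ (r.left α)) isOpen_univ
      obtain ⟨_, ⟨D', hD', rfl⟩, hαD', hle⟩ :=
        A.left.isBasis_affineOpens.exists_subset_of_mem_open
          (show α ∈ ((r.left ⁻¹ᵁ D : A.left.Opens) : Set A.left) from hαD) (r.left ⁻¹ᵁ D).isOpen
      exact TopologicalSpace.Opens.mem_iSup.2 ⟨⟨(⟨D', hD'⟩, ⟨D, hD⟩), hle⟩, hαD'⟩
    · rintro ⟨⟨D', D⟩, hle⟩ T₁ t s hs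
      let ρ : opensOv A D'.1 ⟶ opensOv B D.1 := Over.homMk (r.left.resLE D.1 D'.1 hle) (by
        change r.left.resLE D.1 D'.1 hle ≫ D.1.ι ≫ B.hom = D'.1.ι ≫ A.hom
        rw [← Category.assoc, Scheme.Hom.resLE_comp_ι, Category.assoc, Over.w r])
      have hρ : ρ ≫ opensOvι B D.1 = opensOvι A D'.1 ≫ r := by
        ext : 1
        exact Scheme.Hom.resLE_comp_ι r.left hle
      have hbD : RepWith @Etale ((yon S).map (opensOvι B D.1) ≫ p) :=
        Groth.Agent.H53.repWith_etale_map_comp (opensOvι B D.1) (inferInstance : Etale D.1.ι) p hp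
      have hb : RepWith @Etale ((yon S).map (opensOvι A D'.1) ≫ (yon S).map q ≫ a₀) :=
        Groth.Agent.H53.repWith_etale_map_comp (opensOvι A D'.1) (inferInstance : Etale D'.1.ι)
          _ hpA
      have compat : ((yon S).map (opensOvι A D'.1) ≫ (yon S).map q ≫ a₀) ≫ f =
          (yon S).map ρ ≫ (yon S).map (opensOvι B D.1) ≫ p := by
        rw [Category.assoc, hcomm, ← Category.assoc, ← Functor.map_comp, ← hρ, Functor.map_comp,
          Category.assoc]
      haveI : Flat ρ.left := hf _ _ ρ hb hbD compat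
      haveI : IsAffine (opensOv B D.1).left := D.2
      obtain ⟨AD⟩ := QCAtlas.exists_of_isQuasiCompactMor hg ((yon S).map (opensOvι B D.1) ≫ p)
      obtain ⟨AD', pr, sq⟩ := AD.exists_baseChange ρ
      obtain ⟨A1, hA1⟩ := AD'.exists_of_eq compat.symm
      obtain ⟨AX, hAX⟩ := QCAtlas.exists_transfer sqV _ A1
      refine exists_lift_of_ker_le_of_factors j hj gX'' hgX'' _ AX s ?_
      rw [hAX, hA1]
      haveI := AD.qc
      rw [ker_snd_le_iff_of_flat AD.g.left ρ.left pr.left AD'.g.left sq s.left]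
      refine hQ _ hbD AD t (s ≫ ρ) ?_
      have hs' := congrArg (fun m => m ≫ f) hs
      simp only [Category.assoc] at hs'
      rw [Functor.map_comp, Category.assoc, ← compat]
      simp only [Category.assoc]
      exact hs'

end Groth.Agent.H50
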