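import Groth.Agent.H50.SchImage

set_option autoImplicit false
set_option backward.isDefEq.respectTransparency false
set_option linter.style.haveILetI false
universe u
open CategoryTheory CategoryTheory.Limits AlgebraicGeometry Opposite Topology

namespace Groth.Agent.H50

open AlgSp

variable {S : Scheme.{u}}

/-- `yon` sends monomorphisms to monomorphisms. -/
theorem mono_yon_map {A B : Over S} (ι : A ⟶ B) [Mono ι] : Mono ((yon S).map ι) := by
  apply mono_of_yon_injective
  intro T x y hxy
  obtain ⟨x₀, rfl⟩ := (yon S).map_surjective x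
  obtain ⟨y₀, rfl⟩ := (yon S).map_surjective y
  rw [← Functor.map_comp, ← Functor.map_comp] at hxy
  rw [(cancel_mono ι).1 ((yon S).map_injective hxy)]

/-- The predicate "the pullback of `x` to the chart `V` lies in the subobject `ZV`". -/
def chartPred {Y : Sp S} {V ZV : Over S} (p : (yon S).obj V ⟶ Y) (ι : ZV ⟶ V) [Mono ι] :
    ElemPred Y where
  Q T x := ∀ ⦃T' : Over S⦄ (g : T' ⟶ T) (v : T' ⟶ V), (yon S).map v ≫ p = (yon S).map g ≫ x →
    ∃ c : T' ⟶ ZV, c ≫ ι = v
  map := by
    intro T T₁ φ x hx T' g v hv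
    exact hx (g ≫ φ) v (by rw [hv, Functor.map_comp, Category.assoc])
  loc := by
    intro T x R hR h T' g v hv
    haveI := mono_yon_map ι
    obtain ⟨l, hl⟩ := exists_lift_of_mono_of_locally ((yon S).map ι) ((yon S).map v)
      (R.pullback g) ((J S).pullback_stable g hR) (by
        intro T'' ψ hψ
        obtain ⟨c, hc⟩ := h (ψ ≫ g) hψ (𝟙 T'') (ψ ≫ v) (by
          rw [Functor.map_comp, Category.assoc, hv, Functor.map_comp, CategoryTheory.Functor.map_id,
            Category.id_comp, Category.assoc])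
        exact ⟨(yon S).map c, by rw [← Functor.map_comp, hc, Functor.map_comp]⟩)
    obtain ⟨c, rfl⟩ := (yon S).map_surjective l
    exact ⟨c, (yon S).map_injective (by rw [Functor.map_comp, hl])⟩

/-- Descent of a subobject of a chart which is stable under the induced relation: there is a
subsheaf of the target whose pullback to the chart is the given subobject. -/
theorem exists_subsheaf_of_stable {Y : Sp S} {V ZV : Over S} (p : (yon S).obj V ⟶ Y)
    (ι : ZV ⟶ V) [Mono ι]
    (hst : ∀ (T : Over S) (v w : T ⟶ V), (yon S).map v ≫ p = (yon S).map w ≫ p →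
      (∃ c : T ⟶ ZV, c ≫ ι = w) → ∃ c : T ⟶ ZV, c ≫ ι = v) :
    ∃ (Z : Sp S) (i : Z ⟶ Y) (q : (yon S).obj ZV ⟶ Z), Mono i ∧
      IsPullback q ((yon S).map ι) i p := by
  let E := chartPred p ι
  have hQ : E.Q ((yon S).map ι ≫ p) := by
    intro T' g v hv
    exact hst T' v (g ≫ ι) (by rw [hv, Functor.map_comp, Category.assoc]) ⟨g, rfl⟩
  obtain ⟨q, hq⟩ := (E.exists_factor_ι_iff _).2 hQ
  refine ⟨E.sp, E.ι, q, inferInstance, ?_⟩
  apply Groth.Agent.H51.isPullback_of_forall_yon hq
  intro T a b hab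
  obtain ⟨b₀, rfl⟩ := (yon S).map_surjective b
  have ha : E.Q (a ≫ E.ι) := (E.exists_factor_ι_iff _).1 ⟨a, rfl⟩
  obtain ⟨c, hc⟩ := ha (𝟙 T) b₀ (by rw [CategoryTheory.Functor.map_id, Category.id_comp, hab])
  haveI := mono_yon_map ι
  refine ⟨(yon S).map c, ⟨?_, by rw [← Functor.map_comp, hc]⟩, ?_⟩
  · rw [← cancel_mono E.ι, Category.assoc, hq, ← Category.assoc, ← Functor.map_comp, hc, hab]
  · rintro d ⟨-, hd⟩
    rw [← cancel_mono ((yon S).map ι), hd, ← Functor.map_comp, hc]

/-- Descent of a locally closed subscheme of an etale chart which is stable under the induced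
relation to a locally closed subspace. -/
theorem exists_subspace_of_stable_immersion {Y : Sp S} (hY : IsAlgSpace Y) {V ZV : Over S}
    (p : (yon S).obj V ⟶ Y) (hp : RepWith @Etale p) (hps : RepWith @Surjective p)
    (ι : ZV ⟶ V) [IsImmersion ι.left]
    (hst : ∀ (T : Over S) (v w : T ⟶ V), (yon S).map v ≫ p = (yon S).map w ≫ p →
      (∃ c : T ⟶ ZV, c ≫ ι = w) → ∃ c : T ⟶ ZV, c ≫ ι = v) :
    ∃ (Z : Sp S) (i : Z ⟶ Y) (q : (yon S).obj ZV ⟶ Z), IsAlgSpace Z ∧ Mono i ∧
      RepWith @IsImmersion i ∧ IsPullback q ((yon S).map ι) i p ∧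
      (IsClosedImmersion ι.left → RepWith @IsClosedImmersion i) ∧
      (IsOpenImmersion ι.left → RepWith @IsOpenImmersion i) := by
  haveI : Mono ι := Over.mono_of_mono_left ι
  obtain ⟨Z, i, q, hmono, sq⟩ := exists_subsheaf_of_stable p ι hst
  have himm : RepWith @IsImmersion i :=
    repWith_isImmersion_of_etale_cover i p hp hps q ((yon S).map ι) sq
      ((repWith_yon_map_iff _ _).2 (inferInstance : IsImmersion ι.left))
  have hZ : IsAlgSpace Z := Groth.Agent.H49.isAlgSpace_of_representable_to i himm.rep hY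
  refine ⟨Z, i, q, hZ, hmono, himm, sq, fun h => ?_, fun h => ?_⟩
  · exact repWith_isClosedImmersion_of_etale_cover i p hp hps q ((yon S).map ι) sq
      ((repWith_yon_map_iff _ _).2 h)
  · exact repWith_isOpenImmersion_of_etale_cover hZ hY i p hp hps q ((yon S).map ι) sq
      ((repWith_yon_map_iff _ _).2 h)

/-- An invariant immersion into the chart of a presentation descends to a subspace. -/
theorem exists_subspace_of_invariant_immersion {X : Sp S} (hX : IsAlgSpace X) {R U : Over S}
    (s t : R ⟶ U) (p : (yon S).obj U ⟶ X) (hp : IsPresentation s t p)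
    {Z' R' : Scheme.{u}} (i' : Z' ⟶ U.left) [IsImmersion i'] (k : R' ⟶ R.left) (s' t' : R' ⟶ Z')
    (hs : IsPullback k s' s.left i') (ht : IsPullback k t' t.left i') :
    ∃ (Z : Sp S) (i : Z ⟶ X) (q : (yon S).obj (Over.mk (i' ≫ U.hom)) ⟶ Z), IsAlgSpace Z ∧
      RepWith @IsImmersion i ∧
      IsPullback q ((yon S).map (Over.homMk i' rfl : Over.mk (i' ≫ U.hom) ⟶ U)) i p ∧
      (IsClosedImmersion i' → RepWith @IsClosedImmersion i) ∧
      (IsOpenImmersion i' → RepWith @IsOpenImmersion i) := by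
  let ι : Over.mk (i' ≫ U.hom) ⟶ U := Over.homMk i' rfl
  haveI : IsImmersion ι.left := (inferInstance : IsImmersion i')
  obtain ⟨Z, i, q, hZ, -, himm, sq, hc, ho⟩ :=
    exists_subspace_of_stable_immersion hX p hp.etale hp.surjective ι (by
      rintro T v w hvw ⟨c, rfl⟩
      obtain ⟨l, hl1, hl2⟩ := hp.isPullback.exists_lift ((yon S).map (c ≫ ι)) ((yon S).map v)
        hvw.symm
      obtain ⟨r, rfl⟩ := (yon S).map_surjective l
      have h1 : r ≫ t = c ≫ ι := (yon S).map_injective (by rw [Functor.map_comp, hl1])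
      have h2 : r ≫ s = v := (yon S).map_injective (by rw [Functor.map_comp, hl2])
      have h1' : r.left ≫ t.left = c.left ≫ i' := congrArg (fun m => m.left) h1
      obtain ⟨m, hm1, hm2⟩ := ht.exists_lift r.left c.left h1'
      have hv : (m ≫ s') ≫ i' = v.left := by
        rw [Category.assoc, ← hs.w, ← Category.assoc, hm1, ← h2, Over.comp_left]
      refine ⟨Over.homMk (m ≫ s') ?_, ?_⟩
      · change (m ≫ s') ≫ i' ≫ U.hom = T.hom
        rw [← Category.assoc, hv, Over.w v]
      · ext : 1
        exact hv)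
  exact ⟨Z, i, q, hZ, himm, sq, hc, ho⟩

end Groth.Agent.H50
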