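import Groth.Agent.H50.QCAtlas
import Groth.Agent.H50.SubspaceDescent
import Groth.Agent.H40.CD.LocalGlobal

set_option autoImplicit false
set_option backward.isDefEq.respectTransparency false
set_option linter.style.haveILetI false
universe u
open CategoryTheory CategoryTheory.Limits AlgebraicGeometry Opposite Topology

namespace Groth.Agent.H50

open AlgSp

variable {S : Scheme.{u}}

/-- The closed subscheme of an ideal sheaf, over `S`. -/
noncomputable abbrev subOv (T : Over S) (K : T.left.IdealSheafData) : Over S :=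
  Over.mk (K.subschemeι ≫ T.hom)

/-- The inclusion of the closed subscheme of an ideal sheaf, over `S`. -/
noncomputable abbrev subOvι (T : Over S) (K : T.left.IdealSheafData) : subOv T K ⟶ T :=
  Over.homMk K.subschemeι rfl

instance (T : Over S) (K : T.left.IdealSheafData) : IsClosedImmersion (subOvι T K).left :=
  (inferInstance : IsClosedImmersion K.subschemeι)

instance (T : Over S) (K : T.left.IdealSheafData) : Mono (subOvι T K) :=
  Over.mono_of_mono_left _

theorem ker_le_iff_exists_lift {T T₁ : Over S} (K : T.left.IdealSheafData) (s : T₁ ⟶ T) :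
    K ≤ s.left.ker ↔ ∃ c : T₁ ⟶ subOv T K, c ≫ subOvι T K = s := by
  constructor
  · intro h
    exact exists_over_lift_of_ker_le (subOvι T K) s (by
      change K.subschemeι.ker ≤ _
      rw [Scheme.IdealSheafData.ker_subschemeι]; exact h)
  · rintro ⟨c, rfl⟩
    rw [Over.comp_left]
    refine le_trans ?_ (Scheme.Hom.le_ker_comp _ _)
    exact (Scheme.IdealSheafData.ker_subschemeι K).ge

theorem ker_le_of_locally {T T₁ : Over S} (K : T.left.IdealSheafData) (s : T₁ ⟶ T)
    (R : Sieve T₁) (hR : R ∈ J S T₁)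
    (h : ∀ ⦃T₂ : Over S⦄ (ψ : T₂ ⟶ T₁), R ψ → K ≤ (ψ ≫ s).left.ker) : K ≤ s.left.ker := by
  haveI := mono_yon_map (subOvι T K)
  obtain ⟨l, hl⟩ := exists_lift_of_mono_of_locally ((yon S).map (subOvι T K)) ((yon S).map s) R hR
    (by
      intro T₂ ψ hψ
      obtain ⟨c, hc⟩ := (ker_le_iff_exists_lift K (ψ ≫ s)).1 (h ψ hψ)
      exact ⟨(yon S).map c, by rw [← Functor.map_comp, hc, Functor.map_comp]⟩)
  obtain ⟨c, rfl⟩ := (yon S).map_surjective l
  exact (ker_le_iff_exists_lift K s).2 ⟨c, (yon S).map_injective (by rw [Functor.map_comp, hl])⟩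

variable {X Y : Sp S}

/-- The predicate cutting out the scheme theoretic image of a quasi-compact morphism: on every
etale chart of the target equipped with a quasi-compact atlas of the fibre product, the pullback of
the generalized element lies in the scheme theoretic image of the atlas. -/
def qcPred (f : X ⟶ Y) : ElemPred Y where
  Q T₀ x := ∀ ⦃T : Over S⦄ (b : (yon S).obj T ⟶ Y), RepWith @Etale b → ∀ (A : QCAtlas f b)
    ⦃T₁ : Over S⦄ (t : T₁ ⟶ T₀) (s : T₁ ⟶ T), (yon S).map s ≫ b = (yon S).map t ≫ x →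
      A.g.left.ker ≤ s.left.ker
  map := by
    intro T₀ T₀' φ x hx T b hb A T₁ t s h
    exact hx b hb A (t ≫ φ) s (by rw [h, Functor.map_comp, Category.assoc])
  loc := by
    intro T₀ x R hR h T b hb A T₁ t s hs
    refine ker_le_of_locally _ s (R.pullback t) ((J S).pullback_stable t hR) ?_
    intro T₂ ψ hψ
    exact h (ψ ≫ t) hψ b hb A (𝟙 T₂) (ψ ≫ s) (by
      rw [Functor.map_comp, Category.assoc, hs, CategoryTheory.Functor.map_id, Category.id_comp,
        Functor.map_comp, Category.assoc])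

/-- The scheme theoretic image of a quasi-compact morphism, as a subsheaf of the target. -/
def qcImg (f : X ⟶ Y) : Sp S := (qcPred f).sp

/-- The inclusion of the scheme theoretic image of a quasi-compact morphism. -/
def qcImgι (f : X ⟶ Y) : qcImg f ⟶ Y := (qcPred f).ι

instance mono_qcImgι (f : X ⟶ Y) : Mono (qcImgι f) := (qcPred f).mono_ι

theorem exists_factor_qcImgι_iff (f : X ⟶ Y) {T : Over S} (x : (yon S).obj T ⟶ Y) :
    (∃ a : (yon S).obj T ⟶ qcImg f, a ≫ qcImgι f = x) ↔ (qcPred f).Q x :=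
  (qcPred f).exists_factor_ι_iff x

theorem exists_factor_qcImgι (f : X ⟶ Y) : ∃ f' : X ⟶ qcImg f, f' ≫ qcImgι f = f := by
  refine (qcPred f).exists_factor_ι_of_forall f ?_
  intro T₀ x T b hb A T₁ t s hs
  haveI : Epi A.u := Groth.Agent.H53.epi_of_repWith_etale_surjective A.u A.etale A.surj
  -- the point of the fibre product
  let z : (yon S).obj T₁ ⟶ pullback f b :=
    pullback.lift ((yon S).map t ≫ x) ((yon S).map s) (by rw [Category.assoc, hs])
  obtain ⟨R, hR, hR'⟩ := exists_local_lift_of_epi A.u z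
  refine ker_le_of_locally _ s R hR ?_
  intro T₂ ψ hψ
  obtain ⟨l, hl⟩ := hR' ψ hψ
  obtain ⟨l₀, rfl⟩ := (yon S).map_surjective l
  have : ψ ≫ s = l₀ ≫ A.g := by
    apply (yon S).map_injective
    rw [Functor.map_comp, Functor.map_comp, ← A.u_snd, ← Category.assoc, hl, Category.assoc,
      pullback.lift_snd]
  rw [this, Over.comp_left]
  exact Scheme.Hom.le_ker_comp _ _

/-- Computation of the scheme theoretic image on an etale chart with a quasi-compact atlas. -/
theorem qcPred_chart_iff (f : X ⟶ Y) {T : Over S} (b : (yon S).obj T ⟶ Y) (hb : RepWith @Etale b)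
    (A : QCAtlas f b) {T₁ : Over S} (s : T₁ ⟶ T) :
    (qcPred f).Q ((yon S).map s ≫ b) ↔ A.g.left.ker ≤ s.left.ker := by
  constructor
  · intro h
    exact h b hb A (𝟙 T₁) s (by rw [CategoryTheory.Functor.map_id, Category.id_comp])
  · intro h
    obtain ⟨c₀, rfl⟩ := (ker_le_iff_exists_lift _ s).1 h
    rw [Functor.map_comp, Category.assoc]
    refine (qcPred f).map c₀ _ ?_
    intro T' b' hb' A' T₁' t s' hs
    obtain ⟨W, pr, pr', sq⟩ := Groth.Agent.H53.exists_pullback_yon b b' hb'.rep
    haveI : Etale pr.left := Groth.Agent.H53.prop_of_isPullback_yon sq hb'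
    haveI : Etale pr'.left := Groth.Agent.H53.prop_of_isPullback_yon sq.flip hb
    obtain ⟨l, hl1, hl2⟩ := sq.exists_lift ((yon S).map (t ≫ subOvι T A.g.left.ker))
      ((yon S).map s') (by rw [hs, Functor.map_comp, Category.assoc])
    obtain ⟨c, rfl⟩ := (yon S).map_surjective l
    have h1 : c ≫ pr = t ≫ subOvι T A.g.left.ker :=
      (yon S).map_injective (by rw [Functor.map_comp, hl1])
    have h2 : c ≫ pr' = s' := (yon S).map_injective (by rw [Functor.map_comp, hl2])
    have := (A.ker_le_iff_of_flat A' pr pr' sq.w c).1 (by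
      rw [h1]; exact (ker_le_iff_exists_lift _ _).2 ⟨t, rfl⟩)
    rwa [h2] at this

theorem ElemPred.Q_iff_of_iso {F : Sp S} (E : ElemPred F) {T T' : Over S} (i : T' ≅ T)
    (x : (yon S).obj T ⟶ F) : E.Q ((yon S).map i.hom ≫ x) ↔ E.Q x := by
  constructor
  · intro h
    have := E.map i.inv _ h
    rwa [← Category.assoc, ← Functor.map_comp, i.inv_hom_id, CategoryTheory.Functor.map_id,
      Category.id_comp] at this
  · exact E.map i.hom x

/-- A predicate on generalized elements, pulled back to a scheme chart and phrased for plain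
schemes. -/
def ElemPred.onScheme {F : Sp S} (E : ElemPred F) {A : Over S} (p : (yon S).obj A ⟶ F)
    ⦃T : Scheme.{u}⦄ (g : T ⟶ A.left) : Prop :=
  E.Q ((yon S).map (Over.homMk g rfl : Over.mk (g ≫ A.hom) ⟶ A) ≫ p)

theorem ElemPred.onScheme_iff {F : Sp S} (E : ElemPred F) {A : Over S} (p : (yon S).obj A ⟶ F)
    {T : Over S} (g : T ⟶ A) : E.onScheme p g.left ↔ E.Q ((yon S).map g ≫ p) := by
  let i : T ≅ Over.mk (g.left ≫ A.hom) := Over.isoMk (Iso.refl _) (by simp)
  have hg : g = i.hom ≫ (Over.homMk g.left rfl : Over.mk (g.left ≫ A.hom) ⟶ A) := by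
    ext : 1
    simp [i]
  unfold ElemPred.onScheme
  conv_rhs => rw [hg, Functor.map_comp, Category.assoc]
  exact (E.Q_iff_of_iso i _).symm

/-- The pullback of the scheme theoretic image of a quasi-compact morphism to an atlas of the
target is a closed subscheme. -/
theorem exists_closed_chart_qcImgι {f : X ⟶ Y} (hf : IsQuasiCompactMor f) {A : Over S}
    (p : (yon S).obj A ⟶ Y) (hp : RepWith @Etale p) :
    ∃ (W₀ : Scheme.{u}) (ι₀ : W₀ ⟶ A.left), IsClosedImmersion ι₀ ∧
      ∀ ⦃T : Scheme.{u}⦄ (g : T ⟶ A.left), (qcPred f).onScheme p g ↔ ∃ w : T ⟶ W₀, w ≫ ι₀ = g := by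
  apply Groth.Agent.H40.CD.closed_of_zariski_local
  · -- stability under precomposition
    intro T T' h g hg
    have e : (Over.homMk (h ≫ g) rfl : Over.mk ((h ≫ g) ≫ A.hom) ⟶ A) =
        (Over.homMk h (by simp) : Over.mk ((h ≫ g) ≫ A.hom) ⟶ Over.mk (g ≫ A.hom)) ≫
          Over.homMk g rfl := by
      ext : 1
      simp
    unfold ElemPred.onScheme at hg ⊢
    have := (qcPred f).map
      (Over.homMk h (by simp) : Over.mk ((h ≫ g) ≫ A.hom) ⟶ Over.mk (g ≫ A.hom)) _ hg
    rw [← Category.assoc, ← Functor.map_comp, ← e] at this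
    exact this
  · -- Zariski locality
    intro T g σ O hO h
    refine ((qcPred f).onScheme_iff p (Over.homMk g rfl : Over.mk (g ≫ A.hom) ⟶ A)).2 ?_
    refine (qcPred f).of_openCover _ O hO ?_
    intro i
    rw [← Category.assoc, ← Functor.map_comp]
    exact ((qcPred f).onScheme_iff p _).1 (h i)
  · -- the local structure
    intro α
    obtain ⟨D, hD, hαD⟩ : ∃ D : A.left.Opens, IsAffineOpen D ∧ α ∈ D := by
      obtain ⟨_, ⟨D, hD, rfl⟩, hαD, -⟩ := A.left.isBasis_affineOpens.exists_subset_of_mem_open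
        (Set.mem_univ α) isOpen_univ
      exact ⟨D, hD, hαD⟩
    haveI : IsAffine (opensOv A D).left := hD
    have hb : RepWith @Etale ((yon S).map (opensOvι A D) ≫ p) :=
      Groth.Agent.H53.repWith_etale_map_comp (opensOvι A D)
        (inferInstance : Etale D.ι) p hp
    obtain ⟨AD⟩ := QCAtlas.exists_of_isQuasiCompactMor hf ((yon S).map (opensOvι A D) ≫ p)
    refine ⟨D, AD.g.left.ker.subscheme, AD.g.left.ker.subschemeι, hαD, inferInstance, ?_⟩
    intro T g
    let gov : Over.mk (g ≫ (opensOv A D).hom) ⟶ opensOv A D := Over.homMk g rfl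
    have h1 : (qcPred f).onScheme p (g ≫ D.ι) ↔
        (qcPred f).Q ((yon S).map gov ≫ (yon S).map (opensOvι A D) ≫ p) := by
      rw [← Category.assoc, ← Functor.map_comp]
      exact (qcPred f).onScheme_iff p (gov ≫ opensOvι A D)
    rw [h1, qcPred_chart_iff f _ hb AD gov]
    constructor
    · intro h
      exact ⟨IsClosedImmersion.lift AD.g.left.ker.subschemeι g (by
        rw [Scheme.IdealSheafData.ker_subschemeι]; exact h), IsClosedImmersion.lift_fac _ _ _⟩
    · rintro ⟨w, rfl⟩
      refine le_trans ?_ (Scheme.Hom.le_ker_comp _ _)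
      exact (Scheme.IdealSheafData.ker_subschemeι _).ge

/-- The inclusion of the scheme theoretic image of a quasi-compact morphism into an algebraic
space is a closed immersion. -/
theorem repWith_isClosedImmersion_qcImgι {f : X ⟶ Y} (hY : IsAlgSpace Y)
    (hf : IsQuasiCompactMor f) :
    RepWith @IsClosedImmersion (qcImgι f) := by
  obtain ⟨A, p, hp, hps⟩ := hY.atlas
  obtain ⟨W₀, ι₀, hι₀, hW₀⟩ := exists_closed_chart_qcImgι hf p hp
  let ZA : Over S := Over.mk (ι₀ ≫ A.hom)
  let ιA : ZA ⟶ A := Over.homMk ι₀ rfl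
  haveI : IsClosedImmersion ιA.left := hι₀
  haveI : Mono ιA := Over.mono_of_mono_left _
  haveI := mono_yon_map ιA
  have hQ : (qcPred f).Q ((yon S).map ιA ≫ p) :=
    ((qcPred f).onScheme_iff p ιA).1 ((hW₀ ι₀).2 ⟨𝟙 _, Category.id_comp _⟩)
  obtain ⟨e, he⟩ := (exists_factor_qcImgι_iff f _).2 hQ
  have sq : IsPullback e ((yon S).map ιA) (qcImgι f) p := by
    apply Groth.Agent.H51.isPullback_of_forall_yon he
    intro T a b hab
    obtain ⟨s, rfl⟩ := (yon S).map_surjective b
    have h1 : (qcPred f).Q ((yon S).map s ≫ p) := by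
      rw [← hab]; exact (exists_factor_qcImgι_iff f _).1 ⟨a, rfl⟩
    obtain ⟨w, hw⟩ := (hW₀ s.left).1 (((qcPred f).onScheme_iff p s).2 h1)
    have hc : (Over.homMk w (by rw [← Over.w s, ← hw, Category.assoc]; rfl) : T ⟶ ZA) ≫ ιA = s := by
      ext : 1
      exact hw
    refine ⟨(yon S).map (Over.homMk w (by rw [← Over.w s, ← hw, Category.assoc]; rfl) : T ⟶ ZA),
      ⟨?_, by rw [← Functor.map_comp, hc]⟩, ?_⟩
    · rw [← cancel_mono (qcImgι f), Category.assoc, he, ← Category.assoc, ← Functor.map_comp, hc,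
        hab]
    · rintro d ⟨-, hd⟩
      rw [← cancel_mono ((yon S).map ιA), hd, ← Functor.map_comp, hc]
  exact repWith_isClosedImmersion_of_etale_cover (qcImgι f) p hp hps e ((yon S).map ιA) sq
    ((repWith_yon_map_iff _ _).2 hι₀)

/-- On a chart with a quasi-compact atlas, sections in the scheme theoretic image of the atlas lift
to every closed subspace through which the morphism factors. -/
theorem exists_lift_of_ker_le_of_factors {f : X ⟶ Y} {Z'' : Sp S} (i'' : Z'' ⟶ Y)
    (hi'' : RepWith @IsClosedImmersion i'') (f'' : X ⟶ Z'') (hf'' : f'' ≫ i'' = f) {T : Over S}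
    (b : (yon S).obj T ⟶ Y) (A : QCAtlas f b) {T₁ : Over S} (s : T₁ ⟶ T)
    (h : A.g.left.ker ≤ s.left.ker) : ∃ l : (yon S).obj T₁ ⟶ Z'', l ≫ i'' = (yon S).map s ≫ b := by
  have sq := hi''.rep.isPullback b
  haveI : IsClosedImmersion (hi''.rep.snd b).left := hi''.property _ _ _ sq
  obtain ⟨m, -, hm2⟩ := sq.exists_lift (A.a ≫ f'') ((yon S).map A.g) (by
    rw [Category.assoc, hf'', A.comm])
  obtain ⟨m₀, rfl⟩ := (yon S).map_surjective m
  have hm : m₀ ≫ hi''.rep.snd b = A.g := (yon S).map_injective (by rw [Functor.map_comp, hm2])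
  have hle : (hi''.rep.snd b).left.ker ≤ s.left.ker := by
    refine le_trans ?_ h
    rw [← hm, Over.comp_left]
    exact Scheme.Hom.le_ker_comp _ _
  obtain ⟨c, hc⟩ := exists_over_lift_of_ker_le (hi''.rep.snd b) s hle
  exact ⟨(yon S).map c ≫ hi''.rep.fst b, by
    rw [Category.assoc, sq.w, ← Category.assoc, ← Functor.map_comp, hc]⟩

/-- Restriction of a morphism over `S` to an open of the target, over `S`. -/
noncomputable def restrictOv {P A : Over S} (r : P ⟶ A) (D : A.left.Opens) :
    opensOv P (r.left ⁻¹ᵁ D) ⟶ opensOv A D :=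
  Over.homMk (r.left ∣_ D) (by
    change (r.left ∣_ D) ≫ D.ι ≫ A.hom = (r.left ⁻¹ᵁ D).ι ≫ P.hom
    rw [← Category.assoc, morphismRestrict_ι, Category.assoc, Over.w r])

theorem restrictOv_ι {P A : Over S} (r : P ⟶ A) (D : A.left.Opens) :
    restrictOv r D ≫ opensOvι A D = opensOvι P (r.left ⁻¹ᵁ D) ≫ r := by
  ext : 1
  exact morphismRestrict_ι r.left D

/-- Generalized elements of the scheme theoretic image of a quasi-compact morphism lift to every
closed subspace through which the morphism factors. -/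
theorem exists_lift_of_qcPred {f : X ⟶ Y} (hY : IsAlgSpace Y) (hf : IsQuasiCompactMor f)
    {Z'' : Sp S} (i'' : Z'' ⟶ Y) (hi'' : RepWith @IsClosedImmersion i'') (f'' : X ⟶ Z'')
    (hf'' : f'' ≫ i'' = f) {T₀ : Over S} (x : (yon S).obj T₀ ⟶ Y) (hx : (qcPred f).Q x) :
    ∃ l : (yon S).obj T₀ ⟶ Z'', l ≫ i'' = x := by
  haveI : Mono i'' := Groth.Agent.H49.mono_of_repWith_mono isClosedImmersion_le_mono i'' hi''
  obtain ⟨A, p, hp, hps⟩ := hY.atlas
  obtain ⟨P, q, r, sq⟩ := Groth.Agent.H53.exists_pullback_yon x p hp.rep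
  haveI hq1 : Etale q.left := Groth.Agent.H53.prop_of_isPullback_yon sq hp
  haveI hq2 : Surjective q.left := Groth.Agent.H53.prop_of_isPullback_yon sq hps
  -- first lift over `P`
  obtain ⟨l, hl⟩ : ∃ l : (yon S).obj P ⟶ Z'', l ≫ i'' = (yon S).map q ≫ x := by
    rw [sq.w]
    refine exists_lift_of_mono_of_openCover i'' _
      (fun D : A.left.affineOpens => r.left ⁻¹ᵁ D.1) ?_ ?_
    · rw [← Scheme.Hom.preimage_iSup, iSup_affineOpens_eq_top]
      rfl
    · intro D
      haveI : IsAffine (opensOv A D.1).left := D.2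
      have hb : RepWith @Etale ((yon S).map (opensOvι A D.1) ≫ p) :=
        Groth.Agent.H53.repWith_etale_map_comp (opensOvι A D.1)
          (inferInstance : Etale D.1.ι) p hp
      obtain ⟨AD⟩ := QCAtlas.exists_of_isQuasiCompactMor hf ((yon S).map (opensOvι A D.1) ≫ p)
      have e : (yon S).map (opensOvι P (r.left ⁻¹ᵁ D.1)) ≫ (yon S).map r ≫ p =
          (yon S).map (restrictOv r D.1) ≫ (yon S).map (opensOvι A D.1) ≫ p := by
        rw [← Category.assoc, ← Functor.map_comp, ← restrictOv_ι, Functor.map_comp,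
          Category.assoc]
      rw [e]
      refine exists_lift_of_ker_le_of_factors i'' hi'' f'' hf'' _ AD (restrictOv r D.1) ?_
      refine (qcPred_chart_iff f _ hb AD (restrictOv r D.1)).1 ?_
      have h1 := (qcPred f).map (opensOvι P (r.left ⁻¹ᵁ D.1) ≫ q) x hx
      rw [Functor.map_comp, Category.assoc, sq.w, e] at h1
      exact h1
  -- then descend along the etale cover `P ⟶ T₀`
  refine exists_lift_of_mono_of_locally i'' x _ (generate_singleton_mem_J q) ?_
  rintro T' g ⟨Z, k, _, ⟨⟩, rfl⟩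
  exact ⟨(yon S).map k ≫ l, by rw [Category.assoc, hl, Functor.map_comp, Category.assoc]⟩

/-- The scheme theoretic image of a quasi-compact morphism. -/
theorem isSchImage_qcImgι {f : X ⟶ Y} (hY : IsAlgSpace Y) (hf : IsQuasiCompactMor f) :
    IsSchImage f (qcImgι f) := by
  refine ⟨repWith_isClosedImmersion_qcImgι hY hf, exists_factor_qcImgι f, ?_⟩
  rintro Z'' i'' - hi'' ⟨f'', hf''⟩
  haveI : Mono i'' := Groth.Agent.H49.mono_of_repWith_mono isClosedImmersion_le_mono i'' hi''
  apply exists_factor_of_mono_of_forall_yon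
  intro T x
  exact exists_lift_of_qcPred hY hf i'' hi'' f'' hf'' (x ≫ qcImgι f)
    ((exists_factor_qcImgι_iff f _).1 ⟨x, rfl⟩)

theorem isAlgSpace_qcImg {f : X ⟶ Y} (hY : IsAlgSpace Y) (hf : IsQuasiCompactMor f) :
    IsAlgSpace (qcImg f) :=
  Groth.Agent.H49.isAlgSpace_of_representable_to (qcImgι f)
    (repWith_isClosedImmersion_qcImgι hY hf).rep hY

end Groth.Agent.H50
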