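import Groth.Agent.H50.RedInduced
import Groth.Agent.H51.SpRedClosed

set_option autoImplicit false
set_option backward.isDefEq.respectTransparency false
set_option linter.style.haveILetI false
universe u
open CategoryTheory CategoryTheory.Limits AlgebraicGeometry Opposite Topology

namespace Groth.Agent.H50

open AlgSp

variable {S : Scheme.{u}}

/-- The inverse image in a chart of the image of a morphism, computed by a pullback square. -/
theorem preimage_range_map_of_isPullback {X Y : Sp S} (f : X ⟶ Y) {V U₀ : Over S}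
    (p : (yon S).obj V ⟶ Y) (i₀ : U₀ ⟶ V) (a : (yon S).obj U₀ ⟶ X)
    (sqA : IsPullback a ((yon S).map i₀) f p) :
    Points.ofPt p ⁻¹' Set.range (Points.map f) = Set.range i₀.left := by
  ext v
  constructor
  · rintro ⟨ξ, hξ⟩
    rw [Points.ofPt_eq_map_ofScheme] at hξ
    obtain ⟨π, -, hπ2⟩ := points_exists_of_isPullback sqA ξ (Points.ofScheme V v) hξ
    obtain ⟨u, rfl⟩ := (Points.schemeEquiv U₀).surjective π
    have e : Points.ofScheme V (i₀.left u) = Points.ofScheme V v :=
      (Points.map_yon_map_apply i₀ u).symm.trans hπ2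
    exact ⟨u, (Points.schemeEquiv V).injective e⟩
  · rintro ⟨u, rfl⟩
    refine ⟨Points.ofPt a u, ?_⟩
    rw [Points.map_ofPt, sqA.w, Groth.Agent.H53.ofPt_yon_map_comp]

/-- The image of a closed immersion into an algebraic space is closed. -/
theorem isClosed_range_map_of_isClosedImmersion {Z' Y : Sp S} (hY : IsAlgSpace Y) (i' : Z' ⟶ Y)
    (hi' : RepWith @IsClosedImmersion i') : IsClosed (Set.range (Points.map i')) := by
  obtain ⟨V, p, hp, hps⟩ := hY.atlas
  have sq := hi'.rep.isPullback p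
  haveI : IsClosedImmersion (hi'.rep.snd p).left := hi'.property _ _ _ sq
  have hpre := preimage_range_map_of_isPullback i' p (hi'.rep.snd p) (hi'.rep.fst p) sq
  have hq_open : IsOpenMap (Points.ofPt p) := Groth.Agent.H51.isOpenMap_ofPt_of_etale p hp
  have hq_surj : Function.Surjective (Points.ofPt p) :=
    Groth.Agent.H51.surjective_ofPt_of_surjective p hps
  rw [← isOpen_compl_iff]
  have h1 : IsOpen (Points.ofPt p ⁻¹' (Set.range (Points.map i'))ᶜ) := by
    rw [Set.preimage_compl, hpre, isOpen_compl_iff]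
    exact (hi'.rep.snd p).left.isClosedEmbedding.isClosed_range
  have := hq_open _ h1
  rwa [Set.image_preimage_eq _ hq_surj] at this

/-- The reduced induced closed subspace on the closure of the image of a morphism from a reduced
sheaf is its scheme theoretic image. -/
theorem isSchImage_of_isRedInduced_closure {X Y Z : Sp S} (hY : IsAlgSpace Y) (f : X ⟶ Y)
    (hX : IsReducedSp X) (i : Z ⟶ Y)
    (hi : IsRedInduced (closure (Set.range (Points.map f))) i) : IsSchImage f i := by
  obtain ⟨hci, hrange, hred⟩ := hi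
  refine ⟨hci, ?_, ?_⟩
  · refine (Groth.Agent.H51.s10193 i hci hX f).2 ?_
    rw [hrange]
    exact subset_closure
  · intro Z' i' _ hi' hf
    refine (Groth.Agent.H51.s10193 i' hi' hred i).2 ?_
    rw [hrange]
    refine closure_minimal ?_ (isClosed_range_map_of_isClosedImmersion hY i' hi')
    obtain ⟨f'', rfl⟩ := hf
    rintro _ ⟨x, rfl⟩
    exact ⟨Points.map f'' x, (Points.map_comp f'' i' x).symm⟩

/-- Two scheme theoretic images of the same morphism are isomorphic over the target. -/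
theorem exists_iso_of_isSchImage {X Y Z₁ Z₂ : Sp S} (f : X ⟶ Y) (i₁ : Z₁ ⟶ Y) (i₂ : Z₂ ⟶ Y)
    (hZ₁ : IsAlgSpace Z₁) (hZ₂ : IsAlgSpace Z₂) (h₁ : IsSchImage f i₁) (h₂ : IsSchImage f i₂) :
    ∃ e : Z₁ ≅ Z₂, e.hom ≫ i₂ = i₁ := by
  obtain ⟨k₁, hk₁⟩ := h₁.2.2 i₂ hZ₂ h₂.1 h₂.2.1
  obtain ⟨k₂, hk₂⟩ := h₂.2.2 i₁ hZ₁ h₁.1 h₁.2.1
  haveI : Mono i₁ := Groth.Agent.H49.mono_of_repWith_mono isClosedImmersion_le_mono i₁ h₁.1
  haveI : Mono i₂ := Groth.Agent.H49.mono_of_repWith_mono isClosedImmersion_le_mono i₂ h₂.1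
  refine ⟨⟨k₁, k₂, ?_, ?_⟩, hk₁⟩
  · rw [← cancel_mono i₁, Category.assoc, hk₂, hk₁, Category.id_comp]
  · rw [← cancel_mono i₂, Category.assoc, hk₁, hk₂, Category.id_comp]

/-- `IsRedInduced` is invariant under isomorphisms over the target. -/
theorem isRedInduced_of_iso {Y Z₁ Z₂ : Sp S} (T : Set (Points Y)) (i₁ : Z₁ ⟶ Y) (i₂ : Z₂ ⟶ Y)
    (e : Z₁ ≅ Z₂) (he : e.hom ≫ i₂ = i₁) (h : IsRedInduced T i₂) : IsRedInduced T i₁ := by
  obtain ⟨hci, hrange, U, q, hq, hqs, hU⟩ := h
  subst he
  refine ⟨MorphismProperty.RespectsIso.precomp _ e.hom _ hci, ?_,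
    ⟨U, q ≫ e.inv, MorphismProperty.RespectsIso.postcomp _ e.inv _ hq,
      MorphismProperty.RespectsIso.postcomp _ e.inv _ hqs, hU⟩⟩
  rw [← hrange]
  ext y
  constructor
  · rintro ⟨z, rfl⟩
    exact ⟨Points.map e.hom z, (Points.map_comp e.hom i₂ z).symm⟩
  · rintro ⟨z, rfl⟩
    refine ⟨Points.map e.inv z, ?_⟩
    rw [← Points.map_comp, e.inv_hom_id_assoc]

/-- The scheme theoretic image of a morphism from a reduced space is the reduced induced structure
on the closure of the image. -/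
theorem isRedInduced_of_isSchImage_of_reduced {X Y Z : Sp S} (hY : IsAlgSpace Y)
    (hZ : IsAlgSpace Z) (f : X ⟶ Y) (hX : IsReducedSp X) (i : Z ⟶ Y) (hi : IsSchImage f i) :
    IsRedInduced (closure (Set.range (Points.map f))) i := by
  obtain ⟨Z₀, i₀, hZ₀, h₀⟩ := exists_isRedInduced hY _ (isClosed_closure (s := Set.range (Points.map f)))
  have h₀' := isSchImage_of_isRedInduced_closure hY f hX i₀ h₀
  obtain ⟨e, he⟩ := exists_iso_of_isSchImage f i i₀ hZ hZ₀ hi h₀'
  exact isRedInduced_of_iso _ i i₀ e he h₀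

end Groth.Agent.H50
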