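import Groth.Agent.H50.QCImage
import Groth.Agent.H50.SchImageRed

set_option autoImplicit false
set_option backward.isDefEq.respectTransparency false
set_option linter.style.haveILetI false
universe u
open CategoryTheory CategoryTheory.Limits AlgebraicGeometry Opposite Topology

namespace Groth.Agent.H50

open AlgSp

variable {S : Scheme.{u}} {X Y : Sp S}

/-- Quasi-compact morphisms are stable under base change. -/
theorem isQuasiCompactMor_of_isPullback {X' Y' : Sp S} {f : X ⟶ Y} {b : Y' ⟶ Y} {f₁ : X' ⟶ X}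
    {f' : X' ⟶ Y'} (sq : IsPullback f₁ f' f b) (hf : IsQuasiCompactMor f) :
    IsQuasiCompactMor f' := by
  intro Z₀ Z₀' hZ₀ hqc g fst snd sq'
  exact hf hZ₀ hqc (g ≫ b) (fst ≫ f₁) snd (sq'.paste_horiz sq)

/-- A quasi-compact atlas from an arbitrary pullback square. -/
noncomputable def QCAtlas.ofIsPullback {f : X ⟶ Y} {W : Over S} {x : (yon S).obj W ⟶ Y}
    {P : Sp S} {fst : P ⟶ X} {snd : P ⟶ (yon S).obj W} (sq : IsPullback fst snd f x)
    {U : Over S} (u : (yon S).obj U ⟶ P) (g : U ⟶ W) (hu : u ≫ snd = (yon S).map g)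
    (hqc : QuasiCompact g.left) (h1 : RepWith @Etale u) (h2 : RepWith @Surjective u) :
    QCAtlas f x where
  U := U
  g := g
  a := u ≫ fst
  comm := by rw [Category.assoc, sq.w, ← Category.assoc, hu]
  qc := hqc
  etale := by
    have : pullback.lift (u ≫ fst) ((yon S).map g)
        (by rw [Category.assoc, sq.w, ← Category.assoc, hu]) = u ≫ sq.isoPullback.hom := by
      apply pullback.hom_ext
      · rw [pullback.lift_fst, Category.assoc, sq.isoPullback_hom_fst]
      · rw [pullback.lift_snd, Category.assoc, sq.isoPullback_hom_snd, hu]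
    rw [this]
    exact MorphismProperty.RespectsIso.postcomp _ _ _ h1
  surj := by
    have : pullback.lift (u ≫ fst) ((yon S).map g)
        (by rw [Category.assoc, sq.w, ← Category.assoc, hu]) = u ≫ sq.isoPullback.hom := by
      apply pullback.hom_ext
      · rw [pullback.lift_fst, Category.assoc, sq.isoPullback_hom_fst]
      · rw [pullback.lift_snd, Category.assoc, sq.isoPullback_hom_snd, hu]
    rw [this]
    exact MorphismProperty.RespectsIso.postcomp _ _ _ h2

/-- The predicate of the scheme theoretic image is compatible with etale base change. -/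
theorem qcPred_of_comp_etale {V XV : Sp S} {f : X ⟶ Y} {b : V ⟶ Y} {f₁ : XV ⟶ X} {fV : XV ⟶ V}
    (sqV : IsPullback f₁ fV f b) (hb : IsEtaleMor b) {T₀ : Over S} (x : (yon S).obj T₀ ⟶ V)
    (h : (qcPred f).Q (x ≫ b)) : (qcPred fV).Q x := by
  intro T c hc A T₁ t s hs
  have sqA : IsPullback (pullback.fst fV c ≫ f₁) (pullback.snd fV c) f (c ≫ b) :=
    (IsPullback.of_hasPullback fV c).paste_horiz sqV
  exact h (c ≫ b) (hb c hc) (QCAtlas.ofIsPullback sqA A.u A.g A.u_snd A.qc A.etale A.surj) t s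
    (by rw [← Category.assoc, hs, Category.assoc])

/-- Generalized elements of a scheme theoretic image of a quasi-compact morphism satisfy the
chart predicate. -/
theorem qcPred_of_isSchImage {Z : Sp S} {f : X ⟶ Y} (hY : IsAlgSpace Y)
    (hf : IsQuasiCompactMor f) (i : Z ⟶ Y) (hZ : IsSchImage f i) {T₀ : Over S}
    (x : (yon S).obj T₀ ⟶ Z) : (qcPred f).Q (x ≫ i) := by
  obtain ⟨k₀, hk₀⟩ := hZ.2.2 (qcImgι f) (isAlgSpace_qcImg hY hf)
    (repWith_isClosedImmersion_qcImgι hY hf) (exists_factor_qcImgι f)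
  exact (exists_factor_qcImgι_iff f _).1 ⟨x ≫ k₀, by rw [Category.assoc, hk₀]⟩

/-- The scheme theoretic image of a quasi-compact morphism commutes with etale base change. -/
theorem isSchImage_of_isPullback_etale {Z V XV ZV : Sp S} {f : X ⟶ Y} (hY : IsAlgSpace Y)
    (hV : IsAlgSpace V) (hf : IsQuasiCompactMor f) (i : Z ⟶ Y) (hZ : IsSchImage f i)
    (b : V ⟶ Y) (hb : IsEtaleMor b) (f₁ : XV ⟶ X) (fV : XV ⟶ V) (i₁ : ZV ⟶ Z) (iV : ZV ⟶ V)
    (sqX : IsPullback f₁ fV f b) (sqZ : IsPullback i₁ iV i b) : IsSchImage fV iV := by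
  have hci : RepWith @IsClosedImmersion iV := MorphismProperty.of_isPullback sqZ hZ.1
  refine ⟨hci, ?_, ?_⟩
  · obtain ⟨f', hf'⟩ := hZ.2.1
    exact ⟨sqZ.lift (f₁ ≫ f') fV (by rw [Category.assoc, hf', sqX.w]), sqZ.lift_snd _ _ _⟩
  · rintro W'' j - hj ⟨fV'', hfV''⟩
    haveI : Mono j := Groth.Agent.H49.mono_of_repWith_mono isClosedImmersion_le_mono j hj
    apply exists_factor_of_mono_of_forall_yon
    intro T₀ x
    have h1 : (qcPred f).Q ((x ≫ iV) ≫ b) := by
      rw [Category.assoc, ← sqZ.w, ← Category.assoc]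
      exact qcPred_of_isSchImage hY hf i hZ (x ≫ i₁)
    exact exists_lift_of_qcPred hV (isQuasiCompactMor_of_isPullback sqX hf) j hj fV'' hfV'' _
      (qcPred_of_comp_etale sqX hb _ h1)

/-- The image of a quasi-compact morphism is dense in its scheme theoretic image. -/
theorem range_map_subset_closure_of_isSchImage {Z : Sp S} {f : X ⟶ Y} (hY : IsAlgSpace Y)
    (hf : IsQuasiCompactMor f) (i : Z ⟶ Y) (hZ : IsSchImage f i) :
    Set.range (Points.map i) ⊆ closure (Set.range (Points.map f)) := by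
  rintro _ ⟨ζ, rfl⟩
  rw [mem_closure_iff]
  intro O hO hζ
  obtain ⟨A, p, hp, hps⟩ := hY.atlas
  obtain ⟨α, hα⟩ := Groth.Agent.H51.surjective_ofPt_of_surjective p hps (Points.map i ζ)
  obtain ⟨D, hD, hαD⟩ : ∃ D : A.left.Opens, IsAffineOpen D ∧ α ∈ D := by
    obtain ⟨_, ⟨D, hD, rfl⟩, hαD, -⟩ := A.left.isBasis_affineOpens.exists_subset_of_mem_open
      (Set.mem_univ α) isOpen_univ
    exact ⟨D, hD, hαD⟩
  haveI : IsAffine (opensOv A D).left := hD
  have hb : RepWith @Etale ((yon S).map (opensOvι A D) ≫ p) :=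
    Groth.Agent.H53.repWith_etale_map_comp (opensOvι A D) (inferInstance : Etale D.ι) p hp
  obtain ⟨AD⟩ := QCAtlas.exists_of_isQuasiCompactMor hf ((yon S).map (opensOvι A D) ≫ p)
  have sq := hZ.1.rep.isPullback ((yon S).map (opensOvι A D) ≫ p)
  haveI : IsClosedImmersion (hZ.1.rep.snd ((yon S).map (opensOvι A D) ≫ p)).left :=
    hZ.1.property _ _ _ sq
  let α' : ↥(opensOv A D).left := ⟨α, hαD⟩
  have hα' : Points.ofPt ((yon S).map (opensOvι A D) ≫ p) α' = Points.map i ζ := by
    rw [Groth.Agent.H53.ofPt_yon_map_comp]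
    exact hα
  have h1 : α' ∈ Set.range (hZ.1.rep.snd ((yon S).map (opensOvι A D) ≫ p)).left := by
    rw [← preimage_range_map_of_isPullback i _ _ (hZ.1.rep.fst _) sq]
    exact ⟨ζ, hα'.symm⟩
  have h2 : AD.g.left.ker ≤ (hZ.1.rep.snd ((yon S).map (opensOvι A D) ≫ p)).left.ker := by
    refine (qcPred_chart_iff f _ hb AD _).1 ?_
    rw [← sq.w]
    exact qcPred_of_isSchImage hY hf i hZ _
  haveI := AD.qc
  have h3 : α' ∈ closure (Set.range AD.g.left) := by
    rw [← Scheme.Hom.support_ker]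
    exact Scheme.IdealSheafData.support_antitone h2
      ((hZ.1.rep.snd ((yon S).map (opensOvι A D) ≫ p)).left.range_subset_ker_support h1)
  have hO' : IsOpen (Points.ofPt ((yon S).map (opensOvι A D) ≫ p) ⁻¹' O) :=
    hO.preimage (Points.continuous_ofPt _)
  obtain ⟨_, hβO, ⟨υ, rfl⟩⟩ := mem_closure_iff.1 h3 _ hO' (by
    change Points.ofPt ((yon S).map (opensOvι A D) ≫ p) α' ∈ O
    rw [hα']; exact hζ)
  refine ⟨Points.ofPt ((yon S).map (opensOvι A D) ≫ p) (AD.g.left υ), hβO, Points.ofPt AD.a υ, ?_⟩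
  rw [Points.map_ofPt, AD.comm, Groth.Agent.H53.ofPt_yon_map_comp]

end Groth.Agent.H50
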