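import Mathlib.AlgebraicGeometry.Morphisms.SchemeTheoreticallyDominant
import Mathlib.AlgebraicGeometry.Morphisms.ClosedImmersion
import Mathlib.RingTheory.Flat.FaithfullyFlat.Algebra

set_option autoImplicit false
set_option backward.isDefEq.respectTransparency false
set_option linter.style.haveILetI false
universe u
open CategoryTheory CategoryTheory.Limits AlgebraicGeometry Opposite Topology

namespace Groth.Agent.H50

/-- A flat surjective morphism of schemes is injective on sections over every open. -/
theorem injective_app_of_flat_of_surjective {X Y : Scheme.{u}} (f : X ⟶ Y) [Flat f]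
    [Surjective f] (O : Y.Opens) : Function.Injective (f.app O).hom := by
  rw [injective_iff_map_eq_zero]
  intro s hs
  refine TopCat.Presheaf.section_ext Y.sheaf O s 0 ?_
  intro y hy
  obtain ⟨x, rfl⟩ := f.surjective y
  have hflat : (f.stalkMap x).hom.Flat := Flat.stalkMap f x
  algebraize [(f.stalkMap x).hom]
  haveI : IsLocalHom (algebraMap (Y.presheaf.stalk (f x)) (X.presheaf.stalk x)) :=
    (inferInstance : IsLocalHom (f.stalkMap x).hom)
  haveI : Module.FaithfullyFlat (Y.presheaf.stalk (f x)) (X.presheaf.stalk x) :=
    Module.FaithfullyFlat.of_flat_of_isLocalHom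
  have hinj : Function.Injective (f.stalkMap x).hom :=
    FaithfulSMul.algebraMap_injective (Y.presheaf.stalk (f x)) (X.presheaf.stalk x)
  apply hinj
  have h1 := Scheme.Hom.germ_stalkMap_apply f O x hy s
  rw [map_zero, map_zero]
  erw [h1]
  erw [hs]
  exact map_zero _

/-- Precomposing with a flat surjective morphism does not change the kernel. -/
theorem ker_comp_of_flat_of_surjective {U' U T : Scheme.{u}} (φ : U' ⟶ U) [Flat φ] [Surjective φ]
    (g : U ⟶ T) : (φ ≫ g).ker = g.ker := by
  unfold Scheme.Hom.ker
  congr 1
  ext O : 1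
  rw [Scheme.Hom.comp_app, CommRingCat.hom_comp, ← RingHom.comap_ker,
    (RingHom.injective_iff_ker_eq_bot _).1 (injective_app_of_flat_of_surjective φ (g ⁻¹ᵁ O.1))]
  rfl

/-- The morphism to the scheme theoretic image is scheme theoretically dominant. -/
theorem isSchemeTheoreticallyDominant_toImage {U T : Scheme.{u}} (g : U ⟶ T) :
    IsSchemeTheoreticallyDominant g.toImage := by
  rw [isSchemeTheoreticallyDominant_iff]
  set K := g.toImage.ker with hK
  have h1 : (K.subschemeι ≫ g.imageι).ker = g.imageι.ker := by
    change K.map g.imageι = _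
    rw [hK, Scheme.IdealSheafData.map_ker, g.toImage_imageι]
    exact (Scheme.IdealSheafData.ker_subschemeι _).symm
  haveI : IsIso K.subschemeι :=
    IsClosedImmersion.isIso_of_ker_eq (K.subschemeι ≫ g.imageι) g.imageι K.subschemeι rfl h1
  exact (Scheme.isIso_subschemeι_iff_eq_bot K).1 inferInstance

/-- Flat base change of the scheme theoretic image of a quasi-compact morphism: the kernel of the
base change is the kernel of the base change of the scheme theoretic image. -/
theorem ker_snd_eq_of_flat {U T W P : Scheme.{u}} (g : U ⟶ T) [QuasiCompact g] (s : W ⟶ T)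
    [Flat s] (fst : P ⟶ U) (snd : P ⟶ W) (sq : IsPullback fst snd g s) :
    snd.ker = (pullback.snd g.imageι s).ker := by
  let l : P ⟶ pullback g.imageι s := pullback.lift (fst ≫ g.toImage) snd (by
    rw [Category.assoc, g.toImage_imageι, sq.w])
  have hl : l ≫ pullback.snd g.imageι s = snd := pullback.lift_snd _ _ _
  have hbig : IsPullback fst (l ≫ pullback.snd g.imageι s) (g.toImage ≫ g.imageι) s := by
    rw [hl, g.toImage_imageι]; exact sq
  have htop : IsPullback fst l g.toImage (pullback.fst g.imageι s) :=
    IsPullback.of_bot hbig (pullback.lift_fst _ _ _).symm (IsPullback.of_hasPullback g.imageι s)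
  haveI := isSchemeTheoreticallyDominant_toImage g
  haveI : IsSchemeTheoreticallyDominant l := IsSchemeTheoreticallyDominant.of_isPullback htop
  rw [← hl, Scheme.Hom.ker_comp, Scheme.Hom.ker_eq_bot l, Scheme.IdealSheafData.map_bot]

/-- Flat base change of the scheme theoretic image of a quasi-compact morphism, in terms of
factorizations. -/
theorem ker_snd_le_iff_of_flat {U T W P T₁ : Scheme.{u}} (g : U ⟶ T) [QuasiCompact g] (s : W ⟶ T)
    [Flat s] (fst : P ⟶ U) (snd : P ⟶ W) (sq : IsPullback fst snd g s) (c : T₁ ⟶ W) :
    snd.ker ≤ c.ker ↔ g.ker ≤ (c ≫ s).ker := by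
  rw [ker_snd_eq_of_flat g s fst snd sq]
  constructor
  · intro h
    have h1 : IsClosedImmersion.lift (pullback.snd g.imageι s) c h ≫ pullback.snd g.imageι s = c :=
      IsClosedImmersion.lift_fac _ _ _
    have h2 : c ≫ s = (IsClosedImmersion.lift (pullback.snd g.imageι s) c h ≫
        pullback.fst g.imageι s) ≫ g.imageι := by
      rw [Category.assoc, pullback.condition, ← Category.assoc, h1]
    rw [h2]
    refine le_trans ?_ (Scheme.Hom.le_ker_comp _ _)
    exact (Scheme.IdealSheafData.ker_subschemeι _).ge
  · intro h
    have h0 : g.imageι.ker ≤ (c ≫ s).ker := by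
      refine le_trans ?_ h
      exact (Scheme.IdealSheafData.ker_subschemeι _).le
    have h1 : IsClosedImmersion.lift g.imageι (c ≫ s) h0 ≫ g.imageι = c ≫ s :=
      IsClosedImmersion.lift_fac _ _ _
    have h2 : c = pullback.lift (IsClosedImmersion.lift g.imageι (c ≫ s) h0) c h1 ≫
        pullback.snd g.imageι s := (pullback.lift_snd _ _ _).symm
    rw [h2]
    exact Scheme.Hom.le_ker_comp _ _

end Groth.Agent.H50
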