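import Groth.Agent.H50.IsolFibre
import Groth.Agent.H50.LocPNbhd
import Groth.Agent.H50.Constructible

set_option autoImplicit false
set_option backward.isDefEq.respectTransparency false
universe u
open CategoryTheory CategoryTheory.Limits AlgebraicGeometry Opposite Topology

namespace Groth.Agent.H50

open AlgSp

variable {S : Scheme.{u}}

/-- For a morphism of finite type of algebraic spaces and a point `y` of the target, the set of
points over `y` where the morphism is quasi-finite is finite. -/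
theorem finite_quasiFiniteAt_over_point {X Y : Sp S} (hX : IsAlgSpace X) (hY : IsAlgSpace Y)
    (f : X ⟶ Y) (hlft : LocP @LocallyOfFiniteType f) (hqc : IsQuasiCompactMor f)
    (y : Points Y) :
    {x : Points X | Points.map f x = y ∧
      HasAtMor (fun U _ h u => ∃ W : U.Opens, u ∈ W ∧
        (@LocallyQuasiFinite ⊓ @LocallyOfFiniteType : MorphismProperty Scheme.{u}) (W.ι ≫ h))
        f x}.Finite := by
  obtain ⟨V₀, b₀, hb01, hb02⟩ := hY.atlas
  obtain ⟨v₀, rfl⟩ := Groth.Agent.H53.exists_ofPt_eq_of_repWith_surjective b₀ hb02 y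
  obtain ⟨V₁, hV₁, hv₀, -⟩ := TopologicalSpace.Opens.isBasis_iff_nbhd.mp
    (V₀.left.isBasis_affineOpens) (U := ⊤) (x := v₀) trivial
  let V : Over S := Groth.Agent.H51.overOpen V₀ V₁
  let b : (yon S).obj V ⟶ Y := (yon S).map (Groth.Agent.H51.overOpenι V₀ V₁) ≫ b₀
  have hb1 : RepWith @Etale b := Groth.Agent.H51.repWith_etale_restrict b₀ hb01 V₁
  let v : ↥V.left := ⟨v₀, hv₀⟩
  have hbv : Points.ofPt b v = Points.ofPt b₀ v₀ := Groth.Agent.H51.ofPt_restrict b₀ V₁ v
  have hVa : IsAffine V.left := hV₁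
  have hVc : CompactSpace ↥V.left := inferInstance
  have hVq : QuasiSeparatedSpace ↥V.left := inferInstance
  have sq := IsPullback.of_hasPullback f b
  have hV : IsAlgSpace ((yon S).obj V) := IsAlgSpace.yon_obj V
  obtain ⟨U, c, hc1, hc2, hUc⟩ := hqc hV (isQuasiCompactSp_yon V) b _ _ sq
  have hUc' : CompactSpace ↥U.left := hUc
  obtain ⟨h, hh⟩ := (yon S).map_surjective (c ≫ pullback.snd f b)
  have hfst1 : RepWith @Etale (pullback.fst f b) := MorphismProperty.of_isPullback sq.flip hb1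
  have ha1 : RepWith @Etale (c ≫ pullback.fst f b) := (RepWith @Etale).comp_mem _ _ hc1 hfst1
  have comm : (c ≫ pullback.fst f b) ≫ f = (yon S).map h ≫ b := by
    rw [Category.assoc, pullback.condition, ← Category.assoc, hh]
  have hhlft : LocallyOfFiniteType h.left := hlft _ b h ha1 hb1 comm
  have hhqc : QuasiCompact h.left := inferInstance
  refine ((finite_isolated_in_fibre h.left v).image (Points.ofPt (c ≫ pullback.fst f b))).subset ?_
  rintro x ⟨hxy, hx⟩
  -- a point of the chart over `x` and `v`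
  obtain ⟨z, hz1, hz2⟩ := points_exists_of_isPullback sq x (Points.ofScheme V v) (by
    rw [hxy, ← hbv, Points.ofPt_eq_map_ofScheme])
  obtain ⟨u, rfl⟩ := Groth.Agent.H53.exists_ofPt_eq_of_repWith_surjective c hc2 z
  have hux : Points.ofPt (c ≫ pullback.fst f b) u = x := by rw [← Points.map_ofPt, hz1]
  have huv : h.left u = v := by
    apply (Points.schemeEquiv V).injective
    change Points.ofScheme V (h.left u) = Points.ofScheme V v
    rw [← hz2, Points.map_ofPt, ← hh]
    have := Groth.Agent.H53.ofPt_yon_map_comp h (𝟙 ((yon S).obj V)) u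
    rw [Category.comp_id] at this
    rw [this]
  refine ⟨u, ⟨huv, ?_⟩, hux⟩
  -- the open subspace where `f` is locally quasi-finite
  obtain ⟨X', j, hX', hj, ⟨x', hx'⟩, hP⟩ := (goodClass_lqf.hasAtMor_iff_exists_open hX hY f x).mp hx
  have sq'' := hj.rep.isPullback (c ≫ pullback.fst f b)
  obtain ⟨U'', hU''⟩ : ∃ U'', U'' = hj.rep.pullback (c ≫ pullback.fst f b) := ⟨_, rfl⟩
  obtain ⟨p₁, hp₁def⟩ : ∃ p₁ : hj.rep.pullback (c ≫ pullback.fst f b) ⟶ U,
      p₁ = hj.rep.snd (c ≫ pullback.fst f b) := ⟨_, rfl⟩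
  obtain ⟨a'', ha''def⟩ : ∃ a'' : (yon S).obj (hj.rep.pullback (c ≫ pullback.fst f b)) ⟶ X',
      a'' = hj.rep.fst (c ≫ pullback.fst f b) := ⟨_, rfl⟩
  rw [← hp₁def, ← ha''def] at sq''
  have hp₁ : IsOpenImmersion p₁.left := hj.property _ _ _ sq''
  have hp₂ : RepWith @Etale a'' := MorphismProperty.of_isPullback sq''.flip ha1
  obtain ⟨z'', -, hz''1⟩ := points_exists_of_isPullback sq'' x' (Points.ofScheme U u) (by
    rw [hx', ← hux, Points.ofPt_eq_map_ofScheme])
  obtain ⟨u'', rfl⟩ := (Points.schemeEquiv _).surjective z''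
  have e1 : Points.map ((yon S).map p₁) (Points.ofScheme _ u'') =
      Points.ofScheme U (p₁.left u'') := Points.map_yon_map_apply p₁ u''
  have hu'' : p₁.left u'' = u := (Points.schemeEquiv U).injective (e1.symm.trans hz''1)
  have hcomm'' : a'' ≫ j ≫ f = (yon S).map (p₁ ≫ h) ≫ b := by
    rw [← Category.assoc, sq''.w, Category.assoc, comm, Functor.map_comp, Category.assoc]
  have hLQF : (@LocallyQuasiFinite ⊓ @LocallyOfFiniteType : MorphismProperty Scheme.{u})
      (p₁ ≫ h).left := hP _ b (p₁ ≫ h) hp₂ hb1 hcomm''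
  have hLQF' : LocallyQuasiFinite (p₁.left ≫ h.left) := hLQF.1
  have hdisc := (p₁.left ≫ h.left).isDiscrete_preimage_singleton v
  rw [isDiscrete_iff_forall_mem_exists_isOpen] at hdisc
  have hu''v : u'' ∈ (p₁.left ≫ h.left) ⁻¹' {v} := by
    change (p₁.left ≫ h.left) u'' = v
    rw [Scheme.Hom.comp_apply, hu'', huv]
  obtain ⟨O'', hO'', hO''F⟩ := hdisc u'' hu''v
  refine ⟨p₁.left '' O'', p₁.left.isOpenEmbedding.isOpenMap _ hO'', ?_⟩
  ext z
  simp only [Set.mem_inter_iff, Set.mem_image, Set.mem_preimage, Set.mem_singleton_iff]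
  constructor
  · rintro ⟨⟨z'', hz''O, rfl⟩, hzv⟩
    have hmem : z'' ∈ O'' ∩ (p₁.left ≫ h.left) ⁻¹' {v} := by
      refine ⟨hz''O, ?_⟩
      change (p₁.left ≫ h.left) z'' = v
      rw [Scheme.Hom.comp_apply]; exact hzv
    rw [hO''F, Set.mem_singleton_iff] at hmem
    rw [hmem, hu'']
  · rintro rfl
    have hmem : u'' ∈ O'' ∩ (p₁.left ≫ h.left) ⁻¹' {v} := by rw [hO''F]; rfl
    exact ⟨⟨u'', hmem.1, hu''⟩, huv⟩

end Groth.Agent.H50
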