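import Mathlib

set_option autoImplicit false
set_option backward.isDefEq.respectTransparency false
set_option linter.style.haveILetI false
set_option linter.unusedSectionVars false
universe u

namespace Groth.Agent.H50

namespace RV

open IsLocalRing

section Comp

variable {K : Type u} [Field K] (A : ValuationSubring K)
  (A₂ : ValuationSubring (ResidueField A))

/-- The subring underlying the composite of a valuation subring `A` of `K` with a valuation
subring `A₂` of the residue field of `A`. -/
def compSubring : Subring K :=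
  (A₂.toSubring.comap (residue A)).map A.toSubring.subtype

theorem mem_compSubring_iff (x : K) :
    x ∈ compSubring A A₂ ↔ ∃ h : x ∈ A, residue A ⟨x, h⟩ ∈ A₂ := by
  constructor
  · rintro ⟨y, hy, rfl⟩
    exact ⟨y.2, hy⟩
  · rintro ⟨h, hx⟩
    exact ⟨⟨x, h⟩, hx, rfl⟩

theorem mem_or_inv_mem_compSubring (x : K) :
    x ∈ compSubring A A₂ ∨ x⁻¹ ∈ compSubring A A₂ := by
  have key : ∀ y : K, y ∈ A → y ∈ compSubring A A₂ ∨ y⁻¹ ∈ compSubring A A₂ := by
    intro y hy
    rcases A₂.mem_or_inv_mem (residue A ⟨y, hy⟩) with h | h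
    · exact Or.inl ((mem_compSubring_iff A A₂ y).2 ⟨hy, h⟩)
    · by_cases h0 : residue A ⟨y, hy⟩ = 0
      · left
        refine (mem_compSubring_iff A A₂ y).2 ⟨hy, ?_⟩
        rw [h0]
        exact A₂.zero_mem
      · right
        have hu : IsUnit (⟨y, hy⟩ : A) := by
          by_contra hnu
          exact h0 ((residue_eq_zero_iff _).2 ((mem_maximalIdeal _).2 hnu))
        obtain ⟨u, hu⟩ := hu
        let v : A := ((u⁻¹ : Aˣ) : A)
        have huv : (⟨y, hy⟩ : A) * v = 1 := by
          rw [← hu]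
          exact u.mul_inv
        have hv : (v : K) = y⁻¹ := by
          have h1 : y * (v : K) = 1 := congrArg (fun a : A => (a : K)) huv
          exact eq_inv_of_mul_eq_one_right h1
        have hres : residue A v = (residue A ⟨y, hy⟩)⁻¹ := by
          have h1 : residue A ⟨y, hy⟩ * residue A v = 1 := by
            rw [← map_mul, huv, map_one]
          exact eq_inv_of_mul_eq_one_right h1
        have hvm : y⁻¹ ∈ A := hv ▸ v.2
        refine (mem_compSubring_iff A A₂ y⁻¹).2 ⟨hvm, ?_⟩
        have e : (⟨y⁻¹, hvm⟩ : A) = v := Subtype.ext hv.symm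
        rw [e, hres]
        exact h
  rcases A.mem_or_inv_mem x with hx | hx
  · exact key x hx
  · rcases key x⁻¹ hx with h | h
    · exact Or.inr h
    · rw [inv_inv] at h
      exact Or.inl h

/-- The composite of a valuation subring `A` of `K` with a valuation subring `A₂` of the residue
field of `A`: the elements of `A` whose residue class lies in `A₂`. -/
def compVal : ValuationSubring K :=
  ValuationSubring.ofSubring (compSubring A A₂) (mem_or_inv_mem_compSubring A A₂)

theorem mem_compVal_iff (x : K) :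
    x ∈ compVal A A₂ ↔ ∃ h : x ∈ A, residue A ⟨x, h⟩ ∈ A₂ :=
  mem_compSubring_iff A A₂ x

theorem compVal_le : compVal A A₂ ≤ A := fun x hx =>
  ((mem_compVal_iff A A₂ x).1 hx).1

theorem mem_compVal_of_valuation_lt_one {x : K} (hx : A.valuation x < 1) :
    x ∈ compVal A A₂ := by
  have hxA : x ∈ A := (A.valuation_le_one_iff x).1 hx.le
  refine (mem_compVal_iff A A₂ x).2 ⟨hxA, ?_⟩
  have : residue A ⟨x, hxA⟩ = 0 :=
    (residue_eq_zero_iff _).2 ((A.valuation_lt_one_iff ⟨x, hxA⟩).2 hx)
  rw [this]
  exact A₂.zero_mem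

/-- The residue map from the composite onto the second valuation ring. -/
noncomputable def compRes : ↥(compVal A A₂) →+* ↥A₂ :=
  ((residue A).comp (Subring.inclusion (compVal_le A A₂))).codRestrict A₂.toSubring
    (fun x => ((mem_compVal_iff A A₂ x.1).1 x.2).2)

theorem coe_compRes (x : ↥(compVal A A₂)) :
    ((compRes A A₂ x : ↥A₂) : ResidueField A) = residue A ⟨x.1, compVal_le A A₂ x.2⟩ := rfl

theorem compRes_surjective : Function.Surjective (compRes A A₂) := by
  intro y
  obtain ⟨a, ha⟩ := residue_surjective (y : ResidueField A)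
  have hmem : (a : K) ∈ compVal A A₂ := by
    refine (mem_compVal_iff A A₂ a).2 ⟨a.2, ?_⟩
    rw [show (⟨(a : K), a.2⟩ : A) = a from rfl, ha]
    exact y.2
  refine ⟨⟨a, hmem⟩, ?_⟩
  apply Subtype.ext
  rw [coe_compRes]
  exact ha

theorem compRes_eq_zero_iff (x : ↥(compVal A A₂)) :
    compRes A A₂ x = 0 ↔ A.valuation (x : K) < 1 := by
  rw [← A.valuation_lt_one_iff ⟨x.1, compVal_le A A₂ x.2⟩, ← residue_eq_zero_iff, ← coe_compRes]
  constructor
  · intro h
    rw [h]
    rfl
  · intro h
    exact Subtype.ext h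

/-- An element of `A` outside the composite has its inverse in the composite, and the inverse is
a unit of `A`. -/
theorem inv_mem_compVal_of_notMem {a : K} (ha : a ∈ A) (hna : a ∉ compVal A A₂) :
    a⁻¹ ∈ compVal A A₂ ∧ A.valuation a⁻¹ = 1 := by
  have h1 : a⁻¹ ∈ compVal A A₂ := by
    rcases (compVal A A₂).mem_or_inv_mem a with h | h
    · exact absurd h hna
    · exact h
  refine ⟨h1, ?_⟩
  have hle : A.valuation a⁻¹ ≤ 1 := (A.valuation_le_one_iff _).2 (compVal_le A A₂ h1)
  rcases lt_or_eq_of_le hle with hlt | heq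
  · exfalso
    -- then `a` has valuation `> 1`, contradicting `a ∈ A`
    have ha1 : A.valuation a ≤ 1 := (A.valuation_le_one_iff _).2 ha
    have ha0 : a ≠ 0 := by
      rintro rfl
      exact hna (compVal A A₂).zero_mem
    have hmul : A.valuation a * A.valuation a⁻¹ = 1 := by
      rw [← map_mul, mul_inv_cancel₀ ha0, map_one]
    have : A.valuation a * A.valuation a⁻¹ < 1 := by
      calc A.valuation a * A.valuation a⁻¹ ≤ 1 * A.valuation a⁻¹ := by
            exact mul_le_mul_left ha1 _
        _ = A.valuation a⁻¹ := one_mul _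
        _ < 1 := hlt
    rw [hmul] at this
    exact lt_irrefl _ this
  · exact heq

end Comp

section Center

open AlgebraicGeometry CategoryTheory CategoryTheory.Limits

/-- Two points of `Spec P` and `Spec C'` over the same point of `Spec B` come from a common field
valued point. -/
theorem exists_field_of_comap_eq {B P C' : Type u} [CommRing B] [CommRing P] [CommRing C']
    (i : B →+* P) (γ : B →+* C') (𝔭 : Ideal P) [𝔭.IsPrime] (𝔠 : Ideal C') [𝔠.IsPrime]
    (h : 𝔭.comap i = 𝔠.comap γ) :
    ∃ (K' : Type u) (_ : Field K') (p : P →+* K') (c : C' →+* K'),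
      p.comp i = c.comp γ ∧ RingHom.ker p = 𝔭 := by
  let f₁ : Spec (.of P) ⟶ Spec (.of B) := Spec.map (CommRingCat.ofHom i)
  let f₂ : Spec (.of C') ⟶ Spec (.of B) := Spec.map (CommRingCat.ofHom γ)
  let x₁ : ↥(Spec (.of P)) := ⟨𝔭, inferInstance⟩
  let x₂ : ↥(Spec (.of C')) := ⟨𝔠, inferInstance⟩
  have hx : f₁ x₁ = f₂ x₂ := by
    apply PrimeSpectrum.ext
    exact h
  obtain ⟨z, hz1, hz2⟩ := Scheme.Pullback.exists_preimage_pullback x₁ x₂ hx
  let Z := pullback f₁ f₂
  let p₀ : Spec (.of (Z.residueField z)) ⟶ Spec (.of P) :=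
    Z.fromSpecResidueField z ≫ pullback.fst f₁ f₂
  let c₀ : Spec (.of (Z.residueField z)) ⟶ Spec (.of C') :=
    Z.fromSpecResidueField z ≫ pullback.snd f₁ f₂
  let p : P →+* Z.residueField z := (Spec.preimage p₀).hom
  let c : C' →+* Z.residueField z := (Spec.preimage c₀).hom
  have hp : Spec.map (CommRingCat.ofHom p) = p₀ := Spec.map_preimage p₀
  have hc : Spec.map (CommRingCat.ofHom c) = c₀ := Spec.map_preimage c₀
  refine ⟨Z.residueField z, inferInstance, p, c, ?_, ?_⟩
  · have : CommRingCat.ofHom i ≫ CommRingCat.ofHom p = CommRingCat.ofHom γ ≫ CommRingCat.ofHom c := by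
      apply Spec.map_injective
      rw [Spec.map_comp, Spec.map_comp, hp, hc]
      change (Z.fromSpecResidueField z ≫ pullback.fst f₁ f₂) ≫ f₁ =
        (Z.fromSpecResidueField z ≫ pullback.snd f₁ f₂) ≫ f₂
      rw [Category.assoc, Category.assoc, pullback.condition]
    exact congrArg (fun k => k.hom) this
  · have h1 : (Spec.map (CommRingCat.ofHom p)) (IsLocalRing.closedPoint (Z.residueField z)) = x₁ := by
      rw [hp]
      change (pullback.fst f₁ f₂) ((Z.fromSpecResidueField z) (IsLocalRing.closedPoint _)) = x₁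
      rw [Scheme.fromSpecResidueField_apply]
      exact hz1
    have h2 := congrArg PrimeSpectrum.asIdeal h1
    change Ideal.comap p (IsLocalRing.maximalIdeal (Z.residueField z)) = 𝔭 at h2
    rw [IsLocalRing.maximalIdeal_eq_bot] at h2
    exact h2

/-- **The polynomial trick**: for a ring map `γ : B → C'` with dense image on spectra and a field
valued point `β : B → K`, there is a valuation ring `A'` of a field `K'` receiving compatibly
`C'` (in `K'`) and the polynomial ring `P = B[x_k : k ∈ K]` (in `A'`), centred on `P` at the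
maximal ideal of the evaluation `P → K`. -/
theorem exists_center_valuation {B C' K : Type u} [CommRing B] [CommRing C'] [Field K]
    (γ : B →+* C') (hγ : DenseRange (PrimeSpectrum.comap γ)) (β : B →+* K) :
    ∃ (K' : Type u) (_ : Field K') (p : MvPolynomial K B →+* K') (c : C' →+* K')
      (A' : ValuationSubring K'),
      p.comp MvPolynomial.C = c.comp γ ∧ (∀ x, p x ∈ A') ∧
      (∀ x, A'.valuation (p x) < 1 ↔ MvPolynomial.eval₂Hom β id x = 0) := by
  classical
  let π : MvPolynomial K B →+* K := MvPolynomial.eval₂Hom β id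
  have hπ : Function.Surjective π := fun k => ⟨MvPolynomial.X k, by simp [π]⟩
  let m : Ideal (MvPolynomial K B) := RingHom.ker π
  haveI hm : m.IsMaximal := RingHom.ker_isMaximal_of_surjective π hπ
  let 𝔮 : Ideal B := RingHom.ker β
  haveI : 𝔮.IsPrime := RingHom.ker_isPrime β
  obtain ⟨𝔮₀, h𝔮₀min, h𝔮₀le⟩ := Ideal.exists_minimalPrimes_le (I := ⊥) (J := 𝔮) bot_le
  haveI : 𝔮₀.IsPrime := h𝔮₀min.1.1
  obtain ⟨𝔠, h𝔠⟩ := ((PrimeSpectrum.denseRange_comap_iff_minimalPrimes γ).1 hγ) 𝔮₀ h𝔮₀min
  haveI : m.LiesOver 𝔮 := ⟨by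
    ext b
    simp [m, 𝔮, Ideal.under, π, MvPolynomial.algebraMap_eq]⟩
  obtain ⟨p', hp'le, hp'prime, hp'over⟩ :=
    Ideal.exists_ideal_le_liesOver_of_le (p := 𝔮₀) (q := 𝔮) m h𝔮₀le
  haveI := hp'prime
  have hcomap : p'.comap (MvPolynomial.C : B →+* MvPolynomial K B) = 𝔠.asIdeal.comap γ := by
    have h1 : 𝔮₀ = p'.comap (algebraMap B (MvPolynomial K B)) := hp'over.over
    rw [MvPolynomial.algebraMap_eq] at h1
    rw [← h1]
    exact (congrArg PrimeSpectrum.asIdeal h𝔠).symm
  obtain ⟨K', iK', p, c, hpc, hker⟩ := exists_field_of_comap_eq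
    (MvPolynomial.C : B →+* MvPolynomial K B) γ p' 𝔠.asIdeal hcomap
  have hunit : ∀ y : m.primeCompl, IsUnit (p y) := fun y =>
    isUnit_iff_ne_zero.2 (fun h0 => y.2 (hp'le (by rw [← hker]; exact h0)))
  let pm : Localization.AtPrime m →+* K' := IsLocalization.lift hunit
  obtain ⟨A', hA', hloc⟩ := IsLocalRing.exists_factor_valuationRing pm
  have hpm : ∀ x, pm (algebraMap _ _ x) = p x := fun x => IsLocalization.lift_eq hunit x
  refine ⟨K', iK', p, c, A', hpc, fun x => by rw [← hpm]; exact hA' _, fun x => ?_⟩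
  have hx : p x ∈ A' := by rw [← hpm]; exact hA' _
  rw [← A'.valuation_lt_one_iff ⟨p x, hx⟩]
  have e : (⟨p x, hx⟩ : A') = (pm.codRestrict A'.toSubring hA') (algebraMap _ _ x) :=
    Subtype.ext (hpm x).symm
  rw [e, IsLocalRing.mem_maximalIdeal]
  refine (map_mem_nonunits_iff (pm.codRestrict A'.toSubring hA') _).trans ?_
  rw [← IsLocalRing.mem_maximalIdeal, IsLocalization.AtPrime.to_map_mem_maximal_iff _ m]
  rfl

end Center

end RV

end Groth.Agent.H50
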