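import Groth.Agent.H50.RV1

set_option autoImplicit false
set_option backward.isDefEq.respectTransparency false
set_option linter.style.haveILetI false
set_option linter.unusedSectionVars false
universe u

namespace Groth.Agent.H50

namespace RV

open IsLocalRing

/-- **Lying over for a dominating extension of a valuation ring**: every prime of a valuation
ring `C` is the contraction of a prime of a local domain `C₁` dominating `C`. -/
theorem exists_prime_comap_eq {C C₁ : Type u} [CommRing C] [IsDomain C] [ValuationRing C]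
    [CommRing C₁] [IsDomain C₁] [IsLocalRing C₁] (φ : C →+* C₁) (hinj : Function.Injective φ)
    [IsLocalHom φ] (𝔭 : Ideal C) [𝔭.IsPrime] :
    ∃ 𝔭₁ : Ideal C₁, 𝔭₁.IsPrime ∧ 𝔭₁.comap φ = 𝔭 := by
  algebraize [φ]
  haveI : Module.Flat C C₁ := by
    rw [Module.Flat.flat_iff_torsion_eq_bot_of_isBezout, eq_bot_iff]
    intro m hm
    rw [Submodule.mem_torsion_iff] at hm
    obtain ⟨a, ha⟩ := hm
    rw [Submodule.mem_bot]
    have h1 : φ a * m = 0 := ha
    rcases mul_eq_zero.1 h1 with h | h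
    · exfalso
      exact nonZeroDivisors.coe_ne_zero a (hinj (by rw [h, map_zero]))
    · exact h
  haveI : IsLocalHom (algebraMap C C₁) := ‹IsLocalHom φ›
  haveI : Module.FaithfullyFlat C C₁ := Module.FaithfullyFlat.of_flat_of_isLocalHom
  obtain ⟨q, hq⟩ := PrimeSpectrum.comap_surjective_of_faithfullyFlat (A := C) (B := C₁) ⟨𝔭, inferInstance⟩
  exact ⟨q.asIdeal, q.isPrime, congrArg PrimeSpectrum.asIdeal hq⟩

section Loc

variable {R K : Type u} [CommRing R] [IsDomain R] [Field K] [Algebra R K] [IsFractionRing R K]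
  (q : Ideal R) [q.IsPrime]

/-- The canonical map from the localization of a domain at a prime to the fraction field. -/
noncomputable def locToFrac : Localization.AtPrime q →+* K :=
  IsLocalization.lift (M := q.primeCompl) (g := algebraMap R K) (fun y =>
    isUnit_iff_ne_zero.2 (fun h0 => y.2 (by
      have : (y : R) = 0 := (IsFractionRing.injective R K) (by rw [h0, map_zero])
      rw [this]
      exact q.zero_mem)))

theorem locToFrac_algebraMap (r : R) :
    locToFrac (K := K) q (algebraMap R (Localization.AtPrime q) r) = algebraMap R K r :=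
  IsLocalization.lift_eq _ r

theorem locToFrac_injective : Function.Injective (locToFrac (K := K) q) := by
  rw [injective_iff_map_eq_zero]
  intro x hx
  obtain ⟨a, s, rfl⟩ := IsLocalization.exists_mk'_eq q.primeCompl x
  have h1 : locToFrac (K := K) q (IsLocalization.mk' (Localization.AtPrime q) a s) *
      locToFrac (K := K) q (algebraMap R _ (s : R)) = locToFrac (K := K) q (algebraMap R _ a) := by
    rw [← map_mul, IsLocalization.mk'_spec]
  rw [hx, zero_mul, locToFrac_algebraMap] at h1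
  have ha : a = 0 := (IsFractionRing.injective R K) (by rw [← h1, map_zero])
  rw [ha, IsLocalization.mk'_zero]

theorem isFractionRing_loc :
    @IsFractionRing (Localization.AtPrime q) _ K _ (locToFrac (K := K) q).toAlgebra := by
  letI : Algebra (Localization.AtPrime q) K := (locToFrac (K := K) q).toAlgebra
  haveI : IsScalarTower R (Localization.AtPrime q) K :=
    IsScalarTower.of_algebraMap_eq (fun r => (locToFrac_algebraMap q r).symm)
  exact IsFractionRing.isFractionRing_of_isDomain_of_isLocalization q.primeCompl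
    (Localization.AtPrime q) K

theorem valuationRing_loc [ValuationRing R] : ValuationRing (Localization.AtPrime q) := by
  letI : Algebra (Localization.AtPrime q) (FractionRing R) :=
    (locToFrac (K := FractionRing R) q).toAlgebra
  haveI : IsFractionRing (Localization.AtPrime q) (FractionRing R) := isFractionRing_loc q
  rw [ValuationRing.iff_isInteger_or_isInteger (Localization.AtPrime q) (FractionRing R)]
  intro x
  rcases ValuationRing.isInteger_or_isInteger R x with ⟨r, hr⟩ | ⟨r, hr⟩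
  · exact Or.inl ⟨algebraMap R _ r, (locToFrac_algebraMap q r).trans hr⟩
  · exact Or.inr ⟨algebraMap R _ r, (locToFrac_algebraMap q r).trans hr⟩

end Loc

section Package

variable {K' : Type u} [Field K'] (A' : ValuationSubring K')
  (A'' : ValuationSubring (ResidueField A'))
  {C₁ K₁ : Type u} [CommRing C₁] [IsDomain C₁] [ValuationRing C₁] [Field K₁] [Algebra C₁ K₁]
  [IsFractionRing C₁ K₁]
  (φ₁ : ↥(compVal A' A'') →+* C₁) (ψ₁ : K' →+* K₁)
  (hcomm : ∀ x : ↥(compVal A' A''), algebraMap C₁ K₁ (φ₁ x) = ψ₁ (x : K'))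
  (𝔭₁ : Ideal C₁) [𝔭₁.IsPrime] (h𝔭₁ : 𝔭₁.comap φ₁ = RingHom.ker (compRes A' A''))

include hcomm in
theorem phi_injective : Function.Injective φ₁ := by
  intro x y hxy
  apply Subtype.ext
  apply ψ₁.injective
  rw [← hcomm, ← hcomm, hxy]

include hcomm h𝔭₁ in
/-- The localization of `C₁` at a prime over the centre of `A'` contains `A'`. -/
theorem exists_lam :
    ∃ lam : ↥A' →+* Localization.AtPrime 𝔭₁,
      ∀ a : ↥A', locToFrac (K := K₁) 𝔭₁ (lam a) = ψ₁ (a : K') := by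
  have hmem : ∀ a : ↥A', (ψ₁.comp A'.subtype) a ∈ (locToFrac (K := K₁) 𝔭₁).range := by
    intro a
    by_cases ha : (a : K') ∈ compVal A' A''
    · refine ⟨algebraMap C₁ _ (φ₁ ⟨a, ha⟩), ?_⟩
      rw [locToFrac_algebraMap, hcomm]
      rfl
    · obtain ⟨h1, h2⟩ := inv_mem_compVal_of_notMem A' A'' a.2 ha
      have hn : φ₁ ⟨(a : K')⁻¹, h1⟩ ∉ 𝔭₁ := by
        intro hc
        have : (⟨(a : K')⁻¹, h1⟩ : ↥(compVal A' A'')) ∈ 𝔭₁.comap φ₁ := hc
        rw [h𝔭₁, RingHom.mem_ker, compRes_eq_zero_iff] at this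
        rw [h2] at this
        exact lt_irrefl _ this
      have hu : IsUnit (algebraMap C₁ (Localization.AtPrime 𝔭₁) (φ₁ ⟨(a : K')⁻¹, h1⟩)) :=
        IsLocalization.map_units (Localization.AtPrime 𝔭₁)
          (⟨φ₁ ⟨(a : K')⁻¹, h1⟩, hn⟩ : 𝔭₁.primeCompl)
      obtain ⟨u, hu⟩ := hu
      refine ⟨((u⁻¹ : (Localization.AtPrime 𝔭₁)ˣ) : Localization.AtPrime 𝔭₁), ?_⟩
      have e1 : locToFrac (K := K₁) 𝔭₁ (u : Localization.AtPrime 𝔭₁) = ψ₁ (a : K')⁻¹ := by
        rw [hu, locToFrac_algebraMap, hcomm]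
      have e2 : locToFrac (K := K₁) 𝔭₁ (u : Localization.AtPrime 𝔭₁) *
          locToFrac (K := K₁) 𝔭₁ ((u⁻¹ : (Localization.AtPrime 𝔭₁)ˣ) : Localization.AtPrime 𝔭₁) = 1 := by
        rw [← map_mul, Units.mul_inv, map_one]
      rw [e1, map_inv₀] at e2
      have e3 := eq_inv_of_mul_eq_one_right e2
      rw [inv_inv] at e3
      exact e3
  let ε : Localization.AtPrime 𝔭₁ ≃+* (locToFrac (K := K₁) 𝔭₁).range :=
    RingEquiv.ofBijective (locToFrac (K := K₁) 𝔭₁).rangeRestrict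
      ⟨fun x y hxy => locToFrac_injective 𝔭₁ (congrArg Subtype.val hxy),
        (locToFrac (K := K₁) 𝔭₁).rangeRestrict_surjective⟩
  refine ⟨ε.symm.toRingHom.comp ((ψ₁.comp A'.subtype).codRestrict _ hmem), fun a => ?_⟩
  have h1 : ε (ε.symm ((ψ₁.comp A'.subtype).codRestrict _ hmem a)) =
      (ψ₁.comp A'.subtype).codRestrict _ hmem a := ε.apply_symm_apply _
  exact congrArg Subtype.val h1

include hcomm in
theorem lam_eq_of_mem (lam : ↥A' →+* Localization.AtPrime 𝔭₁)
    (hlam : ∀ a : ↥A', locToFrac (K := K₁) 𝔭₁ (lam a) = ψ₁ (a : K'))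
    (x : ↥(compVal A' A'')) :
    lam ⟨x, compVal_le A' A'' x.2⟩ = algebraMap C₁ (Localization.AtPrime 𝔭₁) (φ₁ x) := by
  apply locToFrac_injective (K := K₁) 𝔭₁
  rw [hlam, locToFrac_algebraMap, hcomm]

include hcomm h𝔭₁ in
theorem isLocalHom_lam (lam : ↥A' →+* Localization.AtPrime 𝔭₁)
    (hlam : ∀ a : ↥A', locToFrac (K := K₁) 𝔭₁ (lam a) = ψ₁ (a : K')) : IsLocalHom lam := by
  refine ⟨fun a ha => ?_⟩
  by_contra hna
  have hlt : A'.valuation (a : K') < 1 :=
    (A'.valuation_lt_one_iff a).1 ((mem_maximalIdeal _).2 hna)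
  have hC : (a : K') ∈ compVal A' A'' := mem_compVal_of_valuation_lt_one A' A'' hlt
  have h1 : (⟨(a : K'), hC⟩ : ↥(compVal A' A'')) ∈ 𝔭₁.comap φ₁ := by
    rw [h𝔭₁, RingHom.mem_ker, compRes_eq_zero_iff]
    exact hlt
  have h2 : lam a = algebraMap C₁ (Localization.AtPrime 𝔭₁) (φ₁ ⟨(a : K'), hC⟩) :=
    lam_eq_of_mem A' A'' φ₁ ψ₁ hcomm 𝔭₁ lam hlam ⟨(a : K'), hC⟩
  have h3 : algebraMap C₁ (Localization.AtPrime 𝔭₁) (φ₁ ⟨(a : K'), hC⟩) ∈
      maximalIdeal (Localization.AtPrime 𝔭₁) :=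
    (IsLocalization.AtPrime.to_map_mem_maximal_iff _ 𝔭₁ _).2 h1
  rw [← h2] at h3
  exact (mem_maximalIdeal _).1 h3 ha

include h𝔭₁ in
/-- The map induced on the quotients `A'' = C / 𝔭 → C₁ / 𝔭₁`. -/
theorem exists_theta :
    ∃ θ : ↥A'' →+* C₁ ⧸ 𝔭₁, ∀ x : ↥(compVal A' A''),
      θ (compRes A' A'' x) = Ideal.Quotient.mk 𝔭₁ (φ₁ x) := by
  have hker : RingHom.ker (compRes A' A'') ≤ RingHom.ker ((Ideal.Quotient.mk 𝔭₁).comp φ₁) := by
    intro x hx
    rw [← h𝔭₁] at hx
    rw [RingHom.mem_ker, RingHom.comp_apply, Ideal.Quotient.eq_zero_iff_mem]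
    exact hx
  refine ⟨(compRes A' A'').liftOfSurjective (compRes_surjective A' A'')
    ⟨(Ideal.Quotient.mk 𝔭₁).comp φ₁, hker⟩, fun x => ?_⟩
  exact RingHom.liftOfRightInverse_comp_apply _ _ _ _ x

include h𝔭₁ in
theorem isLocalHom_theta [IsLocalHom φ₁] (θ : ↥A'' →+* C₁ ⧸ 𝔭₁)
    (hθ : ∀ x : ↥(compVal A' A''), θ (compRes A' A'' x) = Ideal.Quotient.mk 𝔭₁ (φ₁ x)) :
    IsLocalHom θ := by
  refine ⟨fun y hy => ?_⟩
  obtain ⟨x, rfl⟩ := compRes_surjective A' A'' y
  rw [hθ] at hy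
  have h1 : IsUnit (φ₁ x) := by
    by_contra hnu
    have hm : φ₁ x ∈ maximalIdeal C₁ := (mem_maximalIdeal _).2 hnu
    obtain ⟨z, hz⟩ := hy.exists_right_inv
    obtain ⟨z', rfl⟩ := Ideal.Quotient.mk_surjective z
    rw [← map_mul, ← map_one (Ideal.Quotient.mk 𝔭₁), Ideal.Quotient.eq] at hz
    have h𝔭₁le : 𝔭₁ ≤ maximalIdeal C₁ := le_maximalIdeal (Ideal.IsPrime.ne_top ‹_›)
    have h2 : φ₁ x * z' ∈ maximalIdeal C₁ := Ideal.mul_mem_right _ _ hm
    have h3 : (1 : C₁) ∈ maximalIdeal C₁ := by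
      have := (maximalIdeal C₁).sub_mem h2 (h𝔭₁le hz)
      simp at this
    exact (Ideal.ne_top_iff_one _).1 (Ideal.IsPrime.ne_top inferInstance) h3
  exact ((isUnit_of_map_unit φ₁ x h1)).map (compRes A' A'')

include hcomm in
theorem theta_compat (lam : ↥A' →+* Localization.AtPrime 𝔭₁) [IsLocalHom lam]
    (hlam : ∀ a : ↥A', locToFrac (K := K₁) 𝔭₁ (lam a) = ψ₁ (a : K'))
    (θ : ↥A'' →+* C₁ ⧸ 𝔭₁)
    (hθ : ∀ x : ↥(compVal A' A''), θ (compRes A' A'' x) = Ideal.Quotient.mk 𝔭₁ (φ₁ x))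
    (y : ↥A'') :
    algebraMap (C₁ ⧸ 𝔭₁) 𝔭₁.ResidueField (θ y) =
      IsLocalRing.ResidueField.map lam (y : ResidueField A') := by
  obtain ⟨x, rfl⟩ := compRes_surjective A' A'' y
  rw [hθ, coe_compRes, Ideal.algebraMap_quotient_residueField_mk]
  change _ = IsLocalRing.ResidueField.map lam (residue _ _)
  rw [IsLocalRing.ResidueField.map_residue,
    lam_eq_of_mem A' A'' φ₁ ψ₁ hcomm 𝔭₁ lam hlam x]
  rfl

end Package

end RV

end Groth.Agent.H50
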