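import Groth.Agent.H50.RV2
import Groth.Agent.H50.QCAtlas
import Groth.Agent.H50.Points
import Groth.Agent.H50.PropDVR10

set_option autoImplicit false
set_option backward.isDefEq.respectTransparency false
set_option linter.style.haveILetI false
set_option linter.unusedSectionVars false
universe u
open CategoryTheory CategoryTheory.Limits AlgebraicGeometry Opposite Topology

namespace Groth.Agent.H50
open AlgSp Groth.Agent.H49

variable {S : Scheme.{u}}

namespace RV

/-- The image of a quasi-compact atlas of a fibre product in the chart is the preimage of the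
image on points. -/
theorem range_atlas_eq {U X : Sp S} (h : U ⟶ X) {V : Over S}
    (cV : (yon S).obj V ⟶ X) (A : QCAtlas h cV) :
    Set.range A.g.left = Points.ofPt cV ⁻¹' Set.range (Points.map h) := by
  ext t
  constructor
  · rintro ⟨u, rfl⟩
    refine ⟨Points.ofPt A.a u, ?_⟩
    rw [Points.map_ofPt, A.comm, Groth.Agent.H52.ofPt_yon_map_comp]
  · rintro ⟨z, hz⟩
    rw [Points.ofPt_eq_map_ofScheme] at hz
    obtain ⟨w, -, hw2⟩ := points_exists_of_isPullback (IsPullback.of_hasPullback h cV) z
      (Points.ofScheme V t) hz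
    obtain ⟨u, rfl⟩ := Groth.Agent.H51.surjective_ofPt_of_surjective A.u A.surj w
    rw [Points.map_ofPt, A.u_snd, Points.ofPt_eq_map_ofScheme] at hw2
    have hw3 : Points.schemeHomeo V (A.g.left u) = Points.schemeHomeo V t :=
      (Points.map_yon_map_apply A.g u).symm.trans hw2
    exact ⟨u, (Points.schemeHomeo V).injective hw3⟩

/-- **A dense affine chart**: for `h : U ⟶ X` quasi-compact with dense image on points and an
étale chart `Spec B ⟶ X`, there is an affine scheme `Spec C'` with a map to `U` whose image in
`Spec B` is dense. -/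
theorem exists_dense_chart {U X : Sp S} (h : U ⟶ X) (hh : IsQuasiCompactMor h)
    (hd : DenseRange (Points.map h)) {B : Type u} [CommRing B] (strB : Spec (.of B) ⟶ S)
    (cV : (yon S).obj (Over.mk strB) ⟶ X) (hcV : RepWith @Etale cV) :
    ∃ (C' : Type u) (_ : CommRing C') (strC' : Spec (.of C') ⟶ S)
      (gC : Over.mk strC' ⟶ Over.mk strB) (w : (yon S).obj (Over.mk strC') ⟶ U),
      w ≫ h = (yon S).map gC ≫ cV ∧ DenseRange gC.left := by
  haveI : IsAffine (Over.mk strB).left := by
    change IsAffine (Spec (.of B))
    infer_instance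
  obtain ⟨A⟩ := QCAtlas.exists_of_isQuasiCompactMor hh cV
  haveI := A.qc
  haveI : CompactSpace ↥A.U.left := HasAffineProperty.iff_of_isAffine.mp A.qc
  obtain ⟨R', g, hg⟩ := compactSpace_iff_exists.mp (inferInstance : CompactSpace ↥A.U.left)
  let ω : Over.mk (g ≫ A.U.hom) ⟶ A.U := Over.homMk g rfl
  refine ⟨R', inferInstance, g ≫ A.U.hom, ω ≫ A.g, (yon S).map ω ≫ A.a, ?_, ?_⟩
  · rw [Category.assoc, A.comm, Functor.map_comp, Category.assoc]
  · have hrange : Set.range (ω ≫ A.g).left = Set.range A.g.left := by
      change Set.range (g ≫ A.g.left) = _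
      rw [Scheme.Hom.comp_base, TopCat.coe_comp, Set.range_comp, hg.range_eq, Set.image_univ]
    rw [DenseRange, hrange, range_atlas_eq h cV A]
    exact hd.preimage (Groth.Agent.H52.isOpenMap_ofPt_of_repWith_etale cV hcV)

end RV

end Groth.Agent.H50
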