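import Groth.Agent.H50.RV3

set_option autoImplicit false
set_option backward.isDefEq.respectTransparency false
set_option linter.style.haveILetI false
set_option linter.unusedSectionVars false
universe u
open CategoryTheory CategoryTheory.Limits AlgebraicGeometry Opposite Topology

namespace Groth.Agent.H50
open AlgSp Groth.Agent.H49

variable {S : Scheme.{u}}

namespace RV

/-- `Spec` of a ring map, as a morphism over `S`. -/
noncomputable abbrev ovSpec {X X' : Type u} [CommRing X] [CommRing X'] (g : X →+* X')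
    {s : Spec (.of X) ⟶ S} {s' : Spec (.of X') ⟶ S}
    (hs : Spec.map (CommRingCat.ofHom g) ≫ s = s') : Over.mk s' ⟶ Over.mk s :=
  Over.homMk (Spec.map (CommRingCat.ofHom g)) hs

theorem ovSpec_comp {X X' X'' : Type u} [CommRing X] [CommRing X'] [CommRing X'']
    (g : X →+* X') (g' : X' →+* X'') {s : Spec (.of X) ⟶ S} {s' : Spec (.of X') ⟶ S}
    {s'' : Spec (.of X'') ⟶ S} (hs : Spec.map (CommRingCat.ofHom g) ≫ s = s')
    (hs' : Spec.map (CommRingCat.ofHom g') ≫ s' = s'') :
    ovSpec g' hs' ≫ ovSpec g hs = ovSpec (g'.comp g) (by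
      rw [CommRingCat.ofHom_comp, Spec.map_comp, Category.assoc, hs, hs']) := by
  apply Over.OverMorphism.ext
  change Spec.map _ ≫ Spec.map _ = Spec.map _
  rw [← Spec.map_comp, ← CommRingCat.ofHom_comp]

theorem ovSpec_ext {X X' : Type u} [CommRing X] [CommRing X'] {g g' : X →+* X'} (h : g = g')
    {s : Spec (.of X) ⟶ S} {s' : Spec (.of X') ⟶ S}
    (hs : Spec.map (CommRingCat.ofHom g) ≫ s = s')
    (hs' : Spec.map (CommRingCat.ofHom g') ≫ s = s') : ovSpec g hs = ovSpec g' hs' := by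
  subst h
  rfl

/-- Compatibility of structure maps from an identity of ring maps. -/
theorem str_compat {R X X' : Type u} [CommRing R] [CommRing X] [CommRing X']
    (strR : Spec (.of R) ⟶ S) (r : R →+* X) (r' : R →+* X') (g : X →+* X')
    (h : g.comp r = r') :
    Spec.map (CommRingCat.ofHom g) ≫ Spec.map (CommRingCat.ofHom r) ≫ strR =
      Spec.map (CommRingCat.ofHom r') ≫ strR := by
  rw [← Spec.map_comp_assoc, ← CommRingCat.ofHom_comp, h]

/-- The compatibility of structure maps for a dominating extension. -/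
theorem domExt_str {F G : Sp S} {f : F ⟶ G} (sq : ValSq f) (e : sq.DomExt) :
    Spec.map (CommRingCat.ofHom e.ψ) ≫
        Spec.map (CommRingCat.ofHom (algebraMap sq.A sq.K)) ≫ sq.str =
      Spec.map (CommRingCat.ofHom (algebraMap e.A' e.K')) ≫
        Spec.map (CommRingCat.ofHom e.φ) ≫ sq.str := by
  rw [← Spec.map_comp_assoc, ← Spec.map_comp_assoc, ← CommRingCat.ofHom_comp,
    ← CommRingCat.ofHom_comp, e.comm]

open IsLocalRing in
set_option maxHeartbeats 1600000 in
/-- **Core of the refined valuative criterion**: a valuative square whose bottom arrow factors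
through an affine chart `Spec R ⟶ Y` and whose top arrow factors compatibly through an affine
étale chart `Spec B ⟶ X` has a dotted arrow after a dominating extension. -/
theorem hasLiftExt_core {U X Y : Sp S} (f : X ⟶ Y) (h : U ⟶ X)
    (hh : IsQuasiCompactMor h) (hd : DenseRange (Points.map h))
    (hv : ∀ sq : ValSq f, (∃ t : (yon S).obj sq.ptK ⟶ U, t ≫ h = sq.top) →
      sq.HasUniq ∧ sq.HasLiftExt)
    {R : Type u} [CommRing R] (strR : Spec (.of R) ⟶ S) (cY : (yon S).obj (Over.mk strR) ⟶ Y)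
    {B : Type u} [CommRing B] (rB : R →+* B)
    (cV : (yon S).obj (Over.mk (Spec.map (CommRingCat.ofHom rB) ≫ strR)) ⟶ X)
    (hcV : RepWith @Etale cV)
    (hgB : cV ≫ f = (yon S).map (ovSpec rB rfl) ≫ cY)
    (sq : ValSq f) (rA : R →+* sq.A) (hstr : Spec.map (CommRingCat.ofHom rA) ≫ strR = sq.str)
    (hbot : sq.bot = (yon S).map (ovSpec rA hstr) ≫ cY)
    (β : B →+* sq.K) (hβ : β.comp rB = (algebraMap sq.A sq.K).comp rA)
    (hβs : Spec.map (CommRingCat.ofHom β) ≫ Spec.map (CommRingCat.ofHom rB) ≫ strR =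
      Spec.map (CommRingCat.ofHom (algebraMap sq.A sq.K)) ≫ sq.str)
    (htop : sq.top = (yon S).map (ovSpec β hβs) ≫ cV) : sq.HasLiftExt := by
  classical
  -- the dense chart
  obtain ⟨C', iC', strC', gC, w, hw, hdense⟩ := exists_dense_chart h hh hd _ cV hcV
  let γ : B →+* C' := (Spec.preimage gC.left).hom
  have hγ : Spec.map (CommRingCat.ofHom γ) = gC.left := Spec.map_preimage gC.left
  have hstrC' : Spec.map (CommRingCat.ofHom γ) ≫ Spec.map (CommRingCat.ofHom rB) ≫ strR = strC' := by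
    rw [hγ]
    exact Over.w gC
  have hgC : gC = ovSpec γ hstrC' := by
    apply Over.OverMorphism.ext
    exact hγ.symm
  have hγd : DenseRange (PrimeSpectrum.comap γ) := by
    have := hdense
    rw [← hγ] at this
    exact this
  -- the centre valuation ring
  obtain ⟨K', iK', p, c, A', hpc, hpA', hval⟩ := exists_center_valuation γ hγd β
  let π : MvPolynomial sq.K B →+* sq.K := MvPolynomial.eval₂Hom β id
  have hπsurj : Function.Surjective π := fun k => ⟨MvPolynomial.X k, by simp [π]⟩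
  let pA' : MvPolynomial sq.K B →+* ↥A' := p.codRestrict A'.toSubring hpA'
  have hker : RingHom.ker π ≤ RingHom.ker ((residue ↥A').comp pA') := by
    intro x hx
    rw [RingHom.mem_ker, RingHom.comp_apply, residue_eq_zero_iff, A'.valuation_lt_one_iff]
    exact (hval x).2 hx
  let ι : sq.K →+* ResidueField ↥A' :=
    π.liftOfSurjective hπsurj ⟨(residue ↥A').comp pA', hker⟩
  have hι : ∀ x, ι (π x) = residue ↥A' (pA' x) := fun x =>
    RingHom.liftOfRightInverse_comp_apply _ _ _ _ x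
  have hιC : ∀ b : B, residue ↥A' (pA' (MvPolynomial.C b)) = ι (β b) := by
    intro b
    rw [← hι]
    congr 1
    simp [π]
  -- the second valuation ring, in the residue field of `A'`
  obtain ⟨A'', hA'', hloc''⟩ :=
    IsLocalRing.exists_factor_valuationRing (ι.comp (algebraMap sq.A sq.K))
  let aA'' : sq.A →+* ↥A'' := (ι.comp (algebraMap sq.A sq.K)).codRestrict A''.toSubring hA''
  -- the composite
  have hres : ∀ r : R, residue ↥A' (pA' (MvPolynomial.C (rB r))) =
      ((aA'' (rA r) : ↥A'') : ResidueField ↥A') := by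
    intro r
    rw [hιC]
    have : β (rB r) = algebraMap sq.A sq.K (rA r) := congrArg (fun k => k r) hβ
    rw [this]
    rfl
  have hRC : ∀ r : R, (p.comp (MvPolynomial.C.comp rB)) r ∈ (compVal A' A'').toSubring := by
    intro r
    refine (mem_compVal_iff A' A'' _).2 ⟨hpA' _, ?_⟩
    change residue ↥A' (pA' (MvPolynomial.C (rB r))) ∈ A''
    rw [hres]
    exact (aA'' (rA r)).2
  let rC : R →+* ↥(compVal A' A'') :=
    (p.comp (MvPolynomial.C.comp rB)).codRestrict (compVal A' A'').toSubring hRC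
  have hrC : ∀ r : R, ((rC r : ↥(compVal A' A'')) : K') = p (MvPolynomial.C (rB r)) := fun r => rfl
  have hcompRes : ∀ r : R, compRes A' A'' (rC r) = aA'' (rA r) := by
    intro r
    apply Subtype.ext
    rw [coe_compRes]
    exact hres r
  -- ring identity (I1)
  have I1 : (algebraMap ↥(compVal A' A'') K').comp rC = (c.comp γ).comp rB := by
    ext r
    change p (MvPolynomial.C (rB r)) = c (γ (rB r))
    exact congrArg (fun k => k (rB r)) hpc
  -- the new square
  have hcs : Spec.map (CommRingCat.ofHom c) ≫ strC' =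
      Spec.map (CommRingCat.ofHom (algebraMap ↥(compVal A' A'') K')) ≫
        Spec.map (CommRingCat.ofHom rC) ≫ strR := by
    rw [← hstrC', str_compat strR rB _ γ rfl, str_compat strR _ _ c rfl,
      str_compat strR rC _ (algebraMap ↥(compVal A' A'') K') rfl, I1]
    rfl
  let sq' : ValSq f :=
    { A := ↥(compVal A' A'')
      K := K'
      str := Spec.map (CommRingCat.ofHom rC) ≫ strR
      top := (yon S).map (ovSpec c hcs) ≫ w ≫ h
      bot := (yon S).map (ovSpec rC rfl) ≫ cY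
      comm := by
        rw [Category.assoc, Category.assoc, ← Category.assoc w h f, hw, Category.assoc, hgB, hgC,
          ← Functor.map_comp_assoc, ← Functor.map_comp_assoc, ← Functor.map_comp_assoc]
        congr 2
        rw [ovSpec_comp, ovSpec_comp]
        change _ = ovSpec (algebraMap ↥(compVal A' A'') K') rfl ≫ ovSpec rC rfl
        rw [ovSpec_comp]
        exact ovSpec_ext I1.symm _ _ }
  obtain ⟨-, e, l₁, hl₁a, hl₁b⟩ := hv sq' ⟨(yon S).map (ovSpec c hcs) ≫ w, by
    rw [Category.assoc]⟩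
  haveI := e.isLocalHom
  have hcomm : ∀ x : ↥(compVal A' A''), algebraMap e.A' e.K' (e.φ x) = e.ψ (x : K') := fun x =>
    congrArg (fun k => k x) e.comm
  haveI : (RingHom.ker (compRes A' A'')).IsPrime := RingHom.ker_isPrime _
  obtain ⟨𝔭₁, h𝔭₁prime, h𝔭₁⟩ := exists_prime_comap_eq e.φ
    (phi_injective A' A'' e.φ e.ψ hcomm) (RingHom.ker (compRes A' A''))
  haveI := h𝔭₁prime
  obtain ⟨lam, hlam⟩ := exists_lam A' A'' e.φ e.ψ hcomm 𝔭₁ h𝔭₁
  haveI : IsLocalHom lam := isLocalHom_lam A' A'' e.φ e.ψ hcomm 𝔭₁ h𝔭₁ lam hlam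
  obtain ⟨θ, hθ⟩ := exists_theta A' A'' e.φ 𝔭₁ h𝔭₁
  haveI : IsLocalHom θ := isLocalHom_theta A' A'' e.φ 𝔭₁ h𝔭₁ θ hθ
  -- the localization as a valuation ring of `e.K'`
  letI algA₁ : Algebra (Localization.AtPrime 𝔭₁) e.K' := (locToFrac (K := e.K') 𝔭₁).toAlgebra
  haveI fracA₁ : IsFractionRing (Localization.AtPrime 𝔭₁) e.K' := isFractionRing_loc 𝔭₁
  haveI valA₁ : ValuationRing (Localization.AtPrime 𝔭₁) := valuationRing_loc 𝔭₁
  let ν : e.A' →+* Localization.AtPrime 𝔭₁ := algebraMap e.A' (Localization.AtPrime 𝔭₁)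
  have hν : ∀ x, algebraMap (Localization.AtPrime 𝔭₁) e.K' (ν x) = algebraMap e.A' e.K' x :=
    fun x => locToFrac_algebraMap 𝔭₁ x
  let bA₁ : B →+* Localization.AtPrime 𝔭₁ := lam.comp (pA'.comp MvPolynomial.C)
  have hbA₁ : ∀ b, algebraMap (Localization.AtPrime 𝔭₁) e.K' (bA₁ b) =
      e.ψ (p (MvPolynomial.C b)) := fun b => hlam _
  -- ring identity (I2)
  have I2 : bA₁.comp rB = (ν.comp e.φ).comp rC := by
    ext r
    apply locToFrac_injective (K := e.K') 𝔭₁
    change algebraMap (Localization.AtPrime 𝔭₁) e.K' (bA₁ (rB r)) =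
      algebraMap (Localization.AtPrime 𝔭₁) e.K' (ν (e.φ (rC r)))
    rw [hbA₁, hν, hcomm, hrC]
  -- ring identity (I3)
  have I3 : (algebraMap (Localization.AtPrime 𝔭₁) e.K').comp bA₁ = (e.ψ.comp c).comp γ := by
    ext b
    change algebraMap (Localization.AtPrime 𝔭₁) e.K' (bA₁ b) = e.ψ (c (γ b))
    rw [hbA₁]
    congr 1
    exact congrArg (fun k => k b) hpc
  -- ring identity (I0)
  have I0 : (algebraMap (Localization.AtPrime 𝔭₁) e.K').comp (ν.comp e.φ) =
      e.ψ.comp (algebraMap ↥(compVal A' A'') K') := by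
    ext x
    change algebraMap (Localization.AtPrime 𝔭₁) e.K' (ν (e.φ x)) = e.ψ (x : K')
    rw [hν, hcomm]
  -- the square over the localization
  have hψs : Spec.map (CommRingCat.ofHom e.ψ) ≫
      Spec.map (CommRingCat.ofHom (algebraMap ↥(compVal A' A'') K')) ≫
        Spec.map (CommRingCat.ofHom rC) ≫ strR =
      Spec.map (CommRingCat.ofHom (algebraMap (Localization.AtPrime 𝔭₁) e.K')) ≫
        Spec.map (CommRingCat.ofHom ν) ≫ Spec.map (CommRingCat.ofHom e.φ) ≫
          Spec.map (CommRingCat.ofHom rC) ≫ strR := by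
    rw [← Spec.map_comp_assoc, ← CommRingCat.ofHom_comp, ← I0, CommRingCat.ofHom_comp,
      CommRingCat.ofHom_comp, Spec.map_comp, Spec.map_comp, Category.assoc, Category.assoc]
  have hνφs : Spec.map (CommRingCat.ofHom (ν.comp e.φ)) ≫ Spec.map (CommRingCat.ofHom rC) ≫ strR =
      Spec.map (CommRingCat.ofHom ν) ≫ Spec.map (CommRingCat.ofHom e.φ) ≫
        Spec.map (CommRingCat.ofHom rC) ≫ strR := by
    rw [CommRingCat.ofHom_comp, Spec.map_comp, Category.assoc]
  let sq₁ : ValSq f :=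
    { A := Localization.AtPrime 𝔭₁
      K := e.K'
      str := Spec.map (CommRingCat.ofHom ν) ≫ Spec.map (CommRingCat.ofHom e.φ) ≫
        Spec.map (CommRingCat.ofHom rC) ≫ strR
      top := (yon S).map (ovSpec e.ψ hψs) ≫ sq'.top
      bot := (yon S).map (ovSpec (ν.comp e.φ) hνφs) ≫ sq'.bot
      comm := by
        have e1 : ovSpec e.ψ hψs ≫ ovSpec (algebraMap ↥(compVal A' A'') K') rfl =
            ovSpec (algebraMap (Localization.AtPrime 𝔭₁) e.K') rfl ≫
              ovSpec (ν.comp e.φ) hνφs := by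
          rw [ovSpec_comp, ovSpec_comp]
          exact ovSpec_ext I0.symm _ _
        calc ((yon S).map (ovSpec e.ψ hψs) ≫ sq'.top) ≫ f
            = (yon S).map (ovSpec e.ψ hψs) ≫ (sq'.top ≫ f) := Category.assoc _ _ _
          _ = (yon S).map (ovSpec e.ψ hψs) ≫
                (yon S).map (ovSpec (algebraMap ↥(compVal A' A'') K') rfl) ≫ sq'.bot := by
              rw [sq'.comm]
          _ = (yon S).map (ovSpec e.ψ hψs ≫ ovSpec (algebraMap ↥(compVal A' A'') K') rfl) ≫
                sq'.bot := by rw [Functor.map_comp, Category.assoc]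
          _ = (yon S).map (ovSpec (algebraMap (Localization.AtPrime 𝔭₁) e.K') rfl ≫
                ovSpec (ν.comp e.φ) hνφs) ≫ sq'.bot := by rw [e1]
          _ = _ := by rw [Functor.map_comp, Category.assoc] }
  have huniq := (hv sq₁ ⟨(yon S).map (ovSpec e.ψ hψs) ≫ (yon S).map (ovSpec c hcs) ≫ w, by
    rw [Category.assoc, Category.assoc]⟩).1
  -- the two lifts over the localization
  have hbs : Spec.map (CommRingCat.ofHom bA₁) ≫ Spec.map (CommRingCat.ofHom rB) ≫ strR =
      Spec.map (CommRingCat.ofHom ν) ≫ Spec.map (CommRingCat.ofHom e.φ) ≫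
        Spec.map (CommRingCat.ofHom rC) ≫ strR := by
    rw [str_compat strR rB _ bA₁ rfl, I2, ← hνφs, str_compat strR rC _ (ν.comp e.φ) rfl]
  let L₁ : (yon S).obj sq₁.ptA ⟶ X := (yon S).map (ovSpec ν rfl) ≫ l₁
  let L₂ : (yon S).obj sq₁.ptA ⟶ X := (yon S).map (ovSpec bA₁ hbs) ≫ cV
  have key : L₁ = L₂ := by
    refine huniq L₁ L₂ ?_ ?_ ?_ ?_
    · -- c1
      have hid : Spec.map (CommRingCat.ofHom (RingHom.id e.K')) ≫
          Spec.map (CommRingCat.ofHom (algebraMap e.A' e.K')) ≫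
            Spec.map (CommRingCat.ofHom e.φ) ≫ Spec.map (CommRingCat.ofHom rC) ≫ strR =
          Spec.map (CommRingCat.ofHom (algebraMap (Localization.AtPrime 𝔭₁) e.K')) ≫
            Spec.map (CommRingCat.ofHom ν) ≫ Spec.map (CommRingCat.ofHom e.φ) ≫
              Spec.map (CommRingCat.ofHom rC) ≫ strR := by
        have h1 : (algebraMap (Localization.AtPrime 𝔭₁) e.K').comp ν = algebraMap e.A' e.K' := by
          ext x
          exact hν x
        rw [CommRingCat.ofHom_id, Spec.map_id, Category.id_comp, ← h1, CommRingCat.ofHom_comp,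
          Spec.map_comp, Category.assoc]
      have e1 : ovSpec (algebraMap (Localization.AtPrime 𝔭₁) e.K') rfl ≫ ovSpec ν rfl =
          ovSpec (RingHom.id e.K') hid ≫ ovSpec (algebraMap e.A' e.K') rfl := by
        rw [ovSpec_comp, ovSpec_comp]
        refine ovSpec_ext ?_ _ _
        ext x
        exact hν x
      have hψ2 : Spec.map (CommRingCat.ofHom e.ψ) ≫
          Spec.map (CommRingCat.ofHom (algebraMap sq'.A sq'.K)) ≫ sq'.str =
          Spec.map (CommRingCat.ofHom (algebraMap e.A' e.K')) ≫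
            Spec.map (CommRingCat.ofHom e.φ) ≫ sq'.str := domExt_str sq' e
      have e2 : ovSpec (RingHom.id e.K') hid ≫ ovSpec e.ψ hψ2 = ovSpec e.ψ hψs := by
        rw [ovSpec_comp]
        exact ovSpec_ext (RingHom.id_comp _) _ _
      calc (yon S).map sq₁.j ≫ L₁
          = (yon S).map (ovSpec (algebraMap (Localization.AtPrime 𝔭₁) e.K') rfl ≫ ovSpec ν rfl) ≫
              l₁ := by rw [Functor.map_comp, Category.assoc]
        _ = (yon S).map (ovSpec (RingHom.id e.K') hid) ≫
              (yon S).map (ovSpec (algebraMap e.A' e.K') rfl) ≫ l₁ := by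
            rw [e1, Functor.map_comp, Category.assoc]
        _ = (yon S).map (ovSpec (RingHom.id e.K') hid) ≫ (yon S).map (ovSpec e.ψ hψ2) ≫
              sq'.top := by
            congr 1
        _ = sq₁.top := by
            rw [← Functor.map_comp_assoc, e2]
    · -- c2
      calc L₁ ≫ f = (yon S).map (ovSpec ν rfl) ≫ (l₁ ≫ f) := Category.assoc _ _ _
        _ = (yon S).map (ovSpec ν rfl) ≫ (yon S).map (ovSpec e.φ rfl) ≫ sq'.bot := by
            rw [hl₁b]
        _ = (yon S).map (ovSpec ν rfl ≫ ovSpec e.φ rfl) ≫ sq'.bot := by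
            rw [Functor.map_comp, Category.assoc]
        _ = sq₁.bot := by
            rw [ovSpec_comp]
    · -- c3
      have e1 : ovSpec (algebraMap (Localization.AtPrime 𝔭₁) e.K') rfl ≫ ovSpec bA₁ hbs =
          ovSpec e.ψ hψs ≫ ovSpec c hcs ≫ ovSpec γ hstrC' := by
        rw [ovSpec_comp, ovSpec_comp, ovSpec_comp]
        exact ovSpec_ext I3 _ _
      calc (yon S).map sq₁.j ≫ L₂
          = (yon S).map (ovSpec (algebraMap (Localization.AtPrime 𝔭₁) e.K') rfl ≫
              ovSpec bA₁ hbs) ≫ cV := by rw [Functor.map_comp, Category.assoc]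
        _ = (yon S).map (ovSpec e.ψ hψs) ≫ (yon S).map (ovSpec c hcs) ≫
              (yon S).map gC ≫ cV := by
            rw [e1, hgC, Functor.map_comp, Functor.map_comp, Category.assoc, Category.assoc]
        _ = (yon S).map (ovSpec e.ψ hψs) ≫ (yon S).map (ovSpec c hcs) ≫ w ≫ h := by
            rw [hw]
        _ = sq₁.top := rfl
    · -- c4
      have e1 : ovSpec bA₁ hbs ≫ ovSpec rB rfl = ovSpec (ν.comp e.φ) hνφs ≫ ovSpec rC rfl := by
        rw [ovSpec_comp, ovSpec_comp]
        exact ovSpec_ext I2 _ _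
      calc L₂ ≫ f = (yon S).map (ovSpec bA₁ hbs) ≫ (cV ≫ f) := Category.assoc _ _ _
        _ = (yon S).map (ovSpec bA₁ hbs ≫ ovSpec rB rfl) ≫ cY := by
            rw [hgB, Functor.map_comp, Category.assoc]
        _ = (yon S).map (ovSpec (ν.comp e.φ) hνφs) ≫ (yon S).map (ovSpec rC rfl) ≫ cY := by
            rw [e1, Functor.map_comp, Category.assoc]
        _ = sq₁.bot := rfl
  -- the final extension
  haveI : ValuationRing (e.A' ⧸ 𝔭₁) :=
    Function.Surjective.valuationRing (Ideal.Quotient.mk 𝔭₁) Ideal.Quotient.mk_surjective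
  haveI : IsLocalHom aA'' := hloc''
  let φ₂ : sq.A →+* e.A' ⧸ 𝔭₁ := θ.comp aA''
  let ψ₂ : sq.K →+* 𝔭₁.ResidueField := (IsLocalRing.ResidueField.map lam).comp ι
  have hcomm₂ : (algebraMap (e.A' ⧸ 𝔭₁) 𝔭₁.ResidueField).comp φ₂ =
      ψ₂.comp (algebraMap sq.A sq.K) := by
    ext a
    change algebraMap (e.A' ⧸ 𝔭₁) 𝔭₁.ResidueField (θ (aA'' a)) = _
    rw [theta_compat A' A'' e.φ e.ψ hcomm 𝔭₁ lam hlam θ hθ]
    rfl
  let e₂ : sq.DomExt :=
    { A' := e.A' ⧸ 𝔭₁
      K' := 𝔭₁.ResidueField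
      φ := φ₂
      ψ := ψ₂
      comm := hcomm₂
      isLocalHom := RingHom.isLocalHom_comp θ aA'' }
  -- ring identities (I4), (I5), (I6)
  have I4 : ((Ideal.Quotient.mk 𝔭₁).comp e.φ).comp rC = φ₂.comp rA := by
    ext r
    change Ideal.Quotient.mk 𝔭₁ (e.φ (rC r)) = θ (aA'' (rA r))
    rw [← hcompRes, hθ]
  have I5 : (residue (Localization.AtPrime 𝔭₁)).comp bA₁ = ψ₂.comp β := by
    ext b
    change residue _ (lam (pA' (MvPolynomial.C b))) =
      IsLocalRing.ResidueField.map lam (ι (β b))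
    rw [← hιC, IsLocalRing.ResidueField.map_residue]
  have I6 : (algebraMap (e.A' ⧸ 𝔭₁) 𝔭₁.ResidueField).comp (Ideal.Quotient.mk 𝔭₁) =
      (residue (Localization.AtPrime 𝔭₁)).comp ν := rfl
  refine ⟨e₂, ?_⟩
  have hq : Spec.map (CommRingCat.ofHom (Ideal.Quotient.mk 𝔭₁)) ≫
      Spec.map (CommRingCat.ofHom e.φ) ≫ Spec.map (CommRingCat.ofHom rC) ≫ strR =
      Spec.map (CommRingCat.ofHom φ₂) ≫ sq.str := by
    rw [← hstr, str_compat strR rA _ φ₂ rfl, ← I4, str_compat strR rC _ e.φ rfl,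
      str_compat strR _ _ (Ideal.Quotient.mk 𝔭₁) rfl]
    rfl
  have hρ : Spec.map (CommRingCat.ofHom (residue (Localization.AtPrime 𝔭₁))) ≫
      Spec.map (CommRingCat.ofHom ν) ≫ Spec.map (CommRingCat.ofHom e.φ) ≫
        Spec.map (CommRingCat.ofHom rC) ≫ strR =
      Spec.map (CommRingCat.ofHom (algebraMap (e.A' ⧸ 𝔭₁) 𝔭₁.ResidueField)) ≫
        Spec.map (CommRingCat.ofHom φ₂) ≫ sq.str := by
    rw [← hq, ← Spec.map_comp_assoc, ← CommRingCat.ofHom_comp, ← I6, CommRingCat.ofHom_comp,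
      Spec.map_comp, Category.assoc]
  refine ⟨(yon S).map (ovSpec (Ideal.Quotient.mk 𝔭₁) hq) ≫ l₁, ?_, ?_⟩
  · -- (a)
    have e1 : ovSpec (algebraMap (e.A' ⧸ 𝔭₁) 𝔭₁.ResidueField) rfl ≫
        ovSpec (Ideal.Quotient.mk 𝔭₁) hq =
        ovSpec (residue (Localization.AtPrime 𝔭₁)) hρ ≫ ovSpec ν rfl := by
      rw [ovSpec_comp, ovSpec_comp]
      exact ovSpec_ext I6 _ _
    have e2 : ovSpec (residue (Localization.AtPrime 𝔭₁)) hρ ≫ ovSpec bA₁ hbs =
        ovSpec ψ₂ (domExt_str sq e₂) ≫ ovSpec β hβs := by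
      rw [ovSpec_comp, ovSpec_comp]
      exact ovSpec_ext I5 _ _
    calc (yon S).map (ovSpec (algebraMap (e.A' ⧸ 𝔭₁) 𝔭₁.ResidueField) rfl) ≫
          (yon S).map (ovSpec (Ideal.Quotient.mk 𝔭₁) hq) ≫ l₁
        = (yon S).map (ovSpec (algebraMap (e.A' ⧸ 𝔭₁) 𝔭₁.ResidueField) rfl ≫
            ovSpec (Ideal.Quotient.mk 𝔭₁) hq) ≫ l₁ := by
          rw [Functor.map_comp, Category.assoc]
      _ = (yon S).map (ovSpec (residue (Localization.AtPrime 𝔭₁)) hρ) ≫ L₁ := by
          rw [e1, Functor.map_comp, Category.assoc]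
      _ = (yon S).map (ovSpec (residue (Localization.AtPrime 𝔭₁)) hρ ≫ ovSpec bA₁ hbs) ≫ cV := by
          rw [key, Functor.map_comp, Category.assoc]
      _ = (yon S).map (ovSpec ψ₂ (domExt_str sq e₂)) ≫ (yon S).map (ovSpec β hβs) ≫ cV := by
          rw [e2, Functor.map_comp, Category.assoc]
      _ = (yon S).map (ovSpec ψ₂ (domExt_str sq e₂)) ≫ sq.top := by rw [htop]
  · -- (b)
    have e1 : ovSpec (Ideal.Quotient.mk 𝔭₁) hq ≫ ovSpec e.φ rfl ≫ ovSpec rC rfl =
        ovSpec φ₂ rfl ≫ ovSpec rA hstr := by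
      rw [ovSpec_comp, ovSpec_comp, ovSpec_comp]
      exact ovSpec_ext I4 _ _
    calc ((yon S).map (ovSpec (Ideal.Quotient.mk 𝔭₁) hq) ≫ l₁) ≫ f
        = (yon S).map (ovSpec (Ideal.Quotient.mk 𝔭₁) hq) ≫ (l₁ ≫ f) := Category.assoc _ _ _
      _ = (yon S).map (ovSpec (Ideal.Quotient.mk 𝔭₁) hq) ≫ (yon S).map (ovSpec e.φ rfl) ≫
            (yon S).map (ovSpec rC rfl) ≫ cY := by rw [hl₁b]
      _ = (yon S).map (ovSpec (Ideal.Quotient.mk 𝔭₁) hq ≫ ovSpec e.φ rfl ≫ ovSpec rC rfl) ≫
            cY := by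
          rw [Functor.map_comp, Functor.map_comp, Category.assoc, Category.assoc]
      _ = (yon S).map (ovSpec φ₂ rfl) ≫ (yon S).map (ovSpec rA hstr) ≫ cY := by
          rw [e1, Functor.map_comp, Category.assoc]
      _ = (yon S).map (ovSpec φ₂ rfl) ≫ sq.bot := by rw [hbot]

end RV

end Groth.Agent.H50
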