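import Groth.Agent.H50.RV4
import Groth.Agent.H50.PropDVR11

set_option autoImplicit false
set_option backward.isDefEq.respectTransparency false
set_option linter.style.haveILetI false
set_option linter.unusedSectionVars false
universe u
open CategoryTheory CategoryTheory.Limits AlgebraicGeometry Opposite Topology

namespace Groth.Agent.H50
open AlgSp Groth.Agent.H49

variable {S : Scheme.{u}}

namespace RV

/-- The valuative square obtained from a dominating extension. -/
noncomputable def extSq {F G : Sp S} {f : F ⟶ G} (sq : ValSq f) (e : sq.DomExt) : ValSq f where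
  A := e.A'
  K := e.K'
  str := Spec.map (CommRingCat.ofHom e.φ) ≫ sq.str
  top := (yon S).map (ovSpec e.ψ (domExt_str sq e)) ≫ sq.top
  bot := (yon S).map (ovSpec e.φ rfl) ≫ sq.bot
  comm := by
    have e1 : ovSpec e.ψ (domExt_str sq e) ≫ ovSpec (algebraMap sq.A sq.K) rfl =
        ovSpec (algebraMap e.A' e.K') rfl ≫ ovSpec e.φ rfl := by
      rw [ovSpec_comp, ovSpec_comp]
      exact ovSpec_ext e.comm.symm _ _
    calc ((yon S).map (ovSpec e.ψ (domExt_str sq e)) ≫ sq.top) ≫ f
        = (yon S).map (ovSpec e.ψ (domExt_str sq e)) ≫ (sq.top ≫ f) := Category.assoc _ _ _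
      _ = (yon S).map (ovSpec e.ψ (domExt_str sq e) ≫ ovSpec (algebraMap sq.A sq.K) rfl) ≫
            sq.bot := by rw [sq.comm, Functor.map_comp, Category.assoc]
      _ = _ := by rw [e1, Functor.map_comp, Category.assoc]

/-- A dotted arrow after an extension of an extended square gives one for the original
square. -/
theorem hasLiftExt_of_extSq {F G : Sp S} {f : F ⟶ G} (sq : ValSq f) (e : sq.DomExt)
    (h : (extSq sq e).HasLiftExt) : sq.HasLiftExt := by
  obtain ⟨e₂, l₂, hm1, hm2⟩ := h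
  haveI : IsLocalHom e.φ := e.isLocalHom
  haveI : IsLocalHom e₂.φ := e₂.isLocalHom
  let e' : sq.DomExt :=
    { A' := e₂.A', K' := e₂.K', φ := e₂.φ.comp e.φ, ψ := e₂.ψ.comp e.ψ
      comm := by
        rw [← RingHom.comp_assoc, e₂.comm, RingHom.comp_assoc, RingHom.comp_assoc]
        congr 1
        exact e.comm
      isLocalHom := RingHom.isLocalHom_comp e₂.φ e.φ }
  refine ⟨e', ?_⟩
  have hθ : Spec.map (CommRingCat.ofHom (RingHom.id e₂.A')) ≫ e₂.ptA'.hom = e'.ptA'.hom := by
    change Spec.map _ ≫ Spec.map _ ≫ Spec.map _ ≫ sq.str = Spec.map _ ≫ sq.str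
    rw [CommRingCat.ofHom_id, Spec.map_id, Category.id_comp, ← Spec.map_comp_assoc,
      ← CommRingCat.ofHom_comp]
  refine ⟨(yon S).map (ovSpec (RingHom.id e₂.A') hθ) ≫ l₂, ?_, ?_⟩
  · have hθK : Spec.map (CommRingCat.ofHom (RingHom.id e₂.K')) ≫ e₂.ptK'.hom = e'.ptK'.hom := by
      change Spec.map _ ≫ Spec.map _ ≫ Spec.map _ ≫ Spec.map _ ≫ sq.str =
        Spec.map _ ≫ Spec.map _ ≫ sq.str
      rw [CommRingCat.ofHom_id, Spec.map_id, Category.id_comp,
        ← Spec.map_comp_assoc (CommRingCat.ofHom e.φ), ← CommRingCat.ofHom_comp]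
    have e1 : (ovSpec (algebraMap e'.A' e'.K') rfl : e'.ptK' ⟶ e'.ptA') ≫
        ovSpec (RingHom.id e₂.A') hθ =
        ovSpec (RingHom.id e₂.K') hθK ≫ (ovSpec (algebraMap e₂.A' e₂.K') rfl : e₂.ptK' ⟶ e₂.ptA') := by
      rw [ovSpec_comp, ovSpec_comp]
      exact ovSpec_ext rfl _ _
    have e2 : ovSpec (RingHom.id e₂.K') hθK ≫ ovSpec e₂.ψ (domExt_str (extSq sq e) e₂) ≫
        ovSpec e.ψ (domExt_str sq e) = ovSpec e'.ψ (domExt_str sq e') := by
      rw [ovSpec_comp, ovSpec_comp]
      exact ovSpec_ext rfl _ _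
    calc (yon S).map (ovSpec (algebraMap e'.A' e'.K') rfl : e'.ptK' ⟶ e'.ptA') ≫
          (yon S).map (ovSpec (RingHom.id e₂.A') hθ) ≫ l₂
        = (yon S).map (ovSpec (RingHom.id e₂.K') hθK) ≫
            (yon S).map (ovSpec (algebraMap e₂.A' e₂.K') rfl : e₂.ptK' ⟶ e₂.ptA') ≫ l₂ := by
          rw [← Functor.map_comp_assoc, e1, Functor.map_comp, Category.assoc]
      _ = (yon S).map (ovSpec (RingHom.id e₂.K') hθK) ≫
            (yon S).map (ovSpec e₂.ψ (domExt_str (extSq sq e) e₂)) ≫
              (yon S).map (ovSpec e.ψ (domExt_str sq e)) ≫ sq.top := by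
          congr 1
      _ = (yon S).map (ovSpec e'.ψ (domExt_str sq e')) ≫ sq.top := by
          rw [← e2, Functor.map_comp, Functor.map_comp, Category.assoc, Category.assoc]
  · have e1 : ovSpec (RingHom.id e₂.A') hθ ≫ (ovSpec e₂.φ rfl : e₂.ptA' ⟶ (extSq sq e).ptA) ≫
        (ovSpec e.φ rfl : (extSq sq e).ptA ⟶ sq.ptA) = (ovSpec e'.φ rfl : e'.ptA' ⟶ sq.ptA) := by
      rw [ovSpec_comp, ovSpec_comp]
      exact ovSpec_ext rfl _ _
    calc ((yon S).map (ovSpec (RingHom.id e₂.A') hθ) ≫ l₂) ≫ f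
        = (yon S).map (ovSpec (RingHom.id e₂.A') hθ) ≫ (l₂ ≫ f) := Category.assoc _ _ _
      _ = (yon S).map (ovSpec (RingHom.id e₂.A') hθ) ≫
            (yon S).map (ovSpec e₂.φ rfl : e₂.ptA' ⟶ (extSq sq e).ptA) ≫
              (yon S).map (ovSpec e.φ rfl : (extSq sq e).ptA ⟶ sq.ptA) ≫ sq.bot := by
          congr 1
      _ = (yon S).map (ovSpec e'.φ rfl : e'.ptA' ⟶ sq.ptA) ≫ sq.bot := by
          rw [← e1, Functor.map_comp, Functor.map_comp, Category.assoc, Category.assoc]

theorem exists_lift_of_injective {A K L : Type u} [CommRing A] [IsDomain A] [Field K]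
    [Algebra A K] [IsFractionRing A K] [Field L] (a : A →+* L) (ha : Function.Injective a) :
    ∃ ψ : K →+* L, ψ.comp (algebraMap A K) = a :=
  ⟨IsFractionRing.lift ha, by ext x; exact IsFractionRing.lift_algebraMap ha x⟩

set_option maxHeartbeats 800000 in
/-- **Lifting the bottom arrow to an étale chart after a dominating extension.** -/
theorem exists_domExt_lift_chart {F G : Sp S} {f : F ⟶ G} (sq : ValSq f) {R : Type u}
    [CommRing R] (strR : Spec (.of R) ⟶ S) (cY : (yon S).obj (Over.mk strR) ⟶ G)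
    (hcY : RepWith @Etale cY) (u₀ : ↥(Spec (.of R)))
    (hu₀ : Points.ofPt cY u₀ = Points.ofPt sq.bot (IsLocalRing.closedPoint sq.A)) :
    ∃ (e : sq.DomExt) (rA : R →+* e.A')
      (hstr : Spec.map (CommRingCat.ofHom rA) ≫ strR = Spec.map (CommRingCat.ofHom e.φ) ≫ sq.str),
      (yon S).map (ovSpec rA hstr) ≫ cY = (yon S).map (ovSpec e.φ rfl) ≫ sq.bot := by
  classical
  obtain ⟨E, pE, fst₀, sqE⟩ := hcY.rep sq.bot
  obtain ⟨θ, rfl⟩ := (yon S).map_surjective fst₀
  haveI hpEe : Etale pE.left := hcY.property sq.bot _ pE sqE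
  have h1 : Points.map cY (Points.ofScheme _ u₀) =
      Points.map sq.bot (Points.ofScheme _ (IsLocalRing.closedPoint sq.A)) := by
    rw [← Points.ofPt_eq_map_ofScheme, ← Points.ofPt_eq_map_ofScheme, hu₀]
  obtain ⟨z, hz1, hz2⟩ := Groth.Agent.H53.exists_point_of_isPullback sqE _ _ h1
  obtain ⟨ε₀, rfl⟩ := (Points.schemeEquiv E).surjective z
  have hpε₀ : pE.left.base ε₀ = IsLocalRing.closedPoint sq.A := by
    have := congrArg (Points.toScheme sq.ptA) hz2
    rw [Points.toScheme_ofScheme] at this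
    rw [← this]
    change _ = Points.toScheme _ (Points.map _ (Points.ofScheme _ ε₀))
    rw [← Points.ofPt_eq_map_ofScheme, Points.toScheme_ofPt]
  -- generization
  have hgsp : sq.j.left.base (IsLocalRing.closedPoint sq.K) ⤳ pE.left.base ε₀ := by
    rw [hpε₀]
    exact PropDVR.generic_specializes_closedPoint (A := sq.A) (K := sq.K)
  obtain ⟨ε₁, hε₁, hpε₁⟩ := (Flat.generalizingMap (f := pE.left)) hgsp
  -- the valuation ring
  obtain ⟨V, m, hcl, hgen⟩ := Groth.Agent.H51.exists_valuationSubring_of_specializes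
    (N := E.left) (n := ε₁) (n' := ε₀) hε₁ (Ω := E.left.residueField ε₁)
    (𝟙 _ : _ ⟶ CommRingCat.of (E.left.residueField ε₁))
  have hgen' : Spec.map (CommRingCat.ofHom (algebraMap V (E.left.residueField ε₁))) ≫ m =
      E.left.fromSpecResidueField ε₁ := by
    rw [hgen]
    change Spec.map (𝟙 _) ≫ _ = _
    rw [Spec.map_id, Category.id_comp]
  -- the ring maps
  let φr : sq.A →+* V := (Spec.preimage (m ≫ pE.left)).hom
  have hφr : Spec.map (CommRingCat.ofHom φr) = m ≫ pE.left := Spec.map_preimage _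
  let a : sq.A →+* E.left.residueField ε₁ :=
    (Spec.preimage (E.left.fromSpecResidueField ε₁ ≫ pE.left)).hom
  have ha : Spec.map (CommRingCat.ofHom a) = E.left.fromSpecResidueField ε₁ ≫ pE.left :=
    Spec.map_preimage _
  have hainj : Function.Injective a := by
    rw [RingHom.injective_iff_ker_eq_bot]
    have h1 : (Spec.map (CommRingCat.ofHom a)).base
        (IsLocalRing.closedPoint (E.left.residueField ε₁)) =
        sq.j.left.base (IsLocalRing.closedPoint sq.K) := by
      rw [ha]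
      change pE.left.base ((E.left.fromSpecResidueField ε₁).base (IsLocalRing.closedPoint _)) = _
      rw [Scheme.fromSpecResidueField_apply]
      exact hpε₁
    have h2 := congrArg PrimeSpectrum.asIdeal h1
    change Ideal.comap a (IsLocalRing.maximalIdeal (E.left.residueField ε₁)) =
      Ideal.comap (algebraMap sq.A sq.K) (IsLocalRing.maximalIdeal sq.K) at h2
    rw [IsLocalRing.maximalIdeal_eq_bot, IsLocalRing.maximalIdeal_eq_bot] at h2
    change RingHom.ker a = RingHom.ker (algebraMap sq.A sq.K) at h2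
    rw [h2, (RingHom.injective_iff_ker_eq_bot _).1 (IsFractionRing.injective sq.A sq.K)]
  obtain ⟨ψr, hψr⟩ := exists_lift_of_injective (K := sq.K) a hainj
  have hcomm : (algebraMap V (E.left.residueField ε₁)).comp φr =
      ψr.comp (algebraMap sq.A sq.K) := by
    rw [hψr]
    have : CommRingCat.ofHom φr ≫ CommRingCat.ofHom (algebraMap V (E.left.residueField ε₁)) =
        CommRingCat.ofHom a := by
      apply Spec.map_injective
      rw [Spec.map_comp, hφr, ha, ← Category.assoc, hgen']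
    exact congrArg (fun k => k.hom) this
  have hloc : IsLocalHom φr := by
    refine ((IsLocalRing.local_hom_TFAE φr).out 0 4).2 ?_
    have h1 : (Spec.map (CommRingCat.ofHom φr)).base (IsLocalRing.closedPoint V) =
        IsLocalRing.closedPoint sq.A := by
      rw [hφr]
      change pE.left.base (m.base (IsLocalRing.closedPoint V)) = _
      rw [hcl]
      exact hpε₀
    exact congrArg PrimeSpectrum.asIdeal h1
  let e : sq.DomExt :=
    { A' := V
      K' := E.left.residueField ε₁
      φ := φr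
      ψ := ψr
      comm := hcomm
      isLocalHom := hloc }
  let rA : R →+* V := (Spec.preimage (m ≫ θ.left)).hom
  have hrA : Spec.map (CommRingCat.ofHom rA) = m ≫ θ.left := Spec.map_preimage _
  have hmE : m ≫ E.hom = Spec.map (CommRingCat.ofHom φr) ≫ sq.str := by
    rw [hφr, Category.assoc]
    congr 1
    exact (Over.w pE).symm
  have hstr : Spec.map (CommRingCat.ofHom rA) ≫ strR =
      Spec.map (CommRingCat.ofHom φr) ≫ sq.str := by
    rw [hrA, Category.assoc, ← hmE]
    congr 1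
    exact Over.w θ
  refine ⟨e, rA, hstr, ?_⟩
  let mO : e.ptA' ⟶ E := Over.homMk m hmE
  have e1 : ovSpec rA hstr = mO ≫ θ := by
    apply Over.OverMorphism.ext
    exact hrA
  have e2 : (ovSpec e.φ rfl : e.ptA' ⟶ sq.ptA) = mO ≫ pE := by
    apply Over.OverMorphism.ext
    exact hφr
  rw [e1, e2, Functor.map_comp, Functor.map_comp, Category.assoc, Category.assoc, sqE.w]

/-- **An étale affine chart through a field valued point, after a field extension.** -/
theorem exists_field_chart {X' : Sp S} (hX' : IsAlgSpace X') {K : Type u} [Field K]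
    (strK : Spec (.of K) ⟶ S) (x : (yon S).obj (Over.mk strK) ⟶ X') :
    ∃ (B : Type u) (_ : CommRing B) (strB : Spec (.of B) ⟶ S)
      (cV : (yon S).obj (Over.mk strB) ⟶ X') (_ : RepWith @Etale cV)
      (K₂ : Type u) (_ : Field K₂) (ψ : K →+* K₂) (β : B →+* K₂),
      Spec.map (CommRingCat.ofHom β) ≫ strB = Spec.map (CommRingCat.ofHom ψ) ≫ strK ∧
      ∀ (s : Spec (.of K₂) ⟶ S) (hs1 : Spec.map (CommRingCat.ofHom β) ≫ strB = s)
        (hs2 : Spec.map (CommRingCat.ofHom ψ) ≫ strK = s),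
        (yon S).map (ovSpec β hs1) ≫ cV = (yon S).map (ovSpec ψ hs2) ≫ x := by
  classical
  obtain ⟨B, iB, strB, cV, u, hcVe, hu⟩ :=
    PropDVR.exists_spec_chart_of_point hX' (Points.ofPt x (IsLocalRing.closedPoint K))
  obtain ⟨Φ, ψ₀, fst₀, sq₀⟩ := hcVe.rep x
  obtain ⟨θ, rfl⟩ := (yon S).map_surjective fst₀
  have h1 : Points.map cV (Points.ofScheme _ u) =
      Points.map x (Points.ofScheme _ (IsLocalRing.closedPoint K)) := by
    rw [← Points.ofPt_eq_map_ofScheme, ← Points.ofPt_eq_map_ofScheme, hu]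
  obtain ⟨z, -, -⟩ := Groth.Agent.H53.exists_point_of_isPullback sq₀ _ _ h1
  obtain ⟨φ, rfl⟩ := (Points.schemeEquiv Φ).surjective z
  let β : B →+* Φ.left.residueField φ :=
    (Spec.preimage (Φ.left.fromSpecResidueField φ ≫ θ.left)).hom
  have hβ : Spec.map (CommRingCat.ofHom β) = Φ.left.fromSpecResidueField φ ≫ θ.left :=
    Spec.map_preimage _
  let ψ : K →+* Φ.left.residueField φ :=
    (Spec.preimage (Φ.left.fromSpecResidueField φ ≫ ψ₀.left)).hom
  have hψ : Spec.map (CommRingCat.ofHom ψ) = Φ.left.fromSpecResidueField φ ≫ ψ₀.left :=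
    Spec.map_preimage _
  have hιΦ : Φ.left.fromSpecResidueField φ ≫ Φ.hom = Spec.map (CommRingCat.ofHom ψ) ≫ strK := by
    rw [hψ, Category.assoc]
    congr 1
    exact (Over.w ψ₀).symm
  have hs : Spec.map (CommRingCat.ofHom β) ≫ strB = Spec.map (CommRingCat.ofHom ψ) ≫ strK := by
    rw [hβ, Category.assoc, ← hιΦ]
    congr 1
    exact Over.w θ
  refine ⟨B, iB, strB, cV, hcVe, Φ.left.residueField φ, inferInstance, ψ, β, hs, ?_⟩
  intro s hs1 hs2
  subst hs2
  let ιΦ : Over.mk (Spec.map (CommRingCat.ofHom ψ) ≫ strK) ⟶ Φ :=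
    Over.homMk (Φ.left.fromSpecResidueField φ) hιΦ
  have e1 : ovSpec β hs1 = ιΦ ≫ θ := by
    apply Over.OverMorphism.ext
    exact hβ
  have e2 : (ovSpec ψ rfl : Over.mk (Spec.map (CommRingCat.ofHom ψ) ≫ strK) ⟶ Over.mk strK) =
      ιΦ ≫ ψ₀ := by
    apply Over.OverMorphism.ext
    exact hψ
  rw [e1, e2, Functor.map_comp, Functor.map_comp, Category.assoc, Category.assoc, sq₀.w]

end RV

end Groth.Agent.H50
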