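import Groth.Agent.H50.RV5

set_option autoImplicit false
set_option backward.isDefEq.respectTransparency false
set_option linter.style.haveILetI false
set_option linter.unusedSectionVars false
universe u
open CategoryTheory CategoryTheory.Limits AlgebraicGeometry Opposite Topology

namespace Groth.Agent.H50
open AlgSp Groth.Agent.H49

variable {S : Scheme.{u}}

namespace RV

set_option maxHeartbeats 1600000 in
/-- A valuative square whose bottom arrow factors through an affine étale chart of the target has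
a dotted arrow after an extension, under the hypotheses of the refined valuative criterion. -/
theorem hasLiftExt_of_bot_chart {U X Y : Sp S} (hX : IsAlgSpace X) (hY : IsAlgSpace Y)
    (f : X ⟶ Y) (h : U ⟶ X) (hh : IsQuasiCompactMor h) (hd : DenseRange (Points.map h))
    (hv : ∀ sq : ValSq f, (∃ t : (yon S).obj sq.ptK ⟶ U, t ≫ h = sq.top) →
      sq.HasUniq ∧ sq.HasLiftExt)
    {R : Type u} [CommRing R] (strR : Spec (.of R) ⟶ S) (cY : (yon S).obj (Over.mk strR) ⟶ Y)
    (hcYe : RepWith @Etale cY) (sq : ValSq f) (rA : R →+* sq.A)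
    (hstr : Spec.map (CommRingCat.ofHom rA) ≫ strR = sq.str)
    (hbot : sq.bot = (yon S).map (ovSpec rA hstr) ≫ cY) : sq.HasLiftExt := by
  classical
  have sqP : IsPullback (pullback.fst f cY) (pullback.snd f cY) f cY := .of_hasPullback f cY
  have hX₀ : IsAlgSpace (pullback f cY) :=
    isAlgSpace_of_isPullback sqP hY.diag hX (IsAlgSpace.yon_obj _)
  have hfst : RepWith @Etale (pullback.fst f cY) :=
    MorphismProperty.of_isPullback (P := RepWith @Etale) sqP.flip hcYe
  -- the point of the base change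
  have hx₀c : sq.top ≫ f = (yon S).map (sq.j ≫ ovSpec rA hstr) ≫ cY := by
    rw [sq.comm, hbot, Functor.map_comp, Category.assoc]
  obtain ⟨x₀, hx₀1, hx₀2⟩ : ∃ x₀ : (yon S).obj sq.ptK ⟶ pullback f cY,
      x₀ ≫ pullback.fst f cY = sq.top ∧
      x₀ ≫ pullback.snd f cY = (yon S).map (sq.j ≫ ovSpec rA hstr) :=
    ⟨pullback.lift _ _ hx₀c, pullback.lift_fst _ _ _, pullback.lift_snd _ _ _⟩
  obtain ⟨B, iB, strB, cV₀, hcV₀e, K₂, iK₂, ψ₂, β, hs, hβx⟩ :=
    exists_field_chart hX₀ sq.ptK.hom x₀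
  obtain ⟨gB, hgB⟩ := (yon S).map_surjective (cV₀ ≫ pullback.snd f cY)
  obtain ⟨rB, hrB⟩ : ∃ rB : R →+* B, Spec.map (CommRingCat.ofHom rB) = gB.left :=
    ⟨(Spec.preimage gB.left).hom, Spec.map_preimage _⟩
  have hstrB : Spec.map (CommRingCat.ofHom rB) ≫ strR = strB := by
    rw [hrB]
    exact Over.w gB
  subst hstrB
  have hgB' : gB = ovSpec rB rfl := by
    apply Over.OverMorphism.ext
    exact hrB.symm
  -- the valuation ring of `K₂`
  obtain ⟨A₂, hA₂, hloc₂⟩ :=
    IsLocalRing.exists_factor_valuationRing (ψ₂.comp (algebraMap sq.A sq.K))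
  let φ₂ : sq.A →+* ↥A₂ := (ψ₂.comp (algebraMap sq.A sq.K)).codRestrict A₂.toSubring hA₂
  let e₂ : sq.DomExt :=
    { A' := ↥A₂
      K' := K₂
      φ := φ₂
      ψ := ψ₂
      comm := rfl
      isLocalHom := hloc₂ }
  refine hasLiftExt_of_extSq sq e₂ ?_
  -- ring identity
  have hβx' := hβx (extSq sq e₂).ptK.hom (by
    rw [hs]
    exact domExt_str sq e₂) (domExt_str sq e₂)
  have I : β.comp rB = (algebraMap ↥A₂ K₂).comp (φ₂.comp rA) := by
    have h1 := congrArg (· ≫ pullback.snd f cY) hβx'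
    simp only [Category.assoc] at h1
    rw [hx₀2, ← hgB, hgB', ← Functor.map_comp, ← Functor.map_comp] at h1
    have h2 := (yon S).map_injective h1
    have h3 := congrArg (fun k => k.left) h2
    change Spec.map (CommRingCat.ofHom β) ≫ Spec.map (CommRingCat.ofHom rB) =
      Spec.map (CommRingCat.ofHom ψ₂) ≫ Spec.map (CommRingCat.ofHom (algebraMap sq.A sq.K)) ≫
        Spec.map (CommRingCat.ofHom rA) at h3
    rw [← Spec.map_comp, ← Spec.map_comp, ← Spec.map_comp, ← CommRingCat.ofHom_comp,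
      ← CommRingCat.ofHom_comp, ← CommRingCat.ofHom_comp] at h3
    have h4 := congrArg (fun k => k.hom) (Spec.map_injective h3)
    exact h4
  have hstr₂ : Spec.map (CommRingCat.ofHom (φ₂.comp rA)) ≫ strR = (extSq sq e₂).str := by
    change _ = Spec.map (CommRingCat.ofHom φ₂) ≫ sq.str
    rw [← hstr, CommRingCat.ofHom_comp, Spec.map_comp, Category.assoc]
  have hβs₂ : Spec.map (CommRingCat.ofHom β) ≫ Spec.map (CommRingCat.ofHom rB) ≫ strR =
      Spec.map (CommRingCat.ofHom (algebraMap ↥A₂ K₂)) ≫ (extSq sq e₂).str := by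
    rw [← hstr₂, str_compat strR rB _ β rfl, I, str_compat strR _ _ (algebraMap ↥A₂ K₂) rfl]
  refine hasLiftExt_core f h hh hd hv strR cY rB (cV₀ ≫ pullback.fst f cY)
    ((RepWith @Etale).comp_mem _ _ hcV₀e hfst) ?_ (extSq sq e₂) (φ₂.comp rA) hstr₂ ?_ β I hβs₂ ?_
  · rw [Category.assoc, pullback.condition, ← Category.assoc, ← hgB, hgB']
  · change (yon S).map (ovSpec φ₂ rfl) ≫ sq.bot = _
    rw [hbot, ← Functor.map_comp_assoc, ovSpec_comp]
  · change (yon S).map (ovSpec ψ₂ (domExt_str sq e₂)) ≫ sq.top = _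
    calc (yon S).map (ovSpec ψ₂ (domExt_str sq e₂)) ≫ sq.top
        = ((yon S).map (ovSpec ψ₂ (domExt_str sq e₂)) ≫ x₀) ≫ pullback.fst f cY := by
          rw [Category.assoc, hx₀1]
      _ = ((yon S).map (ovSpec β hβs₂) ≫ cV₀) ≫ pullback.fst f cY :=
          congrArg (· ≫ pullback.fst f cY) hβx'.symm
      _ = _ := Category.assoc _ _ _

/-- **Refined valuative criterion, existence part**: if `h : U ⟶ X` is quasi-compact with dense
image and valuative squares for `f : X ⟶ Y` whose top arrow factors through `U` have at most one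
dotted arrow and a dotted arrow after an extension, then `f` satisfies the existence part of the
valuative criterion. -/
theorem existVC_of_refined {U X Y : Sp S} (hX : IsAlgSpace X) (hY : IsAlgSpace Y) (f : X ⟶ Y)
    (h : U ⟶ X) (hh : IsQuasiCompactMor h) (hd : DenseRange (Points.map h))
    (hv : ∀ sq : ValSq f, (∃ t : (yon S).obj sq.ptK ⟶ U, t ≫ h = sq.top) →
      sq.HasUniq ∧ sq.HasLiftExt) : ExistVC f := by
  intro sq
  obtain ⟨R, iR, strR, cY, u₀, hcYe, hu₀⟩ :=
    PropDVR.exists_spec_chart_of_point hY (Points.ofPt sq.bot (IsLocalRing.closedPoint sq.A))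
  obtain ⟨e₁, rA₁, hstr₁, hlift₁⟩ := exists_domExt_lift_chart sq strR cY hcYe u₀ hu₀
  refine hasLiftExt_of_extSq sq e₁ ?_
  exact hasLiftExt_of_bot_chart hX hY f h hh hd hv strR cY hcYe (extSq sq e₁) rA₁ hstr₁
    hlift₁.symm

/-- **Refined valuative criterion**: universal closedness. -/
theorem isUnivClosedMor_of_refined {U X Y : Sp S} (hX : IsAlgSpace X) (hY : IsAlgSpace Y)
    (f : X ⟶ Y) (h : U ⟶ X) (hf : IsQuasiCompactMor f) (hh : IsQuasiCompactMor h)
    (hd : DenseRange (Points.map h))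
    (hv : ∀ sq : ValSq f, (∃ t : (yon S).obj sq.ptK ⟶ U, t ≫ h = sq.top) →
      sq.HasUniq ∧ sq.HasLiftExt) : IsUnivClosedMor f :=
  Groth.Agent.H51.s10288 f hf (existVC_of_refined hX hY f h hh hd hv)

end RV

end Groth.Agent.H50
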