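import Groth.Agent.H50.RV6
import Groth.Agent.H50.Mor
import Groth.Agent.H51.SpProper3

set_option autoImplicit false
set_option backward.isDefEq.respectTransparency false
set_option linter.style.haveILetI false
set_option linter.unusedSectionVars false
universe u
open CategoryTheory CategoryTheory.Limits AlgebraicGeometry Opposite Topology

namespace Groth.Agent.H50
open AlgSp Groth.Agent.H49

variable {S : Scheme.{u}}

namespace RV

/-- A dotted arrow is in particular a dotted arrow after a (trivial) extension. -/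
theorem hasLiftExt_of_hasLift {F G : Sp S} {f : F ⟶ G} (sq : ValSq f) (hl : sq.HasLift) :
    sq.HasLiftExt := by
  obtain ⟨l, hl1, hl2⟩ := hl
  let e : sq.DomExt :=
    { A' := sq.A
      K' := sq.K
      φ := RingHom.id _
      ψ := RingHom.id _
      comm := rfl
      isLocalHom := ⟨fun _ h => h⟩ }
  refine ⟨e, (yon S).map (ovSpec (RingHom.id sq.A) rfl : e.ptA' ⟶ sq.ptA) ≫ l, ?_, ?_⟩
  · have e1 : (ovSpec (algebraMap sq.A sq.K) rfl : e.ptK' ⟶ e.ptA') ≫
        (ovSpec (RingHom.id sq.A) rfl : e.ptA' ⟶ sq.ptA) =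
        ovSpec (RingHom.id sq.K) (domExt_str sq e) ≫ ovSpec (algebraMap sq.A sq.K) rfl := by
      rw [ovSpec_comp, ovSpec_comp]
      exact ovSpec_ext rfl _ _
    calc (yon S).map (ovSpec (algebraMap sq.A sq.K) rfl : e.ptK' ⟶ e.ptA') ≫
          (yon S).map (ovSpec (RingHom.id sq.A) rfl : e.ptA' ⟶ sq.ptA) ≫ l
        = (yon S).map (ovSpec (RingHom.id sq.K) (domExt_str sq e)) ≫
            (yon S).map (ovSpec (algebraMap sq.A sq.K) rfl : sq.ptK ⟶ sq.ptA) ≫ l := by
          rw [← Functor.map_comp_assoc, e1, Functor.map_comp, Category.assoc]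
      _ = (yon S).map (ovSpec (RingHom.id sq.K) (domExt_str sq e)) ≫ sq.top := by
          congr 1
  · rw [Category.assoc, hl2]

/-- **Refined valuative criterion**: separatedness. -/
theorem isSeparatedMor_of_refined {U : Sp S} {X Y : AlgSp.Space S} (f : X ⟶ Y) (h : U ⟶ X.obj)
    (hh : IsQuasiCompactMor h) (hd : DenseRange (Points.map h))
    (hv : ∀ sq : ValSq f.hom, (∃ t : (yon S).obj sq.ptK ⟶ U, t ≫ h = sq.top) → sq.HasUniq)
    (hqs : IsQuasiSeparatedMor f.hom) : IsSeparatedMor f.hom := by
  have hPP : IsAlgSpace (pullback f.hom f.hom) :=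
    isAlgSpace_of_isPullback (IsPullback.of_hasPullback _ _) Y.property.diag X.property X.property
  refine ((Groth.Agent.H51.s10280 f).1).2 ?_
  refine isUnivClosedMor_of_refined X.property hPP (pullback.diagonal f.hom) h
    (Groth.Agent.H50.isQuasiCompactMor_of_repWith le_rfl _ hqs) hh hd ?_
  intro sqΔ ht
  have hfst : pullback.diagonal f.hom ≫ pullback.fst f.hom f.hom = 𝟙 _ := pullback.diagonal_fst _
  have hsnd : pullback.diagonal f.hom ≫ pullback.snd f.hom f.hom = 𝟙 _ := pullback.diagonal_snd _
  constructor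
  · -- uniqueness: the diagonal is a monomorphism
    intro l l' _ h2 _ h2'
    have := congrArg (· ≫ pullback.fst f.hom f.hom) (h2.trans h2'.symm)
    simpa only [Category.assoc, hfst, Category.comp_id] using this
  · -- existence
    apply hasLiftExt_of_hasLift
    let a : (yon S).obj sqΔ.ptA ⟶ X.obj := sqΔ.bot ≫ pullback.fst f.hom f.hom
    let b : (yon S).obj sqΔ.ptA ⟶ X.obj := sqΔ.bot ≫ pullback.snd f.hom f.hom
    have ha : (yon S).map sqΔ.j ≫ a = sqΔ.top := by
      have := congrArg (· ≫ pullback.fst f.hom f.hom) sqΔ.comm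
      simp only [Category.assoc, hfst, Category.comp_id] at this
      exact this.symm
    have hb : (yon S).map sqΔ.j ≫ b = sqΔ.top := by
      have := congrArg (· ≫ pullback.snd f.hom f.hom) sqΔ.comm
      simp only [Category.assoc, hsnd, Category.comp_id] at this
      exact this.symm
    let sqf : ValSq f.hom :=
      { A := sqΔ.A, K := sqΔ.K, str := sqΔ.str, top := sqΔ.top, bot := a ≫ f.hom
        comm := by rw [← ha, Category.assoc] }
    have hab : a = b := by
      refine hv sqf ht a b ha rfl hb ?_
      change (sqΔ.bot ≫ pullback.snd f.hom f.hom) ≫ f.hom =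
        (sqΔ.bot ≫ pullback.fst f.hom f.hom) ≫ f.hom
      rw [Category.assoc, Category.assoc, pullback.condition]
    refine ⟨a, ha, ?_⟩
    apply pullback.hom_ext
    · rw [Category.assoc, hfst, Category.comp_id]
    · rw [Category.assoc, hsnd, Category.comp_id]
      exact hab

end RV

end Groth.Agent.H50
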