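import Groth.Agent.H50.SubspaceDescent
import Groth.Agent.H22.RedImm
import Groth.Agent.H52.ReducedPoint
import Groth.Agent.H53.Charts

set_option autoImplicit false
set_option backward.isDefEq.respectTransparency false
set_option linter.style.haveILetI false
universe u
open CategoryTheory CategoryTheory.Limits AlgebraicGeometry Opposite Topology

namespace Groth.Agent.H50

open AlgSp

variable {S : Scheme.{u}}

/-- A reduced closed subscheme of an etale chart whose underlying set is saturated for the
relation induced by the chart is stable under this relation. -/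
theorem stable_of_reduced_of_saturated {Y : Sp S} {V ZV : Over S} (p : (yon S).obj V ⟶ Y)
    (hp : RepWith @Etale p) (ι : ZV ⟶ V) [IsClosedImmersion ι.left]
    [AlgebraicGeometry.IsReduced ZV.left]
    (hsat : ∀ v w : ↥V.left, Points.ofPt p v = Points.ofPt p w →
      w ∈ Set.range ι.left → v ∈ Set.range ι.left) :
    ∀ (T : Over S) (v w : T ⟶ V), (yon S).map v ≫ p = (yon S).map w ≫ p →
      (∃ c : T ⟶ ZV, c ≫ ι = w) → ∃ c : T ⟶ ZV, c ≫ ι = v := by
  obtain ⟨W, a, b, sq⟩ := Groth.Agent.H53.exists_pullback_yon p p hp.rep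
  haveI ha : Etale a.left := Groth.Agent.H53.prop_of_isPullback_yon sq hp
  haveI hb : Etale b.left := Groth.Agent.H53.prop_of_isPullback_yon sq.flip hp
  have hab : ∀ r : ↥W.left, Points.ofPt p (a.left r) = Points.ofPt p (b.left r) := by
    intro r
    rw [← Groth.Agent.H53.ofPt_yon_map_comp, ← Groth.Agent.H53.ofPt_yon_map_comp, sq.w]
  -- the two inverse images of the closed subscheme
  haveI : AlgebraicGeometry.IsReduced (pullback a.left ι.left) :=
    Groth.Agent.H52.isReduced_of_etale_scheme (pullback.snd a.left ι.left)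
  haveI : AlgebraicGeometry.IsReduced (pullback b.left ι.left) :=
    Groth.Agent.H52.isReduced_of_etale_scheme (pullback.snd b.left ι.left)
  have hrange : Set.range (pullback.fst a.left ι.left) = Set.range (pullback.fst b.left ι.left) := by
    rw [Scheme.Pullback.range_fst, Scheme.Pullback.range_fst]
    ext r
    exact ⟨fun h => hsat _ _ (hab r).symm h, fun h => hsat _ _ (hab r) h⟩
  have hker := Groth.Agent.H22.ker_eq_ker_of_range_eq _ _ hrange
  rintro T v w hvw ⟨c, rfl⟩
  obtain ⟨l, hl1, hl2⟩ := sq.exists_lift ((yon S).map v) ((yon S).map (c ≫ ι)) hvw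
  obtain ⟨r, rfl⟩ := (yon S).map_surjective l
  have h1 : r ≫ a = v := (yon S).map_injective (by rw [Functor.map_comp, hl1])
  have h2 : r ≫ b = c ≫ ι := (yon S).map_injective (by rw [Functor.map_comp, hl2])
  have h2' : r.left ≫ b.left = c.left ≫ ι.left := congrArg (fun m => m.left) h2
  have hle : (pullback.fst a.left ι.left).ker ≤ r.left.ker := by
    rw [hker]
    have : r.left = pullback.lift r.left c.left h2' ≫ pullback.fst b.left ι.left :=
      (pullback.lift_fst _ _ _).symm
    rw [this]
    exact Scheme.Hom.le_ker_comp _ _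
  let m := IsClosedImmersion.lift (pullback.fst a.left ι.left) r.left hle
  have hm : m ≫ pullback.fst a.left ι.left = r.left := IsClosedImmersion.lift_fac _ _ _
  have hv : (m ≫ pullback.snd a.left ι.left) ≫ ι.left = v.left := by
    rw [Category.assoc, ← pullback.condition, ← Category.assoc, hm, ← h1, Over.comp_left]
  refine ⟨Over.homMk (m ≫ pullback.snd a.left ι.left) ?_, ?_⟩
  · rw [← Over.w ι, ← Category.assoc, hv, Over.w v]
  · ext : 1
    exact hv

/-- Existence of the reduced induced closed subspace structure on a closed set of points. -/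
theorem exists_isRedInduced {X : Sp S} (hX : IsAlgSpace X) (T : Set (Points X)) (hT : IsClosed T) :
    ∃ (Z : Sp S) (i : Z ⟶ X), IsAlgSpace Z ∧ IsRedInduced T i := by
  obtain ⟨V, p, hp, hps⟩ := hX.atlas
  have hC : IsClosed (Points.ofPt p ⁻¹' T) := hT.preimage (Points.continuous_ofPt p)
  let C : TopologicalSpace.Closeds ↥V.left := ⟨Points.ofPt p ⁻¹' T, hC⟩
  let Iv := Scheme.IdealSheafData.vanishingIdeal C
  let ZV : Over S := Over.mk (Iv.subschemeι ≫ V.hom)
  let ι : ZV ⟶ V := Over.homMk Iv.subschemeι rfl
  haveI : IsClosedImmersion ι.left := (inferInstance : IsClosedImmersion Iv.subschemeι)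
  haveI : IsImmersion ι.left := inferInstance
  haveI hred : AlgebraicGeometry.IsReduced ZV.left :=
    Groth.Agent.H22.isReduced_subscheme_vanishingIdeal C
  have hrange : Set.range ι.left = Points.ofPt p ⁻¹' T := by
    change Set.range Iv.subschemeι = _
    rw [Scheme.IdealSheafData.range_subschemeι, Scheme.IdealSheafData.coe_support_vanishingIdeal]
    rfl
  obtain ⟨Z, i, q, hZ, -, -, sq, hc, -⟩ :=
    exists_subspace_of_stable_immersion hX p hp hps ι
      (stable_of_reduced_of_saturated p hp ι (by
        intro v w hvw hw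
        rw [hrange] at hw ⊢
        change Points.ofPt p v ∈ T
        rw [hvw]
        exact hw))
  have hq : RepWith @Etale q := MorphismProperty.of_isPullback sq.flip hp
  have hqs : RepWith @Surjective q := MorphismProperty.of_isPullback sq.flip hps
  refine ⟨Z, i, hZ, hc inferInstance, ?_, ⟨ZV, q, hq, hqs, hred⟩⟩
  ext x
  constructor
  · rintro ⟨z, rfl⟩
    obtain ⟨zv, rfl⟩ := Groth.Agent.H51.surjective_ofPt_of_surjective q hqs z
    rw [Points.map_ofPt, sq.w, Groth.Agent.H53.ofPt_yon_map_comp]
    have : ι.left zv ∈ Points.ofPt p ⁻¹' T := by rw [← hrange]; exact ⟨zv, rfl⟩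
    exact this
  · intro hx
    obtain ⟨v, rfl⟩ := Groth.Agent.H51.surjective_ofPt_of_surjective p hps x
    have hv : v ∈ Set.range ι.left := by rw [hrange]; exact hx
    obtain ⟨zv, rfl⟩ := hv
    refine ⟨Points.ofPt q zv, ?_⟩
    rw [Points.map_ofPt, sq.w, Groth.Agent.H53.ofPt_yon_map_comp]

end Groth.Agent.H50
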