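import Groth.Prelude.Def_AlgSpRep
import Mathlib.CategoryTheory.Limits.Types.Filtered
import Mathlib.CategoryTheory.Limits.Types.Pullbacks
import Mathlib.CategoryTheory.Filtered.Final

set_option autoImplicit false
set_option backward.isDefEq.respectTransparency false
universe u
open CategoryTheory CategoryTheory.Limits AlgebraicGeometry Opposite

namespace Groth.Agent.H50

open AlgSp

variable {S : Scheme.{u}}

section

variable {I : Type u} [SmallCategory I] [IsCofiltered I] (D : I ⥤ Over S) (c : Cone D)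

/-- elementwise: `F(c.pt)` is the colimit of the `F(D i)` -/
structure ColimElt (F : PSp S) : Prop where
  surj : ∀ x : F.obj (op c.pt), ∃ (i : I) (xi : F.obj (op (D.obj i))),
    F.map (c.π.app i).op xi = x
  inj : ∀ (i : I) (x x' : F.obj (op (D.obj i))),
    F.map (c.π.app i).op x = F.map (c.π.app i).op x' →
    ∃ (j : I) (f : j ⟶ i), F.map (D.map f).op x = F.map (D.map f).op x'

theorem nonempty_isColimit_iff (F : PSp S) :
    Nonempty (IsColimit (F.mapCocone c.op)) ↔ ColimElt D c F := by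
  constructor
  · rintro ⟨h⟩
    constructor
    · intro x
      obtain ⟨⟨i⟩, xi, hxi⟩ := Types.jointly_surjective_of_isColimit h x
      exact ⟨i, xi, hxi⟩
    · intro i x x' hxx'
      obtain ⟨⟨j⟩, f, hf⟩ := (Types.FilteredColimit.isColimit_eq_iff' h (i := op i) x x').1 hxx'
      exact ⟨j, f.unop, hf⟩
  · intro h
    refine ⟨Types.FilteredColimit.isColimitOf' _ _ ?_ ?_⟩
    · intro x
      obtain ⟨i, xi, hxi⟩ := h.surj x
      exact ⟨op i, xi, hxi.symm⟩
    · rintro ⟨i⟩ x y hxy
      obtain ⟨j, f, hf⟩ := h.inj i x y hxy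
      exact ⟨op j, f.op, hf⟩

/-- elementwise: the square of the statement is cartesian -/
structure RelColimElt {F G : PSp S} (a : F ⟶ G) : Prop where
  surj : ∀ (i : I) (y : G.obj (op (D.obj i))) (x : F.obj (op c.pt)),
    a.app _ x = G.map (c.π.app i).op y →
    ∃ (j : I) (f : j ⟶ i) (xj : F.obj (op (D.obj j))),
      a.app _ xj = G.map (D.map f).op y ∧ F.map (c.π.app j).op xj = x
  inj : ∀ (i : I) (x x' : F.obj (op (D.obj i))), a.app _ x = a.app _ x' →
    F.map (c.π.app i).op x = F.map (c.π.app i).op x' →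
    ∃ (j : I) (f : j ⟶ i), F.map (D.map f).op x = F.map (D.map f).op x'

theorem ι_colimMap_whisker {F G : PSp S} (a : F ⟶ G) (i : I) (x : F.obj (op (D.obj i))) :
    colimMap (Functor.whiskerLeft D.op a) (colimit.ι (D.op ⋙ F) (op i) x) =
      colimit.ι (D.op ⋙ G) (op i) (a.app _ x) := by
  simp

theorem ι_desc_mapCocone (F : PSp S) (i : I) (x : F.obj (op (D.obj i))) :
    colimit.desc (D.op ⋙ F) (F.mapCocone c.op) (colimit.ι (D.op ⋙ F) (op i) x) =
      F.map (c.π.app i).op x := by
  rw [colimit.ι_desc_apply]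
  rfl

theorem ι_map_eq (F : PSp S) {i j : I} (f : j ⟶ i) (x : F.obj (op (D.obj i))) :
    colimit.ι (D.op ⋙ F) (op j) (F.map (D.map f).op x) = colimit.ι (D.op ⋙ F) (op i) x :=
  ConcreteCategory.congr_hom (colimit.w (D.op ⋙ F) f.op) x

theorem isPullback_iff_relColimElt {F G : PSp S} (a : F ⟶ G) :
    IsPullback (colimMap (Functor.whiskerLeft D.op a))
      (colimit.desc (D.op ⋙ F) (F.mapCocone c.op))
      (colimit.desc (D.op ⋙ G) (G.mapCocone c.op)) (a.app (op c.pt)) ↔ RelColimElt D c a := by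
  rw [Types.isPullback_iff]
  constructor
  · rintro ⟨-, hinj, hsurj⟩
    constructor
    · intro i y x hxy
      obtain ⟨φ, hφ1, hφ2⟩ := hsurj (colimit.ι (D.op ⋙ G) (op i) y) x (by
        rw [ι_desc_mapCocone]; exact hxy.symm)
      obtain ⟨⟨j⟩, xj, rfl⟩ := Types.jointly_surjective_of_isColimit (colimit.isColimit _) φ
      change colimMap (Functor.whiskerLeft D.op a) (colimit.ι (D.op ⋙ F) (op j) xj) = _ at hφ1
      change colimit.desc (D.op ⋙ F) (F.mapCocone c.op) (colimit.ι (D.op ⋙ F) (op j) xj) = _ at hφ2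
      rw [ι_colimMap_whisker] at hφ1
      rw [ι_desc_mapCocone] at hφ2
      obtain ⟨⟨k⟩, f, g, hfg⟩ := (Types.FilteredColimit.colimit_eq_iff _).1 hφ1
      refine ⟨k, g.unop, F.map (D.map f.unop).op xj, ?_, ?_⟩
      · rw [NatTrans.naturality_apply]
        exact hfg
      · rw [← Functor.map_comp_apply, ← op_comp, Cone.w]
        exact hφ2
    · intro i x x' hxx' hxx''
      have := hinj (colimit.ι (D.op ⋙ F) (op i) x) (colimit.ι (D.op ⋙ F) (op i) x') ⟨by
        rw [ι_colimMap_whisker, ι_colimMap_whisker]; exact congrArg _ hxx', by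
        rw [ι_desc_mapCocone, ι_desc_mapCocone]; exact hxx''⟩
      obtain ⟨⟨j⟩, f, hf⟩ :=
        (Types.FilteredColimit.isColimit_eq_iff' (colimit.isColimit (D.op ⋙ F)) (i := op i) x x').1
          this
      exact ⟨j, f.unop, hf⟩
  · intro h
    refine ⟨?_, ?_, ?_⟩
    · apply colimit.hom_ext
      rintro ⟨i⟩
      ext x
      change colimit.desc (D.op ⋙ G) (G.mapCocone c.op)
        (colimMap (Functor.whiskerLeft D.op a) (colimit.ι (D.op ⋙ F) (op i) x)) =
        a.app _ (colimit.desc (D.op ⋙ F) (F.mapCocone c.op) (colimit.ι (D.op ⋙ F) (op i) x))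
      rw [ι_colimMap_whisker, ι_desc_mapCocone, ι_desc_mapCocone]
      exact (NatTrans.naturality_apply a (c.π.app i).op x).symm
    · rintro φ φ' ⟨h1, h2⟩
      obtain ⟨⟨i⟩, x, x', rfl, rfl⟩ :=
        Types.FilteredColimit.jointly_surjective_of_isColimit₂ (colimit.isColimit _) φ φ'
      change colimMap (Functor.whiskerLeft D.op a) (colimit.ι (D.op ⋙ F) (op i) x) =
        colimMap (Functor.whiskerLeft D.op a) (colimit.ι (D.op ⋙ F) (op i) x') at h1
      change colimit.desc (D.op ⋙ F) (F.mapCocone c.op) (colimit.ι (D.op ⋙ F) (op i) x) =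
        colimit.desc (D.op ⋙ F) (F.mapCocone c.op) (colimit.ι (D.op ⋙ F) (op i) x') at h2
      rw [ι_colimMap_whisker, ι_colimMap_whisker] at h1
      rw [ι_desc_mapCocone, ι_desc_mapCocone] at h2
      obtain ⟨⟨j⟩, f, hf⟩ :=
        (Types.FilteredColimit.isColimit_eq_iff' (colimit.isColimit (D.op ⋙ G)) (i := op i) _ _).1 h1
      have hf' : a.app _ (F.map (D.map f.unop).op x) = a.app _ (F.map (D.map f.unop).op x') := by
        rw [NatTrans.naturality_apply, NatTrans.naturality_apply]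
        exact hf
      obtain ⟨k, g, hg⟩ := h.inj j _ _ hf' (by
        rw [← Functor.map_comp_apply, ← Functor.map_comp_apply, ← op_comp, Cone.w]
        exact h2)
      change colimit.ι (D.op ⋙ F) (op i) x = colimit.ι (D.op ⋙ F) (op i) x'
      rw [← ι_map_eq D F (g ≫ f.unop) x, ← ι_map_eq D F (g ≫ f.unop) x']
      rw [Functor.map_comp, op_comp, Functor.map_comp_apply, Functor.map_comp_apply, hg]
    · intro γ x hγx
      obtain ⟨⟨i⟩, y, rfl⟩ := Types.jointly_surjective_of_isColimit (colimit.isColimit _) γ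
      change colimit.desc (D.op ⋙ G) (G.mapCocone c.op) (colimit.ι (D.op ⋙ G) (op i) y) = _ at hγx
      rw [ι_desc_mapCocone] at hγx
      obtain ⟨j, f, xj, h1, h2⟩ := h.surj i y x hγx.symm
      refine ⟨colimit.ι (D.op ⋙ F) (op j) xj, ?_, ?_⟩
      · rw [ι_colimMap_whisker]
        exact (congrArg _ h1).trans (ι_map_eq D G f y)
      · rw [ι_desc_mapCocone, h2]

end

theorem map_map_eq (G : PSp S) {A B C : Over S} (u : A ⟶ B) (v : B ⟶ C) (w : A ⟶ C)
    (huv : u ≫ v = w) (y : G.obj (op C)) : G.map u.op (G.map v.op y) = G.map w.op y := by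
  subst huv
  simp

section Backward

/-- If all the squares are cartesian (elementwise form), the map is relatively limit preserving. -/
theorem isRelLimitPreserving_of_relColimElt {F G : PSp S} (a : F ⟶ G)
    (h : ∀ ⦃I : Type u⦄ [SmallCategory I] [IsCofiltered I] (D : I ⥤ Over S) (c : Cone D),
      IsLimit ((Over.forget S).mapCone c) → (∀ i, IsAffine (D.obj i).left) → IsAffine c.pt.left →
        RelColimElt D c a) :
    IsRelLimitPreserving a := by
  intro T y I _ _ D' c' hc' hD' hT'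
  rw [nonempty_isColimit_iff]
  have key := h (D' ⋙ Over.map T.hom) ((Over.map T.hom).mapCone c') hc' hD' hT'
  obtain ⟨i₀⟩ := IsCofiltered.nonempty (C := I)
  constructor
  · rintro ⟨x, hx⟩
    obtain ⟨j, f, xj, h1, h2⟩ := key.surj i₀ (G.map (overHom T (D'.obj i₀)).op y) x
      (hx.trans (map_map_eq G _ _ _ (map_comp_overHom T (c'.π.app i₀)) y).symm)
    refine ⟨j, ⟨xj, ?_⟩, ?_⟩
    · exact h1.trans (map_map_eq G _ _ _ (map_comp_overHom T (D'.map f)) y)
    · apply Subtype.ext
      exact h2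
  · rintro i ⟨x, hx⟩ ⟨x', hx'⟩ hxx'
    obtain ⟨j, f, hf⟩ := key.inj i x x' (hx.trans hx'.symm) (congrArg Subtype.val hxx')
    refine ⟨j, f, ?_⟩
    apply Subtype.ext
    exact hf

end Backward

section Forward

variable {I : Type u} [SmallCategory I] [IsCofiltered I] (D : I ⥤ Over S) (c : Cone D) (i₀ : I)

/-- the diagram over `i₀`, viewed over the scheme `(D.obj i₀).left` -/
@[simps]
def overDiag : Over i₀ ⥤ Over (D.obj i₀).left where
  obj f := Over.mk (D.map f.hom).left
  map {f g} φ := Over.homMk (D.map φ.left).left (by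
    dsimp
    rw [← Over.comp_left, ← D.map_comp, Over.w])
  map_id f := by
    apply Over.OverMorphism.ext
    simp
  map_comp φ ψ := by
    apply Over.OverMorphism.ext
    simp

/-- the cone over `overDiag` -/
@[simps]
def overCone : Cone (overDiag D i₀) where
  pt := Over.mk (c.π.app i₀).left
  π :=
    { app := fun f => Over.homMk (c.π.app f.left).left (by
        change (c.π.app f.left).left ≫ (D.map f.hom).left = (c.π.app i₀).left
        rw [← Over.comp_left, Cone.w])
      naturality := fun f g φ => by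
        apply Over.OverMorphism.ext
        change 𝟙 _ ≫ (c.π.app g.left).left = (c.π.app f.left).left ≫ (D.map φ.left).left
        rw [Category.id_comp, ← Over.comp_left, Cone.w] }

noncomputable def overConeIsLimit (hc : IsLimit ((Over.forget S).mapCone c)) :
    IsLimit ((Over.forget (D.obj i₀).left).mapCone (overCone D c i₀)) :=
  (Functor.Initial.isLimitWhiskerEquiv (Over.forget i₀) ((Over.forget S).mapCone c)).symm hc

/-- comparison `D.obj f.left ⟶ (Over.map _).obj (overDiag.obj f)` (identity on underlying schemes) -/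
def θ (f : Over i₀) : D.obj f.left ⟶ (Over.map (D.obj i₀).hom).obj ((overDiag D i₀).obj f) :=
  Over.homMk (𝟙 _) (by
    change 𝟙 _ ≫ (D.map f.hom).left ≫ (D.obj i₀).hom = (D.obj f.left).hom
    rw [Category.id_comp, Over.w])

def θ' (f : Over i₀) : (Over.map (D.obj i₀).hom).obj ((overDiag D i₀).obj f) ⟶ D.obj f.left :=
  Over.homMk (𝟙 _) (by
    change 𝟙 _ ≫ (D.obj f.left).hom = (D.map f.hom).left ≫ (D.obj i₀).hom
    rw [Category.id_comp, Over.w])

def θpt : c.pt ⟶ (Over.map (D.obj i₀).hom).obj (overCone D c i₀).pt :=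
  Over.homMk (𝟙 _) (by
    change 𝟙 _ ≫ (c.π.app i₀).left ≫ (D.obj i₀).hom = c.pt.hom
    rw [Category.id_comp, Over.w]
    rfl)

def θpt' : (Over.map (D.obj i₀).hom).obj (overCone D c i₀).pt ⟶ c.pt :=
  Over.homMk (𝟙 _) (by
    change 𝟙 _ ≫ c.pt.hom = (c.π.app i₀).left ≫ (D.obj i₀).hom
    rw [Category.id_comp, Over.w]
    rfl)

theorem θ_L1 : θpt' D c i₀ ≫ c.π.app i₀ = overHom (D.obj i₀) (overCone D c i₀).pt := by
  apply Over.OverMorphism.ext
  simp [θpt']
  rfl

theorem θ_L2 (f : Over i₀) :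
    θ D i₀ f ≫ overHom (D.obj i₀) ((overDiag D i₀).obj f) = D.map f.hom := by
  apply Over.OverMorphism.ext
  simp [θ]
  rfl

theorem θ_L3 (f : Over i₀) : c.π.app f.left ≫ θ D i₀ f =
    θpt D c i₀ ≫ (Over.map (D.obj i₀).hom).map ((overCone D c i₀).π.app f) := by
  apply Over.OverMorphism.ext
  simp [θ, θpt]

theorem θ_L4 : θpt D c i₀ ≫ θpt' D c i₀ = 𝟙 _ := by
  apply Over.OverMorphism.ext
  simp [θpt, θpt']

theorem θ_L5 : θ' D i₀ (Over.mk (𝟙 i₀)) =
    overHom (D.obj i₀) ((overDiag D i₀).obj (Over.mk (𝟙 i₀))) := by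
  apply Over.OverMorphism.ext
  simp [θ']
  change 𝟙 _ = (D.map (𝟙 i₀)).left
  rw [D.map_id]
  rfl

theorem θ_L6 : (Over.map (D.obj i₀).hom).map ((overCone D c i₀).π.app (Over.mk (𝟙 i₀))) ≫
    θ' D i₀ (Over.mk (𝟙 i₀)) = θpt' D c i₀ ≫ c.π.app i₀ := by
  apply Over.OverMorphism.ext
  simp [θ', θpt']

theorem θ_L7 {g : Over i₀} (φ : g ⟶ Over.mk (𝟙 i₀)) :
    θ D i₀ g ≫ (Over.map (D.obj i₀).hom).map ((overDiag D i₀).map φ) ≫
      θ' D i₀ (Over.mk (𝟙 i₀)) = D.map φ.left := by
  apply Over.OverMorphism.ext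
  simp [θ, θ']

theorem relColimElt_of_isRelLimitPreserving {F G : PSp S} (a : F ⟶ G)
    (h : IsRelLimitPreserving a) (hc : IsLimit ((Over.forget S).mapCone c))
    (hD : ∀ i, IsAffine (D.obj i).left) (hT : IsAffine c.pt.left) : RelColimElt D c a := by
  have hLP : ∀ (i₀ : I) (y : G.obj (op (D.obj i₀))),
      ColimElt (overDiag D i₀) (overCone D c i₀) (fiberFun a (D.obj i₀) y) := by
    intro i₀ y
    rw [← nonempty_isColimit_iff]
    exact h (D.obj i₀) y (overDiag D i₀) (overCone D c i₀) (overConeIsLimit D c i₀ hc)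
      (fun f => hD f.left) hT
  constructor
  · intro i₀ y x hxy
    have hx' : a.app _ (F.map (θpt' D c i₀).op x) =
        G.map (overHom (D.obj i₀) (overCone D c i₀).pt).op y :=
      (NatTrans.naturality_apply a (θpt' D c i₀).op x).trans
        ((congrArg (G.map (θpt' D c i₀).op) hxy).trans (map_map_eq G _ _ _ (θ_L1 D c i₀) y))
    obtain ⟨f, ⟨xf, hxf⟩, hf⟩ := (hLP i₀ y).surj ⟨F.map (θpt' D c i₀).op x, hx'⟩
    have hf' : F.map ((Over.map (D.obj i₀).hom).map ((overCone D c i₀).π.app f)).op xf =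
        F.map (θpt' D c i₀).op x := congrArg Subtype.val hf
    refine ⟨f.left, f.hom, F.map (θ D i₀ f).op xf, ?_, ?_⟩
    · exact (NatTrans.naturality_apply a (θ D i₀ f).op xf).trans
        ((congrArg (G.map (θ D i₀ f).op) hxf).trans (map_map_eq G _ _ _ (θ_L2 D i₀ f) y))
    · calc F.map (c.π.app f.left).op (F.map (θ D i₀ f).op xf)
          = F.map (θpt D c i₀ ≫
              (Over.map (D.obj i₀).hom).map ((overCone D c i₀).π.app f)).op xf :=
            map_map_eq F _ _ _ (θ_L3 D c i₀ f) xf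
        _ = F.map (θpt D c i₀).op
              (F.map ((Over.map (D.obj i₀).hom).map ((overCone D c i₀).π.app f)).op xf) :=
            (map_map_eq F _ _ _ rfl xf).symm
        _ = F.map (θpt D c i₀).op (F.map (θpt' D c i₀).op x) := by rw [hf']
        _ = F.map (𝟙 _).op x := map_map_eq F _ _ _ (θ_L4 D c i₀) x
        _ = x := by simp
  · intro i₀ x x' hxx' hxx''
    have hx1 : a.app _ (F.map (θ' D i₀ (Over.mk (𝟙 i₀))).op x) =
        G.map (overHom (D.obj i₀) ((overDiag D i₀).obj (Over.mk (𝟙 i₀)))).op (a.app _ x) := by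
      rw [← θ_L5 D i₀]
      exact NatTrans.naturality_apply a (θ' D i₀ (Over.mk (𝟙 i₀))).op x
    have hx2 : a.app _ (F.map (θ' D i₀ (Over.mk (𝟙 i₀))).op x') =
        G.map (overHom (D.obj i₀) ((overDiag D i₀).obj (Over.mk (𝟙 i₀)))).op (a.app _ x) := by
      rw [← θ_L5 D i₀]
      exact (NatTrans.naturality_apply a (θ' D i₀ (Over.mk (𝟙 i₀))).op x').trans
        (congrArg (G.map (θ' D i₀ (Over.mk (𝟙 i₀))).op) hxx'.symm)
    have himg : F.map ((Over.map (D.obj i₀).hom).map
          ((overCone D c i₀).π.app (Over.mk (𝟙 i₀)))).op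
          (F.map (θ' D i₀ (Over.mk (𝟙 i₀))).op x) =
        F.map ((Over.map (D.obj i₀).hom).map ((overCone D c i₀).π.app (Over.mk (𝟙 i₀)))).op
          (F.map (θ' D i₀ (Over.mk (𝟙 i₀))).op x') :=
      calc _ = F.map (θpt' D c i₀ ≫ c.π.app i₀).op x := map_map_eq F _ _ _ (θ_L6 D c i₀) x
        _ = F.map (θpt' D c i₀).op (F.map (c.π.app i₀).op x) := (map_map_eq F _ _ _ rfl x).symm
        _ = F.map (θpt' D c i₀).op (F.map (c.π.app i₀).op x') := by rw [hxx'']
        _ = F.map (θpt' D c i₀ ≫ c.π.app i₀).op x' := map_map_eq F _ _ _ rfl x'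
        _ = _ := (map_map_eq F _ _ _ (θ_L6 D c i₀) x').symm
    obtain ⟨g, φ, hφ⟩ := (hLP i₀ (a.app _ x)).inj (Over.mk (𝟙 i₀)) ⟨_, hx1⟩ ⟨_, hx2⟩
      (Subtype.ext himg)
    have hφ' : F.map ((Over.map (D.obj i₀).hom).map ((overDiag D i₀).map φ)).op
          (F.map (θ' D i₀ (Over.mk (𝟙 i₀))).op x) =
        F.map ((Over.map (D.obj i₀).hom).map ((overDiag D i₀).map φ)).op
          (F.map (θ' D i₀ (Over.mk (𝟙 i₀))).op x') := congrArg Subtype.val hφ
    refine ⟨g.left, φ.left, ?_⟩
    have key : ∀ z : F.obj (op (D.obj i₀)), F.map (D.map φ.left).op z =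
        F.map (θ D i₀ g).op (F.map ((Over.map (D.obj i₀).hom).map ((overDiag D i₀).map φ)).op
          (F.map (θ' D i₀ (Over.mk (𝟙 i₀))).op z)) := by
      intro z
      exact ((congrArg (F.map (θ D i₀ g).op) (map_map_eq F _ _ _ rfl z)).trans
        (map_map_eq F _ _ _ (θ_L7 D i₀ φ) z)).symm
    exact (key x).trans ((congrArg _ hφ').trans (key x').symm)

end Forward

theorem isRelLimitPreserving_iff_relColimElt {F G : PSp S} (a : F ⟶ G) :
    IsRelLimitPreserving a ↔
      ∀ ⦃I : Type u⦄ [SmallCategory I] [IsCofiltered I] (D : I ⥤ Over S) (c : Cone D),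
        IsLimit ((Over.forget S).mapCone c) → (∀ i, IsAffine (D.obj i).left) →
          IsAffine c.pt.left → RelColimElt D c a :=
  ⟨fun h _ _ _ D c hc hD hT => relColimElt_of_isRelLimitPreserving D c a h hc hD hT,
    isRelLimitPreserving_of_relColimElt a⟩

theorem isRelLimitPreserving_iff_isPullback {F G : PSp S} (a : F ⟶ G) :
    IsRelLimitPreserving a ↔
      ∀ ⦃I : Type u⦄ [SmallCategory I] [IsCofiltered I] (D : I ⥤ Over S) (c : Cone D),
        IsLimit ((Over.forget S).mapCone c) → (∀ i, IsAffine (D.obj i).left) →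
          IsAffine c.pt.left →
          IsPullback (colimMap (Functor.whiskerLeft D.op a))
            (colimit.desc (D.op ⋙ F) (F.mapCocone c.op))
            (colimit.desc (D.op ⋙ G) (G.mapCocone c.op)) (a.app (Opposite.op c.pt)) := by
  rw [isRelLimitPreserving_iff_relColimElt]
  constructor
  · intro h I _ _ D c hc hD hT
    rw [isPullback_iff_relColimElt]
    exact h D c hc hD hT
  · intro h I _ _ D c hc hD hT
    rw [← isPullback_iff_relColimElt]
    exact h D c hc hD hT


end Groth.Agent.H50
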