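import Groth.Agent.H50.DenseEtale2
import Groth.Agent.H50.EffCartierCompl
import Groth.Agent.H53.Charts
import Groth.Agent.H53.Points

set_option autoImplicit false
set_option backward.isDefEq.respectTransparency false
universe u
open CategoryTheory CategoryTheory.Limits AlgebraicGeometry Opposite Topology

namespace Groth.Agent.H50

open AlgSp

variable {S : Scheme.{u}}

/-- The open of a chart cut out by a pullback square of an open immersion is the preimage of the
range on points. -/
theorem coe_opens_eq_of_isPullback {F G : Sp S} (j : G ⟶ F) {V : Over S} (φ : (yon S).obj V ⟶ F)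
    (W : V.left.Opens) (fst : (yon S).obj (Over.mk (W.ι ≫ V.hom)) ⟶ G)
    (sq : IsPullback fst ((yon S).map (Over.homMk W.ι rfl : Over.mk (W.ι ≫ V.hom) ⟶ V)) j φ) :
    (W : Set V.left) = Points.ofPt φ ⁻¹' Set.range (Points.map j) := by
  rw [preimage_range_points_of_isPullback j φ _ _ sq]
  change (W : Set V.left) = Set.range W.ι
  rw [Scheme.Opens.range_ι]

/-- Chart independence of schematic density: if the inverse image of an open subspace is
schematically dense on one etale surjective chart, it is on every etale chart. -/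
theorem isSchematicallyDense_chart_of_isSchDense {X U : Sp S} (j : U ⟶ X) (hj : IsSchDense j)
    (V : Over S) (φ : (yon S).obj V ⟶ X) (hφ : RepWith @Etale φ)
    (W : V.left.Opens) (fst : (yon S).obj (Over.mk (W.ι ≫ V.hom)) ⟶ U)
    (sq : IsPullback fst ((yon S).map (Over.homMk W.ι rfl : Over.mk (W.ι ≫ V.hom) ⟶ V)) j φ) :
    CInt.IsSchematicallyDense W := by
  obtain ⟨hjo, V₀, φ₀, W₀, fst₀, hφ₀1, hφ₀2, sq₀, hW₀⟩ := hj
  obtain ⟨V₁, w₁, w₂, sq₁⟩ := Groth.Agent.H53.exists_pullback_yon φ φ₀ hφ₀1.rep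
  have hw₁e : Etale w₁.left := Groth.Agent.H53.prop_of_isPullback_yon sq₁ hφ₀1
  have hw₁s : Surjective w₁.left := Groth.Agent.H53.prop_of_isPullback_yon sq₁ hφ₀2
  have hw₂e : Etale w₂.left := Groth.Agent.H53.prop_of_isPullback_yon sq₁.flip hφ
  have heq : w₂.left ⁻¹ᵁ W₀ = w₁.left ⁻¹ᵁ W := by
    apply TopologicalSpace.Opens.ext
    ext x
    change w₂.left x ∈ (W₀ : Set V₀.left) ↔ w₁.left x ∈ (W : Set V.left)
    rw [coe_opens_eq_of_isPullback j φ₀ W₀ fst₀ sq₀, coe_opens_eq_of_isPullback j φ W fst sq]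
    simp only [Set.mem_preimage]
    rw [← Groth.Agent.H53.ofPt_yon_map_comp, ← Groth.Agent.H53.ofPt_yon_map_comp, sq₁.w]
  have h1 : CInt.IsSchematicallyDense (w₂.left ⁻¹ᵁ W₀) :=
    isSchematicallyDense_preimage_of_etale w₂.left W₀ hW₀
  rw [heq] at h1
  exact isSchematicallyDense_of_preimage_flat_surjective w₁.left W h1

/-- The intersection of two schematically dense opens of a scheme is schematically dense. -/
theorem isSchematicallyDense_inf {X : Scheme.{u}} (W₁ W₂ : X.Opens)
    (h₁ : CInt.IsSchematicallyDense W₁) (h₂ : CInt.IsSchematicallyDense W₂) :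
    CInt.IsSchematicallyDense (W₁ ⊓ W₂) := by
  intro V
  have a := h₁ V
  have b := h₂ (V ⊓ W₁)
  have e : X.presheaf.map (homOfLE (inf_le_left : V ⊓ (W₁ ⊓ W₂) ≤ V)).op =
      X.presheaf.map (homOfLE (inf_le_left : V ⊓ W₁ ≤ V)).op ≫
        X.presheaf.map (homOfLE (inf_le_left : V ⊓ W₁ ⊓ W₂ ≤ V ⊓ W₁)).op ≫
          X.presheaf.map (eqToHom (inf_assoc V W₁ W₂).symm).op := by
    rw [← Functor.map_comp, ← Functor.map_comp]
    rfl
  rw [e]
  intro s t hst
  apply a
  apply b
  have hiso : Function.Injective (X.presheaf.map (eqToHom (inf_assoc V W₁ W₂).symm).op) := by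
    have : IsIso (X.presheaf.map (eqToHom (inf_assoc V W₁ W₂).symm).op) := inferInstance
    exact ((ConcreteCategory.isIso_iff_bijective _).1 this).1
  apply hiso
  simpa using hst

end Groth.Agent.H50
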