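import Groth.Agent.H50.FlatOpen
import Groth.Agent.H50.QCMor
import Groth.Agent.H19.SchDense
import Groth.Prelude.Def_AlgSpSub

set_option autoImplicit false
set_option backward.isDefEq.respectTransparency false
universe u
open CategoryTheory CategoryTheory.Limits AlgebraicGeometry Opposite Topology

namespace Groth.Agent.H50

open AlgSp

variable {S : Scheme.{u}}

/-- The inverse image of a quasi-compact scheme theoretically dense open subspace under a flat
morphism of algebraic spaces is scheme theoretically dense. -/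
theorem isSchDense_preimage_of_flat {X Y V V' : Sp S} (hX : IsAlgSpace X) (hY : IsAlgSpace Y)
    (f : X ⟶ Y) (hf : LocP @Flat f) (j : V ⟶ Y) (hj : IsSchDense j) (hjq : IsQuasiCompactMor j)
    (fst : V' ⟶ V) (jX : V' ⟶ X) (sq : IsPullback fst jX j f) : IsSchDense jX := by
  obtain ⟨hjo, V₀, φ, W, fst₀, hφ1, hφ2, sq₀, hW⟩ := hj
  refine ⟨MorphismProperty.of_isPullback sq hjo, ?_⟩
  have hjqc : RepWith @QuasiCompact j := repWith_quasiCompact_of_isQuasiCompactMor j hjo.rep hjq
  have hWqc : QuasiCompact W.ι := hjqc.property φ fst₀ _ sq₀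
  have sqV := IsPullback.of_hasPullback f φ
  have hXV : IsAlgSpace (pullback f φ) :=
    Groth.Agent.H49.isAlgSpace_of_isPullback sqV hY.diag hX (IsAlgSpace.yon_obj V₀)
  obtain ⟨U, c, hc1, hc2⟩ := hXV.atlas
  have hfst1 : RepWith @Etale (pullback.fst f φ) := MorphismProperty.of_isPullback sqV.flip hφ1
  have hfst2 : RepWith @Surjective (pullback.fst f φ) :=
    MorphismProperty.of_isPullback sqV.flip hφ2
  have hψ1 : RepWith @Etale (c ≫ pullback.fst f φ) := (RepWith @Etale).comp_mem _ _ hc1 hfst1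
  have hψ2 : RepWith @Surjective (c ≫ pullback.fst f φ) :=
    (RepWith @Surjective).comp_mem _ _ hc2 hfst2
  obtain ⟨h, hh⟩ := (yon S).map_surjective (c ≫ pullback.snd f φ)
  have comm : (c ≫ pullback.fst f φ) ≫ f = (yon S).map h ≫ φ := by
    rw [Category.assoc, pullback.condition, ← Category.assoc, hh]
  have hflat : Flat h.left := hf _ φ h hψ1 hφ1 comm
  have hW' : CInt.IsSchematicallyDense (h.left ⁻¹ᵁ W) :=
    Groth.Agent.H19.isSchematicallyDense_preimage_of_flat h.left W hW
  -- the scheme-level pullback square, over `S`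
  let W' : U.left.Opens := h.left ⁻¹ᵁ W
  let hW'' : Over.mk (W'.ι ≫ U.hom) ⟶ Over.mk (W.ι ≫ V₀.hom) :=
    Over.homMk (h.left ∣_ W) (by
      change (h.left ∣_ W) ≫ W.ι ≫ V₀.hom = W'.ι ≫ U.hom
      rw [← Category.assoc, morphismRestrict_ι, Category.assoc, Over.w h])
  have sqS : IsPullback hW'' (Over.homMk W'.ι rfl : Over.mk (W'.ι ≫ U.hom) ⟶ U) 
      (Over.homMk W.ι rfl : Over.mk (W.ι ≫ V₀.hom) ⟶ V₀) h := by
    refine IsPullback.of_map (Over.forget S) ?_ ?_
    · ext
      exact morphismRestrict_ι h.left W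
    · exact isPullback_morphismRestrict h.left W
  have sqS' := sqS.map (yon S)
  have outer := IsPullback.paste_horiz sqS' sq₀
  rw [← comm] at outer
  have hl : ((yon S).map hW'' ≫ fst₀) ≫ j =
      ((yon S).map (Over.homMk W'.ι rfl : Over.mk (W'.ι ≫ U.hom) ⟶ U) ≫ c ≫ pullback.fst f φ) ≫ f := by
    rw [Category.assoc _ _ f]; exact outer.w
  refine ⟨U, c ≫ pullback.fst f φ, W', sq.lift _ _ hl, hψ1, hψ2, ?_, hW'⟩
  refine IsPullback.of_right ?_ (sq.lift_snd _ _ hl) sq
  rw [sq.lift_fst]
  exact outer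

end Groth.Agent.H50
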