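import Groth.Agent.H50.SchDenseChart

set_option autoImplicit false
set_option backward.isDefEq.respectTransparency false
universe u
open CategoryTheory CategoryTheory.Limits AlgebraicGeometry Opposite Topology

namespace Groth.Agent.H50

open AlgSp

variable {S : Scheme.{u}}

/-- The intersection of two scheme theoretically dense open subspaces is scheme theoretically
dense. -/
theorem isSchDense_inter {X U V P : Sp S} (jU : U ⟶ X) (jV : V ⟶ X) (hU : IsSchDense jU)
    (hV : IsSchDense jV) (fst : P ⟶ U) (snd : P ⟶ V) (sq : IsPullback fst snd jU jV) :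
    IsSchDense (fst ≫ jU) := by
  have hVo := hV.1
  obtain ⟨hUo, V₁, φ₁, W₁, fst₁, hφ1, hφ2, sq₁, hW₁⟩ := hU
  obtain ⟨W₂, fst₂, sq₂, hW₂s⟩ := exists_opens_isPullback jV hVo V₁ φ₁
  have hW₂ : CInt.IsSchematicallyDense W₂ :=
    isSchematicallyDense_chart_of_isSchDense jV hV V₁ φ₁ hφ1 W₂ fst₂ sq₂
  have hfst : RepWith @IsOpenImmersion fst := MorphismProperty.of_isPullback sq.flip hVo
  have hcomp : RepWith @IsOpenImmersion (fst ≫ jU) :=
    (RepWith @IsOpenImmersion).comp_mem _ _ hfst hUo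
  obtain ⟨W₃, fst₃, sq₃, hW₃s⟩ := exists_opens_isPullback (fst ≫ jU) hcomp V₁ φ₁
  have hrange : Set.range (Points.map (fst ≫ jU)) =
      Set.range (Points.map jU) ∩ Set.range (Points.map jV) := by
    ext x
    constructor
    · rintro ⟨p, rfl⟩
      refine ⟨⟨Points.map fst p, (Points.map_comp fst jU p).symm⟩, ⟨Points.map snd p, ?_⟩⟩
      rw [← Points.map_comp, ← sq.w]
    · rintro ⟨⟨u, rfl⟩, ⟨v, hv⟩⟩
      obtain ⟨p, hp1, -⟩ := points_exists_of_isPullback sq u v hv.symm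
      exact ⟨p, by rw [Points.map_comp, hp1]⟩
  have hW₃ : W₃ = W₁ ⊓ W₂ := by
    apply TopologicalSpace.Opens.ext
    rw [hW₃s, hrange, Set.preimage_inter, TopologicalSpace.Opens.coe_inf, hW₂s,
      coe_opens_eq_of_isPullback jU φ₁ W₁ fst₁ sq₁]
  refine ⟨hcomp, V₁, φ₁, W₃, fst₃, hφ1, hφ2, sq₃, ?_⟩
  rw [hW₃]
  exact isSchematicallyDense_inf W₁ W₂ hW₁ hW₂

end Groth.Agent.H50
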