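import Groth.Agent.H50.QCDense
import Groth.Agent.H50.SchImageRed
import Groth.Agent.H49.AlgSpQC

set_option autoImplicit false
set_option backward.isDefEq.respectTransparency false
set_option linter.style.haveILetI false
universe u
open CategoryTheory CategoryTheory.Limits AlgebraicGeometry Opposite Topology

namespace Groth.Agent.H50

open AlgSp

variable {S : Scheme.{u}}

theorem isOpenImmersion_le_mono :
    (@IsOpenImmersion : MorphismProperty Scheme.{u}) ≤ MorphismProperty.monomorphisms Scheme.{u} := by
  intro X Y f hf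
  have : IsOpenImmersion f := hf
  exact (inferInstance : Mono f)

/-- A closed immersion is its own scheme theoretic image. -/
theorem isSchImage_self {V X : Sp S} (g : V ⟶ X) (hg : RepWith @IsClosedImmersion g) :
    IsSchImage g g :=
  ⟨hg, ⟨𝟙 _, Category.id_comp _⟩, fun _ _ _ _ h => h⟩

/-- The scheme theoretic image of a section of a separated morphism over a quasi-compact open
maps isomorphically onto that open. -/
theorem isIso_snd_of_section {X Y V Y' P : Sp S} (hX : IsAlgSpace X) (hY : IsAlgSpace Y)
    (hV : IsAlgSpace V) (f : X ⟶ Y) (s : V ⟶ X) (hj : RepWith @IsOpenImmersion (s ≫ f))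
    (hjq : IsQuasiCompactMor (s ≫ f)) (hf : IsSeparatedMor f) (c : Y' ⟶ X)
    (hc : IsSchImage s c) (fst : P ⟶ Y') (snd : P ⟶ V)
    (sq : IsPullback fst snd (c ≫ f) (s ≫ f)) : IsIso snd := by
  haveI : Mono (s ≫ f) := Groth.Agent.H49.mono_of_repWith_mono isOpenImmersion_le_mono _ hj
  -- `s` is quasi-compact
  have hsq : IsQuasiCompactMor s :=
    Groth.Agent.H49.isQuasiCompactMor_of_comp_of_isQuasiSeparatedMor hV hX hY s f hjq
      (Groth.Agent.H49.repWith_of_le (fun _ _ g hg => by
        have : IsClosedImmersion g := hg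
        exact (inferInstance : QuasiCompact g)) hf)
  -- the graph of `s`
  have sqΓ := pullback_lift_diagonal_isPullback s f
  have hΓ : RepWith @IsClosedImmersion (pullback.lift (𝟙 V) s (by simp) : V ⟶ pullback (s ≫ f) f) :=
    MorphismProperty.of_isPullback (P := RepWith @IsClosedImmersion) sqΓ hf
  set Γ : V ⟶ pullback (s ≫ f) f := pullback.lift (𝟙 V) s (by simp) with hΓdef
  have sqR : IsPullback (pullback.fst (s ≫ f) f) (pullback.snd (s ≫ f) f) (s ≫ f) f :=
    IsPullback.of_hasPullback _ _
  -- the open subspace `X_V` of `X`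
  have hb : RepWith @IsOpenImmersion (pullback.snd (s ≫ f) f) :=
    MorphismProperty.of_isPullback (P := RepWith @IsOpenImmersion) sqR hj
  have hXV : IsAlgSpace (pullback (s ≫ f) f) :=
    Groth.Agent.H49.isAlgSpace_of_representable_to _ hb.rep hX
  have hbe : IsEtaleMor (pullback.snd (s ≫ f) f) := fun _ _ hφ =>
    (RepWith @Etale).comp_mem _ _ hφ (Groth.Agent.H49.repWith_of_le (fun _ _ g hg => by
        have : IsOpenImmersion g := hg
        exact (inferInstance : Etale g)) hb)
  -- base change of `s`
  have sqX : IsPullback (𝟙 V) Γ s (pullback.snd (s ≫ f) f) := by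
    refine (IsPullback.of_right ?_ (by rw [Category.id_comp, hΓdef, pullback.lift_snd]) sqR).flip
    rw [hΓdef, pullback.lift_fst]
    exact (IsKernelPair.id_of_mono (s ≫ f))
  -- base change of the scheme theoretic image
  let iV : P ⟶ pullback (s ≫ f) f := pullback.lift snd (fst ≫ c) (by
    rw [Category.assoc, sq.w])
  have sqZ : IsPullback fst iV c (pullback.snd (s ≫ f) f) := by
    refine (IsPullback.of_right ?_ (pullback.lift_snd _ _ _) sqR).flip
    rw [pullback.lift_fst]
    exact sq.flip
  have h1 : IsSchImage Γ iV :=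
    isSchImage_of_isPullback_etale hX hXV hsq c hc _ hbe (𝟙 V) Γ fst iV sqX sqZ
  have h2 : IsSchImage Γ Γ := isSchImage_self Γ hΓ
  have hP : IsAlgSpace P := Groth.Agent.H49.isAlgSpace_of_representable_to iV h1.1.rep hXV
  obtain ⟨e, he⟩ := exists_iso_of_isSchImage Γ iV Γ hP hV h1 h2
  have : snd = e.hom := by
    have h3 : iV ≫ pullback.fst (s ≫ f) f = snd := pullback.lift_fst _ _ _
    rw [← h3, ← he, Category.assoc, hΓdef, pullback.lift_fst, Category.comp_id]
  rw [this]
  infer_instance

end Groth.Agent.H50
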