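import Groth.Agent.H50.Fppf
import Groth.Agent.H50.Mor
import Groth.Prelude.Def_SGA1
import Mathlib.CategoryTheory.Limits.Constructions.Over.Connected

set_option autoImplicit false
set_option backward.isDefEq.respectTransparency false
universe u
open CategoryTheory CategoryTheory.Limits AlgebraicGeometry Opposite Topology

namespace Groth.Agent.H50

open AlgSp

variable {S : Scheme.{u}}

theorem quotientMap_of_univSubmersive {X Y : Scheme.{u}} (f : X ⟶ Y) (hf : SGA1.UnivSubmersive f) :
    IsQuotientMap f :=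
  hf (𝟙 _) (𝟙 _) f IsPullback.of_id_snd

theorem ofPt_comp_eq {F : Sp S} {T V : Over S} (v : V ⟶ T) (k : (yon S).obj T ⟶ F) (y : ↥V.left) :
    Points.ofPt k (v.left y) = Points.ofPt ((yon S).map v ≫ k) y := by
  rw [Points.ofPt_eq_map_ofScheme, Points.ofPt_eq_map_ofScheme, Points.map_comp]
  congr 1
  exact (Points.map_yon_map_apply v y).symm

/-- A representable universally submersive morphism is submersive on points. -/
theorem isSubmersiveMor_of_repWith {F G : Sp S} (f : F ⟶ G)
    (hf : RepWith SGA1.UnivSubmersive f) : IsSubmersiveMor f := by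
  have hsurj : RepWith @Surjective f :=
    ⟨hf.rep, fun U V g fst snd sq =>
      ⟨(quotientMap_of_univSubmersive _ (hf.property g fst snd sq)).surjective⟩⟩
  refine (isQuotientMap_iff _).2 ⟨isCoinducing_iff.2 fun W => ?_,
    surjective_points_of_repWith_surjective f hsurj⟩
  refine ⟨fun hW => ?_, fun hW => hW.preimage (Points.continuous_map f)⟩
  rw [Points.isOpen_iff]
  intro T k
  have sq := hf.rep.isPullback k
  have hq : IsQuotientMap (hf.rep.snd k).left :=
    quotientMap_of_univSubmersive _ (hf.property_snd k)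
  rw [← hq.isCoinducing.isOpen_preimage]
  have : (hf.rep.snd k).left ⁻¹' (Points.ofPt k ⁻¹' W) =
      Points.ofPt (hf.rep.fst k) ⁻¹' (Points.map f ⁻¹' W) := by
    ext y
    simp only [Set.mem_preimage]
    rw [ofPt_comp_eq, ← sq.w, ← Points.map_ofPt]
  rw [this]
  exact hW.preimage (Points.continuous_ofPt _)

/-- A pullback square of schemes whose corner maps to `S` lifts to a pullback square over `S`. -/
theorem isPullback_over_of_left {U V : Over S} (snd : V ⟶ U) {X' Y' : Scheme.{u}}
    (i₁ : X' ⟶ V.left) (i₂ : Y' ⟶ U.left) (f' : X' ⟶ Y') (sq : IsPullback f' i₁ i₂ snd.left) :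
    IsPullback (Over.homMk f' (by
        change f' ≫ i₂ ≫ U.hom = i₁ ≫ V.hom
        rw [← Category.assoc, sq.w, Category.assoc, Over.w]) :
          Over.mk (i₁ ≫ V.hom) ⟶ Over.mk (i₂ ≫ U.hom))
      (Over.homMk i₁ rfl : Over.mk (i₁ ≫ V.hom) ⟶ V)
      (Over.homMk i₂ rfl : Over.mk (i₂ ≫ U.hom) ⟶ U) snd := by
  apply IsPullback.of_map (Over.forget S)
  · apply Over.OverMorphism.ext
    exact sq.w
  · exact sq

/-- A representable morphism that is universally submersive on algebraic spaces is representable universally submersive. -/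
theorem repWith_univSubmersive_of_isUnivSubmersiveMor {F G : Sp S} (f : F ⟶ G)
    (hf : Representable f) (h : IsUnivSubmersiveMor f) : RepWith SGA1.UnivSubmersive f := by
  refine ⟨hf, fun U V g fst snd sq => ?_⟩
  suffices main : SGA1.UnivSubmersive snd.left from main
  intro X' Y' i₁ i₂ f' sq'
  have sqO := isPullback_over_of_left snd i₁ i₂ f' sq'
  have sqY := sqO.map (yon S)
  have sqP := sqY.flip.paste_horiz sq
  have hsub : IsSubmersiveMor ((yon S).map (Over.homMk f' (by
        change f' ≫ i₂ ≫ U.hom = i₁ ≫ V.hom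
        rw [← Category.assoc, sq'.w, Category.assoc, Over.w]) :
          Over.mk (i₁ ≫ V.hom) ⟶ Over.mk (i₂ ≫ U.hom))) :=
    h (IsAlgSpace.yon_obj _) _ _ _ sqP
  unfold IsSubmersiveMor at hsub
  rw [Points.map_yon_map_eq] at hsub
  have h1 := (Points.schemeHomeo _).symm.isQuotientMap.comp
    (hsub.comp (Points.schemeHomeo _).isQuotientMap)
  change IsQuotientMap (fun x => f' x)
  have h2 : (fun x => f' x) = (⇑(Points.schemeHomeo (Over.mk (i₂ ≫ U.hom))).symm ∘
      (⇑(Points.schemeHomeo (Over.mk (i₂ ≫ U.hom))) ∘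
          (fun t => f' t) ∘ ⇑(Points.schemeHomeo (Over.mk (i₁ ≫ V.hom))).symm) ∘
        ⇑(Points.schemeHomeo (Over.mk (i₁ ≫ V.hom)))) := by
    funext x
    simp
  rw [h2]
  exact h1

end Groth.Agent.H50
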