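import Groth.Agent.H50.GAct
import Groth.Agent.H50.GrpDiag
import Groth.Agent.H50.LqfDiscrete
import Groth.Agent.H50.UnivOpen
import Groth.Agent.H51.SpUnram

set_option autoImplicit false
set_option backward.isDefEq.respectTransparency false
universe u
open CategoryTheory CategoryTheory.Limits AlgebraicGeometry Opposite MonoidalCategory
  CartesianMonoidalCategory MonObj

namespace Groth.Agent.H50

section Cart

variable {C : Type*} [Category C] [CartesianMonoidalCategory C]

/-- A binary product is a pullback over the terminal object. -/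
theorem isPullback_fst_snd_toUnit (G X : C) :
    IsPullback (fst G X) (snd G X) (toUnit G) (toUnit X) := by
  refine IsPullback.mk' ?_ ?_ ?_
  · exact toUnit_unique _ _
  · intro Z φ φ' h1 h2
    exact CartesianMonoidalCategory.hom_ext _ _ h1 h2
  · intro Z a b _
    exact ⟨lift a b, lift_fst _ _, lift_snd _ _⟩

/-- `x ↦ (e, x)` is the base change of the unit section. -/
theorem isPullback_unit_section (G X : C) [MonObj G] :
    IsPullback (toUnit X) (lift (toUnit X ≫ η[G]) (𝟙 X)) η[G] (fst G X) := by
  refine IsPullback.mk' ?_ ?_ ?_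
  · rw [lift_fst]
  · intro Z φ φ' _ h2
    simpa using congr($h2 ≫ snd G X)
  · intro Z a b hab
    refine ⟨b ≫ snd G X, toUnit_unique _ _, ?_⟩
    apply CartesianMonoidalCategory.hom_ext
    · rw [Category.assoc, lift_fst, ← hab, ← Category.assoc]
      congr 1
      exact toUnit_unique _ _
    · simp

end Cart

open AlgSp

variable {S : Scheme.{u}} {B : Sp S} {G X : Over B} [GrpObj G] (a : GAction G X)

/-- The diagonal of `X` is the unit section followed by the shear map. -/
theorem unit_section_shear :
    lift (toUnit X ≫ η[G]) (𝟙 X) ≫ lift a.act (snd G X) = lift (𝟙 X) (𝟙 X) := by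
  apply CartesianMonoidalCategory.hom_ext
  · rw [Category.assoc, lift_fst, lift_fst]
    have := GAct.one_smul a (𝟙 X)
    unfold GAct.smul at this
    rw [Hom.one_def] at this
    exact this
  · simp

omit [GrpObj G] in
/-- If the base change of `p : X ⟶ B` along itself is locally quasi-finite, then the fibres of `p`
over field-valued points have discrete spaces of points. -/
theorem discrete_fibre_of_lqf_self_base_change {X' B' XX : Sp S} (hX : IsAlgSpace X')
    (hB : IsAlgSpace B') (p : X' ⟶ B') (q₁ q₂ : XX ⟶ X') (sqXX : IsPullback q₁ q₂ p p)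
    (hq₂ : LocP (@LocallyQuasiFinite ⊓ @LocallyOfFiniteType) q₂)
    (k : Type u) [Field k] (str : Spec (CommRingCat.of k) ⟶ S)
    (y : (yon S).obj (Over.mk str) ⟶ B') (P : Sp S) (fst : P ⟶ X')
    (snd : P ⟶ (yon S).obj (Over.mk str)) (sq : IsPullback fst snd p y) :
    DiscreteTopology (Points P) := by
  have hk : IsAlgSpace ((yon S).obj (Over.mk str)) := IsAlgSpace.yon_obj _
  have hXX : IsAlgSpace XX := Groth.Agent.H49.isAlgSpace_of_isPullback sqXX hB.diag hX hX
  have hP : IsAlgSpace P := Groth.Agent.H49.isAlgSpace_of_isPullback sq hB.diag hX hk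
  by_cases hne : Nonempty (Points P)
  swap
  · have : IsEmpty (Points P) := not_nonempty_iff.mp hne
    exact Subsingleton.discreteTopology
  obtain ⟨p₀⟩ := hne
  induction p₀ using Points.ind with
  | h q =>
  have hK : IsAlgSpace ((yon S).obj q.pt) := IsAlgSpace.yon_obj _
  obtain ⟨x₀, hx₀⟩ : ∃ x₀, x₀ = q.toHom ≫ fst := ⟨_, rfl⟩
  obtain ⟨r, hr⟩ : ∃ r, r = q.toHom ≫ snd := ⟨_, rfl⟩
  have hry : r ≫ y = x₀ ≫ p := by rw [hr, hx₀, Category.assoc, Category.assoc, sq.w]
  have sqK := IsPullback.of_hasPullback snd r
  have outer : IsPullback (pullback.fst snd r ≫ fst) (pullback.snd snd r) p (r ≫ y) :=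
    IsPullback.paste_horiz sqK sq
  rw [hry] at outer
  have hl : (pullback.fst snd r ≫ fst) ≫ p = (pullback.snd snd r ≫ x₀) ≫ p := by
    rw [Category.assoc (pullback.snd snd r)]; exact outer.w
  have sqL : IsPullback (sqXX.lift _ _ hl) (pullback.snd snd r) q₂ x₀ := by
    refine IsPullback.of_right ?_ (sqXX.lift_snd _ _ hl) sqXX
    rw [sqXX.lift_fst]
    exact outer
  have hPK : IsAlgSpace (pullback snd r) :=
    Groth.Agent.H49.isAlgSpace_of_isPullback sqK hk.diag hP hK
  have hPKdisc : DiscreteTopology (Points (pullback snd r)) :=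
    discrete_fibre_of_locP_lqf hXX hX q₂ hq₂ q.K q.str x₀ _ _ _ sqL
  have hrU : LocP @UniversallyOpen r := locP_univOpen_to_field k str r
  have hfstU : LocP @UniversallyOpen (pullback.fst snd r) :=
    goodClass_univOpen.locP_of_isPullback hK hk hP r snd _ _ sqK.flip hrU
  have hopen : IsOpenMap (Points.map (pullback.fst snd r)) :=
    isOpenMap_points_of_locP_univOpen hPK hP _ hfstU
  have hss : Subsingleton (Points ((yon S).obj (Over.mk str))) := by
    have hss' : Subsingleton ↥(Spec (CommRingCat.of k)) := inferInstance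
    exact @Function.Injective.subsingleton _ _ _ (Points.schemeEquiv (Over.mk str)).symm.injective hss'
  rw [discreteTopology_iff_isOpen_singleton]
  intro z
  obtain ⟨w, hw, -⟩ := points_exists_of_isPullback sqK z
    (Points.ofScheme q.pt (IsLocalRing.closedPoint q.K)) (Subsingleton.elim _ _)
  have := hopen {w} (isOpen_discrete _)
  rwa [Set.image_singleton, hw] at this

/-- A pseudo-torsor under an unramified group space is unramified. -/
theorem unramified_of_isPseudoTorsor (hB : IsAlgSpace B) (hG : IsAlgSpace G.left)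
    (hX : IsAlgSpace X.left) (ha : a.IsPseudoTorsor)
    (hXt : LocP @LocallyOfFiniteType X.hom)
    (hGu : LocP (@LocallyOfFiniteType ⊓ @FormallyUnramified) G.hom) :
    LocP (@LocallyOfFiniteType ⊓ @FormallyUnramified) X.hom := by
  have hΔG : RepWith @IsOpenImmersion (pullback.diagonal G.hom) :=
    Groth.Agent.H51.s10262_part1 (X := ⟨G.left, hG⟩) (Y := ⟨B, hB⟩) (ObjectProperty.homMk G.hom) hGu
  have hsec : (η[G]).left ≫ G.hom = 𝟙 B := Over.w (η[G])
  have sqB := isPullback_section_diagonal G.hom (η[G]).left hsec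
  have hη : RepWith @IsOpenImmersion (η[G]).left := MorphismProperty.of_isPullback sqB hΔG
  have sq1 : IsPullback X.hom (lift (toUnit X ≫ η[G]) (𝟙 X)).left (η[G]).left (fst G X).left :=
    (isPullback_unit_section G X).map (Over.forget B)
  have hι : RepWith @IsOpenImmersion (lift (toUnit X ≫ η[G]) (𝟙 X)).left :=
    MorphismProperty.of_isPullback sq1 hη
  have hiso : IsIso (lift a.act (snd G X)) := ha
  have hΦ : IsIso (lift a.act (snd G X)).left :=
    Functor.map_isIso (Over.forget B) (lift a.act (snd G X))
  have hΔX : RepWith @IsOpenImmersion (pullback.diagonal X.hom) := by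
    have e : (lift (𝟙 X) (𝟙 X)).left =
        (lift (toUnit X ≫ η[G]) (𝟙 X)).left ≫ (lift a.act (snd G X)).left := by
      rw [← Over.comp_left, unit_section_shear]
    change RepWith @IsOpenImmersion (lift (𝟙 X) (𝟙 X)).left
    rw [e]
    have : (RepWith (S := S) @IsOpenImmersion).RespectsIso :=
      MorphismProperty.IsStableUnderBaseChange.respectsIso
    exact MorphismProperty.RespectsIso.postcomp _ _ _ hι
  exact Groth.Agent.H51.s10262_part2 (X := ⟨X.left, hX⟩) (Y := ⟨B, hB⟩)
    (ObjectProperty.homMk X.hom) hXt hΔX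

omit [GrpObj G] in
/-- `LocP` is invariant under precomposition with an isomorphism. -/
theorem locP_iso_comp (P : MorphismProperty Scheme.{u}) {X' X'' Y' : Sp S} (e : X'' ⟶ X') [IsIso e]
    (f : X' ⟶ Y') (h : LocP P f) : LocP P (e ≫ f) := by
  intro U V a' b' g ha' hb' hcomm
  have : (RepWith (S := S) @Etale).RespectsIso :=
    MorphismProperty.IsStableUnderBaseChange.respectsIso
  refine h (a' ≫ e) b' g (MorphismProperty.RespectsIso.postcomp _ e a' ha') hb' ?_
  rw [Category.assoc, hcomm]

/-- A pseudo-torsor under a locally quasi-finite group space is locally quasi-finite. -/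
theorem lqf_of_isPseudoTorsor (hB : IsAlgSpace B) (hG : IsAlgSpace G.left)
    (hX : IsAlgSpace X.left) (ha : a.IsPseudoTorsor)
    (hXt : LocP @LocallyOfFiniteType X.hom)
    (hGq : LocP (@LocallyQuasiFinite ⊓ @LocallyOfFiniteType) G.hom) :
    LocP (@LocallyQuasiFinite ⊓ @LocallyOfFiniteType) X.hom := by
  have sqGX : IsPullback (fst G X).left (snd G X).left G.hom X.hom :=
    (isPullback_fst_snd_toUnit G X).map (Over.forget B)
  have sqXX : IsPullback (fst X X).left (snd X X).left X.hom X.hom :=
    (isPullback_fst_snd_toUnit X X).map (Over.forget B)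
  have hsndGX : LocP (@LocallyQuasiFinite ⊓ @LocallyOfFiniteType) (snd G X).left :=
    goodClass_lqf.locP_of_isPullback hG hB hX G.hom X.hom _ _ sqGX hGq
  have hiso : IsIso (lift a.act (snd G X)) := ha
  have hΦ : IsIso (lift a.act (snd G X)).left :=
    Functor.map_isIso (Over.forget B) (lift a.act (snd G X))
  have hinv : IsIso (inv (lift a.act (snd G X))).left :=
    Functor.map_isIso (Over.forget B) (inv (lift a.act (snd G X)))
  have e : (snd X X).left = (inv (lift a.act (snd G X))).left ≫ (snd G X).left := by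
    rw [← Over.comp_left]
    congr 1
    rw [IsIso.eq_inv_comp, lift_snd]
  have hsndXX : LocP (@LocallyQuasiFinite ⊓ @LocallyOfFiniteType) (snd X X).left := by
    rw [e]
    exact locP_iso_comp _ _ _ hsndGX
  refine locP_lqf_of_discrete_fibres hX hB X.hom hXt ?_
  intro k _ str y P fst' snd' sq
  exact discrete_fibre_of_lqf_self_base_change hX hB X.hom _ _ sqXX hsndXX k str y P fst' snd' sq

end Groth.Agent.H50
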