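import Groth.Agent.H49.AlgSpClosed
import Groth.Agent.H51.SpImmersion
import Groth.Agent.H49.AlgSpQC
import Groth.Agent.H49.AlgSpRep

set_option autoImplicit false
set_option backward.isDefEq.respectTransparency false
set_option linter.style.haveILetI false
set_option linter.unusedSectionVars false
universe u
open CategoryTheory CategoryTheory.Limits AlgebraicGeometry Opposite Topology

namespace Groth.Agent.H50
open AlgSp

variable {S : Scheme.{u}}

/-- The pure point-set core of the spreading-out argument for universal closedness. -/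
theorem exists_open_disjoint_of_spread {XC X1 TC T1 UC U1 : Type*} [TopologicalSpace XC]
    [TopologicalSpace X1] [TopologicalSpace TC] [TopologicalSpace T1] [TopologicalSpace UC]
    [TopologicalSpace U1]
    (sC : XC → TC) (s1 : X1 → T1) (ρX : XC → X1) (ρT : TC → T1) (πC : UC → XC) (π1 : U1 → X1)
    (ρU : UC → U1) (sU1 : U1 → T1)
    (h1 : ∀ x, s1 (ρX x) = ρT (sC x)) (h4 : ∀ u, s1 (π1 u) = sU1 u)
    (hπ1o : IsOpenMap π1) (hπ1c : Continuous π1) (hπ1s : Function.Surjective π1)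
    (cart : ∀ u₁ x, π1 u₁ = ρX x → ∃ u, πC u = x ∧ ρU u = u₁)
    (hs1 : IsClosedMap s1) (hρT : Continuous ρT) (K : Set XC) (t : TC)
    (hspread : ρT t ∉ sU1 '' closure (ρU '' (πC ⁻¹' K))) :
    ∃ O : Set TC, IsOpen O ∧ t ∈ O ∧ Disjoint O (sC '' K) := by
  have hcl : IsClosed (s1 '' closure (ρX '' K)) := hs1 _ isClosed_closure
  refine ⟨ρT ⁻¹' (s1 '' closure (ρX '' K))ᶜ, hcl.isOpen_compl.preimage hρT, ?_, ?_⟩
  · rintro ⟨w, hw, hwt⟩
    apply hspread
    obtain ⟨u₁, rfl⟩ := hπ1s w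
    refine ⟨u₁, ?_, by rw [← h4, hwt]⟩
    have hu₁ : u₁ ∈ π1 ⁻¹' closure (ρX '' K) := hw
    rw [hπ1o.preimage_closure_eq_closure_preimage hπ1c] at hu₁
    refine closure_mono ?_ hu₁
    rintro v ⟨x, hx, hxv⟩
    obtain ⟨u, hu, huv⟩ := cart v x hxv.symm
    exact ⟨u, by rw [Set.mem_preimage, hu]; exact hx, huv⟩
  · rw [Set.disjoint_left]
    rintro _ hO ⟨k, hk, rfl⟩
    apply hO
    exact ⟨ρX k, subset_closure ⟨k, hk, rfl⟩, h1 k⟩

/-- The map on points induced by an isomorphism of sheaves is a closed map. -/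
theorem isClosedMap_points_map_of_isIso {F G : Sp S} (e : F ⟶ G) [IsIso e] :
    IsClosedMap (Points.map e) := by
  intro K hK
  have : Points.map e '' K = Points.map (inv e) ⁻¹' K := by
    ext y
    constructor
    · rintro ⟨x, hx, rfl⟩
      rw [Set.mem_preimage, ← Points.map_comp, IsIso.hom_inv_id, Points.map_id]
      exact hx
    · intro hy
      refine ⟨_, hy, ?_⟩
      rw [← Points.map_comp, IsIso.inv_hom_id, Points.map_id]
  rw [this]
  exact hK.preimage (Points.continuous_map _)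

/-- Closedness on points of the second projection does not depend on the chosen pullback. -/
theorem isClosedMap_snd_of_isPullback {F G Z P P' : Sp S} {f : F ⟶ G} {g : Z ⟶ G}
    {fst : P ⟶ F} {snd : P ⟶ Z} {fst' : P' ⟶ F} {snd' : P' ⟶ Z}
    (sq : IsPullback fst snd f g) (sq' : IsPullback fst' snd' f g)
    (h : IsClosedMap (Points.map snd)) : IsClosedMap (Points.map snd') := by
  have e : (sq'.isoIsPullback _ _ sq).hom ≫ snd = snd' := IsPullback.isoIsPullback_hom_snd _ _ _ _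
  rw [← e]
  have : Points.map ((sq'.isoIsPullback _ _ sq).hom ≫ snd) =
      Points.map snd ∘ Points.map (sq'.isoIsPullback _ _ sq).hom := by
    funext x; exact Points.map_comp _ _ x
  rw [this]
  exact h.comp (isClosedMap_points_map_of_isIso _)

/-- Closedness on points of the projection to a scheme is preserved by base change along an
immersion of schemes (the total space being an algebraic space). -/
theorem isClosedMap_snd_of_isImmersion {P P' : Sp S} (hP : IsAlgSpace P) {T T' : Over S}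
    (snd : P ⟶ (yon S).obj T) (i : T' ⟶ T) [IsImmersion i.left]
    (fst' : P' ⟶ P) (snd' : P' ⟶ (yon S).obj T')
    (sq : IsPullback fst' snd' snd ((yon S).map i))
    (h : IsClosedMap (Points.map snd)) : IsClosedMap (Points.map snd') := by
  have hi : RepWith @IsImmersion ((yon S).map i) :=
    (repWith_yon_map_iff @IsImmersion i).2 inferInstance
  have hfst : RepWith @IsImmersion fst' :=
    MorphismProperty.of_isPullback (P := RepWith @IsImmersion) sq.flip hi
  have hemb : IsEmbedding (Points.map fst') := (Groth.Agent.H51.s10191 hP fst' hfst).1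
  intro K hK
  have hKeq : K = Points.map fst' ⁻¹' closure (Points.map fst' '' K) := by
    rw [← hemb.closure_eq_preimage_closure_image, hK.closure_eq]
  have : Points.map snd' '' K =
      Points.map ((yon S).map i) ⁻¹' (Points.map snd '' closure (Points.map fst' '' K)) := by
    ext t
    constructor
    · rintro ⟨k, hk, rfl⟩
      refine ⟨Points.map fst' k, subset_closure ⟨k, hk, rfl⟩, ?_⟩
      rw [← Points.map_comp, ← Points.map_comp, sq.w]
    · rintro ⟨x, hx, hxt⟩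
      obtain ⟨z, hz1, hz2⟩ := Groth.Agent.H53.exists_point_of_isPullback sq x t hxt
      refine ⟨z, ?_, hz2⟩
      rw [hKeq, Set.mem_preimage, hz1]
      exact hx
  rw [this]
  exact (h _ isClosed_closure).preimage (Points.continuous_map _)

section Pasting

variable {C : Type*} [Category C]

/-- `U_T = U ×_F F_T`. -/
theorem isPullback_chart_of_comp {U F W T FT UT : C} {u : U ⟶ F} {φ : F ⟶ W} {γ : T ⟶ W}
    {fF : FT ⟶ F} {sF : FT ⟶ T} {fU : UT ⟶ U} {sU : UT ⟶ T} {uT : UT ⟶ FT}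
    (sqF : IsPullback fF sF φ γ) (sqU : IsPullback fU sU (u ≫ φ) γ)
    (h1 : uT ≫ fF = fU ≫ u) (h2 : uT ≫ sF = sU) : IsPullback uT fU fF u := by
  refine IsPullback.of_right (h₁₂ := sF) (h₂₂ := φ) (v₁₃ := γ) ?_ h1 sqF.flip
  rw [h2]
  exact sqU.flip

/-- `F_T = F_T' ×_{T'} T`. -/
theorem isPullback_trans_of_comp {F W T T' FT FT' : C} {φ : F ⟶ W} {γ : T ⟶ W} {γ' : T' ⟶ W}
    {τ : T ⟶ T'} {fF : FT ⟶ F} {sF : FT ⟶ T} {fF' : FT' ⟶ F} {sF' : FT' ⟶ T'} {ρ : FT ⟶ FT'}
    (hτ : τ ≫ γ' = γ)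
    (sqF : IsPullback fF sF φ γ) (sqF' : IsPullback fF' sF' φ γ')
    (h1 : ρ ≫ fF' = fF) (h2 : ρ ≫ sF' = sF ≫ τ) : IsPullback ρ sF sF' τ := by
  refine IsPullback.of_right (h₁₂ := fF') (h₂₂ := γ') (v₁₃ := φ) ?_ h2 sqF'
  rw [h1, hτ]
  exact sqF

/-- The square comparing the charts over `T` and over `T'` is cartesian. -/
theorem isPullback_chart_trans {U F W T T' FT FT' UT UT' : C} {u : U ⟶ F} {φ : F ⟶ W}
    {γ : T ⟶ W} {γ' : T' ⟶ W} {τ : T ⟶ T'}
    {fF : FT ⟶ F} {sF : FT ⟶ T} {fF' : FT' ⟶ F} {sF' : FT' ⟶ T'} {ρF : FT ⟶ FT'}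
    {fU : UT ⟶ U} {sU : UT ⟶ T} {fU' : UT' ⟶ U} {sU' : UT' ⟶ T'} {ρU : UT ⟶ UT'}
    {uT : UT ⟶ FT} {uT' : UT' ⟶ FT'}
    (hτ : τ ≫ γ' = γ)
    (sqF : IsPullback fF sF φ γ) (sqF' : IsPullback fF' sF' φ γ')
    (sqU : IsPullback fU sU (u ≫ φ) γ) (sqU' : IsPullback fU' sU' (u ≫ φ) γ')
    (hF1 : ρF ≫ fF' = fF) (hF2 : ρF ≫ sF' = sF ≫ τ)
    (hU1 : ρU ≫ fU' = fU) (hU2 : ρU ≫ sU' = sU ≫ τ)
    (hu2 : uT ≫ sF = sU) (hu2' : uT' ≫ sF' = sU')
    (hcomm : uT ≫ ρF = ρU ≫ uT') : IsPullback uT ρU ρF uT' := by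
  have sqR : IsPullback ρF sF sF' τ := isPullback_trans_of_comp hτ sqF sqF' hF1 hF2
  have sqO : IsPullback ρU sU sU' τ := isPullback_trans_of_comp hτ sqU sqU' hU1 hU2
  refine IsPullback.of_right (h₁₂ := sF) (h₂₂ := sF') (v₁₃ := τ) ?_ hcomm sqR.flip
  rw [hu2, hu2']
  exact sqO.flip

end Pasting

end Groth.Agent.H50
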