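import Groth.Agent.H50.UCSp2

set_option autoImplicit false
set_option backward.isDefEq.respectTransparency false
set_option linter.style.haveILetI false
set_option linter.unusedSectionVars false
universe u
open CategoryTheory CategoryTheory.Limits AlgebraicGeometry Opposite Topology

namespace Groth.Agent.H50
open AlgSp

variable {S : Scheme.{u}}

/-- `toScheme` is natural in the scheme. -/
theorem toScheme_map_yon_map {T T' : Over S} (τ : T ⟶ T') (y : Points ((yon S).obj T)) :
    Points.toScheme T' (Points.map ((yon S).map τ) y) = τ.left (Points.toScheme T y) := by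
  obtain ⟨t, rfl⟩ := (Points.schemeHomeo T).surjective y
  rw [Points.map_yon_map_apply]
  change Points.toScheme T' (Points.ofScheme T' _) = τ.left (Points.toScheme T (Points.ofScheme T t))
  rw [Points.toScheme_ofScheme, Points.toScheme_ofScheme]

/-- Closedness of the map on points to a scheme, in terms of `toScheme`. -/
theorem isClosedMap_toScheme_comp_iff {P : Sp S} {T : Over S} (snd : P ⟶ (yon S).obj T) :
    IsClosedMap (fun x => Points.toScheme T (Points.map snd x)) ↔ IsClosedMap (Points.map snd) := by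
  constructor
  · intro h K hK
    have := (Points.schemeHomeo T).isClosedMap _ (h K hK)
    convert this using 1
    ext y
    constructor
    · rintro ⟨x, hx, rfl⟩
      exact ⟨_, ⟨x, hx, rfl⟩, Points.ofScheme_toScheme T _⟩
    · rintro ⟨_, ⟨x, hx, rfl⟩, rfl⟩
      exact ⟨x, hx, (Points.ofScheme_toScheme T _).symm⟩
  · intro h
    exact (Points.schemeHomeo T).symm.isClosedMap.comp h

namespace UCSp

variable {A : Type u} [CommRing A] {str : Spec (.of A) ⟶ S}
  {F : Sp S} (φ : F ⟶ (yon S).obj (Over.mk str))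

/-- **Core of Stacks 0CM8 (Limits of Spaces)**: over an affine base `Spec A`, if the base changes
of `φ : F ⟶ Spec A` (with `F` quasi-compact) to all finite type `A`-algebras are closed on points,
then so are the base changes to all `A`-algebras. -/
theorem isClosedMap_snd_of_finiteType (hqc : IsQuasiCompactSp F)
    (H : ∀ (C₁ : Type u) [CommRing C₁] [Algebra A C₁], Algebra.FiniteType A C₁ →
      IsClosedMap (Points.map (pullback.snd φ ((yon S).map (γC str C₁)))))
    (C : Type u) [CommRing C] [Algebra A C] :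
    IsClosedMap (Points.map (pullback.snd φ ((yon S).map (γC str C)))) := by
  classical
  obtain ⟨U, u, hue, hus, hUc⟩ := hqc
  haveI : CompactSpace ↥U.left := hUc
  obtain ⟨g₀, hg₀⟩ := (yon S).map_surjective (u ≫ φ)
  have hu : u ≫ φ = (yon S).map g₀ := hg₀.symm
  -- a finite affine cover of `U`
  let X : Scheme.{u} := U.left
  let f : X ⟶ Spec (.of A) := g₀.left
  let 𝒰 := X.affineCover.finiteSubcover
  let B : 𝒰.I₀ → Type u := fun j => Γ(𝒰.X j, ⊤)
  let v : ∀ j, Spec (.of (B j)) ⟶ X := fun j => (𝒰.X j).isoSpec.inv ≫ 𝒰.f j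
  let β : ∀ j, A →+* B j := fun j => (Spec.preimage (v j ≫ f)).hom
  let _ : ∀ j, Algebra A (B j) := fun j => (β j).toAlgebra
  have hv : ∀ j, v j ≫ f = Spec.map (CommRingCat.ofHom (algebraMap A (B j))) := by
    intro j
    exact (Spec.map_preimage (v j ≫ f)).symm
  have hcov : ∀ x : X, ∃ j, x ∈ Set.range (v j).base := by
    intro x
    obtain ⟨y, hy⟩ := 𝒰.covers x
    refine ⟨𝒰.idx x, (𝒰.X (𝒰.idx x)).isoSpec.hom.base y, ?_⟩
    have hcomp : (𝒰.X (𝒰.idx x)).isoSpec.hom ≫ v (𝒰.idx x) = 𝒰.f (𝒰.idx x) := by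
      simp only [v, Iso.hom_inv_id_assoc]
    refine Eq.trans ?_ hy
    rw [← hcomp]
    rfl
  rw [← isClosedMap_toScheme_comp_iff]
  intro K hK
  rw [← isOpen_compl_iff, isOpen_iff_forall_mem_open]
  intro t ht
  -- the closed subset of `U_C`
  have hZcl : IsClosed (Points.ofPt (uT φ g₀ u hu C) ⁻¹' K) :=
    hK.preimage (Points.continuous_ofPt _)
  have hsC : ∀ w : ↥(UT g₀ C).left,
      Points.toScheme (TC str C) (Points.map (pullback.snd φ ((yon S).map (γC str C)))
        (Points.ofPt (uT φ g₀ u hu C) w)) = (prT g₀ C).left w := by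
    intro w
    rw [Points.map_ofPt, uT_snd, Points.toScheme_ofPt]
  have htZ : t ∉ (pullback.snd f (Spec.map (CommRingCat.ofHom (algebraMap A C)))).base ''
      (Points.ofPt (uT φ g₀ u hu C) ⁻¹' K) := by
    rintro ⟨w, hw, hwt⟩
    apply ht
    exact ⟨_, hw, (hsC w).trans hwt⟩
  obtain ⟨s, hs⟩ := Groth.Agent.H22.UCCore.spread_main f B v hv hcov C _ hZcl t htZ
  let C₁ : Subalgebra A C := Algebra.adjoin A (s : Set C)
  have hft : Algebra.FiniteType A C₁ :=
    (Subalgebra.fg_iff_finiteType _).mp (Subalgebra.fg_adjoin_finset s)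
  have hcl := H C₁ hft
  have ht₁ := hs C₁ Algebra.subset_adjoin
  have hue₁ : RepWith @Etale (uT φ g₀ u hu C₁) :=
    MorphismProperty.of_isPullback (P := RepWith @Etale) (sq_uT φ g₀ u hu C₁).flip hue
  have hus₁ : RepWith @Surjective (uT φ g₀ u hu C₁) :=
    MorphismProperty.of_isPullback (P := RepWith @Surjective) (sq_uT φ g₀ u hu C₁).flip hus
  have h1 : ∀ x : Points (FT φ C),
      Points.toScheme (TC str C₁) (Points.map (pullback.snd φ ((yon S).map (γC str C₁)))
        (Points.map (ρF φ C₁.val) x)) =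
      (τC str C₁.val).left (Points.toScheme (TC str C)
        (Points.map (pullback.snd φ ((yon S).map (γC str C))) x)) := by
    intro x
    rw [← Points.map_comp, ρF_snd, Points.map_comp, toScheme_map_yon_map]
  have h4 : ∀ w : ↥(UT g₀ C₁).left,
      Points.toScheme (TC str C₁) (Points.map (pullback.snd φ ((yon S).map (γC str C₁)))
        (Points.ofPt (uT φ g₀ u hu C₁) w)) = (prT g₀ C₁).left w := by
    intro w
    rw [Points.map_ofPt, uT_snd, Points.toScheme_ofPt]
  have cart : ∀ (u₁ : ↥(UT g₀ C₁).left) (x : Points (FT φ C)),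
      Points.ofPt (uT φ g₀ u hu C₁) u₁ = Points.map (ρF φ C₁.val) x →
      ∃ w : ↥(UT g₀ C).left, Points.ofPt (uT φ g₀ u hu C) w = x ∧
        (ρU g₀ C₁.val).left w = u₁ := by
    intro u₁ x hx
    rw [Points.ofPt_eq_map_ofScheme] at hx
    obtain ⟨z, hz1, hz2⟩ := Groth.Agent.H53.exists_point_of_isPullback
      (sq_trans φ g₀ u hu C₁.val) x (Points.ofScheme _ u₁) hx.symm
    obtain ⟨w, rfl⟩ := (Points.schemeEquiv (UT g₀ C)).surjective z
    refine ⟨w, ?_, ?_⟩
    · rw [Points.ofPt_eq_map_ofScheme]
      exact hz1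
    · have := congrArg (Points.toScheme (UT g₀ C₁)) hz2
      rw [Points.toScheme_ofScheme] at this
      rw [← this]
      change _ = Points.toScheme _ (Points.map _ (Points.ofScheme _ w))
      rw [← Points.ofPt_eq_map_ofScheme, Points.toScheme_ofPt]
  obtain ⟨O, hO, htO, hdisj⟩ := exists_open_disjoint_of_spread
    (fun x => Points.toScheme (TC str C) (Points.map (pullback.snd φ ((yon S).map (γC str C))) x))
    (fun x => Points.toScheme (TC str C₁)
      (Points.map (pullback.snd φ ((yon S).map (γC str C₁))) x))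
    (Points.map (ρF φ C₁.val))
    (fun t => (τC str C₁.val).left t)
    (Points.ofPt (uT φ g₀ u hu C))
    (Points.ofPt (uT φ g₀ u hu C₁))
    (fun w => (ρU g₀ C₁.val).left w)
    (fun w => (prT g₀ C₁).left w)
    h1 h4
    (Groth.Agent.H52.isOpenMap_ofPt_of_repWith_etale _ hue₁)
    (Points.continuous_ofPt _)
    (Groth.Agent.H52.ofPt_surjective_of_repWith_surjective _ hus₁)
    cart
    ((isClosedMap_toScheme_comp_iff _).2 hcl)
    (τC str C₁.val).left.continuous K t ht₁
  refine ⟨O, ?_, hO, htO⟩
  intro x hx hxK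
  exact (Set.disjoint_left.1 hdisj) hx hxK

end UCSp

end Groth.Agent.H50
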