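import Groth.Agent.H50.UCSp3
import Mathlib.AlgebraicGeometry.AffineSpace
import Mathlib.AlgebraicGeometry.Morphisms.ClosedImmersion

set_option autoImplicit false
set_option backward.isDefEq.respectTransparency false
set_option linter.style.haveILetI false
set_option linter.unusedSectionVars false
universe u
open CategoryTheory CategoryTheory.Limits AlgebraicGeometry Opposite Topology

namespace Groth.Agent.H50
open AlgSp

variable {S : Scheme.{u}}

namespace UCSp

section Affine

variable {A : Type u} [CommRing A] {str : Spec (.of A) ⟶ S}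
  {F : Sp S} (φ : F ⟶ (yon S).obj (Over.mk str))

/-- The core theorem for arbitrary affine schemes over `Spec A` and arbitrary pullback squares. -/
theorem isClosedMap_snd_of_isAffine (hqc : IsQuasiCompactSp F)
    (H : ∀ (C₁ : Type u) [CommRing C₁] [Algebra A C₁], Algebra.FiniteType A C₁ →
      IsClosedMap (Points.map (pullback.snd φ ((yon S).map (γC str C₁)))))
    (T : Over S) [IsAffine T.left] (β : T ⟶ Over.mk str) {P : Sp S} (fst : P ⟶ F)
    (snd : P ⟶ (yon S).obj T) (sq : IsPullback fst snd φ ((yon S).map β)) :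
    IsClosedMap (Points.map snd) := by
  let C : Type u := Γ(T.left, ⊤)
  let α : CommRingCat.of A ⟶ Γ(T.left, ⊤) := Spec.preimage (T.left.isoSpec.inv ≫ β.left)
  let _ : Algebra A C := α.hom.toAlgebra
  have hα : Spec.map (CommRingCat.ofHom (algebraMap A C)) = T.left.isoSpec.inv ≫ β.left := by
    change Spec.map α = _
    exact Spec.map_preimage _
  have hβ : β.left ≫ str = T.hom := Over.w β
  let e : T ≅ TC str C := Over.isoMk T.left.isoSpec (by
    change T.left.isoSpec.hom ≫ Spec.map _ ≫ str = T.hom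
    rw [hα, Category.assoc, Iso.hom_inv_id_assoc, hβ])
  have he : e.hom ≫ γC str C = β := by
    apply Over.OverMorphism.ext
    change T.left.isoSpec.hom ≫ Spec.map _ = β.left
    rw [hα, Iso.hom_inv_id_assoc]
  have sq' : IsPullback fst (snd ≫ (yon S).map e.hom) φ ((yon S).map (γC str C)) := by
    refine IsPullback.of_iso sq (Iso.refl _) (Iso.refl _) ((yon S).mapIso e) (Iso.refl _)
      (by simp) (by simp) (by simp) ?_
    simp only [Iso.refl_hom, Category.comp_id, Functor.mapIso_hom]
    rw [← Functor.map_comp, he]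
  have h1 : IsClosedMap (Points.map (snd ≫ (yon S).map e.hom)) :=
    isClosedMap_snd_of_isPullback (IsPullback.of_hasPullback φ ((yon S).map (γC str C))) sq'
      (isClosedMap_snd_of_finiteType φ hqc H C)
  have h2 : snd = (snd ≫ (yon S).map e.hom) ≫ (yon S).map e.inv := by
    rw [Category.assoc, ← Functor.map_comp, Iso.hom_inv_id, (yon S).map_id, Category.comp_id]
  rw [h2]
  have : Points.map ((snd ≫ (yon S).map e.hom) ≫ (yon S).map e.inv) =
      Points.map ((yon S).map e.inv) ∘ Points.map (snd ≫ (yon S).map e.hom) := by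
    funext x; exact Points.map_comp _ _ x
  rw [this]
  haveI : IsIso ((yon S).map e.inv) := inferInstance
  exact (isClosedMap_points_map_of_isIso _).comp h1

end Affine

section FiniteType

/-- Affine `n`-space over `V` as an object over `S`. -/
noncomputable abbrev AnV (V : Over S) (n : ℕ) : Over S :=
  Over.mk ((𝔸(ULift.{u} (Fin n); V.left) ↘ V.left) ≫ V.hom)

/-- The projection `𝔸ⁿ_V ⟶ V`. -/
noncomputable abbrev πn (V : Over S) (n : ℕ) : AnV V n ⟶ V :=
  Over.homMk (𝔸(ULift.{u} (Fin n); V.left) ↘ V.left)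

variable {V : Over S} {G : Sp S} (ψ : G ⟶ (yon S).obj V)
  {A : Type u} [CommRing A] (ω : Spec (.of A) ⟶ V.left) [IsImmersion ω]

/-- The affine (locally closed) piece `Spec A` of `V`, as a morphism over `S`. -/
noncomputable abbrev ωo : Over.mk (ω ≫ V.hom) ⟶ V := Over.homMk ω rfl

/-- Closedness over all `𝔸ⁿ_V` gives closedness over all finite type `A`-algebras, for
`Spec A ⟶ V` an immersion. -/
theorem isClosedMap_snd_finiteType_of_affineSpace (hG : IsAlgSpace G)
    (HV : ∀ n : ℕ, IsClosedMap (Points.map (pullback.snd ψ ((yon S).map (πn V n)))))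
    (C₁ : Type u) [CommRing C₁] [Algebra A C₁] (hft : Algebra.FiniteType A C₁) :
    IsClosedMap (Points.map (pullback.snd (pullback.snd ψ ((yon S).map (ωo ω)))
      ((yon S).map (γC (ω ≫ V.hom) C₁)))) := by
  obtain ⟨n, g, hg⟩ := Algebra.FiniteType.iff_quotient_mvPolynomial''.mp hft
  let σ := ULift.{u} (Fin n)
  let g' : MvPolynomial σ A →ₐ[A] C₁ :=
    g.comp (MvPolynomial.renameEquiv A (Equiv.ulift : σ ≃ Fin n)).toAlgHom
  have hg' : Function.Surjective g' :=
    hg.comp (MvPolynomial.renameEquiv A (Equiv.ulift : σ ≃ Fin n)).surjective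
  have hci : IsClosedImmersion (Spec.map (CommRingCat.ofHom g'.toRingHom)) :=
    IsClosedImmersion.spec_of_surjective _ hg'
  let i₀ : Spec (.of C₁) ⟶ 𝔸(σ; Spec (.of A)) :=
    Spec.map (CommRingCat.ofHom g'.toRingHom) ≫ (AffineSpace.SpecIso σ (.of A)).inv
  have hi₀ : i₀ ≫ (𝔸(σ; Spec (.of A)) ↘ Spec (.of A)) =
      Spec.map (CommRingCat.ofHom (algebraMap A C₁)) := by
    rw [Category.assoc, AffineSpace.SpecIso_inv_over, ← Spec.map_comp, ← CommRingCat.ofHom_comp]
    congr 2
    ext a
    simp
  have hi₀c : IsClosedImmersion i₀ := by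
    change IsClosedImmersion (_ ≫ _)
    infer_instance
  have hmap : IsImmersion (AffineSpace.map σ ω) :=
    MorphismProperty.of_isPullback (P := @IsImmersion) (AffineSpace.isPullback_map ω).flip
      inferInstance
  let j : Spec (.of C₁) ⟶ 𝔸(σ; V.left) := i₀ ≫ AffineSpace.map σ ω
  have hj : j ≫ (𝔸(σ; V.left) ↘ V.left) = Spec.map (CommRingCat.ofHom (algebraMap A C₁)) ≫ ω := by
    rw [Category.assoc, AffineSpace.map_over, ← Category.assoc, hi₀]
  have hjimm : IsImmersion j := by
    change IsImmersion (_ ≫ _)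
    infer_instance
  let jo : TC (ω ≫ V.hom) C₁ ⟶ AnV V n := Over.homMk j (by
    change j ≫ (𝔸(σ; V.left) ↘ V.left) ≫ V.hom = Spec.map _ ≫ ω ≫ V.hom
    rw [← Category.assoc, hj, Category.assoc])
  have hjo : jo ≫ πn V n = γC (ω ≫ V.hom) C₁ ≫ ωo ω := by
    apply Over.OverMorphism.ext
    exact hj
  haveI : IsImmersion jo.left := hjimm
  -- the pullback over affine space is an algebraic space with closed projection
  have hPn : IsAlgSpace (pullback ψ ((yon S).map (πn V n))) :=
    Groth.Agent.H49.isAlgSpace_of_isPullback (IsPullback.of_hasPullback _ _)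
      (IsAlgSpace.yon_obj V).diag hG (IsAlgSpace.yon_obj _)
  have hcl' := isClosedMap_snd_of_isImmersion hPn (pullback.snd ψ ((yon S).map (πn V n))) jo
    (pullback.fst _ _) (pullback.snd _ _) (IsPullback.of_hasPullback _ _) (HV n)
  have sq1 := (IsPullback.of_hasPullback (pullback.snd ψ ((yon S).map (πn V n)))
    ((yon S).map jo)).paste_horiz (IsPullback.of_hasPullback ψ ((yon S).map (πn V n)))
  have sq2 := (IsPullback.of_hasPullback (pullback.snd ψ ((yon S).map (ωo ω)))
    ((yon S).map (γC (ω ≫ V.hom) C₁))).paste_horiz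
    (IsPullback.of_hasPullback ψ ((yon S).map (ωo ω)))
  rw [← Functor.map_comp, hjo] at sq1
  rw [← Functor.map_comp] at sq2
  exact isClosedMap_snd_of_isPullback sq1 sq2 hcl'

end FiniteType

end UCSp

end Groth.Agent.H50
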