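import Groth.Agent.H50.UCSp5

set_option autoImplicit false
set_option backward.isDefEq.respectTransparency false
set_option linter.style.haveILetI false
set_option linter.unusedSectionVars false
universe u
open CategoryTheory CategoryTheory.Limits AlgebraicGeometry Opposite Topology

namespace Groth.Agent.H50
open AlgSp

variable {S : Scheme.{u}}

namespace UCSp

/-- The three characterisations of universally closed quasi-compact morphisms of algebraic
spaces. -/
theorem isUnivClosedMor_iff_of_isQuasiCompactMor {X Y : AlgSp.Space S} (f : X ⟶ Y)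
    (hqc : IsQuasiCompactMor f.hom) :
    (IsUnivClosedMor f.hom ↔
      ∀ (Z : AlgSp.Space S) (g : Z ⟶ Y), LocP @LocallyOfFinitePresentation g.hom →
        ∀ (P : Sp S) (fst : P ⟶ X.obj) (snd : P ⟶ Z.obj), IsPullback fst snd f.hom g.hom →
          IsClosedMap (Points.map snd)) ∧
    (IsUnivClosedMor f.hom ↔
      ∃ (V : Over S) (p : (yon S).obj V ⟶ Y.obj), RepWith @Etale p ∧ RepWith @Surjective p ∧
        ∀ (n : ℕ) (P : Sp S) (fst : P ⟶ X.obj)
          (snd : P ⟶ (yon S).obj (Over.mk ((𝔸(ULift.{u} (Fin n); V.left) ↘ V.left) ≫ V.hom))),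
          IsPullback fst snd f.hom
            ((yon S).map (Over.homMk (𝔸(ULift.{u} (Fin n); V.left) ↘ V.left)) ≫ p) →
            IsClosedMap (Points.map snd)) := by
  have h31 : (∃ (V : Over S) (p : (yon S).obj V ⟶ Y.obj), RepWith @Etale p ∧
      RepWith @Surjective p ∧
        ∀ (n : ℕ) (P : Sp S) (fst : P ⟶ X.obj)
          (snd : P ⟶ (yon S).obj (Over.mk ((𝔸(ULift.{u} (Fin n); V.left) ↘ V.left) ≫ V.hom))),
          IsPullback fst snd f.hom
            ((yon S).map (Over.homMk (𝔸(ULift.{u} (Fin n); V.left) ↘ V.left)) ≫ p) →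
            IsClosedMap (Points.map snd)) → IsUnivClosedMor f.hom := by
    rintro ⟨V, p, hp, hps, Hn⟩
    exact isUnivClosedMor_of_affineSpace_chart X.property Y.property f.hom hqc V p hp hps Hn
  have h12 : IsUnivClosedMor f.hom →
      ∀ (Z : AlgSp.Space S) (g : Z ⟶ Y), LocP @LocallyOfFinitePresentation g.hom →
        ∀ (P : Sp S) (fst : P ⟶ X.obj) (snd : P ⟶ Z.obj), IsPullback fst snd f.hom g.hom →
          IsClosedMap (Points.map snd) := by
    intro h Z g _ P fst snd sq
    exact h Z.property g.hom fst snd sq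
  have h23 : (∀ (Z : AlgSp.Space S) (g : Z ⟶ Y), LocP @LocallyOfFinitePresentation g.hom →
        ∀ (P : Sp S) (fst : P ⟶ X.obj) (snd : P ⟶ Z.obj), IsPullback fst snd f.hom g.hom →
          IsClosedMap (Points.map snd)) →
      ∃ (V : Over S) (p : (yon S).obj V ⟶ Y.obj), RepWith @Etale p ∧ RepWith @Surjective p ∧
        ∀ (n : ℕ) (P : Sp S) (fst : P ⟶ X.obj)
          (snd : P ⟶ (yon S).obj (Over.mk ((𝔸(ULift.{u} (Fin n); V.left) ↘ V.left) ≫ V.hom))),
          IsPullback fst snd f.hom
            ((yon S).map (Over.homMk (𝔸(ULift.{u} (Fin n); V.left) ↘ V.left)) ≫ p) →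
            IsClosedMap (Points.map snd) := by
    intro h
    obtain ⟨V, p, hp, hps⟩ := Y.property.atlas
    refine ⟨V, p, hp, hps, fun n P fst snd sq => ?_⟩
    let Z : AlgSp.Space S := ⟨(yon S).obj (AnV V n), IsAlgSpace.yon_obj _⟩
    let g : Z ⟶ Y := ObjectProperty.homMk ((yon S).map (πn V n) ≫ p)
    refine h Z g ?_ P fst snd sq
    change LocP @LocallyOfFinitePresentation ((yon S).map (πn V n) ≫ p)
    refine goodClass_lfp.locP_comp (IsAlgSpace.yon_obj V) _ _
      (goodClass_lfp.locP_yon_map (πn V n) ?_) (goodClass_lfp.locP_of_repWith_etale p hp)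
    change LocallyOfFinitePresentation (𝔸(ULift.{u} (Fin n); V.left) ↘ V.left)
    infer_instance
  exact ⟨⟨h12, fun h => h31 (h23 h)⟩, ⟨fun h => h23 (h12 h), h31⟩⟩

end UCSp

end Groth.Agent.H50
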