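import Groth.Agent.H2.PureEtale
import Mathlib.Algebra.TrivSqZeroExt.Basic
import Mathlib.RingTheory.Spectrum.Prime.RingHom

set_option autoImplicit false
universe u
open scoped TensorProduct

namespace Groth.Agent.H50

/-- If `A' → A' ⊗[A] B` is injective for every `A`-algebra `A'`, then `A → B` is universally
injective (for modules): apply the hypothesis to the trivial square zero extension. -/
theorem univInjective_of_forall_algebra (A B : Type u) [CommRing A] [CommRing B] [Algebra A B]
    (h : ∀ (A' : Type u) [CommRing A'] [Algebra A A'],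
      Function.Injective (Algebra.TensorProduct.includeLeft : A' →ₐ[A] A' ⊗[A] B)) :
    Pi1.UnivInjective A B := by
  intro M _ _
  let _ : Module Aᵐᵒᵖ M := Module.compHom _ ((RingHom.id A).fromOpposite mul_comm)
  have : IsCentralScalar A M := ⟨fun r m => rfl⟩
  have h1 := h (TrivSqZeroExt A M)
  rw [injective_iff_map_eq_zero]
  intro x hx
  obtain ⟨m, rfl⟩ := (TensorProduct.rid A M).symm.surjective x
  have h2 : (LinearMap.rTensor B (TrivSqZeroExt.inrHom A M))
      ((LinearMap.lTensor M (Algebra.linearMap A B)) ((TensorProduct.rid A M).symm m)) = 0 := by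
    rw [hx, map_zero]
  have h3 : (Algebra.TensorProduct.includeLeft : TrivSqZeroExt A M →ₐ[A] _) (TrivSqZeroExt.inr m) =
      (0 : TrivSqZeroExt A M ⊗[A] B) := by
    rw [← h2]
    simp [Algebra.TensorProduct.includeLeft_apply]
  have h4 : (TrivSqZeroExt.inr m : TrivSqZeroExt A M) = 0 := h1 (by rw [h3, map_zero])
  have h5 : m = 0 := by
    have := congrArg TrivSqZeroExt.snd h4
    simpa using this
  rw [h5, map_zero]

/-- If `A' → A' ⊗[A] B` is injective for every `A`-algebra `A'`, then `Spec B → Spec A` is
surjective. -/
theorem comap_surjective_of_forall_algebra (A B : Type u) [CommRing A] [CommRing B] [Algebra A B]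
    (h : ∀ (A' : Type u) [CommRing A'] [Algebra A A'],
      Function.Injective (Algebra.TensorProduct.includeLeft : A' →ₐ[A] A' ⊗[A] B)) :
    Function.Surjective (PrimeSpectrum.comap (algebraMap A B)) := by
  intro p
  have h1 := h p.asIdeal.ResidueField
  have : Nontrivial (p.asIdeal.ResidueField ⊗[A] B) := by
    refine ⟨⟨1, 0, fun h10 => ?_⟩⟩
    have : (Algebra.TensorProduct.includeLeft :
          p.asIdeal.ResidueField →ₐ[A] p.asIdeal.ResidueField ⊗[A] B) 1 =
        (Algebra.TensorProduct.includeLeft :
          p.asIdeal.ResidueField →ₐ[A] p.asIdeal.ResidueField ⊗[A] B) 0 := by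
      rw [map_one, map_zero, h10]
    exact one_ne_zero (h1 this)
  exact (p.nontrivial_iff_mem_rangeComap).1 this

end Groth.Agent.H50
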