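import Groth.Agent.H50.PropDVR3

set_option autoImplicit false
set_option backward.isDefEq.respectTransparency false
set_option linter.style.haveILetI false
set_option linter.unusedSectionVars false
universe u
open CategoryTheory CategoryTheory.Limits AlgebraicGeometry Opposite Topology TensorProduct

namespace Groth.Agent.H50
open AlgSp Groth.Agent.H49 UCSp

variable {S : Scheme.{u}}

namespace VC

section

variable {A : Type u} [CommRing A] (str : Spec (.of A) ⟶ S)

/-- `Spec (B ⊗_A A')` is the fibre product of `Spec B` and `Spec A'` over `Spec A`, over `S`. -/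
theorem isPullback_TC_tensor (B A' : Type u) [CommRing B] [CommRing A'] [Algebra A B]
    [Algebra A A'] :
    IsPullback (τC str (Algebra.TensorProduct.includeLeft : B →ₐ[A] B ⊗[A] A'))
      (τC str (Algebra.TensorProduct.includeRight : A' →ₐ[A] B ⊗[A] A')) (γC str B)
      (γC str A') := by
  refine IsPullback.of_map (Over.forget S) ?_ ?_
  · rw [τC_γC, τC_γC]
  · change IsPullback (Spec.map _) (Spec.map _) (Spec.map _) (Spec.map _)
    exact isPullback_SpecMap_of_isPushout _ _ _ _ (CommRingCat.isPushout_tensorProduct A B A')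

end

/-- **Separatedness and fibre products**: for `π : X' ⟶ h_T` separated, the fibre product over
`X'` of two schemes is a closed subscheme of their fibre product over `T`. -/
theorem isClosedImmersion_of_isSeparatedMor {X' : Sp S} {T T₁ T₂ W E : Over S}
    (π : X' ⟶ (yon S).obj T) (hsep : IsSeparatedMor π) (h₁ : T₁ ⟶ T) (h₂ : T₂ ⟶ T)
    (g₁ : (yon S).obj T₁ ⟶ X') (g₂ : (yon S).obj T₂ ⟶ X') (hg₁ : g₁ ≫ π = (yon S).map h₁)
    (hg₂ : g₂ ≫ π = (yon S).map h₂) (p₁ : W ⟶ T₁) (p₂ : W ⟶ T₂)
    (sqW : IsPullback p₁ p₂ h₁ h₂) (θ₁ : E ⟶ T₁) (θ₂ : E ⟶ T₂)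
    (sqE : IsPullback ((yon S).map θ₁) ((yon S).map θ₂) g₁ g₂) (e₀ : E ⟶ W)
    (he₁ : e₀ ≫ p₁ = θ₁) (he₂ : e₀ ≫ p₂ = θ₂) : IsClosedImmersion e₀.left := by
  have sqW' : IsPullback ((yon S).map p₁) ((yon S).map p₂) ((yon S).map h₁) ((yon S).map h₂) :=
    sqW.map (yon S)
  have hd : ((yon S).map p₁ ≫ g₁) ≫ π = ((yon S).map p₂ ≫ g₂) ≫ π := by
    rw [Category.assoc, Category.assoc, hg₁, hg₂, sqW'.w]
  let d : (yon S).obj W ⟶ pullback π π := pullback.lift _ _ hd
  have hd1 : d ≫ pullback.fst π π = (yon S).map p₁ ≫ g₁ := pullback.lift_fst _ _ _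
  have hd2 : d ≫ pullback.snd π π = (yon S).map p₂ ≫ g₂ := pullback.lift_snd _ _ _
  have hw : ((yon S).map θ₁ ≫ g₁) ≫ pullback.diagonal π = (yon S).map e₀ ≫ d := by
    apply pullback.hom_ext
    · rw [Category.assoc, pullback.diagonal_fst, Category.comp_id, Category.assoc, hd1,
        ← Category.assoc, ← Functor.map_comp, he₁]
    · rw [Category.assoc, pullback.diagonal_snd, Category.comp_id, Category.assoc, hd2,
        ← Category.assoc, ← Functor.map_comp, he₂, sqE.w]
  have sqD : IsPullback ((yon S).map θ₁ ≫ g₁) ((yon S).map e₀) (pullback.diagonal π) d := by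
    refine ⟨⟨hw⟩, ⟨PullbackCone.IsLimit.mk _ (fun s => sqE.lift (s.snd ≫ (yon S).map p₁)
      (s.snd ≫ (yon S).map p₂) ?_) ?_ ?_ ?_⟩⟩
    · have h1 := s.condition =≫ pullback.fst π π
      have h2 := s.condition =≫ pullback.snd π π
      simp only [Category.assoc, pullback.diagonal_fst, pullback.diagonal_snd, Category.comp_id,
        hd1, hd2] at h1 h2
      rw [Category.assoc, Category.assoc, ← h1, ← h2]
    · intro s
      have h1 := s.condition =≫ pullback.fst π π
      simp only [Category.assoc, pullback.diagonal_fst, Category.comp_id, hd1] at h1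
      rw [← Category.assoc, sqE.lift_fst, Category.assoc, ← h1]
    · intro s
      apply sqW'.hom_ext
      · rw [Category.assoc, ← Functor.map_comp, he₁, sqE.lift_fst]
      · rw [Category.assoc, ← Functor.map_comp, he₂, sqE.lift_snd]
    · intro s m hm1 hm2
      apply sqE.hom_ext
      · rw [sqE.lift_fst, ← hm2, Category.assoc, ← Functor.map_comp, he₁]
      · rw [sqE.lift_snd, ← hm2, Category.assoc, ← Functor.map_comp, he₂]
  exact hsep.property d _ e₀ sqD

/-- A ring map inducing a closed immersion on spectra is surjective. -/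
theorem surjective_of_isClosedImmersion_specMap {R R' : Type u} [CommRing R] [CommRing R']
    (ρ : R →+* R') (h : IsClosedImmersion (Spec.map (CommRingCat.ofHom ρ))) :
    Function.Surjective ρ := by
  have h2 := (IsClosedImmersion.isAffine_surjective_of_isAffine
    (Spec.map (CommRingCat.ofHom ρ))).2
  have hn := Scheme.ΓSpecIso_naturality (CommRingCat.ofHom ρ)
  have h3 : Function.Surjective ((Spec.map (CommRingCat.ofHom ρ)).appTop ≫
      (Scheme.ΓSpecIso (CommRingCat.of R')).hom) := by
    change Function.Surjective ((Scheme.ΓSpecIso (CommRingCat.of R')).hom ∘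
      (Spec.map (CommRingCat.ofHom ρ)).appTop)
    exact (ConcreteCategory.bijective_of_isIso _).2.comp h2
  rw [hn] at h3
  have h4 : Function.Surjective (ρ ∘ (Scheme.ΓSpecIso (CommRingCat.of R)).hom) := h3
  exact Function.Surjective.of_comp h4

end VC

end Groth.Agent.H50
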