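import Groth.Agent.H50.VC1
import Groth.Agent.H50.PropDVR4

set_option autoImplicit false
set_option backward.isDefEq.respectTransparency false
set_option linter.style.haveILetI false
set_option linter.unusedSectionVars false
universe u
open CategoryTheory CategoryTheory.Limits AlgebraicGeometry Opposite Topology TensorProduct

namespace Groth.Agent.H50
open AlgSp Groth.Agent.H49 UCSp

variable {S : Scheme.{u}}

namespace VC

variable {A : Type u} [CommRing A] {str : Spec (.of A) ⟶ S}

/-- A chart of the form `Spec B` for an `A`-algebra `B`, compatible with the structure map,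
through a given point of an algebraic space over `Spec A`. -/
theorem exists_TC_chart {X' : Sp S} (hX' : IsAlgSpace X') (π : X' ⟶ (yon S).obj (Over.mk str))
    (x₀ : Points X') :
    ∃ (B : Type u) (_ : CommRing B) (_ : Algebra A B) (c : (yon S).obj (TC str B) ⟶ X')
      (u₀ : ↥(Spec (.of B))),
      RepWith @Etale c ∧ c ≫ π = (yon S).map (γC str B) ∧ Points.ofPt c u₀ = x₀ := by
  obtain ⟨B, iB, strU, c, u, hce, hu⟩ := PropDVR.exists_spec_chart_of_point hX' x₀
  obtain ⟨gU, hgU⟩ := (yon S).map_surjective (c ≫ π)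
  let α : A →+* B := (Spec.preimage gU.left).hom
  letI : Algebra A B := α.toAlgebra
  have hα : Spec.map (CommRingCat.ofHom (algebraMap A B)) = gU.left := Spec.map_preimage gU.left
  have hstrU : gU.left ≫ str = strU := Over.w gU
  have hι : 𝟙 (Spec (.of B)) ≫ strU = Spec.map (CommRingCat.ofHom (algebraMap A B)) ≫ str := by
    rw [Category.id_comp, hα, hstrU]
  let ι : TC str B ⟶ Over.mk strU := Over.homMk (𝟙 _) hι
  haveI : IsIso ι.left := inferInstanceAs (IsIso (𝟙 (Spec (.of B))))
  haveI : Etale ι.left := inferInstance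
  refine ⟨B, iB, inferInstance, (yon S).map ι ≫ c, u, repWith_etale_yon_map_comp ι c hce, ?_, ?_⟩
  · rw [Category.assoc, ← hgU, ← Functor.map_comp]
    congr 1
    apply Over.OverMorphism.ext
    change 𝟙 _ ≫ gU.left = Spec.map _
    rw [Category.id_comp, hα]
  · rw [Groth.Agent.H52.ofPt_yon_map_comp]
    exact hu

/-- **The fibre product of a chart and a test scheme over a separated algebraic space over
`Spec A`**, in ring-theoretic terms. -/
theorem exists_TC_pullback {X' : Sp S} (π : X' ⟶ (yon S).obj (Over.mk str))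
    (hsep : IsSeparatedMor π) {B A' : Type u} [CommRing B] [CommRing A'] [Algebra A B]
    [Algebra A A'] (c : (yon S).obj (TC str B) ⟶ X') (hce : RepWith @Etale c)
    (hcπ : c ≫ π = (yon S).map (γC str B)) (a' : (yon S).obj (TC str A') ⟶ X')
    (ha'π : a' ≫ π = (yon S).map (γC str A')) :
    ∃ (C : Type u) (_ : CommRing C) (_ : Algebra A C) (β : B →ₐ[A] C) (α' : A' →ₐ[A] C),
      IsPullback ((yon S).map (τC str β)) ((yon S).map (τC str α')) c a' ∧
      Function.Surjective (Algebra.TensorProduct.productMap β α') ∧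
      α'.toRingHom.Etale := by
  obtain ⟨E, pE, fst₀, sq₀⟩ := hce.rep a'
  obtain ⟨θ, rfl⟩ := (yon S).map_surjective fst₀
  haveI hpEe : Etale pE.left := hce.property a' _ pE sq₀
  have compat : θ ≫ γC str B = pE ≫ γC str A' := by
    apply (yon S).map_injective
    rw [Functor.map_comp, Functor.map_comp, ← hcπ, ← ha'π, ← Category.assoc, sq₀.w,
      Category.assoc]
  have sqW := isPullback_TC_tensor str B A'
  obtain ⟨e₀, he₁, he₂⟩ : ∃ e₀ : E ⟶ TC str (B ⊗[A] A'),
      e₀ ≫ τC str (Algebra.TensorProduct.includeLeft : B →ₐ[A] B ⊗[A] A') = θ ∧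
      e₀ ≫ τC str (Algebra.TensorProduct.includeRight : A' →ₐ[A] B ⊗[A] A') = pE :=
    ⟨sqW.lift θ pE compat, sqW.lift_fst _ _ _, sqW.lift_snd _ _ _⟩
  haveI hcl : IsClosedImmersion e₀.left :=
    isClosedImmersion_of_isSeparatedMor π hsep (γC str B) (γC str A') c a' hcπ ha'π _ _ sqW θ pE
      sq₀ e₀ he₁ he₂
  haveI : IsAffine (TC str (B ⊗[A] A')).left := by
    change IsAffine (Spec (.of (B ⊗[A] A')))
    infer_instance
  haveI : IsAffine E.left := isAffine_of_isAffineHom e₀.left
  let ε : E.left ≅ Spec Γ(E.left, ⊤) := E.left.isoSpec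
  let βr : B →+* Γ(E.left, ⊤) := (Spec.preimage (ε.inv ≫ θ.left)).hom
  have hβr : Spec.map (CommRingCat.ofHom βr) = ε.inv ≫ θ.left := Spec.map_preimage _
  let α'r : A' →+* Γ(E.left, ⊤) := (Spec.preimage (ε.inv ≫ pE.left)).hom
  have hα'r : Spec.map (CommRingCat.ofHom α'r) = ε.inv ≫ pE.left := Spec.map_preimage _
  letI algC : Algebra A Γ(E.left, ⊤) := (βr.comp (algebraMap A B)).toAlgebra
  have compat' : θ.left ≫ Spec.map (CommRingCat.ofHom (algebraMap A B)) =
      pE.left ≫ Spec.map (CommRingCat.ofHom (algebraMap A A')) :=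
    congrArg (fun k => k.left) compat
  have hcomm : α'r.comp (algebraMap A A') = βr.comp (algebraMap A B) := by
    have : CommRingCat.ofHom (algebraMap A A') ≫ CommRingCat.ofHom α'r =
        CommRingCat.ofHom (algebraMap A B) ≫ CommRingCat.ofHom βr := by
      apply Spec.map_injective
      rw [Spec.map_comp, Spec.map_comp, hβr, hα'r, Category.assoc, Category.assoc, compat']
    exact congrArg (fun k => k.hom) this
  let β : B →ₐ[A] Γ(E.left, ⊤) := { βr with commutes' := fun a => rfl }
  let α' : A' →ₐ[A] Γ(E.left, ⊤) :=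
    { α'r with commutes' := fun a => congrArg (fun k => k a) hcomm }
  have hβ : Spec.map (CommRingCat.ofHom β.toRingHom) = ε.inv ≫ θ.left := hβr
  have hα' : Spec.map (CommRingCat.ofHom α'.toRingHom) = ε.inv ≫ pE.left := hα'r
  -- the isomorphism `Spec C ≅ E` over `S`
  have hE : E.hom = θ.left ≫ Spec.map (CommRingCat.ofHom (algebraMap A B)) ≫ str :=
    (Over.w θ).symm
  have hiso : ε.inv ≫ E.hom =
      Spec.map (CommRingCat.ofHom (algebraMap A Γ(E.left, ⊤))) ≫ str := by
    have h1 : Spec.map (CommRingCat.ofHom (algebraMap A Γ(E.left, ⊤))) =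
        Spec.map (CommRingCat.ofHom βr) ≫ Spec.map (CommRingCat.ofHom (algebraMap A B)) := by
      rw [← Spec.map_comp, ← CommRingCat.ofHom_comp]
      rfl
    rw [h1, hβr, hE, Category.assoc, Category.assoc]
  let isoE : TC str Γ(E.left, ⊤) ⟶ E := Over.homMk ε.inv hiso
  haveI : IsIso isoE.left := inferInstanceAs (IsIso ε.inv)
  haveI : IsIso isoE := by
    have : IsIso ((Over.forget S).map isoE) := ‹IsIso isoE.left›
    exact isIso_of_reflects_iso isoE (Over.forget S)
  have hτβ : τC str β = isoE ≫ θ := by
    apply Over.OverMorphism.ext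
    exact hβ
  have hτα' : τC str α' = isoE ≫ pE := by
    apply Over.OverMorphism.ext
    exact hα'
  refine ⟨Γ(E.left, ⊤), inferInstance, algC, β, α', ?_, ?_, ?_⟩
  · refine IsPullback.of_iso sq₀ (asIso ((yon S).map isoE)).symm (Iso.refl _) (Iso.refl _)
      (Iso.refl _) ?_ ?_ ?_ ?_
    · simp only [Iso.refl_hom, Category.comp_id, Iso.symm_hom, asIso_inv, IsIso.eq_inv_comp]
      rw [hτβ, Functor.map_comp]
    · simp only [Iso.refl_hom, Category.comp_id, Iso.symm_hom, asIso_inv, IsIso.eq_inv_comp]
      rw [hτα', Functor.map_comp]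
    · simp
    · simp
  · apply surjective_of_isClosedImmersion_specMap
    have hfac : Spec.map (CommRingCat.ofHom
        (Algebra.TensorProduct.productMap β α').toRingHom) = ε.inv ≫ e₀.left := by
      apply (isPullback_SpecMap_of_isPushout _ _ _ _
        (CommRingCat.isPushout_tensorProduct A B A')).hom_ext
      · have h1 : e₀.left ≫ Spec.map (CommRingCat.ofHom
            (Algebra.TensorProduct.includeLeftRingHom : B →+* B ⊗[A] A')) = θ.left :=
          congrArg (fun k => k.left) he₁
        rw [Category.assoc, h1, ← hβ, ← Spec.map_comp, ← CommRingCat.ofHom_comp]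
        congr 2
        ext b
        simp
      · have h2 : e₀.left ≫ Spec.map (CommRingCat.ofHom
            (Algebra.TensorProduct.includeRight : A' →ₐ[A] B ⊗[A] A').toRingHom) = pE.left :=
          congrArg (fun k => k.left) he₂
        rw [Category.assoc, h2, ← hα', ← Spec.map_comp, ← CommRingCat.ofHom_comp]
        congr 2
        ext b
        simp
    change IsClosedImmersion (Spec.map (CommRingCat.ofHom
      (Algebra.TensorProduct.productMap β α').toRingHom))
    rw [hfac]
    infer_instance
  · have h1 : Etale (Spec.map (CommRingCat.ofHom α'.toRingHom)) := by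
      rw [hα']
      infer_instance
    exact (HasRingHomProperty.Spec_iff (P := @Etale)).mp h1

end VC

end Groth.Agent.H50
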