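import Mathlib.RingTheory.Etale.Descent
import Mathlib.RingTheory.Flat.TorsionFree
import Mathlib.RingTheory.Flat.FaithfullyFlat.Algebra
import Mathlib.RingTheory.Valuation.ValuationRing
import Mathlib.RingTheory.RingHom.Etale

set_option autoImplicit false
set_option linter.style.haveILetI false
universe u
open TensorProduct

namespace Groth.Agent.H50

namespace VC

/-- A torsion free module over a valuation ring is flat. -/
theorem flat_of_torsionFree {A : Type u} [CommRing A] [IsDomain A] [ValuationRing A]
    (M : Type u) [AddCommGroup M] [Module A M]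
    (h : ∀ (a : A) (m : M), a ≠ 0 → a • m = 0 → m = 0) : Module.Flat A M := by
  rw [Module.Flat.flat_iff_torsion_eq_bot_of_isBezout, eq_bot_iff]
  intro m hm
  rw [Submodule.mem_torsion_iff] at hm
  obtain ⟨a, ha⟩ := hm
  exact (Submodule.mem_bot A).mpr (h a m (nonZeroDivisors.coe_ne_zero a) ha)

/-- A flat module over a domain `A'` containing `A` is torsion free over `A`. -/
theorem torsionFree_of_flat_tower {A A' C : Type u} [CommRing A] [CommRing A'] [IsDomain A']
    [AddCommGroup C] [Algebra A A'] [Module A' C] [Module A C] [IsScalarTower A A' C]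
    [Module.Flat A' C] (hinj : Function.Injective (algebraMap A A')) (a : A) (c : C)
    (ha : a ≠ 0) (hac : a • c = 0) : c = 0 := by
  have h1 : algebraMap A A' a ∈ nonZeroDivisors A' :=
    mem_nonZeroDivisors_of_ne_zero (fun h0 => ha (hinj (by rw [h0, map_zero])))
  have h2 := Module.Flat.isSMulRegular_of_nonZeroDivisors (M := C) h1
  apply h2
  change algebraMap A A' a • c = algebraMap A A' a • (0 : C)
  rw [smul_zero, algebraMap_smul]
  exact hac

/-- **Étaleness of the image of a chart algebra**: ring-theoretic core of the descent of a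
lift along a dominating extension of valuation rings. -/
theorem etale_range_of_factor {A A' K' B C : Type u} [CommRing A] [CommRing A'] [Field K']
    [CommRing B] [CommRing C] [Algebra A A'] [Algebra A K'] [Algebra A B] [Algebra A C]
    (β : B →ₐ[A] C) (α' : A' →ₐ[A] C) (ι' : A' →ₐ[A] K') (hι' : Function.Injective ι')
    (hsurj : Function.Surjective (Algebra.TensorProduct.productMap β α'))
    (het : α'.toRingHom.Etale) (hff : Module.FaithfullyFlat A A')
    (hflat : Module.Flat A β.range) (r : C →ₐ[A] K' ⊗[A] β.range)
    (hrβ : ∀ b, r (β b) = 1 ⊗ₜ β.rangeRestrict b) (hrα : ∀ a', r (α' a') = ι' a' ⊗ₜ 1) :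
    Algebra.Etale A β.range := by
  letI : Algebra A' C := α'.toRingHom.toAlgebra
  haveI : IsScalarTower A A' C := .of_algebraMap_eq (fun a => (α'.commutes a).symm)
  haveI : Algebra.Etale A' C := RingHom.etale_algebraMap.mp het
  let q : A' ⊗[A] β.range →ₐ[A'] C :=
    Algebra.TensorProduct.lift (Algebra.ofId A' C) β.range.val (fun _ _ => Commute.all _ _)
  have hq : ∀ (a' : A') (b₁ : β.range), q (a' ⊗ₜ b₁) = α' a' * b₁.1 := by
    intro a' b₁
    simp only [q, Algebra.TensorProduct.lift_tmul]
    rfl
  have hqsurj : Function.Surjective q := by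
    intro y
    obtain ⟨z, rfl⟩ := hsurj y
    induction z using TensorProduct.induction_on with
    | zero => exact ⟨0, by simp⟩
    | tmul b a' =>
      refine ⟨a' ⊗ₜ β.rangeRestrict b, ?_⟩
      rw [hq, Algebra.TensorProduct.productMap_apply_tmul, mul_comm]
      rfl
    | add x y hx hy =>
      obtain ⟨x', hx'⟩ := hx
      obtain ⟨y', hy'⟩ := hy
      exact ⟨x' + y', by rw [map_add, map_add, hx', hy']⟩
  have hincl : Function.Injective
      (LinearMap.rTensor β.range ι'.toLinearMap : A' ⊗[A] β.range →ₗ[A] K' ⊗[A] β.range) :=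
    Module.Flat.rTensor_preserves_injective_linearMap _ hι'
  have hrq : ∀ z, r (q z) = LinearMap.rTensor β.range ι'.toLinearMap z := by
    intro z
    induction z using TensorProduct.induction_on with
    | zero => simp
    | tmul a' b₁ =>
      obtain ⟨b, rfl⟩ := β.rangeRestrict_surjective b₁
      rw [hq, map_mul, hrα]
      have : ((β.rangeRestrict b : β.range) : C) = β b := rfl
      rw [this, hrβ, Algebra.TensorProduct.tmul_mul_tmul, mul_one, one_mul]
      rfl
    | add x y hx hy => rw [map_add, map_add, map_add, hx, hy]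
  have hqinj : Function.Injective q := by
    intro z z' hzz'
    apply hincl
    rw [← hrq, ← hrq, hzz']
  let e : A' ⊗[A] β.range ≃ₐ[A'] C := AlgEquiv.ofBijective q ⟨hqinj, hqsurj⟩
  haveI : Algebra.Etale A' (A' ⊗[A] β.range) := Algebra.Etale.of_equiv e.symm
  exact Algebra.Etale.of_etale_tensorProduct_of_faithfullyFlat A'

end VC

end Groth.Agent.H50
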