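import Groth.Agent.H50.VC2
import Groth.Agent.H50.VC3

set_option autoImplicit false
set_option backward.isDefEq.respectTransparency false
set_option linter.style.haveILetI false
set_option linter.unusedSectionVars false
universe u
open CategoryTheory CategoryTheory.Limits AlgebraicGeometry Opposite Topology TensorProduct

namespace Groth.Agent.H50
open AlgSp Groth.Agent.H49 UCSp PropDVR

variable {S : Scheme.{u}}

namespace VC

section

variable {A K : Type u} [CommRing A] [Field K] [Algebra A K] [IsFractionRing A K]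
  {str : Spec (.of A) ⟶ S} {X' : Sp S} (π : X' ⟶ (yon S).obj (Over.mk str))
  (hsep : IsSeparatedMor π) (x : (yon S).obj (TC str K) ⟶ X')
  (hx : x ≫ π = (yon S).map (γC str K))
  {A' K' : Type u} [CommRing A'] [Field K'] [Algebra A A'] [Algebra A K']
  (ι' : A' →ₐ[A] K') (kK : K →ₐ[A] K')
  (a' : (yon S).obj (TC str A') ⟶ X') (ha'π : a' ≫ π = (yon S).map (γC str A'))
  (ha'x : (yon S).map (τC str ι') ≫ a' = (yon S).map (τC str kK) ≫ x)

include hsep hx ha'π ha'x

/-- On `Spec (K' ⊗ A')` the lift factors through the `K`-point. -/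
theorem lift_eq_on_tensor (hι' : Function.Injective ι') [Module.Flat A K'] :
    (yon S).map (τC str (Algebra.TensorProduct.includeRight : A' →ₐ[A] K' ⊗[A] A')) ≫ a' =
      (yon S).map (τC str ((Algebra.TensorProduct.includeLeft : K' →ₐ[A] K' ⊗[A] A').comp kK)) ≫
        x := by
  let νP' : K' ⊗[A] A' →ₐ[A] K' ⊗[A] K' := Algebra.TensorProduct.map (AlgHom.id A K') ι'
  have hνinj : Function.Injective νP' := by
    have : Function.Injective (LinearMap.lTensor K' ι'.toLinearMap) :=
      Module.Flat.lTensor_preserves_injective_linearMap _ hι'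
    exact this
  have hkk : (Algebra.TensorProduct.includeLeft : K' →ₐ[A] K' ⊗[A] K').comp kK =
      (Algebra.TensorProduct.includeRight : K' →ₐ[A] K' ⊗[A] K').comp kK :=
    (IsLocalization.algHom_subsingleton (nonZeroDivisors A) (S := K)).elim _ _
  have h1 : νP'.comp (Algebra.TensorProduct.includeRight : A' →ₐ[A] K' ⊗[A] A') =
      (Algebra.TensorProduct.includeRight : K' →ₐ[A] K' ⊗[A] K').comp ι' := by
    ext a; simp [νP']
  have h2 : νP'.comp ((Algebra.TensorProduct.includeLeft : K' →ₐ[A] K' ⊗[A] A').comp kK) =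
      (Algebra.TensorProduct.includeLeft : K' →ₐ[A] K' ⊗[A] K').comp kK := by
    ext a; simp [νP']
  refine eq_of_isSeparatedMor_of_injective π hsep (τC str νP')
    (appTop_specMap_injective νP'.toRingHom hνinj) _ _ ?_ ?_
  · rw [Category.assoc, Category.assoc, ha'π, hx, ← Functor.map_comp, ← Functor.map_comp,
      τC_γC, τC_γC]
  · rw [← Category.assoc, ← Functor.map_comp, ← τC_comp, h1, τC_comp, Functor.map_comp,
      Category.assoc, ha'x, ← Category.assoc, ← Functor.map_comp, ← τC_comp,
      ← Category.assoc, ← Functor.map_comp, ← τC_comp, h2, hkk]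

/-- The two pullbacks of the lift to `Spec (A' ⊗ A')` agree. -/
theorem lift_cocycle (hι' : Function.Injective ι') [Module.Flat A K'] [Module.Flat A A'] :
    (yon S).map (τC str (Algebra.TensorProduct.includeLeft : A' →ₐ[A] A' ⊗[A] A')) ≫ a' =
      (yon S).map (τC str (Algebra.TensorProduct.includeRight : A' →ₐ[A] A' ⊗[A] A')) ≫ a' := by
  let νQ : A' ⊗[A] A' →ₐ[A] K' ⊗[A] K' := Algebra.TensorProduct.map ι' ι'
  have hνinj : Function.Injective νQ := by
    have h1 : Function.Injective ι'.toLinearMap := hι'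
    exact TensorProduct.map_injective_of_flat_flat' ι'.toLinearMap ι'.toLinearMap h1 h1
  have hkk : (Algebra.TensorProduct.includeLeft : K' →ₐ[A] K' ⊗[A] K').comp kK =
      (Algebra.TensorProduct.includeRight : K' →ₐ[A] K' ⊗[A] K').comp kK :=
    (IsLocalization.algHom_subsingleton (nonZeroDivisors A) (S := K)).elim _ _
  have h1 : νQ.comp (Algebra.TensorProduct.includeLeft : A' →ₐ[A] A' ⊗[A] A') =
      (Algebra.TensorProduct.includeLeft : K' →ₐ[A] K' ⊗[A] K').comp ι' := by
    ext a; simp [νQ]
  have h2 : νQ.comp (Algebra.TensorProduct.includeRight : A' →ₐ[A] A' ⊗[A] A') =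
      (Algebra.TensorProduct.includeRight : K' →ₐ[A] K' ⊗[A] K').comp ι' := by
    ext a; simp [νQ]
  refine eq_of_isSeparatedMor_of_injective π hsep (τC str νQ)
    (appTop_specMap_injective νQ.toRingHom hνinj) _ _ ?_ ?_
  · rw [Category.assoc, Category.assoc, ha'π, ← Functor.map_comp, ← Functor.map_comp,
      τC_γC, τC_γC]
  · have e1 : (yon S).map (τC str νQ) ≫ (yon S).map (τC str
        (Algebra.TensorProduct.includeLeft : A' →ₐ[A] A' ⊗[A] A')) ≫ a' =
        (yon S).map (τC str ((Algebra.TensorProduct.includeLeft :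
          K' →ₐ[A] K' ⊗[A] K').comp kK)) ≫ x := by
      rw [← Category.assoc, ← Functor.map_comp, ← τC_comp, h1, τC_comp, Functor.map_comp,
        Category.assoc, ha'x, ← Category.assoc, ← Functor.map_comp, ← τC_comp]
    have e2 : (yon S).map (τC str νQ) ≫ (yon S).map (τC str
        (Algebra.TensorProduct.includeRight : A' →ₐ[A] A' ⊗[A] A')) ≫ a' =
        (yon S).map (τC str ((Algebra.TensorProduct.includeRight :
          K' →ₐ[A] K' ⊗[A] K').comp kK)) ≫ x := by
      rw [← Category.assoc, ← Functor.map_comp, ← τC_comp, h2, τC_comp, Functor.map_comp,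
        Category.assoc, ha'x, ← Category.assoc, ← Functor.map_comp, ← τC_comp]
    rw [e1, e2, hkk]

end

end VC

end Groth.Agent.H50
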