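import Groth.Agent.H50.VC4

set_option autoImplicit false
set_option backward.isDefEq.respectTransparency false
set_option linter.style.haveILetI false
set_option linter.unusedSectionVars false
universe u
open CategoryTheory CategoryTheory.Limits AlgebraicGeometry Opposite Topology TensorProduct

namespace Groth.Agent.H50
open AlgSp Groth.Agent.H49 UCSp PropDVR

variable {S : Scheme.{u}}

namespace VC

section

variable {A K : Type u} [CommRing A] [Field K] [Algebra A K] [IsFractionRing A K]
  {str : Spec (.of A) ⟶ S} {X' : Sp S} (π : X' ⟶ (yon S).obj (Over.mk str))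
  (hsep : IsSeparatedMor π) (x : (yon S).obj (TC str K) ⟶ X')
  (hx : x ≫ π = (yon S).map (γC str K))
  {A' K' : Type u} [CommRing A'] [Field K'] [Algebra A A'] [Algebra A K']
  (ι' : A' →ₐ[A] K') (kK : K →ₐ[A] K')
  (a' : (yon S).obj (TC str A') ⟶ X') (ha'π : a' ≫ π = (yon S).map (γC str A'))
  (ha'x : (yon S).map (τC str ι') ≫ a' = (yon S).map (τC str kK) ≫ x)
  {B C : Type u} [CommRing B] [CommRing C] [Algebra A B] [Algebra A C]
  (c : (yon S).obj (TC str B) ⟶ X') (hcπ : c ≫ π = (yon S).map (γC str B))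
  (β : B →ₐ[A] C) (α' : A' →ₐ[A] C)
  (sqE : IsPullback ((yon S).map (τC str β)) ((yon S).map (τC str α')) c a')

include hsep hx ha'π ha'x hcπ sqE

/-- On `Spec (K' ⊗ B₁)` the chart factors through the `K`-point. -/
theorem chart_eq_on_tensor (hι' : Function.Injective ι') [Module.Flat A K'] :
    (yon S).map (τC str ((Algebra.TensorProduct.includeRight :
        β.range →ₐ[A] K' ⊗[A] β.range).comp β.rangeRestrict)) ≫ c =
      (yon S).map (τC str ((Algebra.TensorProduct.includeLeft :
        K' →ₐ[A] K' ⊗[A] β.range).comp kK)) ≫ x := by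
  let νN : K' ⊗[A] β.range →ₐ[A] K' ⊗[A] C :=
    Algebra.TensorProduct.map (AlgHom.id A K') β.range.val
  let νP : K' ⊗[A] A' →ₐ[A] K' ⊗[A] C := Algebra.TensorProduct.map (AlgHom.id A K') α'
  have hνinj : Function.Injective νN := by
    have h0 : Function.Injective β.range.val.toLinearMap := Subtype.val_injective
    have : Function.Injective (LinearMap.lTensor K' β.range.val.toLinearMap) :=
      Module.Flat.lTensor_preserves_injective_linearMap _ h0
    exact this
  have h1 : νN.comp ((Algebra.TensorProduct.includeRight :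
      β.range →ₐ[A] K' ⊗[A] β.range).comp β.rangeRestrict) =
      (Algebra.TensorProduct.includeRight : C →ₐ[A] K' ⊗[A] C).comp β := by
    ext b; simp [νN]
  have h2 : νN.comp ((Algebra.TensorProduct.includeLeft :
      K' →ₐ[A] K' ⊗[A] β.range).comp kK) =
      (Algebra.TensorProduct.includeLeft : K' →ₐ[A] K' ⊗[A] C).comp kK := by
    ext b; simp [νN]
  have h3 : (Algebra.TensorProduct.includeRight : C →ₐ[A] K' ⊗[A] C).comp α' =
      νP.comp (Algebra.TensorProduct.includeRight : A' →ₐ[A] K' ⊗[A] A') := by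
    ext b; simp [νP]
  have h4 : νP.comp ((Algebra.TensorProduct.includeLeft : K' →ₐ[A] K' ⊗[A] A').comp kK) =
      (Algebra.TensorProduct.includeLeft : K' →ₐ[A] K' ⊗[A] C).comp kK := by
    ext b; simp [νP]
  have hα := lift_eq_on_tensor π hsep x hx ι' kK a' ha'π ha'x hι'
  refine eq_of_isSeparatedMor_of_injective π hsep (τC str νN)
    (appTop_specMap_injective νN.toRingHom hνinj) _ _ ?_ ?_
  · rw [Category.assoc, Category.assoc, hcπ, hx, ← Functor.map_comp, ← Functor.map_comp,
      τC_γC, τC_γC]
  · have e1 : (yon S).map (τC str νN) ≫ (yon S).map (τC str ((Algebra.TensorProduct.includeRight :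
        β.range →ₐ[A] K' ⊗[A] β.range).comp β.rangeRestrict)) ≫ c =
        (yon S).map (τC str ((Algebra.TensorProduct.includeLeft :
          K' →ₐ[A] K' ⊗[A] C).comp kK)) ≫ x := by
      rw [← Category.assoc, ← Functor.map_comp, ← τC_comp, h1, τC_comp, Functor.map_comp,
        Category.assoc, sqE.w, ← Category.assoc, ← Functor.map_comp, ← τC_comp, h3, τC_comp,
        Functor.map_comp, Category.assoc, hα, ← Category.assoc, ← Functor.map_comp, ← τC_comp,
        h4]
    have e2 : (yon S).map (τC str νN) ≫ (yon S).map (τC str ((Algebra.TensorProduct.includeLeft :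
        K' →ₐ[A] K' ⊗[A] β.range).comp kK)) ≫ x =
        (yon S).map (τC str ((Algebra.TensorProduct.includeLeft :
          K' →ₐ[A] K' ⊗[A] C).comp kK)) ≫ x := by
      rw [← Category.assoc, ← Functor.map_comp, ← τC_comp, h2]
    rw [e1, e2]

/-- The factorization `C → K' ⊗ B₁` coming from the fibre product. -/
theorem exists_factor (hι' : Function.Injective ι') [Module.Flat A K'] :
    ∃ r : C →ₐ[A] K' ⊗[A] β.range, (∀ b, r (β b) = 1 ⊗ₜ β.rangeRestrict b) ∧
      ∀ a₁, r (α' a₁) = ι' a₁ ⊗ₜ 1 := by
  have hγ := chart_eq_on_tensor π hsep x hx ι' kK a' ha'π ha'x c hcπ β α' sqE hι'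
  have hw : (yon S).map (τC str ((Algebra.TensorProduct.includeRight :
      β.range →ₐ[A] K' ⊗[A] β.range).comp β.rangeRestrict)) ≫ c =
      (yon S).map (τC str ((Algebra.TensorProduct.includeLeft :
        K' →ₐ[A] K' ⊗[A] β.range).comp ι')) ≫ a' := by
    rw [hγ, τC_comp, Functor.map_comp, Category.assoc, ← ha'x, ← Category.assoc,
      ← Functor.map_comp, ← τC_comp]
  obtain ⟨l, hl1, hl2⟩ := sqE.exists_lift _ _ hw
  obtain ⟨l₀, rfl⟩ := (yon S).map_surjective l
  rw [← Functor.map_comp] at hl1 hl2
  have hl1' := (yon S).map_injective hl1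
  have hl2' := (yon S).map_injective hl2
  have hl1'' : l₀.left ≫ Spec.map (CommRingCat.ofHom β.toRingHom) =
      Spec.map (CommRingCat.ofHom ((Algebra.TensorProduct.includeRight :
        β.range →ₐ[A] K' ⊗[A] β.range).comp β.rangeRestrict).toRingHom) :=
    congrArg (fun k => k.left) hl1'
  have hl2'' : l₀.left ≫ Spec.map (CommRingCat.ofHom α'.toRingHom) =
      Spec.map (CommRingCat.ofHom ((Algebra.TensorProduct.includeLeft :
        K' →ₐ[A] K' ⊗[A] β.range).comp ι').toRingHom) :=
    congrArg (fun k => k.left) hl2'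
  let r₀ : C →+* K' ⊗[A] β.range := (Spec.preimage l₀.left).hom
  have hr₀ : Spec.map (CommRingCat.ofHom r₀) = l₀.left := Spec.map_preimage _
  have hrβ : r₀.comp β.toRingHom = ((Algebra.TensorProduct.includeRight :
      β.range →ₐ[A] K' ⊗[A] β.range).comp β.rangeRestrict).toRingHom := by
    have : CommRingCat.ofHom β.toRingHom ≫ CommRingCat.ofHom r₀ =
        CommRingCat.ofHom ((Algebra.TensorProduct.includeRight :
          β.range →ₐ[A] K' ⊗[A] β.range).comp β.rangeRestrict).toRingHom := by
      apply Spec.map_injective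
      rw [Spec.map_comp, hr₀, hl1'']
    exact congrArg (fun k => k.hom) this
  have hrα : r₀.comp α'.toRingHom = ((Algebra.TensorProduct.includeLeft :
      K' →ₐ[A] K' ⊗[A] β.range).comp ι').toRingHom := by
    have : CommRingCat.ofHom α'.toRingHom ≫ CommRingCat.ofHom r₀ =
        CommRingCat.ofHom ((Algebra.TensorProduct.includeLeft :
          K' →ₐ[A] K' ⊗[A] β.range).comp ι').toRingHom := by
      apply Spec.map_injective
      rw [Spec.map_comp, hr₀, hl2'']
    exact congrArg (fun k => k.hom) this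
  have hrβ' : ∀ b, r₀ (β b) = 1 ⊗ₜ β.rangeRestrict b := fun b => by
    have := congrArg (fun k => k b) hrβ
    simpa using this
  have hrα' : ∀ a₁, r₀ (α' a₁) = ι' a₁ ⊗ₜ 1 := fun a₁ => by
    have := congrArg (fun k => k a₁) hrα
    simpa using this
  refine ⟨{ r₀ with commutes' := fun a => ?_ }, hrβ', hrα'⟩
  change r₀ (algebraMap A C a) = algebraMap A (K' ⊗[A] β.range) a
  rw [← β.commutes a, hrβ', Algebra.TensorProduct.algebraMap_apply, AlgHom.commutes]
  rw [Algebra.algebraMap_eq_smul_one, Algebra.algebraMap_eq_smul_one (R := A) (A := K'),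
    TensorProduct.smul_tmul]

end

end VC

end Groth.Agent.H50
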