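import Groth.Agent.H50.VC5

set_option autoImplicit false
set_option backward.isDefEq.respectTransparency false
set_option linter.style.haveILetI false
set_option linter.unusedSectionVars false
universe u
open CategoryTheory CategoryTheory.Limits AlgebraicGeometry Opposite Topology TensorProduct

namespace Groth.Agent.H50
open AlgSp Groth.Agent.H49 UCSp PropDVR

variable {S : Scheme.{u}}

namespace VC

set_option maxHeartbeats 1600000 in
/-- **Descent of a lift along a dominating extension of valuation rings**, over `Spec A`: a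
section of a separated algebraic space over a valuation ring `A`, given over the fraction field and
after a dominating extension `A → A'`, exists over `A`. -/
theorem exists_section_of_ext {A K : Type u} [CommRing A] [IsDomain A] [ValuationRing A] [Field K]
    [Algebra A K] [IsFractionRing A K] {str : Spec (.of A) ⟶ S} {X' : Sp S}
    (hX' : IsAlgSpace X') (π : X' ⟶ (yon S).obj (Over.mk str)) (hsep : IsSeparatedMor π)
    (x : (yon S).obj (TC str K) ⟶ X') (hx : x ≫ π = (yon S).map (γC str K))
    {A' K' : Type u} [CommRing A'] [IsDomain A'] [IsLocalRing A'] [Field K'] [Algebra A A']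
    [IsLocalHom (algebraMap A A')] [Algebra A K']
    (ι' : A' →ₐ[A] K') (hι' : Function.Injective ι') (kK : K →ₐ[A] K')
    (a' : (yon S).obj (TC str A') ⟶ X') (ha'π : a' ≫ π = (yon S).map (γC str A'))
    (ha'x : (yon S).map (τC str ι') ≫ a' = (yon S).map (τC str kK) ≫ x) :
    ∃ a : (yon S).obj (Over.mk str) ⟶ X', a ≫ π = 𝟙 _ ∧ (yon S).map (γC str K) ≫ a = x := by
  classical
  -- basic algebra
  have hAK'inj : Function.Injective (algebraMap A K') := by
    have e : (algebraMap A K' : A → K') = kK ∘ algebraMap A K := by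
      funext a
      exact (kK.commutes a).symm
    rw [e]
    exact kK.toRingHom.injective.comp (IsFractionRing.injective A K)
  have hAA'inj : Function.Injective (algebraMap A A') := by
    have e : (algebraMap A K' : A → K') = ι' ∘ algebraMap A A' := by
      funext a
      exact (ι'.commutes a).symm
    rw [e] at hAK'inj
    exact Function.Injective.of_comp hAK'inj
  haveI hK'flat : Module.Flat A K' := flat_of_torsionFree K' (fun a m ha ham => by
    rw [Algebra.smul_def] at ham
    rcases mul_eq_zero.mp ham with h | h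
    · exact absurd (hAK'inj (by rw [h, map_zero])) ha
    · exact h)
  haveI hA'flat : Module.Flat A A' := flat_of_torsionFree A' (fun a m ha ham => by
    rw [Algebra.smul_def] at ham
    rcases mul_eq_zero.mp ham with h | h
    · exact absurd (hAA'inj (by rw [h, map_zero])) ha
    · exact h)
  haveI hA'ff : Module.FaithfullyFlat A A' := Module.FaithfullyFlat.of_flat_of_isLocalHom
  -- the chart and the fibre product
  obtain ⟨B, iB, algB, c, u₀, hce, hcπ, hu₀⟩ :=
    exists_TC_chart hX' π (Points.ofPt a' (IsLocalRing.closedPoint A'))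
  obtain ⟨C, iC, algC, β, α', sqE, hsurj, het⟩ := exists_TC_pullback π hsep c hce hcπ a' ha'π
  -- surjectivity of `Spec C ⟶ Spec A'`
  have hEsurj : Function.Surjective (Spec.map (CommRingCat.ofHom α'.toRingHom)).base := by
    have h1 : Points.map c (Points.ofScheme _ u₀) =
        Points.map a' (Points.ofScheme _ (IsLocalRing.closedPoint A')) := by
      rw [← Points.ofPt_eq_map_ofScheme, ← Points.ofPt_eq_map_ofScheme, hu₀]
    obtain ⟨z, -, hz2⟩ := Groth.Agent.H53.exists_point_of_isPullback sqE _ _ h1
    obtain ⟨e, rfl⟩ := (Points.schemeEquiv (TC str C)).surjective z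
    have he : (τC str α').left.base e = IsLocalRing.closedPoint A' := by
      have := congrArg (Points.toScheme (TC str A')) hz2
      rw [Points.toScheme_ofScheme] at this
      rw [← this]
      change _ = Points.toScheme _ (Points.map _ (Points.ofScheme _ e))
      rw [← Points.ofPt_eq_map_ofScheme, Points.toScheme_ofPt]
    haveI : Etale (Spec.map (CommRingCat.ofHom α'.toRingHom)) :=
      (HasRingHomProperty.Spec_iff (P := @Etale)).mpr het
    have hopen : IsOpen (Set.range (Spec.map (CommRingCat.ofHom α'.toRingHom)).base) :=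
      (Spec.map (CommRingCat.ofHom α'.toRingHom)).isOpenMap.isOpen_range
    intro p
    have hsp : p ⤳ IsLocalRing.closedPoint A' := IsLocalRing.specializes_closedPoint p
    exact hsp.mem_open hopen ⟨e, he⟩
  -- flatness
  letI algA'C : Algebra A' C := α'.toRingHom.toAlgebra
  haveI : IsScalarTower A A' C := .of_algebraMap_eq (fun a => (α'.commutes a).symm)
  haveI : Algebra.Etale A' C := RingHom.etale_algebraMap.mp het
  haveI : Module.Flat A' C := inferInstance
  have hCtf : ∀ (a : A) (m : C), a ≠ 0 → a • m = 0 → m = 0 :=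
    fun a m ha ham => torsionFree_of_flat_tower (A' := A') hAA'inj a m ha ham
  haveI hCflat : Module.Flat A C := flat_of_torsionFree C hCtf
  haveI hB₁flat : Module.Flat A β.range := flat_of_torsionFree β.range (fun a m ha ham => by
    apply Subtype.ext
    apply hCtf a m.1 ha
    have := congrArg Subtype.val ham
    simpa using this)
  -- étaleness of `B₁`
  obtain ⟨r, hrβ, hrα⟩ := exists_factor π hsep x hx ι' kK a' ha'π ha'x c hcπ β α' sqE hι'
  haveI hB₁et : Algebra.Etale A β.range :=
    etale_range_of_factor β α' ι' hι' hsurj het hA'ff hB₁flat r hrβ hrα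
  have hv₁flat : Flat (γC str β.range).left := by
    change Flat (Spec.map (CommRingCat.ofHom (algebraMap A β.range)))
    rw [HasRingHomProperty.Spec_iff (P := @Flat)]
    exact RingHom.flat_algebraMap_iff.mpr hB₁flat
  have hv₁fp : LocallyOfFinitePresentation (γC str β.range).left := by
    change LocallyOfFinitePresentation (Spec.map (CommRingCat.ofHom (algebraMap A β.range)))
    rw [HasRingHomProperty.Spec_iff (P := @LocallyOfFinitePresentation)]
    exact RingHom.finitePresentation_algebraMap.mpr inferInstance
  -- surjectivity of `Spec B₁ ⟶ Spec A`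
  have hv₁surj : ∀ b : ↥(Over.mk str).left, ∃ _ : Unit,
      b ∈ Set.range (γC str β.range).left.base := by
    intro b
    refine ⟨(), ?_⟩
    obtain ⟨p', hp'⟩ := PrimeSpectrum.comap_surjective_of_faithfullyFlat (A := A) (B := A') b
    obtain ⟨e, he⟩ := hEsurj p'
    refine ⟨(Spec.map (CommRingCat.ofHom β.range.val.toRingHom)).base e, ?_⟩
    change (Spec.map (CommRingCat.ofHom β.range.val.toRingHom) ≫
      Spec.map (CommRingCat.ofHom (algebraMap A β.range))).base e = b
    rw [← Spec.map_comp, ← CommRingCat.ofHom_comp]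
    have e1 : (β.range.val.toRingHom.comp (algebraMap A β.range)) =
        α'.toRingHom.comp (algebraMap A A') := by
      ext a
      change algebraMap A C a = α' (algebraMap A A' a)
      rw [α'.commutes]
    rw [e1, CommRingCat.ofHom_comp, Spec.map_comp]
    change (Spec.map (CommRingCat.ofHom (algebraMap A A'))).base
      ((Spec.map (CommRingCat.ofHom α'.toRingHom)).base e) = b
    rw [he]
    exact hp'
  -- the morphism on the cover and its cocycle condition
  obtain ⟨m₁, hm₁⟩ : ∃ m₁ : (yon S).obj (TC str β.range) ⟶ X',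
      m₁ = (yon S).map (τC str β.rangeRestrict) ≫ c := ⟨_, rfl⟩
  have hm₁π : m₁ ≫ π = (yon S).map (γC str β.range) := by
    rw [hm₁, Category.assoc, hcπ, ← Functor.map_comp, τC_γC]
  have hvalβ : β.range.val.comp β.rangeRestrict = β := by
    ext b; rfl
  have hvalm₁ : (yon S).map (τC str β.range.val) ≫ m₁ = (yon S).map (τC str α') ≫ a' := by
    rw [hm₁, ← Category.assoc, ← Functor.map_comp, ← τC_comp, hvalβ, sqE.w]
  let i₁ : β.range →ₐ[A] β.range ⊗[A] β.range := Algebra.TensorProduct.includeLeft
  let i₂ : β.range →ₐ[A] β.range ⊗[A] β.range := Algebra.TensorProduct.includeRight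
  let μ : β.range ⊗[A] β.range →ₐ[A] C ⊗[A] C :=
    Algebra.TensorProduct.map β.range.val β.range.val
  let νQC : A' ⊗[A] A' →ₐ[A] C ⊗[A] C := Algebra.TensorProduct.map α' α'
  have hμinj : Function.Injective μ := by
    have h1 : Function.Injective β.range.val.toLinearMap := Subtype.val_injective
    exact TensorProduct.map_injective_of_flat_flat' _ _ h1 h1
  have hμ₁ : μ.comp i₁ = (Algebra.TensorProduct.includeLeft : C →ₐ[A] C ⊗[A] C).comp
      β.range.val := by
    ext b; simp [μ, i₁]
  have hμ₂ : μ.comp i₂ = (Algebra.TensorProduct.includeRight : C →ₐ[A] C ⊗[A] C).comp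
      β.range.val := by
    ext b; simp [μ, i₂]
  have hν₁ : (Algebra.TensorProduct.includeLeft : C →ₐ[A] C ⊗[A] C).comp α' =
      νQC.comp (Algebra.TensorProduct.includeLeft : A' →ₐ[A] A' ⊗[A] A') := by
    ext b; simp [νQC]
  have hν₂ : (Algebra.TensorProduct.includeRight : C →ₐ[A] C ⊗[A] C).comp α' =
      νQC.comp (Algebra.TensorProduct.includeRight : A' →ₐ[A] A' ⊗[A] A') := by
    ext b; simp [νQC]
  have hδ := lift_cocycle π hsep x hx ι' kK a' ha'π ha'x hι'
  have hcocycle : (yon S).map (τC str i₁) ≫ m₁ = (yon S).map (τC str i₂) ≫ m₁ := by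
    refine eq_of_isSeparatedMor_of_injective π hsep (τC str μ)
      (appTop_specMap_injective μ.toRingHom hμinj) _ _ ?_ ?_
    · rw [Category.assoc, Category.assoc, hm₁π, ← Functor.map_comp, ← Functor.map_comp,
        τC_γC, τC_γC]
    · have e1 : (yon S).map (τC str μ) ≫ (yon S).map (τC str i₁) ≫ m₁ =
          (yon S).map (τC str νQC) ≫ (yon S).map (τC str
            (Algebra.TensorProduct.includeLeft : A' →ₐ[A] A' ⊗[A] A')) ≫ a' := by
        rw [← Category.assoc, ← Functor.map_comp, ← τC_comp, hμ₁, τC_comp, Functor.map_comp,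
          Category.assoc, hvalm₁, ← Category.assoc, ← Functor.map_comp, ← τC_comp, hν₁, τC_comp,
          Functor.map_comp, Category.assoc]
      have e2 : (yon S).map (τC str μ) ≫ (yon S).map (τC str i₂) ≫ m₁ =
          (yon S).map (τC str νQC) ≫ (yon S).map (τC str
            (Algebra.TensorProduct.includeRight : A' →ₐ[A] A' ⊗[A] A')) ≫ a' := by
        rw [← Category.assoc, ← Functor.map_comp, ← τC_comp, hμ₂, τC_comp, Functor.map_comp,
          Category.assoc, hvalm₁, ← Category.assoc, ← Functor.map_comp, ← τC_comp, hν₂, τC_comp,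
          Functor.map_comp, Category.assoc]
      rw [e1, e2, hδ]
  -- descent
  obtain ⟨a, ha⟩ := exists_desc_of_cover (B := Over.mk str) (fun _ : Unit => TC str β.range)
    (fun _ => γC str β.range) (fun _ => ⟨hv₁flat, hv₁fp⟩) hv₁surj (fun _ => m₁) (by
      intro W _ _ g₁ g₂ h
      obtain ⟨g, hg1, hg2⟩ := exists_lift_tensor str β.range g₁ g₂ h
      rw [← hg1, ← hg2, Functor.map_comp, Functor.map_comp, Category.assoc, Category.assoc,
        hcocycle])
  have ha' : (yon S).map (γC str β.range) ≫ a = m₁ := ha ()
  have haπ : a ≫ π = 𝟙 _ := by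
    refine hom_ext_of_cover (B := Over.mk str) (fun _ : Unit => TC str β.range)
      (fun _ => γC str β.range) (fun _ => ⟨hv₁flat, hv₁fp⟩) hv₁surj _ _ ?_
    intro _
    rw [← Category.assoc, ha', hm₁π, Category.comp_id]
  refine ⟨a, haπ, ?_⟩
  -- the restriction to `Spec K`
  have hγ := chart_eq_on_tensor π hsep x hx ι' kK a' ha'π ha'x c hcπ β α' sqE hι'
  let nK : K →ₐ[A] K' ⊗[A] β.range :=
    (Algebra.TensorProduct.includeLeft : K' →ₐ[A] K' ⊗[A] β.range).comp kK
  haveI : Module.FaithfullyFlat A β.range := by
    rw [← RingHom.faithfullyFlat_algebraMap_iff, RingHom.FaithfullyFlat.iff_flat_and_comap_surjective]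
    refine ⟨RingHom.flat_algebraMap_iff.mpr hB₁flat, ?_⟩
    intro b
    obtain ⟨_, p, hp⟩ := hv₁surj b
    exact ⟨p, hp⟩
  haveI : Nontrivial (K' ⊗[A] β.range) := Module.FaithfullyFlat.rTensor_nontrivial A β.range K'
  refine eq_of_isSeparatedMor_of_injective π hsep (τC str nK)
    (appTop_specMap_injective nK.toRingHom nK.toRingHom.injective) _ _ ?_ ?_
  · rw [Category.assoc, haπ, Category.comp_id, hx]
  · have e1 : (yon S).map (τC str nK) ≫ (yon S).map (γC str K) ≫ a =
        (yon S).map (τC str ((Algebra.TensorProduct.includeRight :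
          β.range →ₐ[A] K' ⊗[A] β.range).comp β.rangeRestrict)) ≫ c := by
      rw [← Category.assoc, ← Functor.map_comp, τC_γC,
        ← τC_γC str (Algebra.TensorProduct.includeRight : β.range →ₐ[A] K' ⊗[A] β.range),
        Functor.map_comp, Category.assoc, ha', hm₁, ← Category.assoc, ← Functor.map_comp,
        ← τC_comp]
    rw [e1, hγ]

end VC

end Groth.Agent.H50
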