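import Groth.Agent.H50.VC6

set_option autoImplicit false
set_option backward.isDefEq.respectTransparency false
set_option linter.style.haveILetI false
set_option linter.unusedSectionVars false
universe u
open CategoryTheory CategoryTheory.Limits AlgebraicGeometry Opposite Topology TensorProduct

namespace Groth.Agent.H50
open AlgSp Groth.Agent.H49 UCSp PropDVR

variable {S : Scheme.{u}}

namespace VC

/-- **Stacks, Morphisms of Spaces**: for a separated morphism of algebraic spaces, a valuative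
square with a lift after a dominating extension of the valuation ring has a lift. -/
theorem hasLift_of_domExt_of_separated {F G : Sp S} (hF : IsAlgSpace F) (hG : IsAlgSpace G)
    (f : F ⟶ G) (hsep : IsSeparatedMor f) (sq : ValSq f) (e : sq.DomExt) (he : e.HasLift) :
    sq.HasLift := by
  have hA : IsAlgSpace ((yon S).obj sq.ptA) := IsAlgSpace.yon_obj _
  have sqP : IsPullback (pullback.fst f sq.bot) (pullback.snd f sq.bot) f sq.bot :=
    IsPullback.of_hasPullback f sq.bot
  obtain ⟨X', fst, π, sqX⟩ : ∃ (X' : Sp S) (fst : X' ⟶ F) (π : X' ⟶ (yon S).obj sq.ptA),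
      IsPullback fst π f sq.bot := ⟨_, _, _, sqP⟩
  have hX' : IsAlgSpace X' := isAlgSpace_of_isPullback sqX hG.diag hF hA
  have hπsep : IsSeparatedMor π :=
    MorphismProperty.of_isPullback (P := RepWith @IsClosedImmersion)
      (Groth.Agent.H53.isPullback_diagonal_of_isPullback sqX) hsep
  obtain ⟨x, hx1, hx2⟩ : ∃ x : (yon S).obj sq.ptK ⟶ X', x ≫ fst = sq.top ∧
      x ≫ π = (yon S).map sq.j := by
    obtain ⟨x, h1, h2⟩ := sqX.exists_lift sq.top ((yon S).map sq.j) sq.comm
    exact ⟨x, h1, h2⟩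
  obtain ⟨l, hl1, hl2⟩ := he
  -- algebra structures
  letI algA' : Algebra sq.A e.A' := e.φ.toAlgebra
  letI algK' : Algebra sq.A e.K' := ((algebraMap e.A' e.K').comp e.φ).toAlgebra
  haveI : IsLocalHom (algebraMap sq.A e.A') := e.isLocalHom
  let ι' : e.A' →ₐ[sq.A] e.K' := { algebraMap e.A' e.K' with commutes' := fun a => rfl }
  have hι' : Function.Injective ι' := IsFractionRing.injective e.A' e.K'
  let kK : sq.K →ₐ[sq.A] e.K' :=
    { e.ψ with commutes' := fun a => (congrArg (fun k => k a) e.comm).symm }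
  -- the lift over `Spec A'` as a morphism to the base change
  let ιA : e.ptA' ⟶ sq.ptA := Over.homMk (Spec.map (CommRingCat.ofHom e.φ)) rfl
  have hl2' : l ≫ f = (yon S).map ιA ≫ sq.bot := hl2
  obtain ⟨a', ha'1, ha'2⟩ := sqX.exists_lift l ((yon S).map ιA) hl2'
  have ha'π : a' ≫ π = (yon S).map (γC sq.str e.A') := ha'2
  -- comparison of `Spec K'` over `S`
  have hζ : 𝟙 (Spec (CommRingCat.of e.K')) ≫ e.ptK'.hom = (TC sq.str e.K').hom := by
    change 𝟙 _ ≫ Spec.map _ ≫ Spec.map _ ≫ sq.str = Spec.map _ ≫ sq.str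
    rw [Category.id_comp, ← Category.assoc, ← Spec.map_comp, ← CommRingCat.ofHom_comp]
    rfl
  let ζ : TC sq.str e.K' ⟶ e.ptK' := Over.homMk (𝟙 _) hζ
  let jK' : e.ptK' ⟶ e.ptA' :=
    Over.homMk (Spec.map (CommRingCat.ofHom (algebraMap e.A' e.K'))) rfl
  let ψo : e.ptK' ⟶ sq.ptK := Over.homMk (Spec.map (CommRingCat.ofHom e.ψ)) (by
    change Spec.map _ ≫ Spec.map _ ≫ _ = Spec.map _ ≫ Spec.map _ ≫ _
    rw [← Spec.map_comp_assoc, ← Spec.map_comp_assoc, ← CommRingCat.ofHom_comp,
      ← CommRingCat.ofHom_comp, e.comm])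
  have hl1' : (yon S).map jK' ≫ l = (yon S).map ψo ≫ sq.top := hl1
  have hτι : τC sq.str ι' = ζ ≫ jK' := by
    apply Over.OverMorphism.ext
    change Spec.map _ = 𝟙 _ ≫ Spec.map _
    rw [Category.id_comp]
  have hτk : τC sq.str kK = ζ ≫ ψo := by
    apply Over.OverMorphism.ext
    change Spec.map _ = 𝟙 _ ≫ Spec.map _
    rw [Category.id_comp]
  have hx2' : x ≫ π = (yon S).map (γC sq.str sq.K) := hx2
  have ha'x : (yon S).map (τC sq.str ι') ≫ a' = (yon S).map (τC sq.str kK) ≫ x := by
    apply sqX.hom_ext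
    · rw [Category.assoc, ha'1, Category.assoc, hx1, hτι, hτk, Functor.map_comp,
        Functor.map_comp, Category.assoc, Category.assoc, hl1']
    · rw [Category.assoc, ha'π, Category.assoc, hx2', ← Functor.map_comp, ← Functor.map_comp,
        τC_γC, τC_γC]
  obtain ⟨a, ha1, ha2⟩ := exists_section_of_ext (K := sq.K) hX' π hπsep x hx2' ι' hι' kK a' ha'π
    ha'x
  refine ⟨a ≫ fst, ?_, ?_⟩
  · rw [← Category.assoc]
    exact (congrArg (· ≫ fst) ha2).trans hx1
  · rw [Category.assoc, sqX.w, ← Category.assoc, ha1, Category.id_comp]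

end VC

end Groth.Agent.H50
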