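import Groth.Agent.H50.RV5
import Groth.Agent.H50.QCImage2
import Groth.Agent.H50.SchImage
import Groth.Agent.H49.AlgSpMonoField
import Groth.Agent.H51.SpImmersion

set_option autoImplicit false
set_option backward.isDefEq.respectTransparency false
set_option linter.style.haveILetI false
set_option linter.unusedSectionVars false
universe u
open CategoryTheory CategoryTheory.Limits AlgebraicGeometry Opposite Topology

namespace Groth.Agent.H50
open AlgSp Groth.Agent.H49

variable {S : Scheme.{u}}

namespace RV

/-- A quasi-compact morphism factoring through a monomorphism: the factor is quasi-compact. -/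
theorem isQuasiCompactMor_of_comp_mono {X Y Z : Sp S} (g : X ⟶ Z) (i : Z ⟶ Y) [Mono i]
    (h : IsQuasiCompactMor (g ≫ i)) : IsQuasiCompactMor g := by
  intro T T' hT hTqc t fst snd sq
  exact h hT hTqc (t ≫ i) fst snd (Groth.Agent.H49.isPullback_comp_mono i sq)

/-- The factorization of a quasi-compact morphism through its scheme theoretic image has dense
image on points. -/
theorem denseRange_of_isSchImage {X Y Z : Sp S} (hY : IsAlgSpace Y) (f : X ⟶ Y) (i : Z ⟶ Y)
    (hq : IsQuasiCompactMor f) (hZ : IsSchImage f i) (g : X ⟶ Z) (hg : g ≫ i = f) :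
    DenseRange (Points.map g) := by
  have himm : RepWith @IsImmersion i := repWith_of_le (fun _ _ k hk => by
    have : IsClosedImmersion k := hk
    exact (inferInstance : IsImmersion k)) hZ.1
  have hemb : IsEmbedding (Points.map i) := (Groth.Agent.H51.s10191 hY i himm).1
  intro ζ
  rw [hemb.closure_eq_preimage_closure_image]
  have h1 := range_map_subset_closure_of_isSchImage hY hq i hZ ⟨ζ, rfl⟩
  have h2 : Points.map i '' Set.range (Points.map g) = Set.range (Points.map f) := by
    rw [← Set.range_comp, ← hg]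
    congr 1
    funext x
    exact (Points.map_comp g i x).symm
  rw [h2]
  exact h1

set_option maxHeartbeats 800000 in
/-- **Every point of the scheme theoretic image of a quasi-compact morphism is reached by a
valuation ring whose generic point lifts to the source.** -/
theorem exists_valuationRing_to_schImage {X Y Z : Sp S} (hY : IsAlgSpace Y) (hZa : IsAlgSpace Z)
    (f : X ⟶ Y) (i : Z ⟶ Y) (hq : IsQuasiCompactMor f) (hZ : IsSchImage f i) (z : Points Z) :
    ∃ (A : Type u) (_ : CommRing A) (_ : IsDomain A) (_ : ValuationRing A)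
      (str : Spec (CommRingCat.of A) ⟶ S) (a : (yon S).obj (Over.mk str) ⟶ Z)
      (x : (yon S).obj (Over.mk
        (Spec.map (CommRingCat.ofHom (algebraMap A (FractionRing A))) ≫ str)) ⟶ X),
      Points.ofPt a (IsLocalRing.closedPoint A) = z ∧
      x ≫ f = (yon S).map (Over.homMk
        (Spec.map (CommRingCat.ofHom (algebraMap A (FractionRing A)))) rfl) ≫ a ≫ i := by
  classical
  obtain ⟨g, hg⟩ := hZ.2.1
  haveI : Mono i := mono_of_repWith_mono isClosedImmersion_le_mono i hZ.1
  have hgq : IsQuasiCompactMor g := isQuasiCompactMor_of_comp_mono g i (hg ▸ hq)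
  have hgd := denseRange_of_isSchImage hY f i hq hZ g hg
  obtain ⟨B, iB, strB, cZ, u, hcZe, hu⟩ := PropDVR.exists_spec_chart_of_point hZa z
  obtain ⟨C', iC', strC', gC, w, hw, hdense⟩ := exists_dense_chart g hgq hgd strB cZ hcZe
  let γ : B →+* C' := (Spec.preimage gC.left).hom
  have hγ : Spec.map (CommRingCat.ofHom γ) = gC.left := Spec.map_preimage gC.left
  have hγd : DenseRange (PrimeSpectrum.comap γ) := by
    have := hdense
    rw [← hγ] at this
    exact this
  obtain ⟨𝔮₀, h𝔮₀min, h𝔮₀le⟩ := Ideal.exists_minimalPrimes_le (I := ⊥) (J := u.asIdeal) bot_le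
  obtain ⟨𝔠, h𝔠⟩ := ((PrimeSpectrum.denseRange_comap_iff_minimalPrimes γ).1 hγd) 𝔮₀ h𝔮₀min
  have hsp : gC.left.base 𝔠 ⤳ u := by
    rw [← hγ]
    change PrimeSpectrum.comap γ 𝔠 ⤳ u
    rw [h𝔠, ← PrimeSpectrum.le_iff_specializes]
    exact h𝔮₀le
  obtain ⟨V, m, hcl, hgen⟩ := Groth.Agent.H51.exists_valuationSubring_of_specializes
    (N := Spec (.of B)) (n := gC.left.base 𝔠) (n' := u) hsp
    (Ω := (Spec (.of C')).residueField 𝔠)
    (gC.left.residueFieldMap 𝔠 : _ ⟶ CommRingCat.of ((Spec (.of C')).residueField 𝔠))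
  have hgen' : Spec.map (CommRingCat.ofHom (algebraMap V ((Spec (.of C')).residueField 𝔠))) ≫ m =
      (Spec (.of C')).fromSpecResidueField 𝔠 ≫ gC.left := by
    rw [hgen]
    exact Scheme.Hom.SpecMap_residueFieldMap_fromSpecResidueField gC.left 𝔠
  -- the fraction field
  let ε : (Spec (.of C')).residueField 𝔠 →+* FractionRing V :=
    ((FractionRing.algEquiv V ((Spec (.of C')).residueField 𝔠)).symm :
      (Spec (.of C')).residueField 𝔠 →ₐ[V] FractionRing V).toRingHom
  have hε : ε.comp (algebraMap V ((Spec (.of C')).residueField 𝔠)) =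
      algebraMap V (FractionRing V) := by
    ext v
    exact ((FractionRing.algEquiv V ((Spec (.of C')).residueField 𝔠)).symm :
      (Spec (.of C')).residueField 𝔠 →ₐ[V] FractionRing V).commutes v
  have hξl : (Spec.map (CommRingCat.ofHom ε) ≫ (Spec (.of C')).fromSpecResidueField 𝔠) ≫ gC.left =
      Spec.map (CommRingCat.ofHom (algebraMap V (FractionRing V))) ≫ m := by
    rw [Category.assoc, ← hgen', ← Category.assoc, ← Spec.map_comp, ← CommRingCat.ofHom_comp, hε]
  have hξ : (Spec.map (CommRingCat.ofHom ε) ≫ (Spec (.of C')).fromSpecResidueField 𝔠) ≫ strC' =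
      Spec.map (CommRingCat.ofHom (algebraMap V (FractionRing V))) ≫ m ≫ strB := by
    have h1 : strC' = gC.left ≫ strB := (Over.w gC).symm
    rw [h1, ← Category.assoc, hξl, Category.assoc]
  let ξ : Over.mk (Spec.map (CommRingCat.ofHom (algebraMap V (FractionRing V))) ≫ m ≫ strB) ⟶
      Over.mk strC' :=
    Over.homMk (Spec.map (CommRingCat.ofHom ε) ≫ (Spec (.of C')).fromSpecResidueField 𝔠) hξ
  let mO : Over.mk (m ≫ strB) ⟶ Over.mk strB := Over.homMk m rfl
  refine ⟨V, inferInstance, inferInstance, inferInstance, m ≫ strB, (yon S).map mO ≫ cZ,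
    (yon S).map ξ ≫ w, ?_, ?_⟩
  · rw [Groth.Agent.H52.ofPt_yon_map_comp]
    change Points.ofPt cZ (m.base (IsLocalRing.closedPoint V)) = z
    rw [hcl, hu]
  · have e1 : ξ ≫ gC = (Over.homMk (Spec.map (CommRingCat.ofHom (algebraMap V (FractionRing V))))
        rfl : Over.mk (Spec.map (CommRingCat.ofHom (algebraMap V (FractionRing V))) ≫ m ≫ strB) ⟶
          Over.mk (m ≫ strB)) ≫ mO := by
      apply Over.OverMorphism.ext
      exact hξl
    rw [← hg, Category.assoc, ← Category.assoc w, hw, Category.assoc, ← Functor.map_comp_assoc, e1,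
      Functor.map_comp, Category.assoc, Category.assoc]

end RV

end Groth.Agent.H50
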